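import Mathlib.GroupTheory.Nilpotent
import Mathlib.GroupTheory.Sylow
import Mathlib.GroupTheory.IsSubnormal
import Mathlib.GroupTheory.Index
import Mathlib.GroupTheory.Solvable
import Cfsg.Prelude.Def_Solvable
import Cfsg.Prelude.Def_OddOrderLocal

/-!
# Cores and the Fitting subgroup

`O_p`, `O_{p'}`, `O_π` and `F` of a finite group: they are what they should be, they are
characteristic, functorial for isomorphisms and surjections, and compatible with normal and
subnormal subgroups.
-/

set_option autoImplicit false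
set_option linter.style.haveILetI false
set_option linter.unusedSectionVars false

namespace CfsgLib.Coprime

open Subgroup

variable {G : Type*} [Group G]

/-- All prime divisors of `n` lie in `π`. -/
def IsPiNum (π : Set ℕ) (n : ℕ) : Prop := ∀ q : ℕ, q.Prime → q ∣ n → q ∈ π

theorem IsPiNum.one {π : Set ℕ} : IsPiNum π 1 := fun q hq h => absurd (Nat.dvd_one.1 h) hq.ne_one

theorem IsPiNum.of_dvd {π : Set ℕ} {m n : ℕ} (h : IsPiNum π n) (hmn : m ∣ n) : IsPiNum π m :=
  fun q hq hqm => h q hq (hqm.trans hmn)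

theorem IsPiNum.mul {π : Set ℕ} {m n : ℕ} (hm : IsPiNum π m) (hn : IsPiNum π n) :
    IsPiNum π (m * n) :=
  fun q hq h => (hq.dvd_mul.1 h).elim (hm q hq) (hn q hq)

theorem IsPiNum.mono {π ρ : Set ℕ} {n : ℕ} (h : IsPiNum π n) (hs : π ⊆ ρ) : IsPiNum ρ n :=
  fun q hq hd => hs (h q hq hd)

theorem coprime_prime_iff_isPiNum {p n : ℕ} (hp : p.Prime) :
    n.Coprime p ↔ IsPiNum {q | q ≠ p} n := by
  rw [Nat.coprime_comm, hp.coprime_iff_not_dvd]
  exact ⟨fun h q _ hq e => h (e ▸ hq), fun h hd => h p hp hd rfl⟩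

theorem isPiNum_singleton_of_pow {p k : ℕ} (hp : p.Prime) : IsPiNum {p} (p ^ k) :=
  fun _ hq h => (Nat.prime_dvd_prime_iff_eq hq hp).1 (hq.dvd_of_dvd_pow h)

theorem isPGroup_iff_isPiNum [Finite G] {p : ℕ} [hp : Fact p.Prime] :
    IsPGroup p G ↔ IsPiNum {p} (Nat.card G) := by
  constructor
  · intro h
    obtain ⟨n, hn⟩ := IsPGroup.iff_card.1 h
    rw [hn]
    exact isPiNum_singleton_of_pow hp.out
  · intro h
    refine IsPGroup.iff_card.2 ⟨(Nat.card G).factorization p, ?_⟩
    exact (Nat.eq_prime_pow_of_unique_prime_dvd (Nat.card_pos.ne')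
      (fun hq hd => h _ hq hd)).trans (by
        conv_rhs => rw [Nat.eq_prime_pow_of_unique_prime_dvd (p := p) (Nat.card_pos.ne')
          (fun hq hd => h _ hq hd)]
        rw [Nat.factorization_pow_self hp.out])

theorem card_sup_dvd_of_normal (H N : Subgroup G) [N.Normal] :
    Nat.card ↥(H ⊔ N) ∣ Nat.card H * Nat.card N := by
  have h3 : Nat.card ↥(H ⊔ N) = Nat.card N * N.relIndex (H ⊔ N) := by
    rw [Subgroup.relIndex, ← Nat.card_congr (subgroupOfEquivOfLe (le_sup_right : N ≤ H ⊔ N)).toEquiv,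
      card_mul_index]
  rw [h3, relIndex_sup_right, mul_comm]
  exact mul_dvd_mul_right (relIndex_dvd_card N H) _

theorem card_sup_dvd_of_le_normalizer {H N : Subgroup G} (h : H ≤ normalizer (N : Set G)) :
    Nat.card ↥(H ⊔ N) ∣ Nat.card H * Nat.card N := by
  haveI : (N.subgroupOf (normalizer (N : Set G))).Normal :=
    (normal_subgroupOf_iff_le_normalizer le_normalizer).2 le_rfl
  have h1 := card_sup_dvd_of_normal (H.subgroupOf (normalizer (N : Set G)))
    (N.subgroupOf (normalizer (N : Set G)))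
  rwa [← subgroupOf_sup h le_normalizer,
    Nat.card_congr (subgroupOfEquivOfLe (sup_le h le_normalizer)).toEquiv,
    Nat.card_congr (subgroupOfEquivOfLe h).toEquiv,
    Nat.card_congr (subgroupOfEquivOfLe (le_normalizer (H := N))).toEquiv] at h1

/-- A property of normal subgroups that holds for `⊥` and is closed under joins holds for the join
of any family of normal subgroups with the property. -/
theorem sSup_normal_induction [Finite G] {P : Subgroup G → Prop} (hbot : P ⊥)
    (hsup : ∀ H K : Subgroup G, H.Normal → K.Normal → P H → P K → P (H ⊔ K))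
    {S : Set (Subgroup G)} (hS : ∀ N ∈ S, N.Normal ∧ P N) : (sSup S).Normal ∧ P (sSup S) := by
  revert hS
  induction S, S.toFinite using Set.Finite.induction_on with
  | empty => intro; rw [sSup_empty]; exact ⟨inferInstance, hbot⟩
  | @insert a s _ _ ih =>
    intro hS
    obtain ⟨hn, hP⟩ := ih fun N hN => hS N (Set.mem_insert_of_mem _ hN)
    obtain ⟨han, haP⟩ := hS a (Set.mem_insert _ _)
    rw [sSup_insert]
    exact ⟨Subgroup.sup_normal _ _, hsup _ _ han hn haP hP⟩

/-! ### The π-core -/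

theorem piCore_isPiNum [Finite G] (π : Set ℕ) : IsPiNum π (Nat.card (Cfsg.piCore π G)) :=
  (sSup_normal_induction (G := G) (P := fun N => IsPiNum π (Nat.card N))
    (by rw [card_bot]; exact IsPiNum.one)
    (fun H K _ hK h1 h2 => haveI := hK; (h1.mul h2).of_dvd (card_sup_dvd_of_normal H K))
    (fun N hN => hN)).2

theorem le_piCore {π : Set ℕ} {N : Subgroup G} [hN : N.Normal] (h : IsPiNum π (Nat.card N)) :
    N ≤ Cfsg.piCore π G :=
  le_sSup ⟨hN, h⟩

theorem pPrimeCore_eq_piCore {p : ℕ} (hp : p.Prime) :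
    Cfsg.pPrimeCore p G = Cfsg.piCore {q | q ≠ p} G := by
  unfold Cfsg.pPrimeCore Cfsg.piCore
  congr 1
  ext N
  exact and_congr_right fun _ => coprime_prime_iff_isPiNum hp

theorem pCore_eq_piCore [Finite G] (p : ℕ) [Fact p.Prime] :
    Cfsg.pCore p G = Cfsg.piCore {p} G := by
  unfold Cfsg.pCore Cfsg.piCore
  congr 1
  ext N
  exact and_congr_right fun _ => isPGroup_iff_isPiNum

/-! ### The p-core -/

theorem pCore_normal' (p : ℕ) : (Cfsg.pCore p G).Normal :=
  Subgroup.sSup_normal _ (fun _ h => h.1)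

theorem pCore_isPGroup [Finite G] (p : ℕ) : IsPGroup p (Cfsg.pCore p G) :=
  (sSup_normal_induction (G := G) (P := fun N => IsPGroup p N) IsPGroup.of_bot
    (fun H K _ hK h1 h2 => haveI := hK; h1.to_sup_of_normal_right h2) (fun N hN => hN)).2

theorem le_pCore {p : ℕ} {N : Subgroup G} [hN : N.Normal] (h : IsPGroup p N) :
    N ≤ Cfsg.pCore p G :=
  le_sSup ⟨hN, h⟩

/-! ### The p'-core -/

theorem pPrimeCore_coprime [Finite G] {p : ℕ} (hp : p.Prime) :
    (Nat.card (Cfsg.pPrimeCore p G)).Coprime p := by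
  rw [pPrimeCore_eq_piCore hp, coprime_prime_iff_isPiNum hp]
  exact piCore_isPiNum _

theorem pPrimeCore_not_dvd [Finite G] {p : ℕ} (hp : p.Prime) :
    ¬ p ∣ Nat.card (Cfsg.pPrimeCore p G) := by
  rw [← hp.coprime_iff_not_dvd, Nat.coprime_comm]
  exact pPrimeCore_coprime hp

theorem le_pPrimeCore {p : ℕ} {N : Subgroup G} [hN : N.Normal] (h : (Nat.card N).Coprime p) :
    N ≤ Cfsg.pPrimeCore p G :=
  le_sSup ⟨hN, h⟩

theorem le_pPrimeCore_of_not_dvd {p : ℕ} (hp : p.Prime) {N : Subgroup G} [N.Normal]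
    (h : ¬ p ∣ Nat.card N) : N ≤ Cfsg.pPrimeCore p G :=
  le_pPrimeCore (by rwa [Nat.coprime_comm, hp.coprime_iff_not_dvd])

/-! ### Functoriality -/

theorem card_map_dvd_card {G' : Type*} [Group G'] (f : G →* G') (N : Subgroup G) :
    Nat.card (N.map f) ∣ Nat.card N :=
  card_map_dvd N f

variable {G' : Type*} [Group G']

theorem map_piCore_le {f : G →* G'} (hf : Function.Surjective f) (π : Set ℕ) :
    (Cfsg.piCore π G).map f ≤ Cfsg.piCore π G' := by
  rw [Subgroup.map_le_iff_le_comap]
  refine sSup_le fun N ⟨hN, hπ⟩ => ?_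
  rw [← Subgroup.map_le_iff_le_comap]
  haveI := Subgroup.Normal.map hN f hf
  exact le_piCore (IsPiNum.of_dvd hπ (card_map_dvd_card f N))

theorem map_piCore_equiv (e : G ≃* G') (π : Set ℕ) :
    (Cfsg.piCore π G).map e.toMonoidHom = Cfsg.piCore π G' := by
  refine le_antisymm (map_piCore_le e.surjective π) ?_
  rw [Subgroup.map_equiv_eq_comap_symm', ← Subgroup.map_le_iff_le_comap]
  exact map_piCore_le e.symm.surjective π

theorem map_pCore_le {f : G →* G'} (hf : Function.Surjective f) (p : ℕ) :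
    (Cfsg.pCore p G).map f ≤ Cfsg.pCore p G' := by
  rw [Subgroup.map_le_iff_le_comap]
  refine sSup_le fun N ⟨hN, hπ⟩ => ?_
  rw [← Subgroup.map_le_iff_le_comap]
  haveI := Subgroup.Normal.map hN f hf
  exact le_pCore (hπ.map f)

theorem map_pCore_equiv (e : G ≃* G') (p : ℕ) :
    (Cfsg.pCore p G).map e.toMonoidHom = Cfsg.pCore p G' := by
  refine le_antisymm (map_pCore_le e.surjective p) ?_
  rw [Subgroup.map_equiv_eq_comap_symm', ← Subgroup.map_le_iff_le_comap]
  exact map_pCore_le e.symm.surjective p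

theorem map_pPrimeCore_le {f : G →* G'} (hf : Function.Surjective f) (p : ℕ) :
    (Cfsg.pPrimeCore p G).map f ≤ Cfsg.pPrimeCore p G' := by
  rw [Subgroup.map_le_iff_le_comap]
  refine sSup_le fun N ⟨hN, hπ⟩ => ?_
  rw [← Subgroup.map_le_iff_le_comap]
  haveI := Subgroup.Normal.map hN f hf
  exact le_pPrimeCore (hπ.coprime_dvd_left (card_map_dvd_card f N))

theorem map_pPrimeCore_equiv (e : G ≃* G') (p : ℕ) :
    (Cfsg.pPrimeCore p G).map e.toMonoidHom = Cfsg.pPrimeCore p G' := by
  refine le_antisymm (map_pPrimeCore_le e.surjective p) ?_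
  rw [Subgroup.map_equiv_eq_comap_symm', ← Subgroup.map_le_iff_le_comap]
  exact map_pPrimeCore_le e.symm.surjective p

theorem piCore_characteristic (π : Set ℕ) : (Cfsg.piCore π G).Characteristic :=
  characteristic_iff_map_eq.2 fun e => map_piCore_equiv e π

theorem pCore_characteristic (p : ℕ) : (Cfsg.pCore p G).Characteristic :=
  characteristic_iff_map_eq.2 fun e => map_pCore_equiv e p

theorem pPrimeCore_characteristic (p : ℕ) : (Cfsg.pPrimeCore p G).Characteristic :=
  characteristic_iff_map_eq.2 fun e => map_pPrimeCore_equiv e p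

/-! ### Cores of quotients -/

theorem card_eq_card_mul_card_map_mk' (N : Subgroup G) [N.Normal] {M : Subgroup G} (h : N ≤ M) :
    Nat.card M = Nat.card N * Nat.card (M.map (QuotientGroup.mk' N)) := by
  have e : Nat.card (M.map (QuotientGroup.mk' N)) = N.relIndex M := by
    have e1 := relIndex_map_map (QuotientGroup.mk' N) (⊥ : Subgroup G) M
    rw [Subgroup.map_bot, relIndex_bot_left, QuotientGroup.ker_mk', bot_sup_eq,
      sup_eq_left.2 h] at e1
    exact e1
  rw [e, Subgroup.relIndex, ← Nat.card_congr (subgroupOfEquivOfLe h).toEquiv, card_mul_index]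

theorem piCore_quotient_eq_bot [Finite G] (π : Set ℕ) :
    Cfsg.piCore π (G ⧸ Cfsg.piCore π G) = ⊥ := by
  set N := Cfsg.piCore π G with hNdef
  set q := QuotientGroup.mk' N
  set M := (Cfsg.piCore π (G ⧸ N)).comap q with hM
  haveI : M.Normal := Subgroup.Normal.comap inferInstance q
  have hle : N ≤ M := by
    intro x hx
    rw [hM, Subgroup.mem_comap]
    rw [show q x = 1 from (QuotientGroup.eq_one_iff x).2 hx]
    exact one_mem _
  have hmap : M.map q = Cfsg.piCore π (G ⧸ N) :=
    Subgroup.map_comap_eq_self_of_surjective (QuotientGroup.mk'_surjective N) _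
  have hπ : IsPiNum π (Nat.card M) := by
    rw [card_eq_card_mul_card_map_mk' N hle, hmap]
    exact (piCore_isPiNum π).mul (piCore_isPiNum π)
  rw [← hmap, Subgroup.map_eq_bot_iff, QuotientGroup.ker_mk']
  exact le_piCore hπ

theorem pPrimeCore_quotient_eq_bot [Finite G] {p : ℕ} (hp : p.Prime) :
    Cfsg.pPrimeCore p (G ⧸ Cfsg.pPrimeCore p G) = ⊥ := by
  have h := piCore_quotient_eq_bot (G := G) {q | q ≠ p}
  have e : Cfsg.pPrimeCore p G = Cfsg.piCore {q | q ≠ p} G := pPrimeCore_eq_piCore hp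
  refine (pPrimeCore_eq_piCore hp).trans ?_
  rw [← map_piCore_equiv (QuotientGroup.quotientMulEquivOfEq e.symm), h, Subgroup.map_bot]

theorem pCore_quotient_eq_bot [Finite G] (p : ℕ) [Fact p.Prime] :
    Cfsg.pCore p (G ⧸ Cfsg.pCore p G) = ⊥ := by
  have h := piCore_quotient_eq_bot (G := G) {p}
  have e : Cfsg.pCore p G = Cfsg.piCore {p} G := pCore_eq_piCore p
  refine (pCore_eq_piCore p).trans ?_
  rw [← map_piCore_equiv (QuotientGroup.quotientMulEquivOfEq e.symm), h, Subgroup.map_bot]

/-! ### Normal and subnormal subgroups -/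

theorem map_subtype_normal_of_characteristic (N : Subgroup G) [N.Normal] (K : Subgroup N)
    [K.Characteristic] : (K.map N.subtype).Normal :=
  ConjAct.normal_of_characteristic_of_normal

theorem piCore_map_subtype_eq [Finite G] (π : Set ℕ) (N : Subgroup G) [N.Normal] :
    (Cfsg.piCore π N).map N.subtype = Cfsg.piCore π G ⊓ N := by
  haveI := piCore_characteristic (G := N) π
  haveI := map_subtype_normal_of_characteristic N (Cfsg.piCore π N)
  refine le_antisymm (le_inf (le_piCore ?_) (map_subtype_le _)) ?_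
  · exact (piCore_isPiNum π).of_dvd (card_map_dvd_card _ _)
  · have h : (Cfsg.piCore π G ⊓ N).subgroupOf N ≤ Cfsg.piCore π N := by
      refine le_piCore ((piCore_isPiNum (G := G) π).of_dvd ?_)
      rw [Nat.card_congr (subgroupOfEquivOfLe (inf_le_right : Cfsg.piCore π G ⊓ N ≤ N)).toEquiv]
      exact card_dvd_of_le inf_le_left
    calc Cfsg.piCore π G ⊓ N = ((Cfsg.piCore π G ⊓ N).subgroupOf N).map N.subtype :=
          (map_subgroupOf_eq_of_le inf_le_right).symm
      _ ≤ _ := map_mono h

theorem pCore_map_subtype_eq [Finite G] (p : ℕ) [Fact p.Prime] (N : Subgroup G) [N.Normal] :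
    (Cfsg.pCore p N).map N.subtype = Cfsg.pCore p G ⊓ N := by
  rw [pCore_eq_piCore, pCore_eq_piCore, piCore_map_subtype_eq]

theorem pPrimeCore_map_subtype_eq [Finite G] {p : ℕ} (hp : p.Prime) (N : Subgroup G) [N.Normal] :
    (Cfsg.pPrimeCore p N).map N.subtype = Cfsg.pPrimeCore p G ⊓ N := by
  rw [pPrimeCore_eq_piCore hp, pPrimeCore_eq_piCore hp, piCore_map_subtype_eq]

/-- The π-core of a subnormal subgroup lies in the π-core. -/
theorem piCore_map_subtype_le_of_isSubnormal [Finite G] (π : Set ℕ) {H : Subgroup G}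
    (hH : H.IsSubnormal) : (Cfsg.piCore π H).map H.subtype ≤ Cfsg.piCore π G := by
  induction hH with
  | top =>
    exact le_of_eq (map_piCore_equiv Subgroup.topEquiv π)
  | step H K hle _ hN ih =>
    haveI := hN
    have h1 := piCore_map_subtype_eq π (H.subgroupOf K)
    have h2 : (Cfsg.piCore π H).map H.subtype =
        ((Cfsg.piCore π (H.subgroupOf K)).map (H.subgroupOf K).subtype).map K.subtype := by
      rw [← map_piCore_equiv (subgroupOfEquivOfLe hle).symm, Subgroup.map_map, Subgroup.map_map]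
      rfl
    rw [h2, h1]
    exact (map_mono inf_le_left).trans ih

theorem isPiNum_le_piCore_of_isSubnormal [Finite G] {π : Set ℕ} {H : Subgroup G}
    (hH : H.IsSubnormal) (h : IsPiNum π (Nat.card H)) : H ≤ Cfsg.piCore π G := by
  have h1 : Cfsg.piCore π H = ⊤ := top_unique (le_piCore (by rwa [card_top]))
  have := piCore_map_subtype_le_of_isSubnormal π hH
  rwa [h1, ← MonoidHom.range_eq_map, range_subtype] at this

theorem le_pCore_of_isSubnormal [Finite G] {p : ℕ} [Fact p.Prime] {H : Subgroup G}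
    (hH : H.IsSubnormal) (h : IsPGroup p H) : H ≤ Cfsg.pCore p G := by
  rw [pCore_eq_piCore]
  exact isPiNum_le_piCore_of_isSubnormal hH (isPGroup_iff_isPiNum.1 h)

theorem le_pPrimeCore_of_isSubnormal [Finite G] {p : ℕ} (hp : p.Prime) {H : Subgroup G}
    (hH : H.IsSubnormal) (h : (Nat.card H).Coprime p) : H ≤ Cfsg.pPrimeCore p G := by
  rw [pPrimeCore_eq_piCore hp]
  exact isPiNum_le_piCore_of_isSubnormal hH ((coprime_prime_iff_isPiNum hp).1 h)

end CfsgLib.Coprime
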