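import Cfsg.Prelude.Def_Solvable
import Cfsg.Agent.Lib.Coprime.Core

/-!
# The `p'`-core of the centraliser of an automorphism, seen through a set of fixed points

If the automorphisms commuting with `x` and fixing a set `S` of fixed points are the powers of `x`, and the normal
`p'`-subgroups of the fixed-point group centralise `S`, then the core is trivial or the whole fixed-point group is `p'`.
-/

set_option autoImplicit false

namespace CfsgLib.BalanceSet

variable {K : Type*} [Group K] [Finite K]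

theorem conj_smul (a : MulAut K) (k : K) : a * MulAut.conj k * a⁻¹ = MulAut.conj (a k) :=
  MulEquiv.ext fun y => by simp [MulAut.mul_apply, MulAut.conj_apply]

/-- the core is non-trivial when the fixed-point group is a non-trivial `p'`-group -/
theorem core_ne_bot (hinj : Function.Injective (MulAut.conj : K →* MulAut K))
    (A : Subgroup (MulAut K)) (hinn : ∀ k : K, MulAut.conj k ∈ A) {p : ℕ} [Fact p.Prime] (x : MulAut K)
    (hne : ∃ k : K, x k = k ∧ k ≠ 1)
    (hco : Nat.Coprime p (Nat.card ↥(MonoidHom.eqLocus x.toMonoidHom (MonoidHom.id K)))) :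
    Cfsg.pPrimeCore p ↥(A ⊓ Subgroup.centralizer {x}) ≠ ⊥ := by
  classical
  intro hbot
  haveI : Finite (MulAut K) := Finite.of_injective (fun e => (e : K → K)) DFunLike.coe_injective
  set H := MonoidHom.eqLocus x.toMonoidHom (MonoidHom.id K) with hH
  have hHC : ∀ k ∈ H, MulAut.conj k ∈ A ⊓ Subgroup.centralizer {x} := fun k hk => ⟨hinn k, fun z hz => by
    rw [Set.mem_singleton_iff.1 hz]
    conv_rhs => rw [← (show x k = k from hk), ← conj_smul]
    group⟩
  have hCH : ∀ c ∈ A ⊓ Subgroup.centralizer {x}, ∀ k ∈ H, c k ∈ H := fun c hc k hk => by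
    show x (c k) = c k
    rw [← MulAut.mul_apply, Subgroup.mem_centralizer_iff.1 hc.2 x rfl, MulAut.mul_apply,
      show x k = k from hk]
  let f : ↥H →* ↥(A ⊓ Subgroup.centralizer {x}) :=
    { toFun := fun k => ⟨MulAut.conj k.1, hHC k.1 k.2⟩
      map_one' := Subtype.ext (map_one _)
      map_mul' := fun a b => Subtype.ext (map_mul MulAut.conj a.1 b.1) }
  haveI : f.range.Normal := ⟨by
    rintro _ ⟨k, rfl⟩ c
    exact ⟨⟨c.1 k.1, hCH c.1 c.2 k.1 k.2⟩, Subtype.ext (conj_smul c.1 k.1).symm⟩⟩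
  have h1 := CfsgLib.Coprime.le_pPrimeCore (p := p) (N := f.range)
    (Nat.Coprime.coprime_dvd_left (Subgroup.card_range_dvd f) hco.symm)
  rw [hbot, le_bot_iff, MonoidHom.range_eq_bot_iff] at h1
  obtain ⟨k, hk, hk1⟩ := hne
  refine hk1 (hinj ?_)
  rw [map_one]
  exact congrArg Subtype.val (show f ⟨k, hk⟩ = 1 by rw [h1]; rfl)

/-- the core is trivial when the normal `p'`-subgroups of the fixed-point group centralise `S` -/
theorem core_eq_bot (hinj : Function.Injective (MulAut.conj : K →* MulAut K))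
    (A : Subgroup (MulAut K)) (hinn : ∀ k : K, MulAut.conj k ∈ A) {p : ℕ} [Fact p.Prime] (x : MulAut K)
    (hx : orderOf x = p) (hout : ∀ k : K, MulAut.conj k ≠ x) (S : Set K) (hfix : ∀ s ∈ S, x s = s)
    (hcent : ∀ a : MulAut K, a * x = x * a → (∀ s ∈ S, a s = s) → a ∈ Subgroup.zpowers x)
    (hY : ∀ Y : Subgroup K, (∀ y ∈ Y, x y = y) → (∀ k : K, x k = k → ∀ y ∈ Y, k * y * k⁻¹ ∈ Y) →
      ¬ p ∣ Nat.card Y → ∀ y ∈ Y, ∀ s ∈ S, y * s = s * y) :
    Cfsg.pPrimeCore p ↥(A ⊓ Subgroup.centralizer {x}) = ⊥ := by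
  classical
  have hp := (Fact.out : p.Prime)
  haveI : Finite (MulAut K) := Finite.of_injective (fun e => (e : K → K)) DFunLike.coe_injective
  set C := A ⊓ Subgroup.centralizer {x} with hC
  have hcomm : ∀ c : MulAut K, c ∈ C → c * x = x * c := fun c hc =>
    (Subgroup.mem_centralizer_iff.1 hc.2 x rfl).symm
  haveI : (Cfsg.pPrimeCore p ↥C).Normal := by
    haveI := CfsgLib.Coprime.pPrimeCore_characteristic (G := ↥C) p
    infer_instance
  set X := Cfsg.pPrimeCore p ↥C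
  have hXp : ¬ p ∣ Nat.card X := CfsgLib.Coprime.pPrimeCore_not_dvd hp
  have hfC : ∀ k : K, x k = k → MulAut.conj k ∈ C := fun k hk => ⟨hinn k, fun z hz => by
    rw [Set.mem_singleton_iff.1 hz]
    conv_rhs => rw [← hk, ← conj_smul]
    group⟩
  -- the inner part of the core
  obtain ⟨Y, hYdef⟩ : ∃ Y : Subgroup K, Y = (X.map C.subtype).comap MulAut.conj := ⟨_, rfl⟩
  have memY : ∀ k : K, k ∈ Y ↔ ∃ h : MulAut.conj k ∈ C, (⟨_, h⟩ : ↥C) ∈ X := fun k => by
    rw [hYdef, Subgroup.mem_comap, Subgroup.mem_map]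
    constructor
    · rintro ⟨⟨c, hc⟩, hcX, he⟩
      obtain rfl : c = MulAut.conj k := he
      exact ⟨hc, hcX⟩
    · rintro ⟨h, hX⟩
      exact ⟨_, hX, rfl⟩
  have hYfix : ∀ y ∈ Y, x y = y := fun y hy => by
    obtain ⟨h, -⟩ := (memY y).1 hy
    apply hinj
    rw [← conj_smul, ← hcomm _ h, mul_inv_cancel_right]
  have hYnorm : ∀ k : K, x k = k → ∀ y ∈ Y, k * y * k⁻¹ ∈ Y := fun k hk y hy => by
    obtain ⟨h, hX⟩ := (memY y).1 hy
    refine (memY _).2 ⟨by rw [map_mul, map_mul, map_inv]; exact mul_mem (mul_mem (hfC k hk) h) (inv_mem (hfC k hk)), ?_⟩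
    convert ‹X.Normal›.conj_mem _ hX ⟨_, hfC k hk⟩ using 1
    exact Subtype.ext (by simp)
  have hYp : ¬ p ∣ Nat.card Y := fun h => hXp (h.trans (by
    refine Subgroup.card_dvd_of_injective
      { toFun := fun y => ⟨⟨MulAut.conj y.1, ((memY y.1).1 y.2).1⟩, ((memY y.1).1 y.2).2⟩
        map_one' := Subtype.ext (Subtype.ext (map_one _))
        map_mul' := fun a b => Subtype.ext (Subtype.ext (map_mul MulAut.conj a.1 b.1)) } ?_
    intro a b hab
    exact Subtype.ext (hinj (congrArg (fun z : ↥X => ((z : ↥C) : MulAut K)) hab))))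
  have hzp : ∀ a : MulAut K, a ∈ Subgroup.zpowers x → (∃ k, a = MulAut.conj k) → a = 1 := by
    rintro a ha ⟨k, rfl⟩
    by_contra hne
    haveI : Fact (Nat.card (Subgroup.zpowers x)).Prime := ⟨by rw [Nat.card_zpowers, hx]; exact hp⟩
    have := mem_zpowers_of_prime_card rfl (g := (⟨_, ha⟩ : Subgroup.zpowers x))
      (g' := ⟨x, Subgroup.mem_zpowers x⟩) (fun h7 => hne (congrArg Subtype.val h7))
    obtain ⟨i, hi⟩ := this
    exact hout (k ^ i) (by rw [map_zpow]; simpa using congrArg Subtype.val hi)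
  have hY1 : ∀ y ∈ Y, y = 1 := fun y hy => hinj (by
    rw [map_one]
    refine hzp _ (hcent _ (hcomm _ (hfC y (hYfix y hy))) fun s hs => ?_) ⟨y, rfl⟩
    rw [MulAut.conj_apply, hY Y hYfix hYnorm hYp y hy s hs, mul_inv_cancel_right])
  refine (Subgroup.eq_bot_iff_forall _).2 fun ξ hξ => ?_
  have h1 := hcent _ (hcomm _ ξ.2) fun s hs => by
    have hs' := hfC s (hfix s hs)
    have hm : (ξ : MulAut K) s * s⁻¹ ∈ Y := by
      refine (memY _).2 ⟨?_, ?_⟩
      · rw [map_mul, map_inv, ← conj_smul]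
        exact mul_mem (mul_mem (mul_mem ξ.2 hs') (inv_mem ξ.2)) (inv_mem hs')
      · have h2 : ξ * ((⟨_, hs'⟩ : ↥C) * ξ⁻¹ * (⟨_, hs'⟩ : ↥C)⁻¹) ∈ X :=
          mul_mem hξ (‹X.Normal›.conj_mem _ (inv_mem hξ) _)
        convert h2 using 1
        refine Subtype.ext ?_
        simp only [map_mul, map_inv, ← conj_smul, Subgroup.coe_mul, Subgroup.coe_inv]
        group
    exact mul_inv_eq_one.1 (hY1 _ hm)
  have h2 : orderOf (ξ : MulAut K) ∣ p := hx ▸ orderOf_dvd_of_mem_zpowers h1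
  rcases (Nat.dvd_prime hp).1 h2 with h3 | h3
  · exact Subtype.ext (orderOf_eq_one_iff.1 h3)
  · exfalso
    refine hXp (h3 ▸ ?_)
    rw [Subgroup.orderOf_coe]
    exact (Subgroup.orderOf_mk ξ hξ) ▸ orderOf_dvd_natCard (⟨ξ, hξ⟩ : ↥X)

/-- the criterion for non-triviality of the core -/
theorem core_ne_bot_iff (hinj : Function.Injective (MulAut.conj : K →* MulAut K))
    (A : Subgroup (MulAut K)) (hinn : ∀ k : K, MulAut.conj k ∈ A) {p : ℕ} [Fact p.Prime] (x : MulAut K)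
    (hx : orderOf x = p) (hout : ∀ k : K, MulAut.conj k ≠ x) (S : Set K) (hfix : ∀ s ∈ S, x s = s)
    (hne : ∃ k : K, x k = k ∧ k ≠ 1)
    (hcent : ∀ a : MulAut K, a * x = x * a → (∀ s ∈ S, a s = s) → a ∈ Subgroup.zpowers x)
    (hY : p ∣ Nat.card ↥(MonoidHom.eqLocus x.toMonoidHom (MonoidHom.id K)) → ∀ Y : Subgroup K,
      (∀ y ∈ Y, x y = y) → (∀ k : K, x k = k → ∀ y ∈ Y, k * y * k⁻¹ ∈ Y) →
      ¬ p ∣ Nat.card Y → ∀ y ∈ Y, ∀ s ∈ S, y * s = s * y) :
    Cfsg.pPrimeCore p ↥(A ⊓ Subgroup.centralizer {x}) ≠ ⊥ ↔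
      Nat.Coprime p (Nat.card ↥(MonoidHom.eqLocus x.toMonoidHom (MonoidHom.id K))) := by
  refine ⟨fun h => ?_, core_ne_bot hinj A hinn x hne⟩
  rw [(Fact.out : p.Prime).coprime_iff_not_dvd]
  exact fun hd => h (core_eq_bot hinj A hinn x hx hout S hfix hcent (hY hd))

/-- the criterion when `p` always divides the order of the fixed-point group -/
theorem core_bot_and_dvd (hinj : Function.Injective (MulAut.conj : K →* MulAut K))
    (A : Subgroup (MulAut K)) (hinn : ∀ k : K, MulAut.conj k ∈ A) {p : ℕ} [Fact p.Prime] (x : MulAut K)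
    (hx : orderOf x = p) (hout : ∀ k : K, MulAut.conj k ≠ x) (S : Set K) (hfix : ∀ s ∈ S, x s = s)
    (hne : ∃ k : K, x k = k ∧ k ≠ 1)
    (hcent : ∀ a : MulAut K, a * x = x * a → (∀ s ∈ S, a s = s) → a ∈ Subgroup.zpowers x)
    (hY : ∀ Y : Subgroup K, (∀ y ∈ Y, x y = y) → (∀ k : K, x k = k → ∀ y ∈ Y, k * y * k⁻¹ ∈ Y) →
      ¬ p ∣ Nat.card Y → ∀ y ∈ Y, ∀ s ∈ S, y * s = s * y) :
    Cfsg.pPrimeCore p ↥(A ⊓ Subgroup.centralizer {x}) = ⊥ ∧
      ¬ Nat.Coprime p (Nat.card ↥(MonoidHom.eqLocus x.toMonoidHom (MonoidHom.id K))) :=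
  ⟨core_eq_bot hinj A hinn x hx hout S hfix hcent hY,
    fun h => core_ne_bot hinj A hinn x hne h (core_eq_bot hinj A hinn x hx hout S hfix hcent hY)⟩

omit [Finite K] in
/-- a power of `x` that is an inner automorphism is trivial -/
theorem zpowers_of_mul {x a : MulAut K} (h : a * x ∈ Subgroup.zpowers x) : a ∈ Subgroup.zpowers x := by
  simpa using mul_mem h (inv_mem (Subgroup.mem_zpowers x))

/-- the criterion is unchanged under conjugation of the automorphism -/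
theorem transport (A : Subgroup (MulAut K)) (hinn : ∀ k : K, MulAut.conj k ∈ A) (δ x : MulAut K) (p : ℕ) :
    ∃ A' : Subgroup (MulAut K), (∀ k : K, MulAut.conj k ∈ A') ∧
      (Cfsg.pPrimeCore p ↥(A ⊓ Subgroup.centralizer {δ * x * δ⁻¹}) = ⊥ ↔
        Cfsg.pPrimeCore p ↥(A' ⊓ Subgroup.centralizer {x}) = ⊥) ∧
      Nat.card ↥(MonoidHom.eqLocus (δ * x * δ⁻¹).toMonoidHom (MonoidHom.id K)) =
        Nat.card ↥(MonoidHom.eqLocus x.toMonoidHom (MonoidHom.id K)) := by
  refine ⟨A.map (MulAut.conj δ⁻¹).toMonoidHom, fun k => ⟨MulAut.conj (δ k), hinn _, ?_⟩, ?_, ?_⟩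
  · show δ⁻¹ * MulAut.conj (δ k) * δ⁻¹⁻¹ = MulAut.conj k
    rw [conj_smul]
    exact congrArg MulAut.conj (δ.symm_apply_apply k)
  · have he : (A ⊓ Subgroup.centralizer {δ * x * δ⁻¹}).map (MulAut.conj δ⁻¹).toMonoidHom =
        A.map (MulAut.conj δ⁻¹).toMonoidHom ⊓ Subgroup.centralizer {x} := by
      rw [Subgroup.map_inf _ _ _ (MulAut.conj δ⁻¹).injective]
      congr 1
      ext z
      simp only [Subgroup.mem_map, Subgroup.mem_centralizer_iff, Set.mem_singleton_iff, forall_eq,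
        MulEquiv.coe_toMonoidHom, MulAut.conj_apply, inv_inv]
      constructor
      · rintro ⟨c, hc, rfl⟩
        calc x * (δ⁻¹ * c * δ) = δ⁻¹ * (δ * x * δ⁻¹ * c) * δ := by group
          _ = δ⁻¹ * (c * (δ * x * δ⁻¹)) * δ := by rw [hc]
          _ = δ⁻¹ * c * δ * x := by group
      · intro hz
        refine ⟨δ * z * δ⁻¹, ?_, by group⟩
        calc δ * x * δ⁻¹ * (δ * z * δ⁻¹) = δ * (x * z) * δ⁻¹ := by group
          _ = δ * (z * x) * δ⁻¹ := by rw [hz]
          _ = δ * z * δ⁻¹ * (δ * x * δ⁻¹) := by group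
    let e : ↥(A ⊓ Subgroup.centralizer {δ * x * δ⁻¹}) ≃*
        ↥(A.map (MulAut.conj δ⁻¹).toMonoidHom ⊓ Subgroup.centralizer {x}) :=
      ((MulAut.conj δ⁻¹).subgroupMap _).trans (MulEquiv.subgroupCongr he)
    rw [← CfsgLib.Coprime.map_pPrimeCore_equiv e p]
    exact (Subgroup.map_eq_bot_iff_of_injective _ e.injective).symm
  · refine (Nat.card_congr (Equiv.subtypeEquiv δ.toEquiv fun k => ?_)).symm
    show x k = k ↔ δ (x (δ.symm (δ k))) = δ k
    rw [δ.symm_apply_apply, δ.injective.eq_iff]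

end CfsgLib.BalanceSet
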