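import Mathlib.GroupTheory.Frattini
import Cfsg.Agent.Lib.Coprime.Core

/-!
# The Fitting subgroup and minimal normal subgroups
-/

set_option autoImplicit false
set_option linter.style.haveILetI false
set_option linter.unusedSectionVars false

namespace CfsgLib.Coprime

open Subgroup

variable {G : Type*} [Group G]

theorem isNilpotent_of_le {H K : Subgroup G} (h : H ≤ K) (hK : Group.IsNilpotent K) :
    Group.IsNilpotent H := by
  haveI := hK
  exact Group.nilpotent_of_mulEquiv (subgroupOfEquivOfLe h)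

/-- Every Sylow subgroup of a subgroup generated by the `p`-cores is normal. -/
theorem iSup_pCore_isNilpotent [Finite G] :
    Group.IsNilpotent ↥(⨆ p : Nat.Primes, Cfsg.pCore (p : ℕ) G) := by
  refine (Group.isNilpotent_of_finite_tfae.out 0 3 rfl rfl).2 ?_
  set K := ⨆ q : Nat.Primes, Cfsg.pCore (q : ℕ) G with hK
  intro p hp P
  have hle : K ≤ Cfsg.pCore p G ⊔ Cfsg.piCore {q | q ≠ p} G := by
    refine iSup_le fun q => ?_
    haveI : Fact (q : ℕ).Prime := ⟨q.2⟩
    rcases eq_or_ne (q : ℕ) p with h | h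
    · rw [h]; exact le_sup_left
    · refine le_sup_of_le_right ?_
      rw [pCore_eq_piCore]
      haveI := pCore_normal' (G := G) (q : ℕ)
      exact le_piCore ((piCore_isPiNum {(q : ℕ)}).mono (by
        intro r hr; rw [Set.mem_singleton_iff] at hr; subst hr; exact h))
  have hp_le : Cfsg.pCore p G ≤ K := le_iSup_of_le (⟨p, hp.out⟩ : Nat.Primes) le_rfl
  set C := (Cfsg.pCore p G).subgroupOf K with hC
  haveI := pCore_normal' (G := G) p
  haveI : C.Normal := Subgroup.normal_subgroupOf
  have hCp : IsPGroup p C := (pCore_isPGroup p).comap_subtype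
  have hidx : ¬ p ∣ C.index := by
    intro hd
    have h1 : C.index ∣ (Cfsg.pCore p G).relIndex (Cfsg.pCore p G ⊔ Cfsg.piCore {q | q ≠ p} G) :=
      ⟨_, (relIndex_mul_relIndex _ K _ hp_le hle).symm⟩
    rw [relIndex_sup_left] at h1
    exact piCore_isPiNum {q | q ≠ p} p hp.out
      ((hd.trans h1).trans (relIndex_dvd_card _ _)) rfl
  have hCP : C ≤ (P : Subgroup K) := by
    obtain ⟨Q, hQ⟩ := hCp.exists_le_sylow
    obtain ⟨g, hg⟩ := MulAction.exists_smul_eq K Q P
    rw [← hg, Sylow.coe_subgroup_smul]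
    exact le_trans (le_of_eq (Subgroup.Normal.conj_smul_eq_self g C).symm)
      (pointwise_smul_le_pointwise_smul_iff.2 hQ)
  have hPC : (P : Subgroup K) = C := by
    refine le_antisymm ?_ hCP
    have : C.relIndex (P : Subgroup K) = 1 := by
      obtain ⟨n, hn⟩ := (P.isPGroup').index (C.subgroupOf (P : Subgroup K))
      rcases Nat.eq_zero_or_pos n with h0 | h0
      · rw [Subgroup.relIndex, hn, h0, pow_zero]
      · exfalso
        refine hidx (dvd_trans ?_ (Dvd.intro _ (relIndex_mul_index hCP)))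
        rw [Subgroup.relIndex, hn]
        exact dvd_pow_self p h0.ne'
    exact relIndex_eq_one.1 this
  rw [hPC]; infer_instance

/-- A normal nilpotent subgroup lies in the join of the `p`-cores. -/
theorem le_iSup_pCore [Finite G] {N : Subgroup G} [N.Normal] (h : Group.IsNilpotent N) :
    N ≤ ⨆ p : Nat.Primes, Cfsg.pCore (p : ℕ) G := by
  haveI := h
  set K := ⨆ p : Nat.Primes, Cfsg.pCore (p : ℕ) G
  suffices hN : K.subgroupOf N = ⊤ from subgroupOf_eq_top.1 hN
  refine eq_top_of_card_eq _ (Nat.dvd_antisymm (card_subgroup_dvd_card _) ?_)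
  refine (Nat.dvd_iff_prime_pow_dvd_dvd _ _).2 fun p k hp hd => ?_
  haveI : Fact p.Prime := ⟨hp⟩
  let P : Sylow p N := default
  have hPK : (P : Subgroup N) ≤ K.subgroupOf N := by
    haveI : (P : Subgroup N).Characteristic := P.characteristic_of_normal inferInstance
    haveI := map_subtype_normal_of_characteristic N (P : Subgroup N)
    have : (P : Subgroup N).map N.subtype ≤ K :=
      le_iSup_of_le (⟨p, hp⟩ : Nat.Primes) (le_pCore (P.isPGroup'.map _))
    exact fun x hx => this (Subgroup.mem_map_of_mem _ hx)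
  refine dvd_trans ?_ (Subgroup.card_dvd_of_le hPK)
  rw [P.card_eq_multiplicity]
  exact pow_dvd_pow p ((hp.pow_dvd_iff_le_factorization Nat.card_pos.ne').1 hd)

theorem fitting_eq_iSup_pCore [Finite G] :
    Cfsg.fittingSubgroup G = ⨆ p : Nat.Primes, Cfsg.pCore (p : ℕ) G := by
  refine le_antisymm (sSup_le fun N hN => ?_) (iSup_le fun p => le_sSup ⟨pCore_normal' _, ?_⟩)
  · haveI := hN.1; exact le_iSup_pCore hN.2
  · haveI : Fact (p : ℕ).Prime := ⟨p.2⟩
    exact (pCore_isPGroup (p : ℕ)).isNilpotent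

theorem fitting_isNilpotent [Finite G] : Group.IsNilpotent (Cfsg.fittingSubgroup G) := by
  rw [fitting_eq_iSup_pCore]; exact iSup_pCore_isNilpotent

theorem fitting_normal : (Cfsg.fittingSubgroup G).Normal :=
  Subgroup.sSup_normal _ (fun _ h => h.1)

theorem le_fitting {N : Subgroup G} [hN : N.Normal] (h : Group.IsNilpotent N) :
    N ≤ Cfsg.fittingSubgroup G :=
  le_sSup ⟨hN, h⟩

theorem pCore_le_fitting [Finite G] (p : ℕ) [hp : Fact p.Prime] :
    Cfsg.pCore p G ≤ Cfsg.fittingSubgroup G := by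
  haveI := pCore_normal' (G := G) p
  exact le_fitting (pCore_isPGroup p).isNilpotent

variable {G' : Type*} [Group G']

theorem map_fitting_le {f : G →* G'} (hf : Function.Surjective f) :
    (Cfsg.fittingSubgroup G).map f ≤ Cfsg.fittingSubgroup G' := by
  rw [Subgroup.map_le_iff_le_comap]
  refine sSup_le fun N ⟨hN, hn⟩ => ?_
  rw [← Subgroup.map_le_iff_le_comap]
  haveI := Subgroup.Normal.map hN f hf
  haveI := hn
  exact le_fitting (Group.nilpotent_of_surjective (f.subgroupMap N) (f.subgroupMap_surjective N))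

theorem map_fitting_equiv (e : G ≃* G') :
    (Cfsg.fittingSubgroup G).map e.toMonoidHom = Cfsg.fittingSubgroup G' := by
  refine le_antisymm (map_fitting_le e.surjective) ?_
  rw [Subgroup.map_equiv_eq_comap_symm', ← Subgroup.map_le_iff_le_comap]
  exact map_fitting_le e.symm.surjective

theorem fitting_characteristic : (Cfsg.fittingSubgroup G).Characteristic :=
  characteristic_iff_map_eq.2 fun e => map_fitting_equiv e

theorem fitting_map_subtype_eq [Finite G] (N : Subgroup G) [N.Normal] :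
    (Cfsg.fittingSubgroup N).map N.subtype = Cfsg.fittingSubgroup G ⊓ N := by
  haveI := fitting_characteristic (G := N)
  haveI := map_subtype_normal_of_characteristic N (Cfsg.fittingSubgroup N)
  haveI := fitting_isNilpotent (G := N)
  refine le_antisymm (le_inf (le_fitting ?_) (map_subtype_le _)) ?_
  · exact Group.nilpotent_of_surjective _ (N.subtype.subgroupMap_surjective _)
  · haveI := fitting_normal (G := G)
    haveI : ((Cfsg.fittingSubgroup G ⊓ N).subgroupOf N).Normal := Subgroup.normal_subgroupOf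
    have hn := isNilpotent_of_le (inf_le_left : Cfsg.fittingSubgroup G ⊓ N ≤ _) fitting_isNilpotent
    have h : (Cfsg.fittingSubgroup G ⊓ N).subgroupOf N ≤ Cfsg.fittingSubgroup N :=
      le_fitting (@Group.nilpotent_of_mulEquiv _ _ _ _ hn (subgroupOfEquivOfLe inf_le_right).symm)
    calc Cfsg.fittingSubgroup G ⊓ N =
          ((Cfsg.fittingSubgroup G ⊓ N).subgroupOf N).map N.subtype :=
          (map_subgroupOf_eq_of_le inf_le_right).symm
      _ ≤ _ := map_mono h

theorem fitting_map_subtype_le_of_isSubnormal [Finite G] {H : Subgroup G} (hH : H.IsSubnormal) :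
    (Cfsg.fittingSubgroup H).map H.subtype ≤ Cfsg.fittingSubgroup G := by
  rw [fitting_eq_iSup_pCore, Subgroup.map_iSup]
  refine iSup_le fun p => ?_
  haveI : Fact (p : ℕ).Prime := ⟨p.2⟩
  rw [pCore_eq_piCore]
  refine (piCore_map_subtype_le_of_isSubnormal _ hH).trans ?_
  rw [← pCore_eq_piCore]
  exact pCore_le_fitting _

theorem le_fitting_of_isSubnormal [Finite G] {H : Subgroup G} (hH : H.IsSubnormal)
    (h : Group.IsNilpotent H) : H ≤ Cfsg.fittingSubgroup G := by
  haveI := h
  haveI : (⊤ : Subgroup H).Normal := inferInstance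
  have h1 : Cfsg.fittingSubgroup H = ⊤ := top_unique (le_fitting (Group.isNilpotent_top.2 h))
  have := fitting_map_subtype_le_of_isSubnormal hH
  rwa [h1, ← MonoidHom.range_eq_map, range_subtype] at this

/-! ### Minimal normal subgroups -/

theorem exists_minimal_normal_le [Finite G] {N : Subgroup G} [N.Normal] (hN : N ≠ ⊥) :
    ∃ M : Subgroup G, M.Normal ∧ M ≠ ⊥ ∧ M ≤ N ∧
      ∀ K : Subgroup G, K.Normal → K ≤ M → K = ⊥ ∨ K = M := by
  obtain ⟨M, hMN, hM⟩ := exists_minimal_le_of_wellFoundedLT (α := Subgroup G)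
    (fun M => M.Normal ∧ M ≠ ⊥) N ⟨inferInstance, hN⟩
  exact ⟨M, hM.prop.1, hM.prop.2, hMN,
    fun K hK hKM => or_iff_not_imp_left.2 fun hKb => le_antisymm hKM (hM.le_of_le ⟨hK, hKb⟩ hKM)⟩

/-- A minimal normal subgroup of a finite group that is solvable is an elementary abelian
`p`-group. -/
theorem minimal_normal_solvable [Finite G] {N : Subgroup G} [N.Normal] [hs : Group.IsSolvable N]
    (hN : N ≠ ⊥) (hmin : ∀ M : Subgroup G, M.Normal → M ≤ N → M = ⊥ ∨ M = N) :
    (∀ x ∈ N, ∀ y ∈ N, x * y = y * x) ∧ ∃ p : ℕ, p.Prime ∧ ∀ x ∈ N, x ^ p = 1 := by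
  haveI : Nontrivial N := (nontrivial_iff_ne_bot N).2 hN
  have hcomm : ∀ x ∈ N, ∀ y ∈ N, x * y = y * x := by
    have h0 : ⁅N, N⁆ = ⊥ := by
      rcases hmin ⁅N, N⁆ inferInstance (commutator_le_left N N) with h | h
      · exact h
      · exfalso
        refine ne_of_lt (Group.IsSolvable.commutator_lt_top_of_nontrivial N) ?_
        apply Subgroup.map_injective N.subtype_injective
        rw [_root_.commutator_def, map_commutator, ← MonoidHom.range_eq_map, range_subtype, h]
    intro x hx y hy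
    have : x * y * x⁻¹ * y⁻¹ ∈ ⁅N, N⁆ := commutator_mem_commutator hx hy
    rw [h0, mem_bot, mul_inv_eq_one, mul_inv_eq_iff_eq_mul] at this
    exact this
  refine ⟨hcomm, ?_⟩
  have hne1 : Nat.card N ≠ 1 := fun h => hN ((card_eq_one).1 h)
  obtain ⟨p, hp, hdvd⟩ := Nat.exists_prime_and_dvd hne1
  haveI : Fact p.Prime := ⟨hp⟩
  refine ⟨p, hp, ?_⟩
  let K : Subgroup G :=
    { carrier := {x | x ∈ N ∧ x ^ p = 1}
      one_mem' := ⟨one_mem N, one_pow p⟩
      mul_mem' := fun {x y} hx hy =>
        ⟨mul_mem hx.1 hy.1, by rw [Commute.mul_pow (hcomm x hx.1 y hy.1), hx.2, hy.2, one_mul]⟩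
      inv_mem' := fun {x} hx => ⟨inv_mem hx.1, by rw [inv_pow, hx.2, inv_one]⟩ }
  have hKn : K.Normal := ⟨fun x hx g => ⟨Subgroup.Normal.conj_mem inferInstance x hx.1 g, by
    rw [conj_pow, hx.2, mul_one, mul_inv_cancel]⟩⟩
  rcases hmin K hKn (fun x hx => hx.1) with h | h
  · exfalso
    obtain ⟨x, hx⟩ := exists_prime_orderOf_dvd_card' (G := N) p hdvd
    have hmem : (x : G) ∈ K := ⟨x.2, by rw [← hx, ← Subgroup.orderOf_coe, pow_orderOf_eq_one]⟩
    rw [h, mem_bot, OneMemClass.coe_eq_one] at hmem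
    rw [hmem, orderOf_one] at hx
    exact hp.one_lt.ne' hx.symm
  · intro x hx
    rw [← h] at hx
    exact hx.2

end CfsgLib.Coprime
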