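import Mathlib.GroupTheory.SchurZassenhaus
import Cfsg.Agent.Lib.Coprime.Fitting

/-!
# The conjugacy part of the Schur-Zassenhaus theorem
-/

set_option autoImplicit false
set_option linter.style.haveILetI false
set_option linter.unusedSectionVars false

namespace CfsgLib.Coprime

open Subgroup MulAction MulOpposite
open scoped Pointwise

universe u

variable {G : Type*} [Group G]

/-- `A` conjugated by `g` (that is, `g A g⁻¹`). -/
abbrev conjBy (g : G) (A : Subgroup G) : Subgroup G := A.map (MulAut.conj g).toMonoidHom

theorem mem_conjBy {g x : G} {A : Subgroup G} : x ∈ conjBy g A ↔ g⁻¹ * x * g ∈ A := by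
  rw [conjBy, Subgroup.mem_map_equiv]
  simp [MulAut.conj_symm_apply]

theorem conj_mem_conjBy {g x : G} {A : Subgroup G} (h : x ∈ A) : g * x * g⁻¹ ∈ conjBy g A := by
  rw [mem_conjBy]; simpa [mul_assoc] using h

theorem conjBy_eq_smul (g : G) (A : Subgroup G) : conjBy g A = MulAut.conj g • A := rfl

theorem conjBy_conjBy (g h : G) (A : Subgroup G) : conjBy g (conjBy h A) = conjBy (g * h) A := by
  ext x; simp [mem_conjBy, mul_assoc]

theorem conjBy_one (A : Subgroup G) : conjBy 1 A = A := by
  ext x; simp [mem_conjBy]

theorem card_conjBy (g : G) (A : Subgroup G) : Nat.card (conjBy g A) = Nat.card A :=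
  Subgroup.card_map_of_injective (MulEquiv.injective _)

theorem conjBy_eq_self_iff {g : G} {A : Subgroup G} :
    conjBy g A = A ↔ g ∈ normalizer (A : Set G) :=
  mem_normalizer_iff_map_conj_eq.symm

theorem conjBy_eq_self_of_mem {g : G} {A : Subgroup G} (h : g ∈ A) : conjBy g A = A :=
  conjBy_eq_self_iff.2 (le_normalizer h)

theorem conjBy_map {G' : Type*} [Group G'] (f : G →* G') (g : G) (A : Subgroup G) :
    (conjBy g A).map f = conjBy (f g) (A.map f) := by
  simp only [conjBy, Subgroup.map_map]
  congr 1
  ext x; simp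

theorem isSolvable_conjBy {g : G} {A : Subgroup G} (h : Group.IsSolvable A) :
    Group.IsSolvable (conjBy g A) := by
  haveI := h
  exact Group.isSolvable_of_surjective ((MulAut.conj g).toMonoidHom.subgroupMap_surjective A)

theorem isSolvable_of_le {H K : Subgroup G} (h : H ≤ K) (hK : Group.IsSolvable K) :
    Group.IsSolvable H := by
  haveI := hK
  exact Group.isSolvable_of_isSolvable_injective (Subgroup.inclusion_injective h)

theorem isSolvable_subgroupOf {H L : Subgroup G} (h : Group.IsSolvable H) :
    Group.IsSolvable (H.subgroupOf L) := by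
  haveI := h
  refine Group.isSolvable_of_isSolvable_injective
    (f := (L.subtype.comp (H.subgroupOf L).subtype).codRestrict H (fun x => x.2)) ?_
  intro a b hab
  have := congrArg (fun x : H => (x : G)) hab
  exact Subtype.ext (Subtype.ext this)

theorem disjoint_of_coprime_card {A B : Subgroup G} (h : (Nat.card A).Coprime (Nat.card B)) :
    A ⊓ B = ⊥ :=
  Subgroup.inf_eq_bot_of_coprime h

theorem sup_eq_top_of_card_eq_index [Finite G] {N H : Subgroup G}
    (hN : (Nat.card N).Coprime N.index) (hH : Nat.card H = N.index) : N ⊔ H = ⊤ :=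
  (isComplement'_of_coprime (by rw [hH, card_mul_index]) (by rwa [hH])).sup_eq_top

/-- Schur's theorem: in the coprime case any two complements of an abelian normal subgroup are
conjugate by an element of it. -/
theorem schur_conj_abelian [Finite G] {A H K : Subgroup G} [A.Normal] [IsMulCommutative A]
    (hA : (Nat.card A).Coprime A.index) (hH : Nat.card H = A.index) (hK : Nat.card K = A.index) :
    ∃ a ∈ A, conjBy a H = K := by
  haveI : A.FiniteIndex := inferInstance
  have key : ∀ L : Subgroup G, Nat.card L = A.index →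
      ∃ α : A.QuotientDiff, stabilizer G α = L := by
    intro L hL
    have hc : IsComplement' L A :=
      (isComplement'_of_coprime (by rw [hL, card_mul_index]) (by rwa [hL])).symm
    let T : A.LeftTransversal := ⟨(L : Set G), hc⟩
    let α : A.QuotientDiff := Quotient.mk'' T
    refine ⟨α, ?_⟩
    have hle : L ≤ stabilizer G α := by
      intro l hl
      rw [mem_stabilizer_iff]
      have : op l⁻¹ • T = T := by
        apply Subtype.ext
        show op l⁻¹ • (L : Set G) = (L : Set G)
        ext x
        rw [Set.mem_smul_set_iff_inv_smul_mem, ← op_inv, inv_inv]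
        simp only [op_smul_eq_mul, SetLike.mem_coe]
        exact Subgroup.mul_mem_cancel_right L hl
      exact congrArg Quotient.mk'' this
    refine (Subgroup.eq_of_le_of_card_ge hle (le_of_eq ?_)).symm
    rw [hL, ← (isComplement'_stabilizer_of_coprime (α := α) hA).symm.index_eq_card]
  obtain ⟨α, rfl⟩ := key H hH
  obtain ⟨β, rfl⟩ := key K hK
  obtain ⟨a, ha⟩ := exists_smul_eq hA α β
  refine ⟨a, a.2, ?_⟩
  rw [← ha, show (a • α) = (a : G) • α from rfl, stabilizer_smul_eq_stabilizer_map_conj]

private theorem sz_conj_aux : ∀ n : ℕ, ∀ {G : Type u} [Group G] [Finite G], Nat.card G = n →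
    ∀ (N H K : Subgroup G) [N.Normal], (Nat.card N).Coprime N.index →
    Nat.card H = N.index → Nat.card K = N.index →
    (Group.IsSolvable N ∨ Group.IsSolvable K) → ∃ g : G, conjBy g H = K := by
  intro n
  induction n using Nat.strongRecOn with
  | ind n ih =>
  intro G _ _ hn N H K _ hcop hH hK hsolv
  rcases eq_or_ne N ⊥ with hN | hN
  · subst hN
    rw [index_bot] at hH hK
    rw [eq_top_of_card_eq H hH, eq_top_of_card_eq K hK]
    exact ⟨1, conjBy_one _⟩
  rcases eq_or_ne N ⊤ with hN' | hN'
  · subst hN'
    rw [index_top, card_eq_one] at hH hK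
    exact ⟨1, by rw [conjBy_one, hH, hK]⟩
  rcases hsolv with hs | hs
  · -- a minimal normal subgroup inside the solvable normal subgroup
    obtain ⟨M, hMn, hM1, hMN, hMmin⟩ := exists_minimal_normal_le hN
    haveI := hMn
    haveI : Group.IsSolvable M := isSolvable_of_le hMN hs
    obtain ⟨hMc, -⟩ := minimal_normal_solvable hM1 hMmin
    have hlt : Nat.card (G ⧸ M) < n := by
      rw [← hn, ← M.index_eq_card, ← M.index_mul_card]
      exact lt_mul_of_one_lt_right (Nat.pos_of_ne_zero M.index_ne_zero_of_finite)
        (M.one_lt_card_iff_ne_bot.2 hM1)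
    set q := QuotientGroup.mk' M with hq
    have hsurj : Function.Surjective q := QuotientGroup.mk'_surjective M
    haveI : (N.map q).Normal := Subgroup.Normal.map inferInstance q hsurj
    have hidx : (N.map q).index = N.index := N.index_map_eq hsurj (by rwa [hq, QuotientGroup.ker_mk'])
    have hcard : ∀ L : Subgroup G, Nat.card L = N.index → Nat.card (L.map q) = N.index := by
      intro L hL
      have : L ⊓ M = ⊥ := disjoint_of_coprime_card
        (((hL ▸ hcop.symm : (Nat.card L).Coprime (Nat.card N))).coprime_dvd_right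
          (card_dvd_of_le hMN))
      rw [← hL, hq]
      have e1 := relIndex_map_map (QuotientGroup.mk' M) (⊥ : Subgroup G) L
      rw [Subgroup.map_bot, relIndex_bot_left, QuotientGroup.ker_mk', bot_sup_eq,
        relIndex_sup_right] at e1
      rw [e1, ← inf_relIndex_right, inf_comm, this, relIndex_bot_left]
    obtain ⟨gb, hgb⟩ := ih _ hlt rfl (N.map q) (H.map q) (K.map q)
      (by rw [hidx]; exact hcop.coprime_dvd_left (card_map_dvd _ _)) (by rw [hidx]; exact hcard H hH)
      (by rw [hidx]; exact hcard K hK)
      (Or.inl (by haveI := hs; exact Group.isSolvable_of_surjective (q.subgroupMap_surjective N)))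
    obtain ⟨g, rfl⟩ := hsurj gb
    rw [← conjBy_map] at hgb
    have hle : conjBy g H ≤ K ⊔ M := by
      have h1 : conjBy g H ≤ ((conjBy g H).map q).comap q := le_comap_map _ _
      rwa [hgb, comap_map_eq, hq, QuotientGroup.ker_mk'] at h1
    set L := K ⊔ M
    haveI : (M.subgroupOf L).Normal := Subgroup.normal_subgroupOf
    haveI : IsMulCommutative (M.subgroupOf L) :=
      ⟨⟨fun a b => Subtype.ext (Subtype.ext (hMc _ a.2 _ b.2))⟩⟩
    have hMK : M ⊓ K = ⊥ := by
      rw [inf_comm]
      exact disjoint_of_coprime_card
        (((hK ▸ hcop.symm : (Nat.card K).Coprime (Nat.card N))).coprime_dvd_right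
          (card_dvd_of_le hMN))
    have hML : (M.subgroupOf L).index = N.index := by
      show M.relIndex (K ⊔ M) = N.index
      rw [relIndex_sup_right, ← inf_relIndex_right, hMK, relIndex_bot_left, hK]
    have hMcard : Nat.card (M.subgroupOf L) = Nat.card M :=
      Nat.card_congr (subgroupOfEquivOfLe le_sup_right).toEquiv
    obtain ⟨a, -, ha⟩ := schur_conj_abelian (A := M.subgroupOf L)
      (H := (conjBy g H).subgroupOf L) (K := K.subgroupOf L)
      (by rw [hML, hMcard]; exact hcop.coprime_dvd_left (card_dvd_of_le hMN))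
      (by rw [hML, Nat.card_congr (subgroupOfEquivOfLe hle).toEquiv, card_conjBy, hH])
      (by rw [hML, Nat.card_congr (subgroupOfEquivOfLe le_sup_left).toEquiv, hK])
    refine ⟨(a : G) * g, ?_⟩
    have h2 := congrArg (Subgroup.map L.subtype) ha
    rw [conjBy_map, map_subgroupOf_eq_of_le hle, map_subgroupOf_eq_of_le le_sup_left,
      conjBy_conjBy] at h2
    exact h2
  · -- a minimal normal subgroup of the solvable complement
    haveI := hs
    have hKne : (⊤ : Subgroup K) ≠ ⊥ := by
      intro h
      apply hN'
      have h1 : Nat.card K = 1 := by rw [← card_top (G := K), h, card_bot]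
      rwa [hK, index_eq_one] at h1
    obtain ⟨R', hR'n, hR'1, -, hR'min⟩ := exists_minimal_normal_le hKne
    haveI := hR'n
    obtain ⟨-, p, hp, hR'p⟩ := minimal_normal_solvable hR'1 hR'min
    haveI : Fact p.Prime := ⟨hp⟩
    set R := R'.map K.subtype with hR
    have hRK : R ≤ K := map_subtype_le R'
    have hRp : IsPGroup p R := IsPGroup.map (fun x => ⟨1, by
      rw [pow_one]; exact Subtype.ext (hR'p _ x.2)⟩) _
    have hRcard : 1 < Nat.card R := by
      rw [hR, card_map_of_injective K.subtype_injective]
      exact R'.one_lt_card_iff_ne_bot.2 hR'1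
    have hsupK : N ⊔ K = ⊤ := sup_eq_top_of_card_eq_index hcop hK
    have hsupH : N ⊔ H = ⊤ := sup_eq_top_of_card_eq_index hcop hH
    have hNT : (N ⊔ R).Normal := by
      rw [← normalizer_eq_top_iff, eq_top_iff, ← hsupK]
      refine sup_le (le_trans le_sup_left le_normalizer) ?_
      intro k hk
      rw [← conjBy_eq_self_iff, conjBy, Subgroup.map_sup]
      congr 1
      · exact (conjBy_eq_self_iff.2 (by rw [normalizer_eq_top]; exact mem_top k) : conjBy k N = N)
      · have : (R'.map (MulAut.conj (⟨k, hk⟩ : K)).toMonoidHom).map K.subtype = conjBy k R := by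
          rw [hR, conjBy, Subgroup.map_map, Subgroup.map_map]; rfl
        rw [show R'.map (MulAut.conj (⟨k, hk⟩ : K)).toMonoidHom = R' from
          conjBy_eq_self_iff.2 (by rw [normalizer_eq_top]; exact mem_top _)] at this
        exact this.symm
    set T := N ⊔ R with hT
    haveI := hNT
    set S := T ⊓ H
    have hNRbot : N ⊓ R = ⊥ := by
      refine le_bot_iff.1 ((inf_le_inf_left N hRK).trans (le_of_eq ?_))
      exact disjoint_of_coprime_card (by rwa [hK])
    have hTN : N.relIndex T = Nat.card R := by
      rw [hT, relIndex_sup_left, ← inf_relIndex_right, hNRbot, relIndex_bot_left]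
    have hScard : Nat.card S = Nat.card R := by
      have hTS : T = N ⊔ S := by
        apply le_antisymm
        · intro t ht
          obtain ⟨a, ha, h, hh, rfl⟩ := Subgroup.mem_sup_of_normal_left.1
            (show t ∈ N ⊔ H by rw [hsupH]; exact mem_top _)
          exact mul_mem_sup ha ⟨by simpa using mul_mem (inv_mem ((le_sup_left : N ≤ T) ha)) ht, hh⟩
        · exact sup_le le_sup_left inf_le_left
      rw [← hTN, hTS, relIndex_sup_left, ← inf_relIndex_right,
        show N ⊓ S = ⊥ from le_bot_iff.1 ((inf_le_inf_left N inf_le_right).trans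
          (le_of_eq (disjoint_of_coprime_card (by rwa [hH])))), relIndex_bot_left]
    obtain ⟨k, hk⟩ := IsPGroup.iff_card.1 hRp
    have hpN : ¬ p ∣ Nat.card N := by
      intro hd
      refine hp.ne_one (Nat.eq_one_of_dvd_coprimes hcop hd ?_)
      rw [← hK]
      refine dvd_trans ?_ (card_dvd_of_le hRK)
      rw [hk]
      exact dvd_pow_self p (by rintro rfl; rw [pow_zero] at hk; omega)
    have hTfac : (Nat.card T).factorization p = k := by
      have h1 : Nat.card T = Nat.card N * Nat.card R := by
        rw [← hTN, Subgroup.relIndex,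
          ← Nat.card_congr (subgroupOfEquivOfLe (le_sup_left : N ≤ T)).toEquiv]
        exact (card_mul_index _).symm
      rw [h1, hk, Nat.factorization_mul Nat.card_pos.ne' (pow_ne_zero _ hp.ne_zero),
        Finsupp.add_apply, Nat.factorization_eq_zero_of_not_dvd hpN,
        Nat.factorization_pow_self hp, zero_add]
    let P : Sylow p T := Sylow.ofCard (S.subgroupOf T) (by
      rw [Nat.card_congr (subgroupOfEquivOfLe (inf_le_left : S ≤ T)).toEquiv, hScard, hk, hTfac])
    let Q : Sylow p T := Sylow.ofCard (R.subgroupOf T) (by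
      rw [Nat.card_congr (subgroupOfEquivOfLe (le_sup_right : R ≤ T)).toEquiv, hk, hTfac])
    obtain ⟨t, ht⟩ := MulAction.exists_smul_eq T P Q
    have htS : conjBy (t : G) S = R := by
      have h1 : conjBy t (S.subgroupOf T) = R.subgroupOf T :=
        congrArg (fun P : Sylow p T => (P : Subgroup T)) ht
      have h2 := congrArg (Subgroup.map T.subtype) h1
      rwa [conjBy_map, map_subgroupOf_eq_of_le inf_le_left,
        map_subgroupOf_eq_of_le le_sup_right] at h2
    set H₁ := conjBy (t : G) H with hH₁
    have hRH₁ : R ≤ H₁ := htS ▸ map_mono inf_le_right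
    set L := normalizer (R : Set G)
    have hKL : K ≤ L := by
      intro x hx
      rw [← conjBy_eq_self_iff]
      have : (R'.map (MulAut.conj (⟨x, hx⟩ : K)).toMonoidHom).map K.subtype = conjBy x R := by
        rw [hR, conjBy, Subgroup.map_map, Subgroup.map_map]; rfl
      rw [show R'.map (MulAut.conj (⟨x, hx⟩ : K)).toMonoidHom = R' from
        conjBy_eq_self_iff.2 (by rw [normalizer_eq_top]; exact mem_top _)] at this
      exact this.symm
    have hH₁L : H₁ ≤ L := by
      intro x hx
      rw [← conjBy_eq_self_iff, ← htS, conjBy_conjBy]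
      obtain ⟨h, hh, rfl⟩ := hx
      show conjBy ((t : G) * h * (t : G)⁻¹ * t) S = _
      rw [inv_mul_cancel_right, ← conjBy_conjBy]
      congr 1
      rw [conjBy, Subgroup.map_inf _ _ _ (MulEquiv.injective _)]
      congr 1
      · exact (conjBy_eq_self_iff.2 (by rw [normalizer_eq_top]; exact mem_top h) : conjBy h T = T)
      · exact conjBy_eq_self_of_mem hh
    rcases eq_or_ne L ⊤ with hL | hL
    · haveI : R.Normal := normalizer_eq_top_iff.1 hL
      have hlt : Nat.card (G ⧸ R) < n := by
        rw [← hn, ← R.index_eq_card, ← R.index_mul_card]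
        exact lt_mul_of_one_lt_right (Nat.pos_of_ne_zero R.index_ne_zero_of_finite) hRcard
      set q := QuotientGroup.mk' R with hq
      have hsurj : Function.Surjective q := QuotientGroup.mk'_surjective R
      haveI : (N.map q).Normal := Subgroup.Normal.map inferInstance q hsurj
      have hidxR : N.index = Nat.card R * (N.map q).index := by
        rw [← hTN, index_map, hq, QuotientGroup.ker_mk', QuotientGroup.range_mk', index_top,
          mul_one, relIndex_mul_index le_sup_left]
      have hcard : ∀ X : Subgroup G, R ≤ X → Nat.card X = N.index →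
          Nat.card (X.map q) = (N.map q).index := by
        intro X hRX hX
        have := card_eq_card_mul_card_map_mk' R hRX
        rw [hX, hidxR] at this
        exact Nat.eq_of_mul_eq_mul_left Nat.card_pos this.symm
      obtain ⟨gb, hgb⟩ := ih _ hlt rfl (N.map q) (H₁.map q) (K.map q)
        ((hcop.coprime_dvd_left (card_map_dvd _ _)).coprime_dvd_right ⟨_, hidxR.trans (mul_comm _ _)⟩)
        (hcard _ hRH₁ (by rw [card_conjBy, hH])) (hcard _ hRK hK)
        (Or.inr (Group.isSolvable_of_surjective (q.subgroupMap_surjective K)))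
      obtain ⟨g, rfl⟩ := hsurj gb
      rw [← conjBy_map] at hgb
      refine ⟨g * t, ?_⟩
      rw [← conjBy_conjBy]
      refine Subgroup.map_injective_of_ker_le q ?_ ?_ hgb
      · rw [hq, QuotientGroup.ker_mk']
        calc R = conjBy g R :=
              (conjBy_eq_self_iff.2 (by rw [normalizer_eq_top]; exact mem_top g)).symm
          _ ≤ _ := map_mono hRH₁
      · rw [hq, QuotientGroup.ker_mk']; exact hRK
    · have hlt : Nat.card L < n := by
        rw [← hn, ← L.index_mul_card]
        exact lt_mul_of_one_lt_left Nat.card_pos (one_lt_index_of_ne_top hL)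
      haveI : (N.subgroupOf L).Normal := Subgroup.normal_subgroupOf
      have hidx : (N.subgroupOf L).index = N.index := by
        show N.relIndex L = N.index
        rw [← relIndex_sup_left, show N ⊔ L = ⊤ from
          eq_top_iff.2 (hsupK.symm.le.trans (sup_le_sup_left hKL _)), relIndex_top_right]
      obtain ⟨g, hg⟩ := ih _ hlt rfl (N.subgroupOf L) (H₁.subgroupOf L) (K.subgroupOf L)
        (by
          rw [hidx]
          exact hcop.coprime_dvd_left (card_comap_dvd_of_injective N L.subtype L.subtype_injective))
        (by rw [hidx, Nat.card_congr (subgroupOfEquivOfLe hH₁L).toEquiv, card_conjBy, hH])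
        (by rw [hidx, Nat.card_congr (subgroupOfEquivOfLe hKL).toEquiv, hK])
        (Or.inr (isSolvable_subgroupOf hs))
      refine ⟨(g : G) * t, ?_⟩
      have h2 := congrArg (Subgroup.map L.subtype) hg
      rw [conjBy_map, map_subgroupOf_eq_of_le hH₁L, map_subgroupOf_eq_of_le hKL] at h2
      rw [← conjBy_conjBy]
      exact h2

variable {G : Type u} [Group G] [Finite G]

/-- Schur-Zassenhaus, conjugacy part, with the conjugating element in the normal subgroup. -/
theorem sz_conj {N H K : Subgroup G} [N.Normal] (hcop : (Nat.card N).Coprime N.index)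
    (hH : Nat.card H = N.index) (hK : Nat.card K = N.index)
    (hsolv : Group.IsSolvable N ∨ Group.IsSolvable K) : ∃ g ∈ N, conjBy g H = K := by
  obtain ⟨g, hg⟩ := sz_conj_aux (Nat.card G) rfl N H K hcop hH hK hsolv
  obtain ⟨k, hk, x, hx, rfl⟩ := Subgroup.mem_sup_of_normal_right.1
    (show g ∈ K ⊔ N by rw [sup_comm, sup_eq_top_of_card_eq_index hcop hK]; exact mem_top _)
  refine ⟨x, hx, ?_⟩
  rw [← conjBy_conjBy] at hg
  calc conjBy x H = conjBy k⁻¹ (conjBy k (conjBy x H)) := by
        rw [conjBy_conjBy k⁻¹ k, inv_mul_cancel, conjBy_one]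
    _ = K := by rw [hg]; exact conjBy_eq_self_of_mem (inv_mem hk)

/-- Relative form: if `A` normalizes `N` coprimely, any subgroup of `AN` of the order of `A` is
conjugate to `A` under `N`. -/
theorem sz_conj_in {A B N : Subgroup G} (hA : A ≤ normalizer (N : Set G))
    (hcop : (Nat.card N).Coprime (Nat.card A)) (hB : B ≤ A ⊔ N) (hBc : Nat.card B = Nat.card A)
    (hsolv : Group.IsSolvable A ∨ Group.IsSolvable N) : ∃ x ∈ N, conjBy x B = A := by
  set L := A ⊔ N
  haveI : (N.subgroupOf L).Normal :=
    (normal_subgroupOf_iff_le_normalizer le_sup_right).2 (sup_le hA le_normalizer)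
  have hcardN : Nat.card (N.subgroupOf L) = Nat.card N :=
    Nat.card_congr (subgroupOfEquivOfLe le_sup_right).toEquiv
  have hidx : (N.subgroupOf L).index = Nat.card A := by
    have hsup : (A.subgroupOf L) ⊔ (N.subgroupOf L) = ⊤ := by
      rw [← subgroupOf_sup le_sup_left le_sup_right, subgroupOf_self]
    rw [← relIndex_top_right, ← hsup, relIndex_sup_right, ← inf_relIndex_right,
      show N.subgroupOf L ⊓ A.subgroupOf L = ⊥ from disjoint_of_coprime_card
        (by rw [hcardN, Nat.card_congr (subgroupOfEquivOfLe le_sup_left).toEquiv]; exact hcop),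
      relIndex_bot_left, Nat.card_congr (subgroupOfEquivOfLe le_sup_left).toEquiv]
  obtain ⟨g, hg, h⟩ := sz_conj (N := N.subgroupOf L) (H := B.subgroupOf L) (K := A.subgroupOf L)
    (by rwa [hidx, hcardN])
    (by rw [hidx, Nat.card_congr (subgroupOfEquivOfLe hB).toEquiv, hBc])
    (by rw [hidx, Nat.card_congr (subgroupOfEquivOfLe le_sup_left).toEquiv])
    (hsolv.symm.imp isSolvable_subgroupOf isSolvable_subgroupOf)
  refine ⟨g, hg, ?_⟩
  have h2 := congrArg (Subgroup.map L.subtype) h
  rwa [conjBy_map, map_subgroupOf_eq_of_le hB, map_subgroupOf_eq_of_le le_sup_left] at h2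

end CfsgLib.Coprime
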