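import Mathlib.GroupTheory.SpecificGroups.ZGroup
import Cfsg.Agent.Lib.Coprime.SchurZassenhaus

/-!
# Coprime action

`A` and `K` are subgroups of an ambient group, `A` normalizes `K` and the orders are coprime.
-/

set_option autoImplicit false
set_option linter.style.haveILetI false
set_option linter.unusedSectionVars false

namespace CfsgLib.Coprime

open Subgroup

universe u

variable {G : Type u} [Group G]

theorem conj_mem_of_le_normalizer {A K : Subgroup G} (h : A ≤ normalizer (K : Set G)) {a x : G}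
    (ha : a ∈ A) (hx : x ∈ K) : a * x * a⁻¹ ∈ K :=
  (Subgroup.mem_normalizer_iff.1 (h ha) x).1 hx

theorem mem_centralizer_iff_conj_eq {A : Subgroup G} {x : G} :
    x ∈ centralizer (A : Set G) ↔ ∀ a ∈ A, a * x * a⁻¹ = x := by
  simp only [mem_centralizer_iff, SetLike.mem_coe, mul_inv_eq_iff_eq_mul]

theorem mem_sup_exists {N H : Subgroup G} (h : H ≤ normalizer (N : Set G)) {x : G}
    (hx : x ∈ N ⊔ H) : ∃ n ∈ N, ∃ k ∈ H, n * k = x := by
  rw [sup_comm, ← SetLike.mem_coe, coe_mul_of_left_le_normalizer_right H N h] at hx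
  obtain ⟨k, hk, n, hn, rfl⟩ := hx
  exact ⟨k * n * k⁻¹, (Subgroup.mem_normalizer_iff.1 (h hk) n).1 hn, k, hk, by group⟩

theorem centralizer_le_normalizer_self (A : Subgroup G) :
    centralizer (A : Set G) ≤ normalizer (A : Set G) :=
  centralizer_le_normalizer (A : Set G)

theorem normalizer_le_normalizer_centralizer (A : Subgroup G) :
    normalizer (A : Set G) ≤ normalizer (centralizer (A : Set G) : Set G) := by
  have key : ∀ g ∈ normalizer (A : Set G), ∀ x ∈ centralizer (A : Set G),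
      g * x * g⁻¹ ∈ centralizer (A : Set G) := by
    intro g hg x hx
    rw [mem_centralizer_iff]
    intro a ha
    have h1 : g⁻¹ * a * g ∈ A := (Subgroup.mem_normalizer_iff''.1 hg a).1 ha
    have h2 := mem_centralizer_iff.1 hx _ h1
    calc a * (g * x * g⁻¹) = g * ((g⁻¹ * a * g) * x) * g⁻¹ := by group
      _ = g * (x * (g⁻¹ * a * g)) * g⁻¹ := by rw [h2]
      _ = g * x * g⁻¹ * a := by group
  intro g hg
  rw [Subgroup.mem_normalizer_iff]
  refine fun x => ⟨key g hg x, fun h => ?_⟩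
  have := key g⁻¹ (inv_mem hg) _ h
  simpa [mul_assoc] using this

theorem inf_le_normalizer {A H K : Subgroup G} (hH : A ≤ normalizer (H : Set G))
    (hK : A ≤ normalizer (K : Set G)) : A ≤ normalizer ((H ⊓ K : Subgroup G) : Set G) := by
  intro a ha
  rw [Subgroup.mem_normalizer_iff]
  exact fun x => and_congr (Subgroup.mem_normalizer_iff.1 (hH ha) x)
    (Subgroup.mem_normalizer_iff.1 (hK ha) x)

theorem sup_le_normalizer {A H K : Subgroup G} (hH : A ≤ normalizer (H : Set G))
    (hK : A ≤ normalizer (K : Set G)) : A ≤ normalizer ((H ⊔ K : Subgroup G) : Set G) := by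
  intro a ha
  rw [← conjBy_eq_self_iff, conjBy, Subgroup.map_sup]
  exact congrArg₂ _ (conjBy_eq_self_iff.2 (hH ha)) (conjBy_eq_self_iff.2 (hK ha))

theorem normalizer_conjBy_le {A P : Subgroup G} {c : G}
    (hc : c ∈ centralizer (A : Set G)) (hP : A ≤ normalizer (P : Set G)) :
    A ≤ normalizer (conjBy c P : Set G) := by
  intro a ha
  rw [← conjBy_eq_self_iff, conjBy_conjBy, mem_centralizer_iff.1 hc a ha, ← conjBy_conjBy,
    conjBy_eq_self_iff.2 (hP ha)]

/-- A fixed point `u = [a, x]` of `a` whose order is coprime to that of `a` is trivial. -/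
theorem eq_one_of_conj_eq_mul {a x u : G} (hx : a * x * a⁻¹ = u * x) (hu : a * u * a⁻¹ = u)
    (hcop : (orderOf a).Coprime (orderOf u)) : u = 1 := by
  have key : ∀ n : ℕ, a ^ n * x * (a ^ n)⁻¹ = u ^ n * x := by
    intro n
    induction n with
    | zero => simp
    | succ n ih =>
      calc a ^ (n + 1) * x * (a ^ (n + 1))⁻¹ = a * (a ^ n * x * (a ^ n)⁻¹) * a⁻¹ := by
            rw [pow_succ']; group
        _ = (a * u ^ n * a⁻¹) * (a * x * a⁻¹) := by rw [ih]; group
        _ = u ^ n * (u * x) := by rw [← conj_pow, hu, hx]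
        _ = u ^ (n + 1) * x := by rw [pow_succ, mul_assoc]
  have h := key (orderOf a)
  rw [pow_orderOf_eq_one, one_mul, inv_one, mul_one] at h
  have h1 : orderOf u ∣ orderOf a := orderOf_dvd_of_pow_eq_one (mul_eq_right.1 h.symm)
  exact orderOf_eq_one_iff.1 (Nat.eq_one_of_dvd_coprimes hcop h1 dvd_rfl)

theorem isSolvable_of_isNilpotent {H : Subgroup G} (h : Group.IsNilpotent H) :
    Group.IsSolvable H := by
  haveI := h; infer_instance

theorem isSolvable_of_isMulCommutative {A : Subgroup G} (h : IsMulCommutative A) :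
    Group.IsSolvable A := by
  haveI := h
  exact Group.isSolvable_of_comm fun a b => mul_comm' a b

variable [Finite G]

/-- A coset `kN` fixed by `A` contains an element centralized by `A`. -/
theorem exists_fixed_in_coset {A N : Subgroup G} (hA : A ≤ normalizer (N : Set G))
    (hcop : (Nat.card A).Coprime (Nat.card N))
    (hsolv : Group.IsSolvable A ∨ Group.IsSolvable N) {k : G}
    (hk : k ∈ normalizer (N : Set G)) (hfix : ∀ a ∈ A, a * k * a⁻¹ * k⁻¹ ∈ N) :
    ∃ n ∈ N, k * n ∈ centralizer (A : Set G) := by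
  have hB : conjBy k⁻¹ A ≤ A ⊔ N := by
    intro x hx
    rw [mem_conjBy, inv_inv] at hx
    set a := k * x * k⁻¹ with ha
    have h1 : a⁻¹ * k * a * k⁻¹ ∈ N := by simpa using hfix a⁻¹ (inv_mem hx)
    have h2 := (Subgroup.mem_normalizer_iff''.1 hk _).1 (inv_mem h1)
    have : x = a * (k⁻¹ * (a⁻¹ * k * a * k⁻¹)⁻¹ * k) := by rw [ha]; group
    rw [this]
    exact mul_mem_sup hx h2
  obtain ⟨m, hm, hconj⟩ := sz_conj_in hA hcop.symm hB (card_conjBy _ _) hsolv
  rw [conjBy_conjBy] at hconj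
  refine ⟨m⁻¹, inv_mem hm, ?_⟩
  have hc : k * m⁻¹ ∈ normalizer (A : Set G) := by
    rw [← conjBy_eq_self_iff]
    conv_lhs => rw [← hconj]
    rw [conjBy_conjBy, show k * m⁻¹ * (m * k⁻¹) = 1 by group, conjBy_one]
  rw [mem_centralizer_iff_conj_eq]
  intro a ha
  have e : a * (k * m⁻¹) * a⁻¹ * (k * m⁻¹)⁻¹ ∈ A ⊓ N := by
    refine Subgroup.mem_inf.2 ⟨?_, ?_⟩
    · have := (Subgroup.mem_normalizer_iff.1 hc a⁻¹).1 (inv_mem ha)
      have h3 := mul_mem ha this
      rwa [show a * (k * m⁻¹) * a⁻¹ * (k * m⁻¹)⁻¹ = a * ((k * m⁻¹) * a⁻¹ * (k * m⁻¹)⁻¹) by group]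
    · have e1 : a * (k * m⁻¹) * a⁻¹ * (k * m⁻¹)⁻¹ =
          (a * k * a⁻¹ * k⁻¹) * (k * ((a * m⁻¹ * a⁻¹) * m) * k⁻¹) := by group
      rw [e1]
      exact mul_mem (hfix a ha) ((Subgroup.mem_normalizer_iff.1 hk _).1
        (mul_mem (conj_mem_of_le_normalizer hA ha (inv_mem hm)) hm))
  rw [disjoint_of_coprime_card hcop, mem_bot] at e
  exact mul_inv_eq_one.1 e

/-- In a semidirect situation, elements of `K` normalizing `A` centralize it. -/
theorem mem_centralizer_of_mem_normalizer {A K : Subgroup G} (hA : A ≤ normalizer (K : Set G))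
    (hcop : (Nat.card A).Coprime (Nat.card K)) {c : G} (hcK : c ∈ K)
    (hc : c ∈ normalizer (A : Set G)) : c ∈ centralizer (A : Set G) := by
  rw [mem_centralizer_iff_conj_eq]
  intro a ha
  have e : a * c * a⁻¹ * c⁻¹ ∈ A ⊓ K := by
    refine Subgroup.mem_inf.2 ⟨?_, mul_mem (conj_mem_of_le_normalizer hA ha hcK) (inv_mem hcK)⟩
    have h3 := mul_mem ha ((Subgroup.mem_normalizer_iff.1 hc a⁻¹).1 (inv_mem ha))
    rwa [show a * c * a⁻¹ * c⁻¹ = a * (c * a⁻¹ * c⁻¹) by group]
  rw [disjoint_of_coprime_card hcop, mem_bot] at e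
  exact mul_inv_eq_one.1 e

/-- If `A` maps `S` to `K`-conjugates of `S` then some `K`-conjugate of `S` is `A`-invariant
(Glauberman's lemma for subgroups). -/
theorem exists_invariant_conj {A K : Subgroup G} (hAK : A ≤ normalizer (K : Set G))
    (hcop : (Nat.card A).Coprime (Nat.card K))
    (hsolv : Group.IsSolvable A ∨ Group.IsSolvable K) {S : Subgroup G}
    (h : ∀ a ∈ A, ∃ k ∈ K, conjBy a S = conjBy k S) :
    ∃ x ∈ K, A ≤ normalizer (conjBy x S : Set G) := by
  set M := (A ⊔ K) ⊓ normalizer (S : Set G) with hM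
  set MK := M ⊓ K
  have hLK : A ⊔ K ≤ normalizer (K : Set G) := sup_le hAK le_normalizer
  haveI : (MK.subgroupOf M).Normal := by
    refine (normal_subgroupOf_iff_le_normalizer inf_le_left).2 ?_
    exact inf_le_normalizer le_normalizer (inf_le_left.trans hLK)
  have hMA : K.relIndex M = Nat.card A := by
    haveI : (K.subgroupOf (A ⊔ K)).Normal :=
      (normal_subgroupOf_iff_le_normalizer le_sup_right).2 hLK
    have hsup : M ⊔ K = A ⊔ K := by
      refine le_antisymm (sup_le inf_le_left le_sup_right) (sup_le ?_ le_sup_right)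
      intro a ha
      obtain ⟨k, hk, hak⟩ := h a ha
      have hmem : k⁻¹ * a ∈ M := by
        refine Subgroup.mem_inf.2 ⟨mul_mem (inv_mem ((le_sup_right : K ≤ A ⊔ K) hk))
          ((le_sup_left : A ≤ A ⊔ K) ha), ?_⟩
        rw [← conjBy_eq_self_iff, ← conjBy_conjBy, hak, conjBy_conjBy, inv_mul_cancel, conjBy_one]
      rw [← mul_inv_cancel_left k a, sup_comm]
      exact mul_mem_sup hk hmem
    have e1 : K.relIndex M = K.relIndex (M ⊔ K) := by
      have hM' : M ≤ A ⊔ K := inf_le_left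
      rw [← relIndex_subgroupOf hM', ← relIndex_subgroupOf (sup_le hM' le_sup_right),
        subgroupOf_sup hM' le_sup_right, relIndex_sup_right]
    have e2 : K.relIndex (A ⊔ K) = Nat.card A := by
      rw [← relIndex_subgroupOf (le_refl (A ⊔ K)), subgroupOf_sup le_sup_left le_sup_right,
        relIndex_sup_right, relIndex_subgroupOf le_sup_left, ← inf_relIndex_right,
        show K ⊓ A = ⊥ from disjoint_of_coprime_card hcop.symm, relIndex_bot_left]
    rw [e1, hsup, e2]
  have hidx : (MK.subgroupOf M).index = Nat.card A := by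
    show MK.relIndex M = _
    rw [show MK = K ⊓ M from inf_comm _ _, inf_relIndex_right, hMA]
  have hcard : Nat.card (MK.subgroupOf M) ∣ Nat.card K := by
    rw [Nat.card_congr (subgroupOfEquivOfLe (inf_le_left : MK ≤ M)).toEquiv]
    exact card_dvd_of_le inf_le_right
  obtain ⟨B, hB⟩ := exists_right_complement'_of_coprime (N := MK.subgroupOf M)
    (by rw [hidx]; exact hcop.symm.coprime_dvd_left hcard)
  have hBc : Nat.card (B.map M.subtype) = Nat.card A := by
    rw [card_map_of_injective M.subtype_injective, ← hidx, ← hB.symm.index_eq_card]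
  obtain ⟨x, hx, hxB⟩ := sz_conj_in hAK hcop.symm
    ((map_subtype_le B).trans inf_le_left) hBc hsolv
  refine ⟨x, hx, ?_⟩
  rw [← hxB]
  intro a ha
  rw [mem_conjBy] at ha
  have h2 : conjBy (x⁻¹ * a * x) S = S :=
    conjBy_eq_self_iff.2 ((inf_le_right : M ≤ _) (map_subtype_le B ha))
  rw [← conjBy_eq_self_iff, conjBy_conjBy]
  conv_rhs => rw [← h2, conjBy_conjBy]
  congr 1
  group

/-- Two `A`-invariant `K`-conjugate subgroups are conjugate under `C_K(A)`. -/
theorem invariant_conj_unique {A K : Subgroup G} (hAK : A ≤ normalizer (K : Set G))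
    (hcop : (Nat.card A).Coprime (Nat.card K))
    (hsolv : Group.IsSolvable A ∨ Group.IsSolvable K) {S T : Subgroup G}
    (hS : A ≤ normalizer (S : Set G)) (hT : A ≤ normalizer (T : Set G)) {k : G} (hk : k ∈ K)
    (h : conjBy k S = T) : ∃ c ∈ K ⊓ centralizer (A : Set G), conjBy c S = T := by
  have hB : conjBy k A ≤ A ⊔ (K ⊓ normalizer (T : Set G)) := by
    intro b hb
    have hb' : b ∈ normalizer (T : Set G) := by
      rw [mem_conjBy] at hb
      have h2 := conjBy_eq_self_iff.2 (hS hb)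
      rw [← conjBy_eq_self_iff, ← h, conjBy_conjBy]
      conv_rhs => rw [← h2, conjBy_conjBy]
      congr 1
      group
    rw [mem_conjBy] at hb
    set a := k⁻¹ * b * k with ha
    have e : b = a * ((a⁻¹ * k * a) * k⁻¹) := by rw [ha]; group
    have hmemK : (a⁻¹ * k * a) * k⁻¹ ∈ K :=
      mul_mem ((Subgroup.mem_normalizer_iff''.1 (hAK hb) k).1 hk) (inv_mem hk)
    have : (a⁻¹ * k * a) * k⁻¹ ∈ normalizer (T : Set G) := by
      rw [show (a⁻¹ * k * a) * k⁻¹ = a⁻¹ * b by rw [ha]; group]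
      exact mul_mem (inv_mem (hT hb)) hb'
    rw [e]
    exact mul_mem_sup hb ⟨hmemK, this⟩
  obtain ⟨x, hx, hxA⟩ := sz_conj_in (N := K ⊓ normalizer (T : Set G))
    (inf_le_normalizer hAK (hT.trans le_normalizer))
    (hcop.symm.coprime_dvd_left (card_dvd_of_le inf_le_left)) hB (card_conjBy _ _)
    (hsolv.imp_right (isSolvable_of_le inf_le_left))
  rw [conjBy_conjBy, conjBy_eq_self_iff] at hxA
  refine ⟨x * k, ⟨mul_mem hx.1 hk,
    mem_centralizer_of_mem_normalizer hAK hcop (mul_mem hx.1 hk) hxA⟩, ?_⟩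
  rw [← conjBy_conjBy, h, conjBy_eq_self_iff]
  exact hx.2

/-! ### Invariant Sylow subgroups -/

section Sylow

variable {p : ℕ} [Fact p.Prime]

/-- `P` is a Sylow `p`-subgroup of `K`, phrased inside `G`. -/
def IsSylowIn (p : ℕ) (P K : Subgroup G) : Prop :=
  P ≤ K ∧ Nat.card P = p ^ (Nat.card K).factorization p

theorem IsSylowIn.isPGroup {P K : Subgroup G} (h : IsSylowIn p P K) : IsPGroup p P :=
  IsPGroup.of_card h.2

theorem isSylowIn_map {K : Subgroup G} (P : Sylow p K) :
    IsSylowIn p ((P : Subgroup K).map K.subtype) K :=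
  ⟨map_subtype_le _, by rw [card_map_of_injective K.subtype_injective, P.card_eq_multiplicity]⟩

/-- The Sylow subgroup of `K` given by `IsSylowIn`. -/
noncomputable def IsSylowIn.toSylow {P K : Subgroup G} (h : IsSylowIn p P K) : Sylow p K :=
  Sylow.ofCard (P.subgroupOf K) (by
    rw [Nat.card_congr (subgroupOfEquivOfLe h.1).toEquiv]; exact h.2)

theorem IsSylowIn.map_toSylow {P K : Subgroup G} (h : IsSylowIn p P K) :
    (h.toSylow : Subgroup K).map K.subtype = P :=
  map_subgroupOf_eq_of_le h.1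

theorem IsSylowIn.conjBy {P K : Subgroup G} (h : IsSylowIn p P K) {g : G}
    (hg : g ∈ normalizer (K : Set G)) : IsSylowIn p (Coprime.conjBy g P) K :=
  ⟨(map_mono h.1).trans (le_of_eq (conjBy_eq_self_iff.2 hg)), by rw [card_conjBy]; exact h.2⟩

theorem IsSylowIn.exists_conj {P Q K : Subgroup G} (hP : IsSylowIn p P K) (hQ : IsSylowIn p Q K) :
    ∃ k ∈ K, Coprime.conjBy k P = Q := by
  obtain ⟨k, hk⟩ := MulAction.exists_smul_eq K hP.toSylow hQ.toSylow
  refine ⟨k, k.2, ?_⟩
  have h1 : Coprime.conjBy k (hP.toSylow : Subgroup K) = hQ.toSylow :=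
    congrArg (fun S : Sylow p K => (S : Subgroup K)) hk
  have h2 := congrArg (Subgroup.map K.subtype) h1
  rwa [conjBy_map, hP.map_toSylow, hQ.map_toSylow] at h2

variable {A K : Subgroup G} (hAK : A ≤ normalizer (K : Set G))
  (hcop : (Nat.card A).Coprime (Nat.card K)) (hsolv : Group.IsSolvable A ∨ Group.IsSolvable K)

include hAK hcop hsolv

theorem exists_invariant_sylow (p : ℕ) [Fact p.Prime] :
    ∃ P : Subgroup G, IsSylowIn p P K ∧ A ≤ normalizer (P : Set G) := by
  have hS := isSylowIn_map (default : Sylow p K)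
  obtain ⟨x, hx, h⟩ := exists_invariant_conj hAK hcop hsolv
    (S := ((default : Sylow p K) : Subgroup K).map K.subtype) fun a ha => by
      obtain ⟨k, hk, e⟩ := hS.exists_conj (hS.conjBy (hAK ha))
      exact ⟨k, hk, e.symm⟩
  exact ⟨_, hS.conjBy (le_normalizer hx), h⟩

theorem invariant_sylow_conj {P Q : Subgroup G} (hP : IsSylowIn p P K) (hQ : IsSylowIn p Q K)
    (hPA : A ≤ normalizer (P : Set G)) (hQA : A ≤ normalizer (Q : Set G)) :
    ∃ c ∈ K ⊓ centralizer (A : Set G), Coprime.conjBy c P = Q := by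
  obtain ⟨k, hk, h⟩ := hP.exists_conj hQ
  exact invariant_conj_unique hAK hcop hsolv hPA hQA hk h

theorem le_invariant_sylow {U : Subgroup G} (hUK : U ≤ K) (hU : IsPGroup p U)
    (hUA : A ≤ normalizer (U : Set G)) :
    ∃ P : Subgroup G, IsSylowIn p P K ∧ U ≤ P ∧ A ≤ normalizer (P : Set G) := by
  obtain ⟨W, hUW, hW⟩ := exists_maximal_ge_of_wellFoundedGT
    (fun W : Subgroup G => W ≤ K ∧ IsPGroup p W ∧ A ≤ normalizer (W : Set G)) U ⟨hUK, hU, hUA⟩
  obtain ⟨hWK, hWp, hWA⟩ := hW.prop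
  refine ⟨W, ⟨hWK, ?_⟩, hUW, hWA⟩
  set L := K ⊓ normalizer (W : Set G)
  obtain ⟨P, hP, hPA⟩ := exists_invariant_sylow (K := L)
    (inf_le_normalizer hAK (hWA.trans le_normalizer))
    (hcop.coprime_dvd_right (card_dvd_of_le inf_le_left))
    (hsolv.imp_right (isSolvable_of_le inf_le_left)) p
  have hWL : W ≤ L := le_inf hWK le_normalizer
  haveI : (W.subgroupOf L).Normal :=
    (normal_subgroupOf_iff_le_normalizer hWL).2 inf_le_right
  have hWP : W ≤ P := by
    obtain ⟨Q, hQ⟩ := (hWp.comap_subtype : IsPGroup p (W.subgroupOf L)).exists_le_sylow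
    obtain ⟨g, hg⟩ := MulAction.exists_smul_eq L Q hP.toSylow
    have : W.subgroupOf L ≤ (hP.toSylow : Subgroup L) := by
      rw [← hg, Sylow.coe_subgroup_smul]
      exact le_trans (le_of_eq (Subgroup.Normal.conj_smul_eq_self g _).symm)
        (map_mono hQ)
    calc W = (W.subgroupOf L).map L.subtype := (map_subgroupOf_eq_of_le hWL).symm
      _ ≤ _ := map_mono this
      _ = P := hP.map_toSylow
  obtain rfl : W = P := hW.eq_of_le ⟨hP.1.trans inf_le_left, hP.isPGroup, hPA⟩ hWP
  obtain ⟨S, hS⟩ := (hWp.comap_subtype : IsPGroup p (W.subgroupOf K)).exists_le_sylow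
  set S' := (S : Subgroup K).map K.subtype
  have hWS : W ≤ S' :=
    le_trans (le_of_eq (map_subgroupOf_eq_of_le hWK).symm) (map_mono hS)
  have hS'p : IsPGroup p S' := S.isPGroup'.map _
  rcases eq_or_lt_of_le hWS with h | h
  · rw [h]; exact (isSylowIn_map S).2
  · exfalso
    haveI : Group.IsNilpotent S' := hS'p.isNilpotent
    have hne : W.subgroupOf S' ≠ ⊤ := fun e => h.not_ge (subgroupOf_eq_top.1 e)
    obtain ⟨x, hxN, hxW⟩ := SetLike.exists_of_lt
      (Group.normalizerCondition_of_isNilpotent _ hne.lt_top)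
    have hxL : (x : G) ∈ L := by
      refine ⟨map_subtype_le _ x.2, ?_⟩
      refine Subgroup.mem_normalizer_iff.2 ?_
      intro y
      constructor <;> intro hy
      · have := (Subgroup.mem_normalizer_iff.1 hxN ⟨y, hWS hy⟩).1 hy
        exact this
      · have hyS : y ∈ S' := by
          have h1 := mul_mem (mul_mem (inv_mem x.2) (hWS hy)) x.2
          rwa [show (x : G)⁻¹ * ((x : G) * y * (x : G)⁻¹) * (x : G) = y by group] at h1
        exact (Subgroup.mem_normalizer_iff.1 hxN ⟨y, hyS⟩).2 hy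
    -- `⟨W, x⟩` is a `p`-subgroup of `L` bigger than the Sylow subgroup `W` of `L`
    have hV : IsPGroup p ↥(S' ⊓ L) := hS'p.to_inf_left
    have h1 : Nat.card ↥(S' ⊓ L) ∣ p ^ (Nat.card L).factorization p := by
      obtain ⟨n, hn⟩ := IsPGroup.iff_card.1 hV
      rw [hn]
      refine pow_dvd_pow p ?_
      exact ((Fact.out : p.Prime).pow_dvd_iff_le_factorization Nat.card_pos.ne').1
        (hn ▸ card_dvd_of_le inf_le_right)
    have h2 : W = S' ⊓ L := Subgroup.eq_of_le_of_card_ge (le_inf hWS hP.1)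
      (by rw [hP.2]; exact Nat.le_of_dvd (pow_pos (Fact.out : p.Prime).pos _) h1)
    exact hxW (show (x : G) ∈ W by rw [h2]; exact ⟨x.2, hxL⟩)

end Sylow

/-! ### Commutators and fixed points -/

variable {A K : Subgroup G}

/-- `K = [K, A] C_K(A)`. -/
theorem commutator_sup_centralizer (hAK : A ≤ normalizer (K : Set G))
    (hcop : (Nat.card A).Coprime (Nat.card K))
    (hsolv : Group.IsSolvable A ∨ Group.IsSolvable K) :
    ⁅K, A⁆ ⊔ (K ⊓ centralizer (A : Set G)) = K := by
  have hle : ⁅K, A⁆ ≤ K := by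
    rw [commutator_le]
    intro k hk a ha
    rw [commutatorElement_def, show k * a * k⁻¹ * a⁻¹ = k * (a * k⁻¹ * a⁻¹) by group]
    exact mul_mem hk (conj_mem_of_le_normalizer hAK ha (inv_mem hk))
  refine le_antisymm (sup_le hle inf_le_left) ?_
  intro k hk
  have hKn : K ≤ normalizer ((⁅K, A⁆ : Subgroup G) : Set G) := normalizer_commutator_ge_left K A
  have hAn : A ≤ normalizer ((⁅K, A⁆ : Subgroup G) : Set G) := by
    rw [commutator_comm]; exact normalizer_commutator_ge_left A K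
  obtain ⟨n, hn, hc⟩ := exists_fixed_in_coset (k := k) hAn
    (hcop.coprime_dvd_right (card_dvd_of_le hle)) (hsolv.imp_right (isSolvable_of_le hle))
    (hKn hk)
    (fun a ha => by
      rw [show a * k * a⁻¹ * k⁻¹ = (k * a * k⁻¹ * a⁻¹)⁻¹ by group]
      exact inv_mem (commutator_mem_commutator hk ha))
  have hmem : k * n ∈ K ⊓ centralizer (A : Set G) := ⟨mul_mem hk (hle hn), hc⟩
  rw [show k = (k * n) * n⁻¹ by group, sup_comm]
  exact mul_mem_sup hmem (inv_mem hn)

/-- `[K, A, A] = [K, A]`. -/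
theorem commutator_commutator_eq (hAK : A ≤ normalizer (K : Set G))
    (hcop : (Nat.card A).Coprime (Nat.card K))
    (hsolv : Group.IsSolvable A ∨ Group.IsSolvable K) :
    ⁅⁅K, A⁆, A⁆ = ⁅K, A⁆ := by
  have hle : ⁅K, A⁆ ≤ K := by
    conv_rhs => rw [← commutator_sup_centralizer hAK hcop hsolv]
    exact le_sup_left
  refine le_antisymm (commutator_mono hle le_rfl) ?_
  have hKn : ∀ x ∈ ⁅K, A⁆, ∀ a ∈ A, x * a * x⁻¹ * a⁻¹ ∈ ⁅⁅K, A⁆, A⁆ :=
    fun x hx a ha => commutator_mem_commutator hx ha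
  rw [commutator_le]
  intro k hk a ha
  rw [commutatorElement_def]
  have hk' : k ∈ ⁅K, A⁆ ⊔ (K ⊓ centralizer (A : Set G)) := by
    rw [commutator_sup_centralizer hAK hcop hsolv]; exact hk
  obtain ⟨x, hx, c, hc, rfl⟩ := mem_sup_exists (inf_le_left.trans
    (normalizer_commutator_ge_left K A)) hk'
  have e : c * a = a * c := (mem_centralizer_iff.1 hc.2 a ha).symm
  rw [show x * c * a * (x * c)⁻¹ * a⁻¹ = x * (c * a) * c⁻¹ * x⁻¹ * a⁻¹ by group, e,
    show x * (a * c) * c⁻¹ * x⁻¹ * a⁻¹ = x * a * x⁻¹ * a⁻¹ by group]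
  exact hKn x hx a ha

/-- A coprime group of operators trivial on `[K, A]` is trivial on `K`. -/
theorem le_centralizer_of_le_centralizer_commutator (hAK : A ≤ normalizer (K : Set G))
    (hcop : (Nat.card A).Coprime (Nat.card K))
    (hsolv : Group.IsSolvable A ∨ Group.IsSolvable K)
    (h : A ≤ centralizer ((⁅K, A⁆ : Subgroup G) : Set G)) : A ≤ centralizer (K : Set G) := by
  rw [← commutator_eq_bot_iff_le_centralizer, commutator_comm,
    ← commutator_commutator_eq hAK hcop hsolv, commutator_comm,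
    commutator_eq_bot_iff_le_centralizer]
  exact h

/-- Thompson's `P × Q` lemma. -/
theorem pq_lemma {p : ℕ} [Fact p.Prime] {P Q U : Subgroup G} (hP : IsPGroup p P)
    (hQ : (Nat.card Q).Coprime p) (hU : IsPGroup p U) (hPQ : P ≤ centralizer (Q : Set G))
    (hPU : P ≤ normalizer (U : Set G)) (hQU : Q ≤ normalizer (U : Set G))
    (hC : U ⊓ centralizer (P : Set G) ≤ centralizer (Q : Set G)) :
    Q ≤ centralizer (U : Set G) := by
  rw [le_centralizer_iff]
  set C := U ⊓ centralizer (Q : Set G)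
  suffices h : C = U from h ▸ inf_le_right
  by_contra hne
  have hlt : C < U := lt_of_le_of_ne inf_le_left hne
  haveI : Group.IsNilpotent U := hU.isNilpotent
  set N := U ⊓ normalizer (C : Set G) with hN
  have hCN : C < N := by
    refine lt_of_le_of_ne (le_inf inf_le_left le_normalizer) fun e => ?_
    have hne' : C.subgroupOf U ≠ ⊤ := fun e' => hlt.not_ge (subgroupOf_eq_top.1 e')
    obtain ⟨x, hxN, hxC⟩ := SetLike.exists_of_lt
      (Group.normalizerCondition_of_isNilpotent _ hne'.lt_top)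
    refine hxC (show (x : G) ∈ C from ?_)
    rw [e, hN]
    refine ⟨x.2, ?_⟩
    refine Subgroup.mem_normalizer_iff.2 ?_
    intro y
    constructor <;> intro hy
    · exact (Subgroup.mem_normalizer_iff.1 hxN ⟨y, hy.1⟩).1 hy
    · have hyU : y ∈ U := by
        have := mul_mem (mul_mem (inv_mem x.2) hy.1) x.2
        rwa [show (x : G)⁻¹ * ((x : G) * y * (x : G)⁻¹) * (x : G) = y by group] at this
      exact (Subgroup.mem_normalizer_iff.1 hxN ⟨y, hyU⟩).2 hy
  have hPC : P ≤ normalizer (C : Set G) := inf_le_normalizer hPU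
    ((hPQ.trans (centralizer_le_normalizer_self Q)).trans (normalizer_le_normalizer_centralizer Q))
  have hPN : P ≤ normalizer (N : Set G) := inf_le_normalizer hPU (hPC.trans le_normalizer)
  -- `P` fixes a nontrivial coset of `C` in `N`
  let inst : MulAction P (N ⧸ C.subgroupOf N) :=
    { smul := fun y => Quotient.map' (fun x : N => (⟨(y : G) * x * (y : G)⁻¹,
          conj_mem_of_le_normalizer hPN y.2 x.2⟩ : N)) (by
        intro a b hab
        rw [QuotientGroup.leftRel_apply] at hab ⊢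
        rw [mem_subgroupOf] at hab ⊢
        have := conj_mem_of_le_normalizer hPC y.2 hab
        simpa [mul_assoc] using this)
      one_smul := fun q => Quotient.inductionOn' q fun x => congrArg Quotient.mk''
        (Subtype.ext (by simp))
      mul_smul := fun y z q => Quotient.inductionOn' q fun x => congrArg Quotient.mk''
        (Subtype.ext (by simp [mul_assoc])) }
  have hdvd : p ∣ Nat.card (N ⧸ C.subgroupOf N) := by
    obtain ⟨k, hk⟩ := (hU.to_le (inf_le_left : N ≤ U)).index (C.subgroupOf N)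
    rw [← index_eq_card, hk]
    refine dvd_pow_self p ?_
    rintro rfl
    rw [pow_zero, index_eq_one, subgroupOf_eq_top] at hk
    exact hCN.not_ge hk
  have hfix1 : ((1 : N) : N ⧸ C.subgroupOf N) ∈ MulAction.fixedPoints P (N ⧸ C.subgroupOf N) :=
    fun y => congrArg Quotient.mk'' (Subtype.ext (by simp))
  obtain ⟨q, hq, hq1⟩ := hP.exists_fixed_point_of_prime_dvd_card_of_fixed_point _ hdvd hfix1
  obtain ⟨x, rfl⟩ := QuotientGroup.mk_surjective q
  apply hq1
  symm
  rw [QuotientGroup.eq, mul_one, inv_mem_iff, mem_subgroupOf]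
  refine ⟨x.2.1, ?_⟩
  refine mem_centralizer_iff_conj_eq.2 ?_
  intro b hb
  set u := b * (x : G) * b⁻¹ * (x : G)⁻¹ with hu
  have huU : u ∈ U := mul_mem (conj_mem_of_le_normalizer hQU hb x.2.1) (inv_mem x.2.1)
  have huP : u ∈ centralizer (P : Set G) := by
    rw [mem_centralizer_iff_conj_eq]
    intro y hy
    have hxy : ((⟨(y : G) * x * (y : G)⁻¹, conj_mem_of_le_normalizer hPN hy x.2⟩ : N) :
        N ⧸ C.subgroupOf N) = (x : N ⧸ C.subgroupOf N) := hq ⟨y, hy⟩
    rw [eq_comm, QuotientGroup.eq, mem_subgroupOf] at hxy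
    obtain ⟨c, hc, hc'⟩ : ∃ c ∈ C, y * (x : G) * y⁻¹ = (x : G) * c :=
      ⟨_, hxy, by push_cast; group⟩
    have hcb : b * c * b⁻¹ = c := mem_centralizer_iff_conj_eq.1 hc.2 b hb
    have hyb : b * y = y * b := mem_centralizer_iff.1 (hPQ hy) b hb
    calc y * u * y⁻¹ = (y * b) * x * (y * b)⁻¹ * (y * (x : G) * y⁻¹)⁻¹ := by rw [hu]; group
      _ = (b * y) * x * (b * y)⁻¹ * ((x : G) * c)⁻¹ := by rw [hyb, hc']
      _ = (b * (y * x * y⁻¹) * b⁻¹) * ((x : G) * c)⁻¹ := by group
      _ = (b * x * b⁻¹) * (b * c * b⁻¹) * ((x : G) * c)⁻¹ := by rw [hc']; group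
      _ = u := by rw [hcb, hu]; group
  have huQ := mem_centralizer_iff_conj_eq.1 (hC ⟨huU, huP⟩) b hb
  have h1 : b * (x : G) * b⁻¹ = u * x := by rw [hu]; group
  have h2 : (orderOf b).Coprime (orderOf u) := by
    obtain ⟨k, hk⟩ := IsPGroup.iff_card.1 hU
    refine ((hQ.pow_right k).coprime_dvd_left ?_).coprime_dvd_right ?_
    · exact Subgroup.orderOf_dvd_natCard _ hb
    · rw [← hk]; exact Subgroup.orderOf_dvd_natCard _ huU
  rw [h1, eq_one_of_conj_eq_mul h1 huQ h2, one_mul]

/-- A coprime group of operators trivial on the Frattini quotient is trivial; only coprimality with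
the Frattini subgroup is needed. -/
theorem le_centralizer_of_trivial_on_frattini_quotient (hAK : A ≤ normalizer (K : Set G))
    (hcop : (Nat.card A).Coprime (Nat.card (frattini K)))
    (htriv : ∀ a ∈ A, ∀ k ∈ K, a * k * a⁻¹ * k⁻¹ ∈ (frattini K).map K.subtype) :
    A ≤ centralizer (K : Set G) := by
  set Φ := (frattini K).map K.subtype with hΦ
  have hAΦ : A ≤ normalizer (Φ : Set G) := by
    intro a ha
    rw [Subgroup.mem_normalizer_iff]
    have hinv : ∀ b ∈ A, ∀ y ∈ Φ, b * y * b⁻¹ ∈ Φ := fun b hb y hy => by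
      have := htriv b hb y (map_subtype_le _ hy)
      simpa using mul_mem this hy
    exact fun x => ⟨hinv a ha x, fun h => by
      have := hinv a⁻¹ (inv_mem ha) _ h
      simpa [mul_assoc] using this⟩
  have hKΦ : K ≤ normalizer (Φ : Set G) := by
    intro k hk
    rw [← conjBy_eq_self_iff]
    have := conjBy_map K.subtype ⟨k, hk⟩ (frattini K)
    rw [conjBy_eq_self_iff.2 (by rw [normalizer_eq_top]; exact mem_top _)] at this
    exact this.symm
  have hΦn : Group.IsSolvable Φ := by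
    haveI := frattini_nilpotent (G := K)
    exact Group.isSolvable_of_surjective (K.subtype.subgroupMap_surjective _)
  have hc : (Nat.card A).Coprime (Nat.card Φ) := by
    rwa [hΦ, card_map_of_injective K.subtype_injective]
  have htop : (centralizer (A : Set G)).subgroupOf K ⊔ frattini K = ⊤ := by
    rw [eq_top_iff]
    intro k _
    obtain ⟨n, hn, hkn⟩ := exists_fixed_in_coset hAΦ hc (Or.inr hΦn) (hKΦ k.2)
      (fun a ha => htriv a ha k k.2)
    obtain ⟨m, hm, rfl⟩ := Subgroup.mem_map.1 hn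
    rw [show k = (k * m) * m⁻¹ by group]
    exact mul_mem_sup (mem_subgroupOf.2 hkn) (inv_mem hm)
  rw [le_centralizer_iff]
  exact subgroupOf_eq_top.1 (frattini_nongenerating htop)

/-! ### Abelian operands -/

/-- For `V` abelian, `C_V(A) ∩ [V, A] = 1`. -/
theorem centralizer_inf_commutator_eq_bot {V : Subgroup G} (hV : IsMulCommutative V)
    (hAV : A ≤ normalizer (V : Set G)) (hcop : (Nat.card A).Coprime (Nat.card V)) :
    (V ⊓ centralizer (A : Set G)) ⊓ ⁅V, A⁆ = ⊥ := by
  haveI := hV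
  open scoped IsMulCommutative in
  letI : Fintype A := Fintype.ofFinite _
  let act : A → V → V := fun a v => ⟨(a : G) * v * (a : G)⁻¹,
    conj_mem_of_le_normalizer hAV a.2 v.2⟩
  let ν : V →* V :=
    { toFun := fun v => ∏ a : A, act a v
      map_one' := Finset.prod_eq_one fun a _ => Subtype.ext (by simp [act])
      map_mul' := fun v w => by
        rw [← Finset.prod_mul_distrib]
        exact Finset.prod_congr rfl fun a _ => Subtype.ext (by simp [act, mul_assoc]) }
  have hker : ⁅V, A⁆ ≤ ν.ker.map V.subtype := by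
    rw [commutator_le]
    intro v hv a ha
    have hw : a * v⁻¹ * a⁻¹ ∈ V := conj_mem_of_le_normalizer hAV ha (inv_mem hv)
    refine ⟨⟨v, hv⟩ * ⟨_, hw⟩, ?_, by simp [commutatorElement_def, mul_assoc]⟩
    have hinv : ν ⟨_, hw⟩ = (ν ⟨v, hv⟩)⁻¹ := by
      rw [← map_inv]
      refine Fintype.prod_equiv (Equiv.mulRight (⟨a, ha⟩ : A)) _ _ fun b => Subtype.ext ?_
      simp [act, mul_assoc]
    rw [SetLike.mem_coe, MonoidHom.mem_ker, map_mul, hinv, mul_inv_cancel]
  rw [eq_bot_iff]
  intro x hx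
  obtain ⟨⟨v, hv⟩, hνv, rfl⟩ := hker hx.2
  have h1 : ν ⟨v, hv⟩ = ⟨v, hv⟩ ^ Nat.card A := by
    rw [Nat.card_eq_fintype_card, ← Finset.card_univ, ← Finset.prod_const]
    exact Finset.prod_congr rfl fun a _ => Subtype.ext
      (mem_centralizer_iff_conj_eq.1 hx.1.2 a a.2)
  rw [show ν ⟨v, hv⟩ = 1 from hνv] at h1
  have h2 : orderOf (⟨v, hv⟩ : V) = 1 :=
    Nat.eq_one_of_dvd_coprimes hcop (orderOf_dvd_of_pow_eq_one h1.symm) (orderOf_dvd_natCard _)
  rw [orderOf_eq_one_iff.1 h2]
  simp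

private theorem pow_val_add {r : ℕ} [NeZero r] {b : G} (hb : b ^ r = 1) (i j : ZMod r) :
    b ^ (i + j).val = b ^ i.val * b ^ j.val := by
  rw [← pow_add, ZMod.val_add, ← pow_eq_pow_mod _ hb]

private theorem pow_val_mul {r : ℕ} [NeZero r] {b : G} (hb : b ^ r = 1) (i j : ZMod r) :
    b ^ (i * j).val = (b ^ i.val) ^ j.val := by
  rw [← pow_mul, ZMod.val_mul, ← pow_eq_pow_mod _ hb]

/-- A four-group-type decomposition: an abelian subgroup acted on coprimely by `⟨y⟩ × ⟨z⟩` of type
`(r, r)` is generated by the centralizers of the nontrivial elements. -/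
theorem abelian_le_of_centralizers_le {r : ℕ} [Fact r.Prime] {V W : Subgroup G}
    (hV : IsMulCommutative V) {y z : G} (hyr : y ^ r = 1) (hzr : z ^ r = 1) (hyz : Commute y z)
    (hy : y ∈ normalizer (V : Set G)) (hz : z ∈ normalizer (V : Set G))
    (hcop : r.Coprime (Nat.card V))
    (hW : ∀ i : ZMod r, V ⊓ centralizer {y * z ^ i.val} ≤ W)
    (hWz : V ⊓ centralizer {z} ≤ W) : V ≤ W := by
  haveI := hV
  open scoped IsMulCommutative in
  intro v hv
  haveI : NeZero r := ⟨(Fact.out : r.Prime).ne_zero⟩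
  let f : ZMod r → ZMod r → V := fun j i => ⟨(y ^ j.val * z ^ i.val) * v * (y ^ j.val * z ^ i.val)⁻¹,
    (Subgroup.mem_normalizer_iff.1 (mul_mem (pow_mem hy _) (pow_mem hz _)) v).1 hv⟩
  have hline : ∀ i : ZMod r, ∀ j : ZMod r,
      (y * z ^ i.val) ^ j.val = y ^ j.val * z ^ (i * j).val := fun i j => by
    rw [(hyz.pow_right _).mul_pow, pow_val_mul hzr]
  -- sums over lines
  have hfixL : ∀ i : ZMod r, (↑(∏ j : ZMod r, f j (i * j)) : G) ∈ V ⊓ centralizer {y * z ^ i.val} := by
    intro i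
    refine ⟨SetLike.coe_mem _, mem_centralizer_singleton_iff.2 ?_⟩
    set b := y * z ^ i.val
    have hb : b ∈ normalizer (V : Set G) := mul_mem hy (pow_mem hz _)
    let c : V →* V :=
      { toFun := fun w => ⟨b * w * b⁻¹, (Subgroup.mem_normalizer_iff.1 hb _).1 w.2⟩
        map_one' := Subtype.ext (by simp)
        map_mul' := fun w w' => Subtype.ext (by simp [mul_assoc]) }
    have hc : c (∏ j : ZMod r, f j (i * j)) = ∏ j : ZMod r, f j (i * j) := by
      rw [map_prod]
      refine Fintype.prod_equiv (Equiv.addLeft (1 : ZMod r)) _ _ fun j => Subtype.ext ?_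
      have e1 : y ^ (1 + j).val * z ^ (i * (1 + j)).val = b * (y ^ j.val * z ^ (i * j).val) := by
        rw [← hline, ← hline, pow_val_add (show b ^ r = 1 by
          rw [(hyz.pow_right _).mul_pow, hyr, ← pow_mul, mul_comm, pow_mul, hzr, one_pow, one_mul]),
          ZMod.val_one, pow_one]
      simp only [c, f, MonoidHom.coe_mk, OneHom.coe_mk, Equiv.coe_addLeft, e1]
      group
    have := congrArg (fun w : V => (w : G)) hc
    exact (mul_inv_eq_iff_eq_mul.1 this).symm
  have hfixZ : ∀ j : ZMod r, (↑(∏ i : ZMod r, f j i) : G) ∈ V ⊓ centralizer {z} := by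
    intro j
    refine ⟨SetLike.coe_mem _, mem_centralizer_singleton_iff.2 ?_⟩
    let c : V →* V :=
      { toFun := fun w => ⟨z * w * z⁻¹, (Subgroup.mem_normalizer_iff.1 hz _).1 w.2⟩
        map_one' := Subtype.ext (by simp)
        map_mul' := fun w w' => Subtype.ext (by simp [mul_assoc]) }
    have hc : c (∏ i : ZMod r, f j i) = ∏ i : ZMod r, f j i := by
      rw [map_prod]
      refine Fintype.prod_equiv (Equiv.addLeft (1 : ZMod r)) _ _ fun i => Subtype.ext ?_
      have e1 : y ^ j.val * z ^ (1 + i).val = z * (y ^ j.val * z ^ i.val) := by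
        rw [pow_val_add hzr, ZMod.val_one, pow_one, ← mul_assoc, ← mul_assoc,
          (hyz.pow_left j.val).eq]
      simp only [c, f, MonoidHom.coe_mk, OneHom.coe_mk, Equiv.coe_addLeft, e1]
      group
    have := congrArg (fun w : V => (w : G)) hc
    exact (mul_inv_eq_iff_eq_mul.1 this).symm
  set W' := W.subgroupOf V
  have hid : (∏ i : ZMod r, ∏ j : ZMod r, f j (i * j)) * ∏ i : ZMod r, f 0 i =
      f 0 0 ^ r * ∏ j : ZMod r, ∏ i : ZMod r, f j i := by
    rw [Finset.prod_comm]
    rw [← Finset.mul_prod_erase Finset.univ (fun j => ∏ i : ZMod r, f j (i * j)) (Finset.mem_univ 0),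
      ← Finset.mul_prod_erase Finset.univ (fun j => ∏ i : ZMod r, f j i) (Finset.mem_univ 0)]
    have h0 : ∏ i : ZMod r, f 0 (i * 0) = f 0 0 ^ r := by
      simp [Finset.prod_const, ZMod.card]
    have h1 : ∀ j ∈ Finset.univ.erase (0 : ZMod r),
        ∏ i : ZMod r, f j (i * j) = ∏ i : ZMod r, f j i := fun j hj =>
      Fintype.prod_equiv (Equiv.mulRight₀ j (Finset.ne_of_mem_erase hj)) _ _ fun i => rfl
    rw [h0, Finset.prod_congr rfl h1, mul_assoc, mul_comm (∏ j ∈ _, _)]
  have hmem : f 0 0 ^ r ∈ W' := by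
    have hR : ∏ j : ZMod r, ∏ i : ZMod r, f j i ∈ W' :=
      prod_mem fun j _ => hWz (hfixZ j)
    have hL : (∏ i : ZMod r, ∏ j : ZMod r, f j (i * j)) * ∏ i : ZMod r, f 0 i ∈ W' :=
      mul_mem (prod_mem fun i _ => hW i (hfixL i)) (hWz (hfixZ 0))
    rw [hid] at hL
    exact (Subgroup.mul_mem_cancel_right W' hR).1 hL
  have hf : f 0 0 = ⟨v, hv⟩ := Subtype.ext (by simp [f])
  rw [hf] at hmem
  have hcop' : (orderOf (⟨v, hv⟩ : V)).Coprime r :=
    (hcop.coprime_dvd_right (orderOf_dvd_natCard _)).symm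
  obtain ⟨m, hm⟩ := exists_pow_eq_self_of_coprime hcop'.symm
  have := W'.pow_mem hmem m
  rw [hm] at this
  exact this

/-- A noncyclic abelian group contains a subgroup of type `(r, r)`. -/
theorem exists_elementary_pair_of_not_cyclic {E : Type*} [Group E] [Finite E]
    [IsMulCommutative E] (h : ¬ IsCyclic E) :
    ∃ (r : ℕ) (y z : E), r.Prime ∧ y ^ r = 1 ∧ z ^ r = 1 ∧ z ≠ 1 ∧ y ∉ zpowers z := by
  haveI : Group.IsNilpotent E :=
    letI : CommGroup E := { (inferInstance : Group E) with mul_comm := fun a b => mul_comm' a b }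
    CommGroup.isNilpotent
  obtain ⟨r, hr, R, hR⟩ : ∃ (r : ℕ) (_ : r.Prime) (R : Sylow r E), ¬ IsCyclic R := by
    by_contra hall
    push Not at hall
    haveI : IsZGroup E := ⟨fun r hr R => hall r hr R⟩
    exact h inferInstance
  haveI : Fact r.Prime := ⟨hr⟩
  haveI : Fintype R := Fintype.ofFinite _
  obtain ⟨z, -, hz⟩ := Finset.exists_max_image (Finset.univ : Finset R) (fun x => orderOf x)
    ⟨1, Finset.mem_univ 1⟩
  have hzx : ∃ w : R, w ∉ zpowers z := by
    by_contra hall
    push Not at hall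
    exact hR ⟨⟨z, fun x => hall x⟩⟩
  obtain ⟨w, hw⟩ := hzx
  obtain ⟨k, hk⟩ := R.isPGroup'.exists_pow_pow_eq_one w
  classical
  have hex : ∃ n, w ^ r ^ n ∈ zpowers z := ⟨k, by rw [hk]; exact one_mem _⟩
  obtain ⟨n, hn⟩ : ∃ n, Nat.find hex = n + 1 := by
    refine Nat.exists_eq_succ_of_ne_zero fun e => hw ?_
    have := Nat.find_spec hex
    rwa [e, pow_zero, pow_one] at this
  set x := w ^ r ^ n with hx
  have hx1 : x ∉ zpowers z := Nat.find_min hex (by omega)
  have hxr : x ^ r ∈ zpowers z := by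
    have := Nat.find_spec hex
    rwa [hn, pow_succ, pow_mul] at this
  obtain ⟨i, hi⟩ := mem_zpowers_iff.1 hxr
  have hz1 : z ≠ 1 := by
    intro e
    apply hx1
    have := hz x (Finset.mem_univ _)
    rw [e, orderOf_one] at this
    rw [orderOf_eq_one_iff.1 (le_antisymm this (orderOf_pos x))]
    exact one_mem _
  obtain ⟨a, ha⟩ := IsPGroup.iff_orderOf.1 R.isPGroup' z
  have ha0 : a ≠ 0 := by
    rintro rfl
    exact hz1 (orderOf_eq_one_iff.1 (by rw [ha, pow_zero]))
  have hdiv : (r : ℤ) ∣ i := by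
    by_contra hndiv
    have hgen : orderOf (z ^ i) = orderOf z := by
      have hcopz : Nat.Coprime (orderOf z) i.natAbs := by
        rw [ha]
        refine Nat.Coprime.pow_left _ (hr.coprime_iff_not_dvd.2 fun h' => hndiv ?_)
        exact Int.natCast_dvd.2 h'
      rcases Int.natAbs_eq i with e | e <;> rw [e]
      · rw [zpow_natCast, hcopz.orderOf_pow]
      · rw [zpow_neg, orderOf_inv, zpow_natCast, hcopz.orderOf_pow]
    have h2 : orderOf (x ^ r) = orderOf z := by rw [← hi, hgen]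
    obtain ⟨b, hb⟩ := IsPGroup.iff_orderOf.1 R.isPGroup' x
    have hb0 : b ≠ 0 := by
      rintro rfl
      rw [pow_zero, orderOf_eq_one_iff] at hb
      exact hx1 (hb ▸ one_mem _)
    rw [orderOf_pow' x hr.ne_zero, hb, Nat.gcd_eq_right (dvd_pow_self r hb0)] at h2
    have := hz x (Finset.mem_univ _)
    rw [hb, ← h2] at this
    exact absurd this (not_le.2 (Nat.div_lt_self (pow_pos hr.pos b) hr.one_lt))
  obtain ⟨j, rfl⟩ := hdiv
  have hyR : (x * (z ^ j)⁻¹) ^ r = 1 := by
    have hcomm : Commute x (z ^ j)⁻¹ := Subtype.ext (mul_comm' (x : E) _)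
    rw [hcomm.mul_pow, inv_pow, ← zpow_natCast (z ^ j), ← zpow_mul, mul_comm j, hi,
      mul_inv_cancel]
  have hzr : (z ^ r ^ (a - 1)) ^ r = 1 := by
    rw [← pow_mul, ← pow_succ, show a - 1 + 1 = a by omega, ← ha, pow_orderOf_eq_one]
  refine ⟨r, ((x * (z ^ j)⁻¹ : R) : E), ((z ^ r ^ (a - 1) : R) : E), hr, ?_, ?_, ?_, ?_⟩
  · exact_mod_cast hyR
  · exact_mod_cast hzr
  · intro e
    have e' : z ^ r ^ (a - 1) = 1 := Subtype.ext e
    have := orderOf_dvd_of_pow_eq_one e'
    rw [ha, Nat.pow_dvd_pow_iff_le_right hr.one_lt] at this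
    omega
  · intro hmem
    obtain ⟨m, hm⟩ := mem_zpowers_iff.1 hmem
    apply hx1
    have hm' : (z ^ r ^ (a - 1)) ^ m = x * (z ^ j)⁻¹ := Subtype.ext (by simpa using hm)
    have e : x = (z ^ r ^ (a - 1)) ^ m * z ^ j := by rw [hm', inv_mul_cancel_right]
    rw [e]
    exact mul_mem (zpow_mem (pow_mem (mem_zpowers z) _) _) (zpow_mem (mem_zpowers z) _)

/-- A finite group acted on coprimely by a noncyclic abelian group is generated by the centralizers
of its nontrivial elements. -/
theorem le_of_centralizers_le {W : Subgroup G} [IsMulCommutative A] (hA : ¬ IsCyclic A)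
    (hAK : A ≤ normalizer (K : Set G)) (hcop : (Nat.card A).Coprime (Nat.card K))
    (hW : ∀ a ∈ A, a ≠ 1 → K ⊓ centralizer {a} ≤ W) : K ≤ W := by
  obtain ⟨r, ⟨y, hyA⟩, ⟨z, hzA⟩, hr, hyr, hzr, hz1, hyz⟩ :=
    exists_elementary_pair_of_not_cyclic hA
  haveI : Fact r.Prime := ⟨hr⟩
  have hsA : Group.IsSolvable A := isSolvable_of_isMulCommutative inferInstance
  have hyr' : y ^ r = 1 := congrArg Subtype.val hyr
  have hzr' : z ^ r = 1 := congrArg Subtype.val hzr
  have hcomm : Commute y z := congrArg Subtype.val (mul_comm' (⟨y, hyA⟩ : A) ⟨z, hzA⟩)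
  have hrA : r ∣ Nat.card A := by
    have := orderOf_dvd_natCard (⟨z, hzA⟩ : A)
    rwa [orderOf_eq_prime hzr hz1] at this
  have hne : ∀ i : ZMod r, y * z ^ i.val ∈ A ∧ y * z ^ i.val ≠ 1 := by
    refine fun i => ⟨mul_mem hyA (pow_mem hzA _), fun e => hyz ?_⟩
    refine mem_zpowers_iff.2 ⟨-(i.val : ℤ), Subtype.ext ?_⟩
    rw [SubgroupClass.coe_zpow, zpow_neg, zpow_natCast]
    exact (eq_inv_of_mul_eq_one_left e).symm
  -- reduce to `q`-groups, and those to abelian groups
  suffices hQ : ∀ (n : ℕ) (q : ℕ) [Fact q.Prime] (Q : Subgroup G), Nat.card Q = n → IsPGroup q Q →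
      A ≤ normalizer (Q : Set G) → Q ≤ K → Q ≤ W by
    suffices h : W.subgroupOf K = ⊤ from subgroupOf_eq_top.1 h
    refine eq_top_of_card_eq _ (Nat.dvd_antisymm (card_subgroup_dvd_card _) ?_)
    refine (Nat.dvd_iff_prime_pow_dvd_dvd _ _).2 fun q k hq hd => ?_
    haveI : Fact q.Prime := ⟨hq⟩
    obtain ⟨Q, hQs, hQA⟩ := exists_invariant_sylow hAK hcop (Or.inl hsA) q
    have hle : Q.subgroupOf K ≤ W.subgroupOf K :=
      comap_mono (hQ _ q Q rfl hQs.isPGroup hQA hQs.1)
    refine dvd_trans ?_ (card_dvd_of_le hle)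
    rw [Nat.card_congr (subgroupOfEquivOfLe hQs.1).toEquiv, hQs.2]
    exact pow_dvd_pow q ((hq.pow_dvd_iff_le_factorization Nat.card_pos.ne').1 hd)
  intro n
  induction n using Nat.strongRecOn with
  | ind n ih =>
  intro q _ Q hn hQq hQA hQK
  have hcopQ : (Nat.card A).Coprime (Nat.card Q) := hcop.coprime_dvd_right (card_dvd_of_le hQK)
  have hbase : ∀ V : Subgroup G, V ≤ K → A ≤ normalizer (V : Set G) → IsMulCommutative V →
      V ≤ W := by
    intro V hVK hVA hVc
    exact abelian_le_of_centralizers_le hVc hyr' hzr' hcomm (hVA hyA) (hVA hzA)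
      ((hcop.coprime_dvd_left hrA).coprime_dvd_right (card_dvd_of_le hVK))
      (fun i => (inf_le_inf_right _ hVK).trans (hW _ (hne i).1 (hne i).2))
      ((inf_le_inf_right _ hVK).trans (hW z hzA fun e => hz1 (Subtype.ext e)))
  haveI : Group.IsNilpotent Q := hQq.isNilpotent
  by_cases hc : IsMulCommutative Q
  · exact hbase Q hQK hQA hc
  -- `Q / [Q, Q]` is handled by the abelian case in the quotient
  set D := ⁅Q, Q⁆ with hD
  have hDQ : D < Q := by
    refine lt_of_le_of_ne (commutator_le_self Q) fun e => ?_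
    haveI : Group.IsSolvable Q := inferInstance
    refine (Group.IsSolvable.commutator_lt_of_ne_bot (G := Q) (H := ⊤) ?_).ne ?_
    · intro h
      apply hc
      haveI : Subsingleton Q := Subgroup.subsingleton_iff.1 (subsingleton_of_bot_eq_top h.symm)
      exact ⟨⟨fun a b => Subsingleton.elim _ _⟩⟩
    · apply Subgroup.map_injective Q.subtype_injective
      rw [map_commutator, ← MonoidHom.range_eq_map, range_subtype]
      exact e
  have hDA : A ≤ normalizer (D : Set G) := by
    intro a ha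
    rw [← conjBy_eq_self_iff, hD, conjBy, map_commutator,
      show Q.map (MulAut.conj a).toMonoidHom = Q from conjBy_eq_self_iff.2 (hQA ha)]
  have hDlt : Nat.card D < n := by
    rw [← hn]
    exact lt_of_le_of_ne (Nat.le_of_dvd Nat.card_pos (card_dvd_of_le hDQ.le)) fun e =>
      hDQ.ne (Subgroup.eq_of_le_of_card_ge hDQ.le e.ge)
  have hDW : D ≤ W := ih _ hDlt q D rfl (hQq.to_le hDQ.le) hDA (hDQ.le.trans hQK)
  set N := normalizer (D : Set G) with hNdef
  have hQN : Q ≤ N := by
    intro x hx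
    rw [hNdef, ← conjBy_eq_self_iff, hD, conjBy, map_commutator,
      show Q.map (MulAut.conj x).toMonoidHom = Q from conjBy_eq_self_of_mem hx]
  haveI : (D.subgroupOf N).Normal := (normal_subgroupOf_iff_le_normalizer le_normalizer).2 le_rfl
  set π := QuotientGroup.mk' (D.subgroupOf N) with hπ
  set V := (Q.subgroupOf N).map π
  have hVc : IsMulCommutative V := by
    refine ⟨⟨?_⟩⟩
    rintro ⟨_, a, ha, rfl⟩ ⟨_, b, hb, rfl⟩
    apply Subtype.ext
    show π a * π b = π b * π a
    rw [← commutatorElement_eq_one_iff_mul_comm, ← map_commutatorElement,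
      hπ, QuotientGroup.mk'_apply, QuotientGroup.eq_one_iff]
    exact commutator_mem_commutator ha hb
  let W' : Subgroup (↥N ⧸ D.subgroupOf N) := (W.subgroupOf N).map π
  have hVW : V ≤ W' := by
    have hlift : ∀ a ∈ A, a ≠ 1 → ∀ haN : a ∈ N, V ⊓ centralizer {π ⟨a, haN⟩} ≤ W' := by
      rintro a ha ha1 haN _ ⟨⟨x, hx, rfl⟩, hxc⟩
      replace hxc := mem_centralizer_singleton_iff.1 hxc
      have hza : zpowers a ≤ A := (zpowers_le).2 ha
      have hfix : ∀ b ∈ zpowers a, b * (x : G) * b⁻¹ * (x : G)⁻¹ ∈ D := by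
        rintro b ⟨m, rfl⟩
        have hcm : Commute (π ⟨a, haN⟩ ^ m) (π x) :=
          ((show Commute (π x) (π ⟨a, haN⟩) from hxc).symm).zpow_left m
        have : π ((⟨a, haN⟩ : N) ^ m * x * ((⟨a, haN⟩ : N) ^ m)⁻¹ * x⁻¹) = 1 := by
          rw [map_mul, map_mul, map_mul, map_inv, map_inv, map_zpow, hcm.eq, mul_inv_cancel_right,
            mul_inv_cancel]
        rw [hπ, QuotientGroup.mk'_apply, QuotientGroup.eq_one_iff, mem_subgroupOf] at this
        exact this
      obtain ⟨d, hd, hxd⟩ := exists_fixed_in_coset (A := zpowers a) (N := D) (hza.trans hDA)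
        ((hcop.coprime_dvd_left (card_dvd_of_le hza)).coprime_dvd_right
          (card_dvd_of_le (hDQ.le.trans hQK)))
        (Or.inl (isSolvable_of_le hza hsA)) x.2 hfix
      have hmem : (x : G) * d ∈ W := hW a ha ha1
        ⟨mul_mem (hQK hx) ((hDQ.le.trans hQK) hd), by
          refine mem_centralizer_singleton_iff.2 ?_
          exact (mem_centralizer_iff.1 hxd a (mem_zpowers a)).symm⟩
      refine ⟨x, ?_, rfl⟩
      have := mul_mem hmem (inv_mem (hDW hd))
      rwa [mul_inv_cancel_right] at this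
    have hNA : A ≤ N := hDA
    have hnorm : ∀ a ∈ A, ∀ haN : a ∈ N, π ⟨a, haN⟩ ∈ normalizer (V : Set (↥N ⧸ D.subgroupOf N)) := by
      intro a ha haN
      rw [← conjBy_eq_self_iff, ← conjBy_map]
      congr 1
      apply Subgroup.map_injective N.subtype_injective
      rw [conjBy_map, map_subgroupOf_eq_of_le hQN]
      exact conjBy_eq_self_iff.2 (hQA ha)
    refine abelian_le_of_centralizers_le (r := r) (y := π ⟨y, hNA hyA⟩) (z := π ⟨z, hNA hzA⟩) hVc
      ?_ ?_ ?_ (hnorm y hyA _) (hnorm z hzA _) ?_ ?_ ?_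
    · rw [← map_pow, show (⟨y, hNA hyA⟩ : N) ^ r = 1 from Subtype.ext hyr', map_one]
    · rw [← map_pow, show (⟨z, hNA hzA⟩ : N) ^ r = 1 from Subtype.ext hzr', map_one]
    · exact (show Commute (⟨y, hNA hyA⟩ : N) ⟨z, hNA hzA⟩ from Subtype.ext hcomm.eq).map π
    · refine ((hcopQ.coprime_dvd_left hrA).coprime_dvd_right ?_)
      exact (card_map_dvd_card π _).trans
        (dvd_of_eq (Nat.card_congr (subgroupOfEquivOfLe hQN).toEquiv))
    · intro i
      have := hlift _ (hne i).1 (hne i).2 (hNA (hne i).1)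
      rwa [show π ⟨y * z ^ i.val, hNA (hne i).1⟩ = π ⟨y, hNA hyA⟩ * π ⟨z, hNA hzA⟩ ^ i.val by
        rw [← map_pow, ← map_mul]; rfl] at this
    · exact hlift z hzA (fun e => hz1 (Subtype.ext e)) (hNA hzA)
  intro x hx
  obtain ⟨w, hw, hwx⟩ := hVW ⟨⟨x, hQN hx⟩, hx, rfl⟩
  rw [hπ, QuotientGroup.mk'_apply, QuotientGroup.mk'_apply, QuotientGroup.eq,
    mem_subgroupOf] at hwx
  have hwx' : (w : G)⁻¹ * x ∈ D := by simpa using hwx
  have := mul_mem (show (w : G) ∈ W from hw) (hDW hwx')
  simpa using this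

end CfsgLib.Coprime
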