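import Cfsg.Agent.Lib.Coprime.Fitting
import Cfsg.Prelude.Def_Local

/-!
# Components, the layer and the generalized Fitting subgroup
-/

set_option autoImplicit false
set_option linter.style.haveILetI false
set_option linter.unusedSectionVars false

namespace CfsgLib.Coprime

open Subgroup
open scoped commutatorElement

variable {G : Type*} [Group G]

/-! ### Commuting subgroups -/

theorem commutator_eq_bot_iff_forall {H K : Subgroup G} :
    ⁅H, K⁆ = ⊥ ↔ ∀ h ∈ H, ∀ k ∈ K, h * k = k * h := by
  rw [commutator_eq_bot_iff_le_centralizer]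
  exact ⟨fun h x hx k hk => (mem_centralizer_iff.1 (h hx) k hk).symm,
    fun h x hx => mem_centralizer_iff.2 fun k hk => (h x hx k hk).symm⟩

/-- Three subgroups lemma: a subgroup commuting with `[H, L]` for perfect `L` commutes with `H`. -/
theorem commutator_eq_bot_of_perfect {H L : Subgroup G} (hL : ⁅L, L⁆ = L)
    (h : ⁅⁅H, L⁆, L⁆ = ⊥) : ⁅H, L⁆ = ⊥ := by
  have h2 : ⁅⁅L, H⁆, L⁆ = ⊥ := by rwa [commutator_comm L H]
  have h3 : ⁅⁅L, L⁆, H⁆ = ⊥ := commutator_commutator_eq_bot_of_rotate h2 h
  rwa [hL, commutator_comm] at h3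

/-! ### Quasisimple groups -/

section Quasisimple

variable {X Y : Type*} [Group X] [Group Y]

theorem nontrivial_of_isQuasisimple (h : Cfsg.IsQuasisimple X) : Nontrivial X := by
  haveI := h.2
  exact (QuotientGroup.mk'_surjective (center X)).nontrivial

theorem not_isSolvable_of_isQuasisimple (h : Cfsg.IsQuasisimple X) : ¬ Group.IsSolvable X := by
  haveI := nontrivial_of_isQuasisimple h
  haveI := h.1
  exact Group.IsPerfect.not_isSolvable X

theorem center_ne_top_of_isQuasisimple (h : Cfsg.IsQuasisimple X) : center X ≠ ⊤ := by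
  intro e
  apply not_isSolvable_of_isQuasisimple h
  refine Group.isSolvable_of_comm fun a b => ?_
  have : a ∈ center X := e ▸ mem_top a
  exact (mem_center_iff.1 this b).symm

theorem subnormal_eq_top_or_le_center (h : Cfsg.IsQuasisimple X) {H : Subgroup X}
    (hH : H.IsSubnormal) : H = ⊤ ∨ H ≤ center X := by
  haveI := h.1
  rcases (hH.quotient (K := center X)).eq_bot_or_top_of_isSimpleGroup h.2 with e | e
  · rw [Subgroup.map_eq_bot_iff, QuotientGroup.ker_mk'] at e
    exact Or.inr e
  · left
    have e' : H ⊔ center X = ⊤ := by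
      have := congrArg (Subgroup.comap (QuotientGroup.mk' (center X))) e
      rwa [Subgroup.comap_map_eq, QuotientGroup.ker_mk', Subgroup.comap_top] at this
    rw [eq_top_iff, ← Group.IsPerfect.commutator_eq_top (G := X), commutator_def, commutator_le]
    intro a _ b _
    have ha : a ∈ ((H ⊔ center X : Subgroup X) : Set X) := e' ▸ mem_top a
    have hb : b ∈ ((H ⊔ center X : Subgroup X) : Set X) := e' ▸ mem_top b
    rw [mul_normal] at ha hb
    obtain ⟨a', ha', z, hz, rfl⟩ := ha
    obtain ⟨b', hb', w, hw, rfl⟩ := hb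
    have key : ⁅a' * z, b' * w⁆ = ⁅a', b'⁆ := by
      simp only [commutatorElement_def, mul_inv_rev]
      have hz' : ∀ g : X, g * z = z * g := mem_center_iff.1 hz
      have hw' : ∀ g : X, g * w = w * g := mem_center_iff.1 hw
      calc a' * z * (b' * w) * (z⁻¹ * a'⁻¹) * (w⁻¹ * b'⁻¹)
          = a' * (z * (b' * w)) * z⁻¹ * a'⁻¹ * w⁻¹ * b'⁻¹ := by group
        _ = a' * ((b' * w) * z) * z⁻¹ * a'⁻¹ * w⁻¹ * b'⁻¹ := by rw [hz']
        _ = a' * b' * (w * a'⁻¹) * w⁻¹ * b'⁻¹ := by group
        _ = a' * b' * (a'⁻¹ * w) * w⁻¹ * b'⁻¹ := by rw [hw']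
        _ = a' * b' * a'⁻¹ * b'⁻¹ := by group
    show ⁅a' * z, b' * w⁆ ∈ H
    rw [key, commutatorElement_def]
    exact mul_mem (mul_mem (mul_mem ha' hb') (inv_mem ha')) (inv_mem hb')

theorem map_center_equiv (e : X ≃* Y) : (center X).map e.toMonoidHom = center Y := by
  ext y
  rw [mem_map_equiv, mem_center_iff, mem_center_iff]
  refine ⟨fun h g => e.symm.injective ?_, fun h g => e.injective ?_⟩
  · rw [map_mul, map_mul]; exact h _
  · rw [map_mul, map_mul, e.apply_symm_apply]; exact h _

theorem isQuasisimple_congr (e : X ≃* Y) (h : Cfsg.IsQuasisimple X) : Cfsg.IsQuasisimple Y := by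
  haveI := h.1
  haveI := h.2
  refine ⟨Group.IsPerfect.ofSurjective (f := e.toMonoidHom) e.surjective, ?_⟩
  exact (QuotientGroup.congr (center X) (center Y) e (map_center_equiv e)).isSimpleGroup_congr.1
    inferInstance

/-- A perfect group in which every proper normal subgroup is central is quasisimple. -/
theorem isQuasisimple_of_normal_le_center [Group.IsPerfect X] [Nontrivial X]
    (h : ∀ N : Subgroup X, N.Normal → N = ⊤ ∨ N ≤ center X) : Cfsg.IsQuasisimple X := by
  refine ⟨inferInstance, ?_⟩
  haveI : Nontrivial (X ⧸ center X) := by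
    refine QuotientGroup.nontrivial_iff.2 fun e => ?_
    exact Group.IsPerfect.not_isSolvable X (Group.isSolvable_of_comm fun a b =>
      (mem_center_iff.1 (e ▸ mem_top a : a ∈ center X) b).symm)
  refine ⟨fun N hN => ?_⟩
  haveI := hN
  rcases h (N.comap (QuotientGroup.mk' (center X))) inferInstance with e | e
  · right
    rw [← map_comap_eq_self_of_surjective (QuotientGroup.mk'_surjective (center X)) N, e,
      Subgroup.map_top_of_surjective _ (QuotientGroup.mk'_surjective (center X))]
  · left
    rw [← map_comap_eq_self_of_surjective (QuotientGroup.mk'_surjective (center X)) N,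
      Subgroup.map_eq_bot_iff, QuotientGroup.ker_mk']
    exact e

end Quasisimple

/-! ### Subnormal subgroups of subgroups, components -/

theorem isSubnormal_map_subtype_iff {H : Subgroup G} (hH : H.IsSubnormal) (K : Subgroup H) :
    (K.map H.subtype).IsSubnormal ↔ K.IsSubnormal := by
  refine ⟨fun h => ?_, fun h => h.trans' hH⟩
  have := h.subgroupOf (K := H)
  rwa [subgroupOf, comap_map_eq_self_of_injective H.subtype_injective] at this

theorem isComponent_map_subtype_iff {H : Subgroup G} (hH : H.IsSubnormal) (K : Subgroup H) :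
    Cfsg.IsComponent (K.map H.subtype) ↔ Cfsg.IsComponent K := by
  have e := K.equivMapOfInjective H.subtype H.subtype_injective
  exact and_congr (isSubnormal_map_subtype_iff hH K)
    ⟨isQuasisimple_congr e.symm, isQuasisimple_congr e⟩

/-- A component lying in a subgroup is a component of it. -/
theorem isComponent_subgroupOf {L H : Subgroup G} (hL : Cfsg.IsComponent L) (h : L ≤ H) :
    Cfsg.IsComponent (L.subgroupOf H) :=
  ⟨hL.1.subgroupOf, isQuasisimple_congr (subgroupOfEquivOfLe h).symm hL.2⟩

theorem isComponent_map_equiv {G' : Type*} [Group G'] (e : G ≃* G') {K : Subgroup G}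
    (h : Cfsg.IsComponent K) : Cfsg.IsComponent (K.map e.toMonoidHom) :=
  ⟨h.1.map e.surjective, isQuasisimple_congr (K.equivMapOfInjective _ e.injective) h.2⟩

theorem commutator_self_of_isComponent {L : Subgroup G} (h : Cfsg.IsComponent L) : ⁅L, L⁆ = L :=
  Subgroup.isPerfect_iff.1 h.2.1

theorem not_isSolvable_of_isComponent {L : Subgroup G} (h : Cfsg.IsComponent L) :
    ¬ Group.IsSolvable L :=
  not_isSolvable_of_isQuasisimple h.2

theorem not_le_of_isComponent_of_isSolvable {L R : Subgroup G} (hL : Cfsg.IsComponent L)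
    (hR : Group.IsSolvable R) : ¬ L ≤ R := fun h => by
  haveI := hR
  exact not_isSolvable_of_isComponent hL
    (Group.isSolvable_of_isSolvable_injective (inclusion_injective h))

/-- Wielandt: a component is inside, or commutes with, each subnormal subgroup. -/
theorem component_le_or_commutator_eq_bot [Finite G] {L H : Subgroup G}
    (hL : Cfsg.IsComponent L) (hH : H.IsSubnormal) : L ≤ H ∨ ⁅L, H⁆ = ⊥ := by
  induction hk : Nat.card G using Nat.strongRecOn generalizing G with
  | ind k ih =>
    subst hk
    by_cases hLtop : L = ⊤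
    · subst hLtop
      rcases subnormal_eq_top_or_le_center (isQuasisimple_congr Subgroup.topEquiv hL.2) hH
        with e | e
      · exact Or.inl e.ge
      · right
        rw [commutator_eq_bot_iff_forall]
        exact fun a _ b hb => mem_center_iff.1 (e hb) a
    by_cases hHtop : H = ⊤
    · exact Or.inl (hHtop ▸ le_top)
    obtain ⟨N, hN, hLN, hNlt⟩ := hL.1.exists_normal_and_le_and_lt_top_of_ne hLtop
    obtain ⟨M, hM, hHM, hMlt⟩ := hH.exists_normal_and_le_and_lt_top_of_ne hHtop
    haveI := hN
    haveI := hM
    have hcard : ∀ A : Subgroup G, A < ⊤ → Nat.card A < Nat.card G := fun A hA =>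
      lt_of_le_of_ne (Nat.le_of_dvd Nat.card_pos (card_subgroup_dvd_card A)) fun e =>
        hA.ne (card_eq_iff_eq_top A |>.1 e)
    have hback : ∀ (A : Subgroup G), A < ⊤ → ∀ B : Subgroup G, L ≤ A → B ≤ A → B.IsSubnormal →
        L ≤ B ∨ ⁅L, B⁆ = ⊥ := by
      intro A hA B hLA hBA hB
      rcases ih _ (hcard A hA) (G := A) (isComponent_subgroupOf hL hLA)
        (hB.subgroupOf (K := A)) rfl with e | e
      · refine Or.inl ?_
        have h2 := map_mono (f := A.subtype) e
        rwa [map_subgroupOf_eq_of_le hLA, map_subgroupOf_eq_of_le hBA] at h2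
      · right
        have := congrArg (Subgroup.map A.subtype) e
        rwa [map_commutator, map_subgroupOf_eq_of_le hLA, map_subgroupOf_eq_of_le hBA,
          Subgroup.map_bot] at this
    by_cases hLM : L ≤ M
    · exact hback M hMlt H hLM hHM hH
    right
    have hX : ⁅L, N ⊓ M⁆ = ⊥ :=
      (hback N hNlt (N ⊓ M) hLN inf_le_left (Subgroup.Normal.isSubnormal inferInstance)).resolve_left
        fun h => hLM (h.trans inf_le_right)
    have hLH : ⁅H, L⁆ ≤ N ⊓ M :=
      (commutator_mono hHM hLN).trans (le_inf (commutator_le_right _ _) (commutator_le_left _ _))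
    rw [commutator_comm]
    refine commutator_eq_bot_of_perfect (commutator_self_of_isComponent hL) ?_
    rw [eq_bot_iff, ← hX, commutator_comm L (N ⊓ M)]
    exact commutator_mono hLH le_rfl

theorem subgroupOf_le_center {H L : Subgroup G} (hHL : H ≤ L)
    (h : H.subgroupOf L ≤ center L) : H ≤ centralizer (L : Set G) := by
  intro x hx
  refine mem_centralizer_iff.2 fun y hy => ?_
  exact congrArg Subtype.val (mem_center_iff.1 (h (mem_subgroupOf.2 hx : ⟨x, hHL hx⟩ ∈ _)) ⟨y, hy⟩)

/-- A subnormal subgroup of a component is the component or central in it. -/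
theorem eq_or_le_center_of_le_component {L K : Subgroup G} (hL : Cfsg.IsComponent L)
    (hK : K.IsSubnormal) (hKL : K ≤ L) : K = L ∨ K.subgroupOf L ≤ center L := by
  rcases subnormal_eq_top_or_le_center hL.2 (hK.subgroupOf (K := L)) with e | e
  · exact Or.inl (le_antisymm hKL (subgroupOf_eq_top.1 e))
  · exact Or.inr e

theorem component_eq_of_le {K L : Subgroup G} (hK : Cfsg.IsComponent K) (hL : Cfsg.IsComponent L)
    (h : K ≤ L) : K = L := by
  refine (eq_or_le_center_of_le_component hL hK.1 h).resolve_right fun e => ?_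
  exact not_le_of_isComponent_of_isSolvable (isComponent_subgroupOf hK h)
    (Group.isSolvable_of_comm fun a b => Subtype.ext (mem_center_iff.1 b.2 a.1)) e

/-- Distinct components commute. -/
theorem components_commute [Finite G] {K L : Subgroup G} (hK : Cfsg.IsComponent K)
    (hL : Cfsg.IsComponent L) (h : K ≠ L) : ⁅K, L⁆ = ⊥ :=
  (component_le_or_commutator_eq_bot hK hL.1).resolve_left fun e => h (component_eq_of_le hK hL e)

/-- A component commutes with each solvable subgroup it normalizes. -/
theorem component_commutator_solvable_eq_bot [Finite G] {L R : Subgroup G}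
    (hL : Cfsg.IsComponent L) (hR : Group.IsSolvable R) (hinv : L ≤ normalizer (R : Set G)) :
    ⁅L, R⁆ = ⊥ := by
  set J := normalizer (R : Set G)
  haveI : (R.subgroupOf J).Normal := (normal_subgroupOf_iff_le_normalizer le_normalizer).2 le_rfl
  have hR' : Group.IsSolvable (R.subgroupOf J) := by
    haveI := hR
    exact Group.isSolvable_of_isSolvable_injective
      (f := (subgroupOfEquivOfLe (le_normalizer : R ≤ J)).toMonoidHom) (MulEquiv.injective _)
  have := (component_le_or_commutator_eq_bot (isComponent_subgroupOf hL hinv)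
    (Subgroup.Normal.isSubnormal inferInstance)).resolve_left
      (not_le_of_isComponent_of_isSolvable (isComponent_subgroupOf hL hinv) hR')
  have h2 := congrArg (Subgroup.map J.subtype) this
  rwa [map_commutator, map_subgroupOf_eq_of_le hinv, map_subgroupOf_eq_of_le le_normalizer,
    Subgroup.map_bot] at h2

/-! ### The layer -/

theorem component_le_layer {K : Subgroup G} (h : Cfsg.IsComponent K) : K ≤ Cfsg.layer G :=
  le_sSup h

theorem map_layer_equiv {G' : Type*} [Group G'] (e : G ≃* G') :
    (Cfsg.layer G).map e.toMonoidHom = Cfsg.layer G' := by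
  refine le_antisymm (map_le_iff_le_comap.2 (sSup_le fun K hK => map_le_iff_le_comap.1
    (component_le_layer (isComponent_map_equiv e hK)))) (sSup_le fun K hK => ?_)
  have h := map_mono (f := e.toMonoidHom) (component_le_layer (isComponent_map_equiv e.symm hK))
  rwa [Subgroup.map_map, show e.toMonoidHom.comp e.symm.toMonoidHom = MonoidHom.id G' from
    MonoidHom.ext fun x => e.apply_symm_apply x, Subgroup.map_id] at h

theorem layer_characteristic : (Cfsg.layer G).Characteristic :=
  characteristic_iff_map_eq.2 fun e => map_layer_equiv e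

theorem layer_normal : (Cfsg.layer G).Normal :=
  haveI := layer_characteristic (G := G)
  inferInstance

theorem commutator_layer_eq_bot_iff [Finite G] {R : Subgroup G} :
    ⁅Cfsg.layer G, R⁆ = ⊥ ↔ ∀ K : Subgroup G, Cfsg.IsComponent K → ⁅K, R⁆ = ⊥ := by
  simp only [commutator_eq_bot_iff_le_centralizer, Cfsg.layer]
  exact sSup_le_iff

theorem layer_le_normalizer_component [Finite G] {K : Subgroup G} (hK : Cfsg.IsComponent K) :
    Cfsg.layer G ≤ normalizer (K : Set G) := by
  refine sSup_le fun L hL => ?_
  by_cases h : L = K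
  · exact h ▸ le_normalizer
  · exact ((commutator_eq_bot_iff_le_centralizer).1 (components_commute hL hK h)).trans
      (Subgroup.centralizer_le_normalizer _)

theorem layer_commutator_solvable_eq_bot [Finite G] {R : Subgroup G}
    (hR : Group.IsSolvable R) (hinv : Cfsg.layer G ≤ normalizer (R : Set G)) :
    ⁅Cfsg.layer G, R⁆ = ⊥ :=
  commutator_layer_eq_bot_iff.2 fun _ hK =>
    component_commutator_solvable_eq_bot hK hR ((component_le_layer hK).trans hinv)

theorem layer_commutator_fitting_eq_bot [Finite G] :
    ⁅Cfsg.layer G, Cfsg.fittingSubgroup G⁆ = ⊥ := by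
  haveI := fitting_normal (G := G)
  haveI := fitting_isNilpotent (G := G)
  exact layer_commutator_solvable_eq_bot inferInstance (by rw [normalizer_eq_top]; exact le_top)

theorem layer_isPerfect : ⁅Cfsg.layer G, Cfsg.layer G⁆ = Cfsg.layer G := by
  refine le_antisymm (commutator_le_self _) (sSup_le fun K hK => ?_)
  rw [← commutator_self_of_isComponent hK]
  exact commutator_mono (component_le_layer hK) (component_le_layer hK)

/-! ### The generalized Fitting subgroup -/

theorem layer_le_generalizedFitting : Cfsg.layer G ≤ Cfsg.generalizedFittingSubgroup G := le_sup_left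

theorem fitting_le_generalizedFitting :
    Cfsg.fittingSubgroup G ≤ Cfsg.generalizedFittingSubgroup G := le_sup_right

theorem generalizedFitting_normal : (Cfsg.generalizedFittingSubgroup G).Normal :=
  haveI := fitting_normal (G := G)
  haveI := layer_normal (G := G)
  Subgroup.sup_normal _ _

theorem map_generalizedFitting_equiv {G' : Type*} [Group G'] (e : G ≃* G') :
    (Cfsg.generalizedFittingSubgroup G).map e.toMonoidHom = Cfsg.generalizedFittingSubgroup G' := by
  rw [Cfsg.generalizedFittingSubgroup, Subgroup.map_sup, map_layer_equiv e, map_fitting_equiv e]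
  rfl

theorem generalizedFitting_characteristic : (Cfsg.generalizedFittingSubgroup G).Characteristic :=
  characteristic_iff_map_eq.2 fun e => map_generalizedFitting_equiv e

/-- A minimal subnormal subgroup outside a central (in it) subgroup `Z` is a component, or
nilpotent. -/
theorem isComponent_or_isNilpotent_of_minimal [Finite G] {K Z : Subgroup G} (hK : K.IsSubnormal)
    (hKZ : ¬ K ≤ Z) (hZ : Z ⊓ K ≤ centralizer (K : Set G))
    (hmin : ∀ N : Subgroup G, N.IsSubnormal → N ≤ K → ¬ N ≤ Z → N = K) :
    Cfsg.IsComponent K ∨ Group.IsNilpotent K := by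
  have hcase : ∀ N : Subgroup K, N.Normal → N = ⊤ ∨ N ≤ center K := by
    intro N hN
    by_cases h : N.map K.subtype ≤ Z
    · right
      intro x hx
      refine mem_center_iff.2 fun y => Subtype.ext ?_
      exact mem_centralizer_iff.1 (hZ ⟨h (mem_map_of_mem _ hx), x.2⟩) y y.2
    · left
      refine Subgroup.map_injective K.subtype_injective ?_
      rw [hmin _ ((hN.isSubnormal).trans' hK) (map_subtype_le N) h, ← MonoidHom.range_eq_map,
        range_subtype]
  rcases hcase (commutator K) inferInstance with e | e
  · left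
    haveI : Group.IsPerfect K := ⟨e⟩
    haveI : Nontrivial K := (nontrivial_iff_ne_bot K).2 fun h => hKZ (h ▸ bot_le)
    exact ⟨hK, isQuasisimple_of_normal_le_center hcase⟩
  · right
    refine ⟨2, ?_⟩
    rw [eq_top_iff]
    intro x _
    rw [Subgroup.mem_upperCentralSeries_succ_iff]
    intro y
    rw [Subgroup.upperCentralSeries_one]
    exact e (commutator_mem_commutator (mem_top x) (mem_top y))

/-- `C_G(F*(G)) ≤ F*(G)`. -/
theorem centralizer_generalizedFitting_le [Finite G] :
    centralizer (Cfsg.generalizedFittingSubgroup G : Set G) ≤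
      Cfsg.generalizedFittingSubgroup G := by
  by_contra hnot
  set F := Cfsg.generalizedFittingSubgroup G
  haveI : F.Normal := generalizedFitting_normal
  set C := centralizer (F : Set G)
  haveI : C.Normal := inferInstance
  obtain ⟨K, ⟨hK, hKC, hKF⟩, hmin⟩ := exists_minimal_of_wellFoundedLT
    (fun K : Subgroup G => K.IsSubnormal ∧ K ≤ C ∧ ¬ K ≤ F)
    ⟨C, (inferInstance : C.Normal).isSubnormal, le_rfl, hnot⟩
  refine hKF ?_
  rcases isComponent_or_isNilpotent_of_minimal hK hKF
    (fun x hx => mem_centralizer_iff.2 fun y hy =>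
      (mem_centralizer_iff.1 (hKC hy) x hx.1).symm)
    (fun N hN hNK hNF => le_antisymm hNK (hmin ⟨hN, hNK.trans hKC, hNF⟩ hNK)) with h | h
  · exact (component_le_layer h).trans le_sup_left
  · exact (le_fitting_of_isSubnormal hK h).trans le_sup_right

/-- A group with trivial layer has self-centralizing Fitting subgroup. -/
theorem centralizer_fitting_le_of_layer_eq_bot [Finite G] (h : Cfsg.layer G = ⊥) :
    centralizer (Cfsg.fittingSubgroup G : Set G) ≤ Cfsg.fittingSubgroup G := by
  have e : Cfsg.generalizedFittingSubgroup G = Cfsg.fittingSubgroup G := by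
    rw [Cfsg.generalizedFittingSubgroup, h, bot_sup_eq]
  rw [← e]
  exact centralizer_generalizedFitting_le

theorem layer_eq_bot_of_isSolvable [Group.IsSolvable G] : Cfsg.layer G = ⊥ :=
  le_bot_iff.1 (sSup_le fun _ hK => absurd
    (Group.isSolvable_of_isSolvable_injective (Subgroup.subtype_injective _))
    (not_isSolvable_of_isComponent hK))

/-- In a solvable group the Fitting subgroup contains its centralizer. -/
theorem centralizer_fitting_le [Finite G] [Group.IsSolvable G] :
    centralizer (Cfsg.fittingSubgroup G : Set G) ≤ Cfsg.fittingSubgroup G :=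
  centralizer_fitting_le_of_layer_eq_bot layer_eq_bot_of_isSolvable

/-! ### Normal and subnormal subgroups -/

theorem layer_map_subtype_le {H : Subgroup G} (hH : H.IsSubnormal) :
    (Cfsg.layer H).map H.subtype ≤ Cfsg.layer G :=
  map_le_iff_le_comap.2 (sSup_le fun K hK =>
    map_le_iff_le_comap.1 (component_le_layer ((isComponent_map_subtype_iff hH K).2 hK)))

theorem component_le_layer_subgroup {H K : Subgroup G} (hK : Cfsg.IsComponent K) (h : K ≤ H) :
    K ≤ (Cfsg.layer H).map H.subtype := by
  calc K = (K.subgroupOf H).map H.subtype := (map_subgroupOf_eq_of_le h).symm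
    _ ≤ _ := map_mono (component_le_layer (isComponent_subgroupOf hK h))

theorem generalizedFitting_map_subtype_le [Finite G] {H : Subgroup G} (hH : H.IsSubnormal) :
    (Cfsg.generalizedFittingSubgroup H).map H.subtype ≤ Cfsg.generalizedFittingSubgroup G := by
  rw [Cfsg.generalizedFittingSubgroup, Subgroup.map_sup]
  exact sup_le_sup (layer_map_subtype_le hH) (fitting_map_subtype_le_of_isSubnormal hH)

/-- The centre of the layer is nilpotent and normal, so lies in the Fitting subgroup. -/
theorem layer_inf_centralizer_layer_le_fitting [Finite G] :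
    Cfsg.layer G ⊓ centralizer (Cfsg.layer G : Set G) ≤ Cfsg.fittingSubgroup G := by
  haveI := layer_normal (G := G)
  haveI : IsMulCommutative ↥(Cfsg.layer G ⊓ centralizer (Cfsg.layer G : Set G)) :=
    ⟨⟨fun a b => Subtype.ext (mem_centralizer_iff.1 b.2.2 a a.2.1)⟩⟩
  open scoped IsMulCommutative in exact le_fitting inferInstance

theorem fitting_le_centralizer_layer [Finite G] :
    Cfsg.fittingSubgroup G ≤ centralizer (Cfsg.layer G : Set G) := by
  rw [← commutator_eq_bot_iff_le_centralizer, commutator_comm]
  exact layer_commutator_fitting_eq_bot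

theorem layer_le_centralizer_fitting [Finite G] :
    Cfsg.layer G ≤ centralizer (Cfsg.fittingSubgroup G : Set G) :=
  commutator_eq_bot_iff_le_centralizer.1 layer_commutator_fitting_eq_bot

/-- The centre of the layer is `E(G) ∩ F(G)`. -/
theorem layer_inf_centralizer_layer_eq [Finite G] :
    Cfsg.layer G ⊓ centralizer (Cfsg.layer G : Set G) =
      Cfsg.fittingSubgroup G ⊓ Cfsg.layer G :=
  le_antisymm (le_inf layer_inf_centralizer_layer_le_fitting inf_le_left)
    (le_inf inf_le_right (inf_le_left.trans fitting_le_centralizer_layer))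

theorem exists_mul_of_mem_generalizedFitting {x : G}
    (hx : x ∈ Cfsg.generalizedFittingSubgroup G) :
    ∃ e ∈ Cfsg.layer G, ∃ f ∈ Cfsg.fittingSubgroup G, e * f = x := by
  haveI := fitting_normal (G := G)
  have h : x ∈ ((Cfsg.layer G ⊔ Cfsg.fittingSubgroup G : Subgroup G) : Set G) := hx
  rw [mul_normal] at h
  exact h

/-- `F*(G) ∩ C(E(G)) = F(G)`. -/
theorem generalizedFitting_inf_centralizer_layer [Finite G] :
    Cfsg.generalizedFittingSubgroup G ⊓ centralizer (Cfsg.layer G : Set G) =
      Cfsg.fittingSubgroup G := by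
  refine le_antisymm (fun x ⟨hx, hxc⟩ => ?_)
    (le_inf fitting_le_generalizedFitting fitting_le_centralizer_layer)
  obtain ⟨e, he, f, hf, rfl⟩ := exists_mul_of_mem_generalizedFitting hx
  refine mul_mem (layer_inf_centralizer_layer_le_fitting ⟨he, ?_⟩) hf
  have h := (centralizer (Cfsg.layer G : Set G)).mul_mem hxc
    (inv_mem (fitting_le_centralizer_layer hf))
  rwa [mul_inv_cancel_right] at h

/-- A solvable subgroup commuting with the Fitting subgroup and normalized by its centralizer lies
in the Fitting subgroup. -/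
theorem le_fitting_of_le_centralizer_fitting [Finite G] {N : Subgroup G}
    (hN : N ≤ centralizer (Cfsg.fittingSubgroup G : Set G))
    (hnorm : centralizer (Cfsg.fittingSubgroup G : Set G) ≤ normalizer (N : Set G))
    (hsolv : Group.IsSolvable N) : N ≤ Cfsg.fittingSubgroup G := by
  have h1 : N ≤ centralizer (Cfsg.layer G : Set G) := by
    rw [← commutator_eq_bot_iff_le_centralizer, commutator_comm]
    exact layer_commutator_solvable_eq_bot hsolv (layer_le_centralizer_fitting.trans hnorm)
  have h2 : N ≤ centralizer (Cfsg.generalizedFittingSubgroup G : Set G) := by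
    rw [le_centralizer_iff]
    exact sup_le (le_centralizer_iff.1 h1) (le_centralizer_iff.1 hN)
  rw [← generalizedFitting_inf_centralizer_layer]
  exact le_inf (h2.trans centralizer_generalizedFitting_le) h1

/-- `F*(G) ∩ B = F*(B)` for a normal subgroup `B`. -/
theorem generalizedFitting_inf_normal [Finite G] (B : Subgroup G) [B.Normal] :
    Cfsg.generalizedFittingSubgroup G ⊓ B =
      (Cfsg.generalizedFittingSubgroup B).map B.subtype := by
  haveI := layer_normal (G := G)
  refine le_antisymm ?_ (le_inf
    (generalizedFitting_map_subtype_le (Subgroup.Normal.isSubnormal inferInstance))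
    (map_subtype_le _))
  set E₁ := (Cfsg.layer B).map B.subtype with hE₁
  set E₂ := sSup {K : Subgroup G | Cfsg.IsComponent K ∧ ¬ K ≤ B} with hE₂
  have hE : Cfsg.layer G ≤ E₁ ⊔ E₂ := by
    refine sSup_le fun K hK => ?_
    by_cases h : K ≤ B
    · exact le_sup_of_le_left (component_le_layer_subgroup hK h)
    · exact le_sup_of_le_right (le_sSup ⟨hK, h⟩)
  have h2B : B ≤ centralizer (E₂ : Set G) := by
    rw [le_centralizer_iff]
    exact sSup_le fun K ⟨hK, hKB⟩ => commutator_eq_bot_iff_le_centralizer.1
      ((component_le_or_commutator_eq_bot hK (Subgroup.Normal.isSubnormal inferInstance)).resolve_left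
        hKB)
  have hE₂E : E₂ ≤ Cfsg.layer G := sSup_le fun K hK => component_le_layer hK.1
  have hE₁B : E₁ ≤ B := map_subtype_le _
  rintro x ⟨hx, hxB⟩
  obtain ⟨e, he, f, hf, rfl⟩ := exists_mul_of_mem_generalizedFitting hx
  have h12 : E₂ ≤ normalizer (E₁ : Set G) :=
    ((le_centralizer_iff.1 (hE₁B.trans h2B))).trans (Subgroup.centralizer_le_normalizer _)
  have he' : e ∈ ((E₁ ⊔ E₂ : Subgroup G) : Set G) := hE he
  rw [coe_mul_of_right_le_normalizer_left _ _ h12] at he'
  obtain ⟨e₁, he₁, e₂, he₂, rfl⟩ := he'
  have hB1 : e₁ ∈ B := hE₁B he₁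
  have hz : e₂ * f ∈ B := by
    have := B.mul_mem (B.inv_mem hB1) hxB
    simpa [mul_assoc] using this
  have hzc : e₂ * f ∈ centralizer (Cfsg.layer G : Set G) := by
    refine (commutator_eq_bot_iff_le_centralizer.1 (commutator_comm (Cfsg.layer G) _ ▸
      ?_ : ⁅zpowers (e₂ * f), Cfsg.layer G⁆ = ⊥)) (mem_zpowers _)
    rw [eq_bot_iff, commutator_le]
    intro g hg z hz'
    rw [mem_bot, commutatorElement_eq_one_iff_mul_comm]
    suffices hle : E₁ ⊔ E₂ ≤ centralizer {e₂ * f} by
      have hgc : Commute g (e₂ * f) := mem_centralizer_singleton_iff.1 (hle (hE hg))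
      obtain ⟨m, rfl⟩ := hz'
      exact hgc.zpow_right m
    refine sup_le (fun u hu => ?_) (fun u hu => ?_) <;> rw [mem_centralizer_singleton_iff]
    · have hf' : Commute u f := (mem_centralizer_iff.1 (fitting_le_centralizer_layer hf) u
        (layer_map_subtype_le (Subgroup.Normal.isSubnormal inferInstance) hu))
      have he₂' : Commute u e₂ := (mem_centralizer_iff.1 (h2B (hE₁B hu)) e₂ he₂).symm
      exact he₂'.mul_right hf'
    · exact (mem_centralizer_iff.1 (h2B hz) u hu)
  have hzF : e₂ * f ∈ Cfsg.fittingSubgroup G ⊓ B := by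
    refine ⟨?_, hz⟩
    rw [← generalizedFitting_inf_centralizer_layer]
    exact ⟨mul_mem (layer_le_generalizedFitting (hE₂E he₂)) (fitting_le_generalizedFitting hf), hzc⟩
  rw [← fitting_map_subtype_eq] at hzF
  rw [show e₁ * e₂ * f = e₁ * (e₂ * f) from mul_assoc _ _ _, Cfsg.generalizedFittingSubgroup,
    Subgroup.map_sup]
  exact mul_mem (mem_sup_left he₁) (mem_sup_right hzF)

end CfsgLib.Coprime
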