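import Cfsg.Agent.Lib.Coprime.SchurZassenhaus

/-!
# Hall subgroups of solvable groups

Existence, conjugacy and dominance, for a coprime factorisation of the order and for a set of
primes, also inside a solvable subgroup; the Frattini argument; Wielandt's three subgroups.
-/

set_option autoImplicit false
set_option linter.style.haveILetI false
set_option linter.unusedSectionVars false

namespace CfsgLib.Coprime

open Subgroup
open scoped Pointwise

universe u

variable {G : Type u} [Group G] [Finite G]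

theorem isSolvable_congr {A B : Type*} [Group A] [Group B] (e : A ≃* B) (h : Group.IsSolvable A) :
    Group.IsSolvable B :=
  Group.isSolvable_of_isSolvable_injective (f := e.symm.toMonoidHom) e.symm.injective

theorem isPiNum_coprime {π : Set ℕ} {a b : ℕ} (ha : IsPiNum π a) (hb : IsPiNum πᶜ b) :
    a.Coprime b :=
  Nat.coprime_of_dvd fun q hq hqa hqb => hb q hq hqb (ha q hq hqa)

theorem dvd_of_dvd_mul_coprime {a m n : ℕ} (h : a ∣ m * n) (hc : a.Coprime n) : a ∣ m :=
  hc.dvd_of_dvd_mul_right h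

/-- A minimal normal subgroup of a solvable group is a nontrivial `p`-group. -/
theorem exists_normal_pGroup_of_isSolvable [Group.IsSolvable G] [Nontrivial G] :
    ∃ (M : Subgroup G) (p : ℕ), M.Normal ∧ M ≠ ⊥ ∧ p.Prime ∧ IsPGroup p M ∧
      (∀ x ∈ M, ∀ y ∈ M, x * y = y * x) := by
  obtain ⟨M, hMn, hM, -, hmin⟩ :=
    exists_minimal_normal_le (N := (⊤ : Subgroup G)) top_ne_bot
  haveI := hMn
  obtain ⟨hc, p, hp, hpow⟩ := minimal_normal_solvable hM hmin
  exact ⟨M, p, hMn, hM, hp, fun x => ⟨1, by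
    rw [pow_one]; exact Subtype.ext (hpow x x.2)⟩, hc⟩

theorem card_quotient_lt {M : Subgroup G} (hM : M ≠ ⊥) : Nat.card (G ⧸ M) < Nat.card G := by
  have h := card_eq_card_quotient_mul_card_subgroup M
  have h1 : 1 < Nat.card M := by
    have := Nat.card_pos (α := M)
    rcases Nat.lt_or_ge 1 (Nat.card M) with h | h
    · exact h
    · exact absurd (card_eq_one.1 (le_antisymm h this)) hM
  rw [h]
  exact (Nat.lt_mul_iff_one_lt_right Nat.card_pos).2 h1

theorem exists_hall [Group.IsSolvable G] {m n : ℕ} (hG : Nat.card G = m * n)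
    (hmn : m.Coprime n) : ∃ H : Subgroup G, Nat.card H = m := by
  induction hk : Nat.card G using Nat.strongRecOn generalizing G m n with
  | ind k ih =>
    subst hk
    rcases subsingleton_or_nontrivial G with h | h
    · refine ⟨⊥, ?_⟩
      rw [card_bot]
      have : Nat.card G = 1 := Nat.card_unique
      exact (Nat.eq_one_of_mul_eq_one_right (hG.symm.trans this)).symm
    obtain ⟨M, p, hMn, hM, hp, hMp, -⟩ := exists_normal_pGroup_of_isSolvable (G := G)
    haveI := hMn
    haveI := Fact.mk hp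
    obtain ⟨j, hj⟩ := IsPGroup.iff_card.1 hMp
    have hq := card_eq_card_quotient_mul_card_subgroup M
    by_cases hpn : p ∣ n
    · -- `M` has order dividing `n`
      have hMc : (Nat.card M).Coprime m := by
        rw [hj]
        exact Nat.Coprime.pow_left _ ((hp.coprime_iff_not_dvd).2 fun h =>
          hp.ne_one (Nat.Coprime.eq_one_of_dvd (hmn.coprime_dvd_left h) hpn))
      have hMn' : Nat.card M ∣ n := hMc.dvd_of_dvd_mul_left (hG ▸ card_subgroup_dvd_card M)
      obtain ⟨n', hn'⟩ := hMn'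
      have hGq : Nat.card (G ⧸ M) = m * n' := by
        refine Nat.eq_of_mul_eq_mul_right (Nat.card_pos (α := M)) ?_
        rw [← hq, hG, hn']; ring
      obtain ⟨K, hK⟩ := ih _ (card_quotient_lt hM) (G := G ⧸ M) hGq
        (hmn.coprime_dvd_right ⟨Nat.card M, hn'.trans (mul_comm _ _)⟩) rfl
      have hle : M ≤ K.comap (QuotientGroup.mk' M) := fun x hx => by
        rw [mem_comap, show QuotientGroup.mk' M x = 1 from (QuotientGroup.eq_one_iff x).2 hx]
        exact one_mem _
      set L := K.comap (QuotientGroup.mk' M) with hL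
      have hLc : Nat.card L = Nat.card M * m := by
        rw [card_eq_card_mul_card_map_mk' M hle,
          Subgroup.map_comap_eq_self_of_surjective (QuotientGroup.mk'_surjective M), hK]
      haveI : (M.subgroupOf L).Normal := inferInstance
      have hMc' : Nat.card (M.subgroupOf L) = Nat.card M :=
        Nat.card_congr (subgroupOfEquivOfLe hle).toEquiv
      have hidx : (M.subgroupOf L).index = m := by
        refine Nat.eq_of_mul_eq_mul_left (Nat.card_pos (α := M)) ?_
        rw [← hLc, ← hMc', card_mul_index]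
      obtain ⟨C, hC⟩ := Subgroup.exists_right_complement'_of_coprime (N := M.subgroupOf L)
        (by rw [hMc', hidx]; exact hMc)
      refine ⟨C.map L.subtype, ?_⟩
      rw [card_map_of_injective L.subtype_injective, ← hC.symm.index_eq_card, hidx]
    · -- `M` has order dividing `m`
      have hMm : Nat.card M ∣ m := by
        refine Nat.Coprime.dvd_of_dvd_mul_right ?_ (hG ▸ card_subgroup_dvd_card M)
        rw [hj]
        exact Nat.Coprime.pow_left _ ((hp.coprime_iff_not_dvd).2 hpn)
      obtain ⟨m', hm'⟩ := hMm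
      have hGq : Nat.card (G ⧸ M) = m' * n := by
        refine Nat.eq_of_mul_eq_mul_right (Nat.card_pos (α := M)) ?_
        rw [← hq, hG, hm']; ring
      obtain ⟨K, hK⟩ := ih _ (card_quotient_lt hM) (G := G ⧸ M) hGq
        (hmn.coprime_dvd_left ⟨Nat.card M, hm'.trans (mul_comm _ _)⟩) rfl
      have hle : M ≤ K.comap (QuotientGroup.mk' M) := fun x hx => by
        rw [mem_comap, show QuotientGroup.mk' M x = 1 from (QuotientGroup.eq_one_iff x).2 hx]
        exact one_mem _
      refine ⟨K.comap (QuotientGroup.mk' M), ?_⟩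
      rw [card_eq_card_mul_card_map_mk' M hle,
        Subgroup.map_comap_eq_self_of_surjective (QuotientGroup.mk'_surjective M), hK, hm']

/-- Dominance: a subgroup of order prime to `n` lies in a conjugate of a given subgroup of order
`m`. -/
theorem hall_le_conj [Group.IsSolvable G] {m n : ℕ} (hG : Nat.card G = m * n)
    (hmn : m.Coprime n) {H K : Subgroup G} (hH : Nat.card H = m) (hK : (Nat.card K).Coprime n) :
    ∃ g : G, conjBy g K ≤ H := by
  induction hk : Nat.card G using Nat.strongRecOn generalizing G m n with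
  | ind k ih =>
    subst hk
    rcases subsingleton_or_nontrivial G with h | h
    · exact ⟨1, (Subsingleton.elim (conjBy 1 K) H).le⟩
    obtain ⟨M, p, hMn, hM, hp, hMp, -⟩ := exists_normal_pGroup_of_isSolvable (G := G)
    haveI := hMn
    set π := QuotientGroup.mk' M with hπ
    have hmap : Nat.card (H ⊔ M : Subgroup G) = Nat.card M * Nat.card (H.map π) := by
      rw [card_eq_card_mul_card_map_mk' M (le_sup_right : M ≤ H ⊔ M), Subgroup.map_sup,
        (Subgroup.map_eq_bot_iff _).2 (QuotientGroup.ker_mk' M).ge, sup_bot_eq]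
    have hdvdm : Nat.card (H.map π) ∣ m := hH ▸ card_map_dvd_card π H
    have hq := card_eq_card_quotient_mul_card_subgroup M
    set n' := (H.map π).index with hn'
    have hGq : Nat.card (G ⧸ M) = Nat.card (H.map π) * n' := (card_mul_index _).symm
    have hn'n : n' ∣ n := by
      have h1 : (H.map π).index ∣ H.index := Subgroup.index_map_dvd _ (QuotientGroup.mk'_surjective M)
      have h2 : H.index = n := Nat.eq_of_mul_eq_mul_left (Nat.card_pos (α := H))
        (by rw [card_mul_index, hG, hH])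
      exact hn'.symm ▸ h2 ▸ h1
    obtain ⟨q, hq'⟩ := ih _ (card_quotient_lt hM) (G := G ⧸ M) hGq
      ((hmn.coprime_dvd_left hdvdm).coprime_dvd_right hn'n) (H := H.map π) (K := K.map π) rfl
      ((hK.coprime_dvd_left (card_map_dvd_card π K)).coprime_dvd_right hn'n) rfl
    obtain ⟨g, rfl⟩ := QuotientGroup.mk'_surjective M q
    rw [← conjBy_map, map_le_iff_le_comap, comap_map_eq, QuotientGroup.ker_mk'] at hq'
    have hKc : Nat.card (conjBy g K) = Nat.card K := card_conjBy g K
    haveI := Fact.mk hp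
    obtain ⟨j, hj⟩ := IsPGroup.iff_card.1 hMp
    by_cases hpn : p ∣ n
    · have hMc : (Nat.card M).Coprime m := by
        rw [hj]
        exact Nat.Coprime.pow_left _ ((hp.coprime_iff_not_dvd).2 fun h =>
          hp.ne_one (Nat.Coprime.eq_one_of_dvd (hmn.coprime_dvd_left h) hpn))
      have hKM : (Nat.card K).Coprime (Nat.card M) := by
        rw [hj]
        exact Nat.Coprime.pow_right _ (hK.coprime_dvd_right hpn)
      set K' := conjBy g K with hK'
      set H' := H ⊓ (K' ⊔ M) with hH'
      have hsupeq : H' ⊔ M = K' ⊔ M := by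
        refine le_antisymm (sup_le inf_le_right le_sup_right) (sup_le (fun x hx => ?_) le_sup_right)
        obtain ⟨h, hh, z, hz, rfl⟩ : ∃ h ∈ H, ∃ z ∈ M, h * z = x := by
          have hx' : x ∈ ((H ⊔ M : Subgroup G) : Set G) := hq' hx
          rw [mul_normal] at hx'
          exact hx'
        refine mul_mem (mem_sup_left ⟨hh, ?_⟩) (mem_sup_right hz)
        have h2 := mul_mem (mem_sup_left (S := K') (T := M) hx) (mem_sup_right (inv_mem hz))
        rwa [mul_inv_cancel_right] at h2
      have hcA : ∀ A : Subgroup G, (Nat.card A).Coprime (Nat.card M) →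
          Nat.card (A ⊔ M : Subgroup G) = Nat.card M * Nat.card A := by
        intro A hA
        refine Nat.dvd_antisymm ((card_sup_dvd_of_normal A M).trans (mul_comm _ _).dvd) ?_
        exact hA.symm.mul_dvd_of_dvd_of_dvd (card_dvd_of_le le_sup_right)
          (card_dvd_of_le le_sup_left)
      have hcK' : (Nat.card K').Coprime (Nat.card M) := by rwa [hKc]
      have hcH' : (Nat.card H').Coprime (Nat.card M) :=
        (hH ▸ hMc.symm).coprime_dvd_left (card_dvd_of_le inf_le_left)
      have hcards : Nat.card K' = Nat.card H' := by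
        refine Nat.eq_of_mul_eq_mul_left (Nat.card_pos (α := M)) ?_
        rw [← hcA _ hcK', ← hcA _ hcH', hsupeq]
      obtain ⟨x, -, hx⟩ := sz_conj_in (A := H') (B := K') (N := M)
        (by rw [normalizer_eq_top]; exact le_top)
        hcH'.symm (by rw [hsupeq]; exact le_sup_left) hcards
        (Or.inl (isSolvable_of_le le_top inferInstance))
      refine ⟨x * g, ?_⟩
      rw [← conjBy_conjBy, ← hK', hx]
      exact inf_le_left
    · have hMH : M ≤ H := by
        have h1 : Nat.card (H ⊔ M : Subgroup G) ∣ m := by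
          refine dvd_of_dvd_mul_coprime (hG ▸ card_subgroup_dvd_card _) ?_
          refine (Nat.Coprime.coprime_dvd_left (card_sup_dvd_of_normal H M) ?_)
          rw [hH, hj]
          exact hmn.mul_left (Nat.Coprime.pow_left _ ((hp.coprime_iff_not_dvd).2 hpn))
        have h2 : H = H ⊔ M := eq_of_le_of_card_ge le_sup_left
          (Nat.le_of_dvd Nat.card_pos (hH.symm ▸ h1))
        exact h2 ▸ le_sup_right
      exact ⟨g, hq'.trans (sup_le le_rfl hMH)⟩

theorem hall_conj [Group.IsSolvable G] {m n : ℕ} (hG : Nat.card G = m * n)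
    (hmn : m.Coprime n) {H K : Subgroup G} (hH : Nat.card H = m) (hK : Nat.card K = m) :
    ∃ g : G, conjBy g H = K := by
  obtain ⟨g, hg⟩ := hall_le_conj hG hmn hK (K := H) (hH.symm ▸ hmn)
  exact ⟨g, eq_of_le_of_card_ge hg (by rw [card_conjBy, hH, hK])⟩

theorem exists_hall_ge [Group.IsSolvable G] {m n : ℕ} (hG : Nat.card G = m * n)
    (hmn : m.Coprime n) {K : Subgroup G} (hK : (Nat.card K).Coprime n) :
    ∃ H : Subgroup G, Nat.card H = m ∧ K ≤ H := by
  obtain ⟨H, hH⟩ := exists_hall hG hmn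
  obtain ⟨g, hg⟩ := hall_le_conj hG hmn hH hK
  refine ⟨conjBy g⁻¹ H, by rw [card_conjBy, hH], ?_⟩
  have h := Subgroup.map_mono (f := (MulAut.conj g⁻¹).toMonoidHom) hg
  rwa [show (conjBy g K).map (MulAut.conj g⁻¹).toMonoidHom = conjBy g⁻¹ (conjBy g K) from rfl,
    conjBy_conjBy, inv_mul_cancel, conjBy_one] at h

/-! ### Hall π-subgroups inside a subgroup -/

/-- `H` is a Hall π-subgroup of `L`. -/
def IsHallIn (π : Set ℕ) (H L : Subgroup G) : Prop :=
  H ≤ L ∧ IsPiNum π (Nat.card H) ∧ IsPiNum πᶜ (H.relIndex L)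

theorem card_mul_relIndex {H L : Subgroup G} (h : H ≤ L) :
    Nat.card H * H.relIndex L = Nat.card L := by
  rw [Subgroup.relIndex, ← Nat.card_congr (subgroupOfEquivOfLe h).toEquiv, card_mul_index]

theorem exists_pi_split (π : Set ℕ) {N : ℕ} (hN : N ≠ 0) :
    ∃ m n : ℕ, N = m * n ∧ IsPiNum π m ∧ IsPiNum πᶜ n := by
  induction N using Nat.recOnPrimeCoprime with
  | zero => exact absurd rfl hN
  | prime_pow p k hp =>
    by_cases hπ : p ∈ π
    · exact ⟨p ^ k, 1, (mul_one _).symm,
        fun q hq h => (Nat.prime_dvd_prime_iff_eq hq hp).1 (hq.dvd_of_dvd_pow h) ▸ hπ, IsPiNum.one⟩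
    · exact ⟨1, p ^ k, (one_mul _).symm, IsPiNum.one,
        fun q hq h => (Nat.prime_dvd_prime_iff_eq hq hp).1 (hq.dvd_of_dvd_pow h) ▸ hπ⟩
  | coprime a b _ _ _ iha ihb =>
    obtain ⟨ha0, hb0⟩ := mul_ne_zero_iff.1 hN
    obtain ⟨m, n, rfl, hm, hn⟩ := iha ha0
    obtain ⟨m', n', rfl, hm', hn'⟩ := ihb hb0
    exact ⟨m * m', n * n', by ring, hm.mul hm', hn.mul hn'⟩

theorem exists_hallIn (π : Set ℕ) {L : Subgroup G} (hL : Group.IsSolvable L) :
    ∃ H, IsHallIn π H L := by
  obtain ⟨m, n, hmn, hm, hn⟩ := exists_pi_split π (Nat.card_pos (α := L)).ne'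
  haveI := hL
  obtain ⟨H, hH⟩ := exists_hall hmn (isPiNum_coprime hm hn)
  have hc : Nat.card (H.map L.subtype) = m := by
    rw [card_map_of_injective L.subtype_injective, hH]
  refine ⟨H.map L.subtype, map_subtype_le H, hc.symm ▸ hm, ?_⟩
  have := card_mul_relIndex (map_subtype_le H)
  rw [hc, hmn] at this
  rw [Nat.eq_of_mul_eq_mul_left (Nat.pos_of_ne_zero fun h0 => by
    rw [h0] at hH; exact Nat.card_pos.ne' hH) this]
  exact hn

theorem IsHallIn.exists_conj_le {π : Set ℕ} {H L K : Subgroup G} (h : IsHallIn π H L)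
    (hL : Group.IsSolvable L) (hK : K ≤ L) (hKπ : IsPiNum π (Nat.card K)) :
    ∃ x ∈ L, conjBy x K ≤ H := by
  haveI := hL
  obtain ⟨hHL, hπ, hπ'⟩ := h
  obtain ⟨x, hx⟩ := hall_le_conj (G := L) (m := Nat.card H) (n := H.relIndex L)
    (card_mul_relIndex hHL).symm (isPiNum_coprime hπ hπ') (H := H.subgroupOf L)
    (K := K.subgroupOf L) (Nat.card_congr (subgroupOfEquivOfLe hHL).toEquiv)
    (by rw [Nat.card_congr (subgroupOfEquivOfLe hK).toEquiv]; exact isPiNum_coprime hKπ hπ')
  refine ⟨x, x.2, ?_⟩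
  have h2 := map_mono (f := L.subtype) hx
  rwa [conjBy_map, map_subgroupOf_eq_of_le hK, map_subgroupOf_eq_of_le hHL] at h2

theorem IsHallIn.card_eq {π : Set ℕ} {H K L : Subgroup G} (h : IsHallIn π H L)
    (hK : IsHallIn π K L) : Nat.card H = Nat.card K := by
  have e := (card_mul_relIndex h.1).trans (card_mul_relIndex hK.1).symm
  refine Nat.dvd_antisymm ?_ ?_
  · exact (isPiNum_coprime h.2.1 hK.2.2).dvd_of_dvd_mul_right ⟨_, e.symm⟩
  · exact (isPiNum_coprime hK.2.1 h.2.2).dvd_of_dvd_mul_right ⟨_, e⟩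

theorem IsHallIn.exists_conj {π : Set ℕ} {H K L : Subgroup G} (h : IsHallIn π H L)
    (hK : IsHallIn π K L) (hL : Group.IsSolvable L) : ∃ x ∈ L, Coprime.conjBy x H = K := by
  obtain ⟨x, hx, hle⟩ := hK.exists_conj_le hL h.1 h.2.1
  exact ⟨x, hx, eq_of_le_of_card_ge hle (by rw [card_conjBy, h.card_eq hK])⟩

theorem IsHallIn.exists_ge {π : Set ℕ} {K L : Subgroup G} (hL : Group.IsSolvable L)
    (hK : K ≤ L) (hKπ : IsPiNum π (Nat.card K)) : ∃ H, IsHallIn π H L ∧ K ≤ H := by
  haveI := hL
  obtain ⟨H, hH⟩ := exists_hallIn π hL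
  obtain ⟨x, hx, hle⟩ := hH.exists_conj_le hL hK hKπ
  have hxn : x⁻¹ ∈ normalizer (L : Set G) := le_normalizer (inv_mem hx)
  refine ⟨Coprime.conjBy x⁻¹ H, ⟨?_, by rw [card_conjBy]; exact hH.2.1, ?_⟩, ?_⟩
  · rw [← conjBy_eq_self_iff.2 hxn]; exact map_mono hH.1
  · rw [← conjBy_eq_self_iff.2 hxn, relIndex_map_map_of_injective _ _ (MulEquiv.injective _)]
    exact hH.2.2
  · have h := Subgroup.map_mono (f := (MulAut.conj x⁻¹).toMonoidHom) hle
    rwa [show (Coprime.conjBy x K).map (MulAut.conj x⁻¹).toMonoidHom =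
        Coprime.conjBy x⁻¹ (Coprime.conjBy x K) from rfl,
      conjBy_conjBy, inv_mul_cancel, conjBy_one] at h

/-- The Frattini argument for a Hall subgroup of a solvable normal subgroup. -/
theorem hall_frattini {L : Subgroup G} [L.Normal] (hL : Group.IsSolvable L) {H : Subgroup G}
    (hHL : H ≤ L) (hHall : (Nat.card H).Coprime (H.relIndex L)) :
    L ⊔ normalizer (H : Set G) = ⊤ := by
  haveI := hL
  rw [eq_top_iff]
  intro g _
  have hgn : g ∈ normalizer (L : Set G) := by rw [normalizer_eq_top]; trivial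
  have hgL : conjBy g H ≤ L := by
    rw [← conjBy_eq_self_iff.2 hgn]; exact map_mono hHL
  obtain ⟨x, hx⟩ := hall_conj (G := L) (m := Nat.card H) (n := H.relIndex L)
    (card_mul_relIndex hHL).symm hHall (H := (conjBy g H).subgroupOf L) (K := H.subgroupOf L)
    (by rw [Nat.card_congr (subgroupOfEquivOfLe hgL).toEquiv, card_conjBy])
    (Nat.card_congr (subgroupOfEquivOfLe hHL).toEquiv)
  have h2 := congrArg (Subgroup.map L.subtype) hx
  rw [conjBy_map, map_subgroupOf_eq_of_le hgL, map_subgroupOf_eq_of_le hHL, conjBy_conjBy,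
    conjBy_eq_self_iff] at h2
  have h3 := mul_mem (mem_sup_left (T := normalizer (H : Set G)) (inv_mem x.2 : (x : G)⁻¹ ∈ L))
    (mem_sup_right h2)
  simpa using h3

/-- Wielandt: `G` is solvable when it is `H₁ H₂ = H₁ H₃` for solvable subgroups with the indices
of `H₂` and `H₃` coprime. -/
theorem solvable_of_three {H₁ H₂ H₃ : Subgroup G} (h₁ : Group.IsSolvable H₁)
    (h₂ : Group.IsSolvable H₂) (h₃ : Group.IsSolvable H₃)
    (h12 : ∀ g : G, ∃ x ∈ H₁, ∃ y ∈ H₂, g = x * y)
    (h13 : ∀ g : G, ∃ x ∈ H₁, ∃ y ∈ H₃, g = x * y)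
    (hcop : H₂.index.Coprime H₃.index) : Group.IsSolvable G := by
  induction hk : Nat.card G using Nat.strongRecOn generalizing G with
  | ind k ih =>
    subst hk
    by_cases hbot : H₁ = ⊥
    · refine isSolvable_congr Subgroup.topEquiv (isSolvable_of_le (fun g _ => ?_) h₂)
      obtain ⟨x, hx, y, hy, rfl⟩ := h12 g
      rw [hbot, mem_bot] at hx
      rwa [hx, one_mul]
    haveI := h₁
    haveI : Nontrivial H₁ := (nontrivial_iff_ne_bot H₁).2 hbot
    obtain ⟨M, p, hMn, hM, hp, hMp, -⟩ := exists_normal_pGroup_of_isSolvable (G := H₁)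
    haveI := Fact.mk hp
    set M' := M.map H₁.subtype with hM'
    have hMn' : ∀ h ∈ H₁, conjBy h M' = M' := by
      intro h hh
      have := conjBy_map H₁.subtype ⟨h, hh⟩ M
      rw [conjBy_eq_self_iff.2 (by rw [normalizer_eq_top]; trivial)] at this
      exact this.symm
    have key : ∀ (A : Subgroup G), Group.IsSolvable A → ¬ p ∣ A.index →
        (∀ g : G, ∃ x ∈ H₁, ∃ y ∈ A, g = x * y) →
        ∃ N : Subgroup G, N.Normal ∧ N ≠ ⊥ ∧ Group.IsSolvable N := by
      intro A hA hpA hprod
      obtain ⟨S⟩ := (inferInstance : Nonempty (Sylow p A))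
      set S' := (S : Subgroup A).map A.subtype
      have hS' : IsPGroup p S' := S.2.map _
      have hidx : ¬ p ∣ S'.index := by
        rw [← relIndex_mul_index (map_subtype_le (S : Subgroup A)), hp.dvd_mul]
        refine not_or.2 ⟨?_, hpA⟩
        rw [Subgroup.relIndex, subgroupOf, comap_map_eq_self_of_injective A.subtype_injective]
        exact S.not_dvd_index
      obtain ⟨T, hT⟩ := (hMp.map H₁.subtype).exists_le_sylow
      obtain ⟨g, hg⟩ := MulAction.exists_smul_eq G (hS'.toSylow hidx) T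
      have hg' : conjBy g S' = T := by
        have := congrArg Sylow.toSubgroup hg
        rw [Sylow.coe_subgroup_smul] at this
        exact this
      obtain ⟨x, hx, y, hy, rfl⟩ := hprod g
      have hMA : M' ≤ A := by
        have h1 : M' ≤ conjBy (x * y) A := hT.trans (hg' ▸ map_mono (map_subtype_le _))
        rw [← conjBy_conjBy, conjBy_eq_self_of_mem hy] at h1
        have h2 := map_mono (f := (MulAut.conj x⁻¹).toMonoidHom) h1
        rwa [show (conjBy x A).map (MulAut.conj x⁻¹).toMonoidHom = conjBy x⁻¹ (conjBy x A) from rfl,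
          conjBy_conjBy, inv_mul_cancel, conjBy_one,
          show M'.map (MulAut.conj x⁻¹).toMonoidHom = M' from hMn' _ (inv_mem hx)] at h2
      refine ⟨normalClosure (M' : Set G), normalClosure_normal, ?_, isSolvable_of_le ?_ hA⟩
      · intro h
        apply hM
        apply map_injective H₁.subtype_injective
        rw [Subgroup.map_bot, eq_bot_iff, ← h]
        exact le_normalClosure
      · refine (closure_le A).2 fun c hc => ?_
        obtain ⟨m, hm, hmc⟩ := Group.mem_conjugatesOfSet_iff.1 hc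
        obtain ⟨g', rfl⟩ := isConj_iff.1 hmc
        obtain ⟨u, hu, w, hw, huw⟩ := hprod g'⁻¹
        have hg'' : g' = w⁻¹ * u⁻¹ := by rw [← mul_inv_rev, ← huw, inv_inv]
        have h3 : u⁻¹ * m * u⁻¹⁻¹ ∈ A := by
          refine hMA ?_
          rw [← hMn' _ (inv_mem hu)]
          exact conj_mem_conjBy hm
        have h4 := mul_mem (mul_mem (inv_mem hw) h3) hw
        rw [hg'']
        show w⁻¹ * u⁻¹ * m * (w⁻¹ * u⁻¹)⁻¹ ∈ A
        simpa [mul_assoc] using h4
    obtain ⟨N, hNn, hN, hNs⟩ : ∃ N : Subgroup G, N.Normal ∧ N ≠ ⊥ ∧ Group.IsSolvable N := by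
      by_cases hp2 : p ∣ H₂.index
      · exact key H₃ h₃ (fun h => hp.ne_one (Nat.Coprime.eq_one_of_dvd
          (hcop.coprime_dvd_left hp2) h)) h13
      · exact key H₂ h₂ hp2 h12
    haveI := hNn
    haveI := hNs
    have hsurj := QuotientGroup.mk'_surjective N
    have hsolv : ∀ A : Subgroup G, Group.IsSolvable A →
        Group.IsSolvable (A.map (QuotientGroup.mk' N)) := by
      intro A hA
      haveI := hA
      exact Group.isSolvable_of_surjective (MonoidHom.subgroupMap_surjective (QuotientGroup.mk' N) A)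
    have hprod : ∀ A : Subgroup G, (∀ g : G, ∃ x ∈ H₁, ∃ y ∈ A, g = x * y) →
        ∀ g : G ⧸ N, ∃ x ∈ H₁.map (QuotientGroup.mk' N), ∃ y ∈ A.map (QuotientGroup.mk' N),
          g = x * y := by
      intro A hA g
      obtain ⟨g, rfl⟩ := hsurj g
      obtain ⟨x, hx, y, hy, rfl⟩ := hA g
      exact ⟨_, mem_map_of_mem _ hx, _, mem_map_of_mem _ hy, map_mul _ _ _⟩
    haveI : Group.IsSolvable (G ⧸ N) := ih _ (card_quotient_lt hN) (G := G ⧸ N) (hsolv _ h₁)
      (hsolv _ h₂) (hsolv _ h₃) (hprod _ h12) (hprod _ h13)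
      ((hcop.coprime_dvd_left (index_map_dvd _ hsurj)).coprime_dvd_right (index_map_dvd _ hsurj))
      rfl
    exact Group.isSolvable_of_ker_le_range N.subtype (QuotientGroup.mk' N)
      (by rw [QuotientGroup.ker_mk', range_subtype])

end CfsgLib.Coprime
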