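import Mathlib.GroupTheory.Frattini
import Cfsg.Agent.Lib.Coprime.Hall
import Cfsg.Agent.Lib.Coprime.Component
import Cfsg.Agent.Lib.Char.Burnside

/-!
# Solvable groups: Fitting subgroup modulo Frattini, Hall's converse, abelian Sylow subgroups
-/

set_option autoImplicit false
set_option linter.style.haveILetI false
set_option linter.unusedSectionVars false

namespace CfsgLib.Coprime

open Subgroup

universe u

variable {G : Type*} [Group G] [Finite G]

/-- A subgroup is trivial once its order is prime to itself and a power of `p`. -/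
theorem pCore_le_pPrimeCore_of_ne {p q : ℕ} [hp : Fact p.Prime] [hq : Fact q.Prime] (h : q ≠ p) :
    Cfsg.pCore q G ≤ Cfsg.pPrimeCore p G := by
  haveI := pCore_normal' (G := G) q
  refine le_pPrimeCore_of_not_dvd hp.out fun hd => ?_
  obtain ⟨j, hj⟩ := IsPGroup.iff_card.1 (pCore_isPGroup (G := G) q)
  rw [hj] at hd
  exact h ((Nat.prime_dvd_prime_iff_eq hp.out hq.out).1 (hp.out.dvd_of_dvd_pow hd)).symm

/-- With trivial `p'`-core the Fitting subgroup is the `p`-core. -/
theorem fitting_eq_pCore_of_pPrimeCore_eq_bot {p : ℕ} [Fact p.Prime]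
    (h : Cfsg.pPrimeCore p G = ⊥) : Cfsg.fittingSubgroup G = Cfsg.pCore p G := by
  refine le_antisymm ?_ (pCore_le_fitting p)
  rw [fitting_eq_iSup_pCore]
  refine iSup_le fun q => ?_
  by_cases hq : (q : ℕ) = p
  · rw [hq]
  · haveI := Fact.mk q.2
    exact ((pCore_le_pPrimeCore_of_ne hq).trans h.le).trans bot_le

/-- Hall–Higman 1.2.3 for solvable groups. -/
theorem centralizer_pCore_le [Group.IsSolvable G] {p : ℕ} [Fact p.Prime]
    (h : Cfsg.pPrimeCore p G = ⊥) :
    centralizer (Cfsg.pCore p G : Set G) ≤ Cfsg.pCore p G := by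
  rw [← fitting_eq_pCore_of_pPrimeCore_eq_bot h]
  exact centralizer_fitting_le

theorem pCore_le_sylow {p : ℕ} [Fact p.Prime] (P : Sylow p G) : Cfsg.pCore p G ≤ P := by
  haveI := pCore_normal' (G := G) p
  exact le_sup_left.trans (P.is_maximal'
    ((pCore_isPGroup p).to_sup_of_normal_left P.2) le_sup_right).le

/-- A solvable group with abelian Sylow `p`-subgroups has `p`-length one. -/
theorem sylow_sup_pPrimeCore_normal [Group.IsSolvable G] {p : ℕ} [Fact p.Prime] (P : Sylow p G)
    (hP : IsMulCommutative P) : ((P : Subgroup G) ⊔ Cfsg.pPrimeCore p G).Normal := by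
  set N := Cfsg.pPrimeCore p G with hN
  haveI : N.Normal := Subgroup.sSup_normal _ (fun _ h => h.1)
  set π := QuotientGroup.mk' N with hπ
  haveI : Group.IsSolvable (G ⧸ N) :=
    Group.isSolvable_of_surjective (QuotientGroup.mk'_surjective N)
  set Pq := P.mapSurjective (QuotientGroup.mk'_surjective N)
  have hle := centralizer_pCore_le (G := G ⧸ N) (pPrimeCore_quotient_eq_bot (Fact.out : p.Prime))
  have hPc : (Pq : Subgroup (G ⧸ N)) ≤ centralizer (Cfsg.pCore p (G ⧸ N) : Set (G ⧸ N)) := by
    intro x hx
    refine mem_centralizer_iff.2 fun y hy => ?_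
    obtain ⟨a, ha, rfl⟩ := hx
    obtain ⟨b, hb, rfl⟩ := pCore_le_sylow Pq hy
    rw [← map_mul, ← map_mul]
    exact congrArg _ (congrArg Subtype.val (hP.is_comm.comm (⟨b, hb⟩ : P) ⟨a, ha⟩))
  have heq : (Pq : Subgroup (G ⧸ N)) = Cfsg.pCore p (G ⧸ N) :=
    le_antisymm (hPc.trans hle) (pCore_le_sylow Pq)
  have h2 : (P : Subgroup G) ⊔ N = (Cfsg.pCore p (G ⧸ N)).comap π := by
    rw [← heq]
    show _ = ((P : Subgroup G).map π).comap π
    rw [Subgroup.comap_map_eq, QuotientGroup.ker_mk']
  rw [h2]
  haveI := pCore_normal' (G := G ⧸ N) p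
  infer_instance

/-- A normal subgroup with nilpotent image modulo the Frattini subgroup lies in the Fitting
subgroup. -/
theorem le_fitting_of_map_frattini_le {W : Subgroup G} [W.Normal]
    (h : W.map (QuotientGroup.mk' (frattini G)) ≤ Cfsg.fittingSubgroup (G ⧸ frattini G))
    (hW : frattini G ≤ W) : W ≤ Cfsg.fittingSubgroup G := by
  set π := QuotientGroup.mk' (frattini G) with hπ
  have hnil : Group.IsNilpotent (W.map π) := isNilpotent_of_le h fitting_isNilpotent
  haveI : (W.map π).Normal := Normal.map inferInstance π (QuotientGroup.mk'_surjective _)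
  have key : ∀ (p : ℕ) [Fact p.Prime] (P : Sylow p W),
      (P : Subgroup W).map W.subtype ≤ Cfsg.pCore p G := by
    intro p _ P
    set P' := (P : Subgroup W).map W.subtype with hP'
    haveI := hnil
    let f : W →* W.map π := π.subgroupMap W
    have hf : Function.Surjective f := π.subgroupMap_surjective W
    let Q := P.mapSurjective hf
    haveI hQn : (Q : Subgroup (W.map π)).Normal := inferInstance
    haveI hQc : (Q : Subgroup (W.map π)).Characteristic := Q.characteristic_of_normal hQn
    have hmap : (Q : Subgroup (W.map π)).map (W.map π).subtype = P'.map π := by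
      show ((P : Subgroup W).map f).map _ = _
      rw [Subgroup.map_map, hP', Subgroup.map_map]
      rfl
    haveI hPn : (P'.map π).Normal := hmap ▸ ConjAct.normal_of_characteristic_of_normal
    set M := (P'.map π).comap π with hM
    have hMn : M.Normal := inferInstance
    have hPM : P' ≤ M := le_comap_map π P'
    have hMsup : M = P' ⊔ frattini G := by
      rw [hM, comap_map_eq, QuotientGroup.ker_mk']
    have hMW : M ≤ W := hMsup ▸ sup_le (map_subtype_le _) hW
    haveI := hMn
    -- `P'` is a Sylow subgroup of `M`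
    have hPp : IsPGroup p (P'.subgroupOf M) :=
      (P.2.map W.subtype).of_equiv (subgroupOfEquivOfLe hPM).symm
    have hPi : ¬ p ∣ (P'.subgroupOf M).index := fun hd => by
      have h1 : (P'.subgroupOf M).index ∣ (P'.subgroupOf W).index := by
        show P'.relIndex M ∣ P'.relIndex W
        exact ⟨_, (relIndex_mul_relIndex P' M W hPM hMW).symm⟩
      have h2 : P'.subgroupOf W = P := by
        rw [hP', subgroupOf, comap_map_eq_self_of_injective W.subtype_injective]
      rw [h2] at h1
      exact P.not_dvd_index (hd.trans h1)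
    have hnorm : normalizer (P' : Set G) = ⊤ := by
      have h1 := Sylow.normalizer_sup_eq_top (hPp.toSylow hPi)
      rw [show ((hPp.toSylow hPi : Sylow p M) : Subgroup M).map M.subtype = P' from
        map_subgroupOf_eq_of_le hPM] at h1
      refine frattini_nongenerating (top_le_iff.1 (h1.ge.trans (sup_le le_sup_left ?_)))
      rw [hMsup]
      exact sup_le_sup_right le_normalizer _
    haveI : P'.Normal := normalizer_eq_top_iff.1 hnorm
    exact le_pCore (P.2.map _)
  intro w hw
  have htop : W.subgroupOf W ≤ (Cfsg.fittingSubgroup G).subgroupOf W := by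
    have : (Cfsg.fittingSubgroup G).subgroupOf W = ⊤ := by
      refine eq_top_of_card_eq _ (Nat.dvd_antisymm (card_subgroup_dvd_card _) ?_)
      refine (Nat.dvd_iff_prime_pow_dvd_dvd _ _).2 fun p k hp hd => ?_
      haveI := Fact.mk hp
      obtain ⟨P⟩ := (inferInstance : Nonempty (Sylow p W))
      have hle : (P : Subgroup W) ≤ (Cfsg.fittingSubgroup G).subgroupOf W :=
        map_le_iff_le_comap.1 ((key p P).trans (pCore_le_fitting p))
      refine dvd_trans ?_ (card_dvd_of_le hle)
      rw [P.card_eq_multiplicity]
      exact pow_dvd_pow p ((hp.pow_dvd_iff_le_factorization Nat.card_pos.ne').1 hd)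
    rw [this]; exact le_top
  exact htop (mem_subgroupOf.2 hw : (⟨w, hw⟩ : W) ∈ W.subgroupOf W)

theorem fitting_quotient_frattini :
    Cfsg.fittingSubgroup (G ⧸ frattini G) =
      (Cfsg.fittingSubgroup G).map (QuotientGroup.mk' (frattini G)) := by
  haveI := fitting_normal (G := G ⧸ frattini G)
  refine le_antisymm ?_ (map_fitting_le (QuotientGroup.mk'_surjective _))
  set W := (Cfsg.fittingSubgroup (G ⧸ frattini G)).comap (QuotientGroup.mk' (frattini G)) with hW
  have e : W.map (QuotientGroup.mk' (frattini G)) = Cfsg.fittingSubgroup (G ⧸ frattini G) :=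
    map_comap_eq_self_of_surjective (QuotientGroup.mk'_surjective _) _
  rw [← e]
  refine map_mono (le_fitting_of_map_frattini_le e.le fun x hx => ?_)
  rw [hW, mem_comap, show QuotientGroup.mk' (frattini G) x = 1 from (QuotientGroup.eq_one_iff x).2 hx]
  exact one_mem _

theorem isNilpotent_of_frattini_quotient (h : Group.IsNilpotent (G ⧸ frattini G)) :
    Group.IsNilpotent G := by
  have h1 : Cfsg.fittingSubgroup (G ⧸ frattini G) = ⊤ :=
    top_unique (le_fitting (Group.isNilpotent_top.2 h))
  have h2 := le_fitting_of_map_frattini_le (W := (⊤ : Subgroup G)) (h1 ▸ le_top) le_top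
  exact Group.isNilpotent_top.1 (top_le_iff.1 h2 ▸ fitting_isNilpotent)

/-- A nontrivial normal subgroup of a nilpotent group meets the centre nontrivially. -/
theorem nilpotent_inf_center_ne_bot [Group.IsNilpotent G] (N : Subgroup G) [N.Normal]
    (hN : N ≠ ⊥) : N ⊓ center G ≠ ⊥ := by
  intro hbot
  have key : ∀ n, N ⊓ Subgroup.upperCentralSeries G n = ⊥ := by
    intro n
    induction n with
    | zero => rw [Subgroup.upperCentralSeries_zero, inf_bot_eq]
    | succ n ih =>
      rw [eq_bot_iff]
      intro x hx
      have hc : x ∈ N ⊓ center G := by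
        refine ⟨hx.1, mem_center_iff.2 fun y => ?_⟩
        have h1 : x * y * x⁻¹ * y⁻¹ ∈ N ⊓ Subgroup.upperCentralSeries G n := by
          refine ⟨?_, Subgroup.mem_upperCentralSeries_succ_iff.1 hx.2 y⟩
          rw [show x * y * x⁻¹ * y⁻¹ = x * (y * x⁻¹ * y⁻¹) by group]
          exact N.mul_mem hx.1 (Normal.conj_mem inferInstance _ (N.inv_mem hx.1) y)
        rw [ih, mem_bot, mul_inv_eq_one, mul_inv_eq_iff_eq_mul] at h1
        exact h1.symm
      rw [hbot] at hc
      exact hc
  obtain ⟨n, hn⟩ := Group.IsNilpotent.nilpotent (G := G)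
  exact hN (by simpa [hn] using key n)

/-- Subgroups of coprime index multiply to the whole group. -/
theorem mul_eq_univ_of_coprime {H K : Subgroup G} (h : H.index.Coprime K.index) (g : G) :
    ∃ x ∈ H, ∃ y ∈ K, g = x * y := by
  have hd : H.index * K.index ∣ (H ⊓ K).index := h.mul_dvd_of_dvd_of_dvd
    (index_dvd_of_le inf_le_left) (index_dvd_of_le inf_le_right)
  have heq : (H ⊓ K).index = H.index * K.index :=
    le_antisymm index_inf_le (Nat.le_of_dvd (Nat.pos_of_ne_zero index_ne_zero_of_finite) hd)
  have hr : H.relIndex K = H.index := by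
    have := relIndex_mul_index (inf_le_right : H ⊓ K ≤ K)
    rw [heq, inf_relIndex_right] at this
    exact Nat.eq_of_mul_eq_mul_right (Nat.pos_of_ne_zero index_ne_zero_of_finite) this
  have hf : Function.Surjective (quotientSubgroupOfEmbeddingOfLE H (le_top : K ≤ ⊤)) := by
    refine ((Nat.bijective_iff_injective_and_card _).2 ⟨Function.Embedding.injective _, ?_⟩).2
    show H.relIndex K = (H.subgroupOf ⊤).index
    rw [hr]; exact (relIndex_top_right H).symm
  obtain ⟨q, hq⟩ := hf ((⟨g⁻¹, mem_top _⟩ : (⊤ : Subgroup G)))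
  induction q using Quotient.inductionOn' with
  | h k =>
    have := mem_subgroupOf.1 (QuotientGroup.eq.1 hq)
    refine ⟨g * k, ?_, (k : G)⁻¹, K.inv_mem k.2, by simp⟩
    simpa using H.inv_mem this

/-- Hall's converse: a group with a `p`-complement for every prime `p` is solvable. -/
theorem isSolvable_of_hall_complements {G : Type u} [Group G] [Finite G]
    (h : ∀ p : ℕ, p.Prime → ∃ H : Subgroup G, H.index = p ^ (Nat.card G).factorization p) :
    Group.IsSolvable G := by
  induction hk : Nat.card G using Nat.strongRecOn generalizing G with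
  | ind k ih =>
    subst hk
    classical
    set s := (Nat.card G).primeFactors with hs
    have hne : Nat.card G ≠ 0 := Nat.card_pos.ne'
    by_cases h3 : 2 < s.card
    · have hsub : ∀ p ∈ s, ∀ H : Subgroup G, H.index = p ^ (Nat.card G).factorization p →
          Group.IsSolvable H := by
        intro p hp H hH
        obtain ⟨hpp, hpd, -⟩ := Nat.mem_primeFactors.1 hp
        have hfac : 0 < (Nat.card G).factorization p := hpp.factorization_pos_of_dvd hne hpd
        have hlt : Nat.card H < Nat.card G := by
          rw [← card_mul_index H, hH]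
          exact (Nat.lt_mul_iff_one_lt_right Nat.card_pos).2 (Nat.one_lt_pow hfac.ne' hpp.one_lt)
        refine ih _ hlt (G := H) (fun q hq => ?_) rfl
        by_cases hqp : q = p
        · refine ⟨⊤, ?_⟩
          rw [index_top, hqp, Nat.factorization_eq_zero_of_not_dvd, pow_zero]
          intro hd
          have h1 : p ^ ((Nat.card G).factorization p + 1) ∣ Nat.card G := by
            conv_rhs => rw [← card_mul_index H, hH]
            rw [pow_succ, mul_comm]
            exact mul_dvd_mul_right hd _
          exact Nat.pow_succ_factorization_not_dvd hne hpp h1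
        · obtain ⟨K, hK⟩ := h q hq
          refine ⟨(K ⊓ H).subgroupOf H, ?_⟩
          have hcop : K.index.Coprime H.index := by
            rw [hK, hH]
            exact ((Nat.coprime_primes hq hpp).2 hqp).pow _ _
          have hd : K.index * H.index ∣ (K ⊓ H).index := hcop.mul_dvd_of_dvd_of_dvd
            (index_dvd_of_le inf_le_left) (index_dvd_of_le inf_le_right)
          have heq : (K ⊓ H).index = K.index * H.index :=
            le_antisymm index_inf_le
              (Nat.le_of_dvd (Nat.pos_of_ne_zero index_ne_zero_of_finite) hd)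
          have hi : ((K ⊓ H).subgroupOf H).index = K.index := by
            have h2 : (K ⊓ H).relIndex H * H.index = (K ⊓ H).index :=
              relIndex_mul_index inf_le_right
            rw [heq] at h2
            exact Nat.eq_of_mul_eq_mul_right (Nat.pos_of_ne_zero index_ne_zero_of_finite) h2
          rw [hi, hK]
          congr 1
          have hmul : Nat.card G = Nat.card H * p ^ (Nat.card G).factorization p := by
            rw [← hH, card_mul_index]
          conv_lhs => rw [hmul]
          rw [Nat.factorization_mul Nat.card_pos.ne' (pow_pos hpp.pos _).ne', Finsupp.add_apply,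
            Nat.factorization_pow, Finsupp.smul_apply,
            Nat.factorization_eq_zero_of_not_dvd
              (fun hd' => hqp ((Nat.prime_dvd_prime_iff_eq hq hpp).1 hd'))]
          simp
      obtain ⟨a, b, c, ha, hb, hc, hab, hac, hbc⟩ := Finset.two_lt_card_iff.1 h3
      have hP : ∀ p ∈ s, p.Prime := fun p hp => (Nat.mem_primeFactors.1 hp).1
      obtain ⟨A, hA⟩ := h a (hP a ha)
      obtain ⟨B, hB⟩ := h b (hP b hb)
      obtain ⟨C, hC⟩ := h c (hP c hc)
      have hcopr : ∀ {p q : ℕ} {X Y : Subgroup G}, p.Prime → q.Prime → p ≠ q →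
          X.index = p ^ (Nat.card G).factorization p → Y.index = q ^ (Nat.card G).factorization q →
          X.index.Coprime Y.index := fun {p q X Y} hp hq hpq hX hY => by
        rw [hX, hY]; exact ((Nat.coprime_primes hp hq).2 hpq).pow _ _
      exact solvable_of_three (hsub a ha A hA) (hsub b hb B hB) (hsub c hc C hC)
        (mul_eq_univ_of_coprime (hcopr (hP a ha) (hP b hb) hab hA hB))
        (mul_eq_univ_of_coprime (hcopr (hP a ha) (hP c hc) hac hA hC))
        (hcopr (hP b hb) (hP c hc) hbc hB hC)
    · obtain ⟨p, q, hp, hq, a, b, hab⟩ : ∃ p q : ℕ, p.Prime ∧ q.Prime ∧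
          ∃ a b, Nat.card G = p ^ a * q ^ b := by
        have hprod := Nat.prod_factorization_pow_eq_self hne
        rw [Finsupp.prod, Nat.support_factorization, ← hs] at hprod
        have hP : ∀ p ∈ s, p.Prime := fun p hp => (Nat.mem_primeFactors.1 hp).1
        rcases Nat.lt_or_ge s.card 1 with h0 | h0
        · rw [Finset.card_eq_zero.1 (Nat.lt_one_iff.1 h0), Finset.prod_empty] at hprod
          exact ⟨2, 3, Nat.prime_two, Nat.prime_three, 0, 0, by rw [← hprod]; rfl⟩
        rcases Nat.lt_or_ge s.card 2 with h1 | h1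
        · obtain ⟨p, hps⟩ := Finset.card_eq_one.1 (le_antisymm (Nat.lt_succ_iff.1 h1) h0)
          rw [hps, Finset.prod_singleton] at hprod
          have hp := hP p (hps ▸ Finset.mem_singleton_self p)
          exact ⟨p, p, hp, hp, (Nat.card G).factorization p, 0, by rw [pow_zero, mul_one]; exact hprod.symm⟩
        · obtain ⟨p, q, hpq, hps⟩ := Finset.card_eq_two.1 (le_antisymm (not_lt.1 h3) h1)
          rw [hps, Finset.prod_pair hpq] at hprod
          exact ⟨p, q, hP p (hps ▸ Finset.mem_insert_self p _),
            hP q (hps ▸ Finset.mem_insert_of_mem (Finset.mem_singleton_self q)), _, _, hprod.symm⟩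
      exact CfsgLib.Char.isSolvable_of_card_two_primes hp hq G a b hab

end CfsgLib.Coprime
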