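import Mathlib.GroupTheory.SpecificGroups.Quaternion
import Mathlib.GroupTheory.Frattini
import Cfsg.Agent.Lib.Coprime.Action
import Cfsg.Agent.Lib.Coprime.Solvable

/-!
# p-groups with a unique subgroup of order p: cyclic or generalized quaternion
-/

set_option autoImplicit false
set_option linter.style.haveILetI false
set_option linter.unusedSectionVars false

namespace CfsgLib.Coprime

open Subgroup
open scoped commutatorElement

universe u

variable {G : Type u} [Group G]

/-- Any two non-identity elements killed by `p` generate the same subgroup. -/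
def UniqueOrderP (p : ℕ) (G : Type u) [Group G] : Prop :=
  ∀ x y : G, x ^ p = 1 → y ^ p = 1 → x ≠ 1 → y ∈ zpowers x

theorem UniqueOrderP.subgroup {p : ℕ} (h : UniqueOrderP p G) (H : Subgroup G) :
    UniqueOrderP p H := by
  intro x y hx hy hx1
  obtain ⟨m, hm⟩ := h x y (by rw [← SubgroupClass.coe_pow, hx]; rfl)
    (by rw [← SubgroupClass.coe_pow, hy]; rfl) fun e => hx1 (Subtype.ext e)
  exact ⟨m, Subtype.ext (by simpa using hm)⟩

theorem isCyclic_of_comm_of_unique [Finite G] {p : ℕ} [Fact p.Prime] (hG : IsPGroup p G)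
    (hu : UniqueOrderP p G) [IsMulCommutative G] : IsCyclic G := by
  by_contra hnc
  obtain ⟨r, y, z, hr, hy, hz, hz1, hyz⟩ := exists_elementary_pair_of_not_cyclic hnc
  have hrp : r = p := by
    obtain ⟨n, hn⟩ := IsPGroup.iff_card.1 hG
    have h1 := orderOf_dvd_natCard z
    haveI := Fact.mk hr
    rw [orderOf_eq_prime hz hz1, hn] at h1
    exact (Nat.prime_dvd_prime_iff_eq hr Fact.out).1 (hr.dvd_of_dvd_pow h1)
  subst hrp
  exact hyz (hu z y hz hy hz1)

theorem exists_normal_coatom [Finite G] {p : ℕ} [Fact p.Prime] (hG : IsPGroup p G) [Nontrivial G] :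
    ∃ M : Subgroup G, M.Normal ∧ M.index = p := by
  obtain ⟨n, hn⟩ := IsPGroup.iff_card.1 hG
  have hn0 : n ≠ 0 := fun h => by
    rw [h, pow_zero] at hn
    exact absurd (Finite.one_lt_card (α := G)) (by omega)
  obtain ⟨M, hM⟩ := Sylow.exists_subgroup_card_pow_prime p (n := n - 1)
    (hn ▸ pow_dvd_pow p (Nat.sub_le n 1))
  have hidx : M.index = p := by
    refine Nat.eq_of_mul_eq_mul_left (Nat.card_pos (α := M)) ?_
    rw [card_mul_index, hn, hM, ← pow_succ, Nat.sub_add_cancel (Nat.pos_of_ne_zero hn0)]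
  haveI := hG.isNilpotent
  refine ⟨M, ?_, hidx⟩
  refine NormalizerCondition.normal_of_coatom M Group.normalizerCondition_of_isNilpotent ?_
  refine ⟨fun e => ?_, fun K hK => ?_⟩
  · rw [e, index_top] at hidx
    exact (Fact.out : p.Prime).ne_one hidx.symm
  · have h1 := index_dvd_of_le hK.le
    rw [hidx] at h1
    rcases (Nat.dvd_prime Fact.out).1 h1 with h | h
    · exact index_eq_one.1 h
    · exact absurd (eq_of_le_of_card_ge hK.le (Nat.le_of_eq (Nat.eq_of_mul_eq_mul_right
        (Nat.pos_of_ne_zero index_ne_zero_of_finite) (show Nat.card K * K.index = Nat.card M * K.index by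
          rw [card_mul_index, h, ← hidx, card_mul_index])))) hK.ne

/-- `(g * b) ^ n` when the commutator of `g` and `b` is central. -/
theorem mul_pow_of_central {g b c : G} (hc : ∀ x : G, Commute c x) (hbg : b * g = g * b * c) :
    ∀ n : ℕ, (g * b) ^ n = g ^ n * b ^ n * c ^ (n.choose 2) := by
  have hswap : ∀ n : ℕ, b ^ n * g = g * b ^ n * c ^ n := by
    intro n
    induction n with
    | zero => simp
    | succ n ih =>
      calc b ^ (n + 1) * g = b ^ n * (b * g) := by rw [pow_succ, mul_assoc]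
        _ = b ^ n * g * (b * c) := by rw [hbg]; group
        _ = g * b ^ n * (c ^ n * b) * c := by rw [ih]; group
        _ = g * b ^ n * (b * c ^ n) * c := by rw [((hc b).pow_left n).eq]
        _ = g * b ^ (n + 1) * c ^ (n + 1) := by rw [pow_succ, pow_succ]; group
  intro n
  induction n with
  | zero => simp
  | succ n ih =>
    have hcn : c ^ (n.choose 2) * (g * b) = g * b * c ^ (n.choose 2) :=
      ((hc (g * b)).pow_left _).eq
    calc (g * b) ^ (n + 1) = g ^ n * b ^ n * (c ^ (n.choose 2) * (g * b)) := by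
          rw [pow_succ, ih]; group
      _ = g ^ n * (b ^ n * g) * b * c ^ (n.choose 2) := by rw [hcn]; group
      _ = g ^ n * g * b ^ n * (c ^ n * b) * c ^ (n.choose 2) := by rw [hswap]; group
      _ = g ^ n * g * b ^ n * (b * c ^ n) * c ^ (n.choose 2) := by rw [((hc b).pow_left n).eq]
      _ = g ^ (n + 1) * b ^ (n + 1) * (c ^ n * c ^ (n.choose 2)) := by
          rw [pow_succ, pow_succ]; group
      _ = _ := by
          rw [← pow_add]
          congr 2
          rw [Nat.choose_succ_succ' n 1, Nat.choose_one_right]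

theorem isCyclic_of_unique_odd [Finite G] {p : ℕ} [Fact p.Prime] (hp : p ≠ 2) (hG : IsPGroup p G)
    (hu : UniqueOrderP p G) : IsCyclic G := by
  induction hk : Nat.card G using Nat.strongRecOn generalizing G with
  | ind k ih =>
    subst hk
    rcases subsingleton_or_nontrivial G with h | h
    · exact isCyclic_of_subsingleton
    obtain ⟨M, hMn, hMi⟩ := exists_normal_coatom hG
    haveI := hMn
    have hpp : p.Prime := Fact.out
    have hlt : ∀ K : Subgroup G, K ≠ ⊤ → IsCyclic K := fun K hK => by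
      refine ih _ (lt_of_le_of_ne (Nat.le_of_dvd Nat.card_pos (card_subgroup_dvd_card K))
        fun e => hK ((card_eq_iff_eq_top K).1 e)) (G := K) (hG.to_subgroup K) (hu.subgroup K) rfl
    have hMne : M ≠ ⊤ := fun e => by rw [e, index_top] at hMi; exact hpp.ne_one hMi.symm
    haveI := hlt M hMne
    obtain ⟨⟨a, haM⟩, ha⟩ := IsCyclic.exists_generator (α := M)
    have hMa : M = zpowers a := le_antisymm (fun x hx => by
      obtain ⟨m, hm⟩ := ha ⟨x, hx⟩
      exact ⟨m, congrArg Subtype.val hm⟩) (zpowers_le.2 haM)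
    obtain ⟨g, -, hg⟩ := SetLike.exists_of_lt (lt_top_iff_ne_top.2 hMne)
    have hgp : g ^ p ∈ M := hMi ▸ pow_index_mem M g
    have htop : M ⊔ zpowers g = ⊤ := by
      have h1 := index_dvd_of_le (le_sup_left : M ≤ M ⊔ zpowers g)
      rw [hMi] at h1
      rcases (Nat.dvd_prime hpp).1 h1 with h | h
      · exact index_eq_one.1 h
      · refine absurd (mem_sup_right (mem_zpowers g) : g ∈ M ⊔ zpowers g) ?_
        rw [← eq_of_le_of_card_ge (le_sup_left : M ≤ M ⊔ zpowers g) (Nat.le_of_eq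
          (Nat.eq_of_mul_eq_mul_right (Nat.pos_of_ne_zero index_ne_zero_of_finite)
            (show Nat.card ↥(M ⊔ zpowers g) * (M ⊔ zpowers g).index =
              Nat.card M * (M ⊔ zpowers g).index by rw [card_mul_index, h, ← hMi, card_mul_index])))]
        exact hg
    obtain ⟨s, hs⟩ := hMa ▸ hgp
    by_contra hnc
    -- `g ^ p` does not generate `M`
    have hzg : zpowers g ≠ ⊤ := fun e => hnc (isCyclic_iff_exists_zpowers_eq_top.2 ⟨g, e⟩)
    have hps : (p : ℤ) ∣ s := by
      by_contra hns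
      obtain ⟨j, hj⟩ := hG a
      have hco : IsCoprime s ((p : ℤ) ^ j) :=
        ((Nat.prime_iff_prime_int.1 hpp).coprime_iff_not_dvd.2 hns).symm.pow_right
      obtain ⟨u, v, huv⟩ := hco
      refine hzg (top_le_iff.1 (htop.ge.trans (sup_le ?_ le_rfl)))
      rw [hMa, zpowers_le]
      refine ⟨(p : ℤ) * u, ?_⟩
      show g ^ ((p : ℤ) * u) = a
      rw [zpow_mul, zpow_natCast, ← hs]
      show (a ^ s) ^ u = a
      have hpj : a ^ ((p : ℤ) ^ j) = 1 := by rw [← Nat.cast_pow, zpow_natCast, hj]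
      calc (a ^ s) ^ u = a ^ (u * s + v * (p : ℤ) ^ j) := by
            rw [zpow_add, mul_comm v, zpow_mul a _ v, hpj, one_zpow, mul_one, ← zpow_mul, mul_comm s]
        _ = a := by rw [huv, zpow_one]
    obtain ⟨t, rfl⟩ := hps
    -- `g` commutes with `a ^ p`
    set K := zpowers (a ^ p) ⊔ zpowers g with hKdef
    have hgpP : g ^ p ∈ zpowers (a ^ p) := ⟨t, by
      show (a ^ p) ^ t = _
      rw [← zpow_natCast, ← zpow_mul]; exact hs⟩
    haveI : (zpowers (a ^ p)).Normal := by
      refine ⟨fun x hx y => ?_⟩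
      obtain ⟨m, rfl⟩ := hx
      obtain ⟨i, hi⟩ : y * a * y⁻¹ ∈ zpowers a := hMa ▸ hMn.conj_mem a haM y
      refine ⟨i * m, ?_⟩
      show (a ^ p) ^ (i * m) = y * (a ^ p) ^ m * y⁻¹
      have h1 : y * a ^ p * y⁻¹ = (a ^ p) ^ i := by
        rw [← conj_pow, ← hi]
        show (a ^ i) ^ p = _
        rw [← zpow_natCast, ← zpow_natCast, ← zpow_mul, ← zpow_mul, mul_comm]
      rw [← conj_zpow, h1, zpow_mul]
    have hKtop : K ≠ ⊤ := by
      intro e
      have hd : M ≤ zpowers (a ^ p) := by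
        intro m hm
        have hm' : m ∈ ((zpowers (a ^ p) ⊔ zpowers g : Subgroup G) : Set G) := by
          rw [← hKdef, e]; trivial
        rw [normal_mul] at hm'
        obtain ⟨x, hx, _, ⟨i, rfl⟩, rfl⟩ := hm'
        refine mul_mem hx ?_
        have hgi : g ^ i ∈ M := by
          have h2 := mul_mem (inv_mem ((zpowers_le.2 (pow_mem haM p)) hx)) hm
          rwa [inv_mul_cancel_left] at h2
        obtain ⟨i', rfl⟩ : (p : ℤ) ∣ i := by
          by_contra hni
          obtain ⟨u, v, huv⟩ := (Nat.prime_iff_prime_int.1 hpp).coprime_iff_not_dvd.2 hni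
          apply hg
          rw [← zpow_one g, ← huv, zpow_add, mul_comm u, zpow_mul, zpow_natCast, zpow_mul']
          exact mul_mem (zpow_mem hgp _) (zpow_mem hgi _)
        show g ^ ((p : ℤ) * i') ∈ _
        rw [zpow_mul, zpow_natCast]
        exact zpow_mem hgpP _
      obtain ⟨i, hi⟩ := hd haM
      have hai : a ^ ((p : ℤ) * i - 1) = 1 := by
        have hi' : (a ^ p) ^ i = a := hi
        rw [zpow_sub, zpow_mul, zpow_natCast, hi', zpow_one, mul_inv_cancel]
      have ha1 : a ≠ 1 := fun e1 => hzg (top_le_iff.1 (htop.ge.trans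
        (sup_le (by rw [hMa, e1, zpowers_one_eq_bot]; exact bot_le) le_rfl)))
      obtain ⟨j, hj⟩ := hG a
      obtain ⟨j', -, hj'⟩ := (Nat.dvd_prime_pow hpp).1 (orderOf_dvd_of_pow_eq_one hj)
      have hj0 : j' ≠ 0 := fun e0 => ha1 (orderOf_eq_one_iff.1 (by rw [hj', e0, pow_zero]))
      have h1 : (p : ℤ) ∣ (p : ℤ) * i - 1 := by
        have := orderOf_dvd_iff_zpow_eq_one.2 hai
        rw [hj'] at this
        exact (Int.natCast_dvd_natCast.2 (dvd_pow_self p hj0)).trans this
      have h2 : (p : ℤ) ∣ 1 := by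
        have := (dvd_mul_right (p : ℤ) i).sub h1
        simpa using this
      exact hpp.ne_one (Nat.dvd_one.1 (Int.natCast_dvd_natCast.1 h2))
    haveI := hlt K hKtop
    have hgap : Commute g (a ^ p) :=
      congrArg Subtype.val (IsCyclic.commGroup.mul_comm (⟨g, mem_sup_right (mem_zpowers g)⟩ : K)
        ⟨a ^ p, mem_sup_left (mem_zpowers _)⟩)
    -- the commutator is central of order dividing `p`
    set b := a ^ (-t) with hb
    have hbM : b ∈ M := zpow_mem haM _
    set c := (g * b)⁻¹ * (b * g) with hcdef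
    have hcM : c ∈ M := by
      rw [hcdef, show (g * b)⁻¹ * (b * g) = b⁻¹ * (g⁻¹ * b * g) by group]
      exact mul_mem (inv_mem hbM) (by simpa using hMn.conj_mem b hbM g⁻¹)
    have hMcomm : ∀ x ∈ M, ∀ y ∈ M, Commute x y := fun x hx y hy =>
      congrArg Subtype.val (IsCyclic.commGroup.mul_comm (⟨x, hx⟩ : M) ⟨y, hy⟩)
    have hgbp : g * b ^ p * g⁻¹ = b ^ p := by
      rw [mul_inv_eq_iff_eq_mul]
      have : Commute g ((a ^ p) ^ (-t)) := hgap.zpow_right _
      rwa [show (a ^ p) ^ (-t) = b ^ p by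
        rw [hb, ← zpow_natCast, ← zpow_natCast (a ^ (-t)), ← zpow_mul, ← zpow_mul, mul_comm]] at this
    have hcp : c ^ p = 1 := by
      rw [hcdef, show (g * b)⁻¹ * (b * g) = b⁻¹ * (g⁻¹ * b * g) by group]
      rw [(hMcomm _ (inv_mem hbM) _ (by simpa using hMn.conj_mem b hbM g⁻¹)).mul_pow]
      rw [show g⁻¹ * b * g = g⁻¹ * b * g⁻¹⁻¹ by rw [inv_inv], conj_pow]
      conv_lhs => enter [2, 1, 2]; rw [← hgbp]
      rw [inv_pow]; group
    have hccen : ∀ x : G, Commute c x := by
      have h1 : c ∈ zpowers (a ^ p) := by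
        by_cases hc1 : c = 1
        · rw [hc1]; exact one_mem _
        by_cases hap : a ^ p = 1
        · exfalso
          -- then `M` has order dividing `p`, and `g` centralizes it
          apply hc1
          have hbp : b ^ p = 1 := by
            rw [hb, ← zpow_natCast, ← zpow_mul, mul_comm, zpow_mul, zpow_natCast, hap, one_zpow]
          have hgp1 : g ^ p = 1 := by
            obtain ⟨i, hi⟩ := hgpP
            rw [← hi]
            show (a ^ p) ^ i = 1
            rw [hap, one_zpow]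
          have hg1 : g ≠ 1 := fun e => hg (e ▸ one_mem M)
          obtain ⟨i, hi⟩ := hu g b hgp1 hbp hg1
          rw [hcdef, ← hi]
          group
        obtain ⟨j, hj⟩ := hG (a ^ p)
        obtain ⟨j', -, hj'⟩ := (Nat.dvd_prime_pow hpp).1 (orderOf_dvd_of_pow_eq_one hj)
        have hj0 : j' ≠ 0 := fun e0 => hap (orderOf_eq_one_iff.1 (by rw [hj', e0, pow_zero]))
        have hlast : (a ^ p) ^ p ^ (j' - 1) ≠ 1 := fun e => by
          have h := orderOf_dvd_of_pow_eq_one e
          rw [hj', Nat.pow_dvd_pow_iff_le_right hpp.one_lt] at h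
          omega
        have hlast' : ((a ^ p) ^ p ^ (j' - 1)) ^ p = 1 := by
          rw [← pow_mul, ← pow_succ, Nat.sub_add_cancel (Nat.pos_of_ne_zero hj0), ← hj',
            pow_orderOf_eq_one]
        exact (zpowers_le.2 (pow_mem (mem_zpowers _) _)) (hu _ c hlast' hcp hlast)
      intro x
      have hx : x ∈ M ⊔ zpowers g := htop ▸ mem_top x
      have hle : M ⊔ zpowers g ≤ centralizer {c} := by
        refine sup_le (fun m hm => mem_centralizer_singleton_iff.2 (hMcomm m hm c hcM).eq)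
          (zpowers_le.2 (mem_centralizer_singleton_iff.2 ?_))
        obtain ⟨i, hi⟩ := h1
        rw [← hi]
        exact (hgap.zpow_right i).eq
      exact (mem_centralizer_singleton_iff.1 (hle hx) : x * c = c * x).symm
    have key := mul_pow_of_central hccen (g := g) (b := b) (c := c) (by rw [hcdef]; group) p
    have hgb1 : (g * b) ^ p = 1 := by
      have hs' : g ^ p = a ^ ((p : ℤ) * t) := hs.symm
      rw [key, hs', hb, show (a ^ (-t)) ^ p = a ^ (-((p : ℤ) * t)) by
        rw [← zpow_natCast, ← zpow_mul]; congr 1; ring]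
      have hdc : p ∣ p.choose 2 :=
        hpp.dvd_choose_self (by omega) (lt_of_le_of_ne hpp.two_le (Ne.symm hp))
      obtain ⟨w, hw⟩ := hdc
      rw [hw, pow_mul, hcp, one_pow, mul_one, zpow_neg, mul_inv_cancel]
    have hgb : g * b ∉ M := fun h => hg (by simpa using mul_mem h (inv_mem hbM))
    have hgb0 : g * b ≠ 1 := fun e => hgb (e ▸ one_mem M)
    -- an element of order `p` in `M`
    have hMnb : Nat.card M ≠ 1 := fun e => hzg (top_le_iff.1 (htop.ge.trans
      (sup_le (by rw [card_eq_one.1 e]; exact bot_le) le_rfl)))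
    obtain ⟨k, hk⟩ := IsPGroup.iff_card.1 (hG.to_subgroup M)
    have hk0 : k ≠ 0 := fun e => hMnb (by rw [hk, e, pow_zero])
    obtain ⟨y, hy⟩ := exists_prime_orderOf_dvd_card' (G := M) p (hk ▸ dvd_pow_self p hk0)
    have hyc : orderOf (y : G) = p := (orderOf_coe y).trans hy
    obtain ⟨i, hi⟩ := hu (y : G) (g * b) (by rw [← hyc, pow_orderOf_eq_one]) hgb1
      (fun e => by rw [e, orderOf_one] at hyc; exact hpp.ne_one hyc.symm)
    exact hgb (hi ▸ zpow_mem y.2 i)

/-- A 2-group with a unique involution is cyclic or generalized quaternion. -/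
theorem cyclic_or_quaternion_of_unique_two [Finite G] (hG : IsPGroup 2 G)
    (hu : UniqueOrderP 2 G) : IsCyclic G ∨ ∃ n : ℕ, Nonempty (G ≃* QuaternionGroup (2 ^ n)) := by
  classical
  haveI := hG.isNilpotent
  obtain ⟨A, ⟨hAn, hAc⟩, hAmax⟩ := exists_maximal_of_wellFoundedGT
    (fun A : Subgroup G => A.Normal ∧ IsMulCommutative A)
    ⟨⊥, inferInstance, ⟨⟨fun a b => Subsingleton.elim _ _⟩⟩⟩
  haveI := hAn
  haveI := hAc
  have hCA : ∀ g : G, (∀ x ∈ A, Commute g x) → g ∈ A := by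
    set C := centralizer (A : Set G)
    have hAC : A ≤ C := fun x hx => mem_centralizer_iff.2 fun y hy =>
      congrArg Subtype.val (mul_comm' (⟨y, hy⟩ : A) ⟨x, hx⟩)
    suffices hCle : C ≤ A from fun g hg => hCle (mem_centralizer_iff.2 fun x hx => (hg x hx).eq.symm)
    by_contra hnot
    set π := QuotientGroup.mk' A
    haveI : (C.map π).Normal := Normal.map inferInstance π (QuotientGroup.mk'_surjective A)
    haveI : Group.IsNilpotent (G ⧸ A) :=
      Group.nilpotent_of_surjective π (QuotientGroup.mk'_surjective A)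
    have hne : C.map π ≠ ⊥ := fun e => hnot (by
      rwa [Subgroup.map_eq_bot_iff, QuotientGroup.ker_mk'] at e)
    obtain ⟨z, hz, hz1⟩ : ∃ z ∈ C.map π ⊓ center (G ⧸ A), z ≠ 1 := by
      by_contra! h
      exact nilpotent_inf_center_ne_bot (C.map π) hne ((eq_bot_iff_forall _).2 h)
    obtain ⟨c, hc, rfl⟩ := hz.1
    haveI : (zpowers (π c)).Normal := ⟨fun y hy g => by
      have hyc : y ∈ center (G ⧸ A) := (zpowers_le.2 hz.2) hy
      rwa [mem_center_iff.1 hyc g, mul_inv_cancel_right]⟩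
    set M := (zpowers (π c)).comap π with hM
    have hAM : A ≤ M := fun x hx => by
      rw [hM, mem_comap, show π x = 1 from (QuotientGroup.eq_one_iff x).2 hx]
      exact one_mem _
    have hMel : ∀ x ∈ M, ∃ (n : G) (j : ℤ), n ∈ A ∧ x = c ^ j * n := by
      rintro x ⟨j, hj⟩
      exact ⟨(c ^ j)⁻¹ * x, j, QuotientGroup.eq.1 ((QuotientGroup.mk_zpow A c j).trans hj),
        (mul_inv_cancel_left _ _).symm⟩
    have hMc : IsMulCommutative M := by
      refine ⟨⟨fun a b => Subtype.ext ?_⟩⟩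
      obtain ⟨n, j, hn, ha⟩ := hMel a a.2
      obtain ⟨m, i, hm, hb⟩ := hMel b b.2
      show (a : G) * b = b * a
      rw [ha, hb]
      have hcn : ∀ k ∈ A, ∀ e : ℤ, Commute (c ^ e) k := fun k hk e =>
        ((show Commute k c from mem_centralizer_iff.1 hc k hk).zpow_right e).symm
      have hnm : Commute n m := congrArg Subtype.val (mul_comm' (⟨n, hn⟩ : A) ⟨m, hm⟩)
      exact (Commute.mul_left
        (Commute.mul_right ((Commute.refl c).zpow_zpow j i) (hcn m hm j))
        (Commute.mul_right (hcn n hn i).symm hnm)).eq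
    exact hz1 ((QuotientGroup.eq_one_iff c).2
      (hAmax ⟨inferInstance, hMc⟩ hAM (mem_comap.2 (mem_zpowers (π c)))))
  haveI : IsCyclic A := isCyclic_of_comm_of_unique (hG.to_subgroup A) (hu.subgroup A)
  obtain ⟨⟨a, haA⟩, ha⟩ := IsCyclic.exists_generator (α := A)
  have hAa : A = zpowers a := le_antisymm (fun x hx => by
    obtain ⟨m, hm⟩ := ha ⟨x, hx⟩
    exact ⟨m, congrArg Subtype.val hm⟩) (zpowers_le.2 haA)
  obtain ⟨n₀, hn₀⟩ := hG a
  obtain ⟨n, -, hn⟩ := (Nat.dvd_prime_pow Nat.prime_two).1 (orderOf_dvd_of_pow_eq_one hn₀)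
  by_cases hAtop : A = ⊤
  · left
    exact isCyclic_iff_exists_zpowers_eq_top.2 ⟨a, hAa.symm.trans hAtop⟩
  right
  have hcentral : ∀ g : G, g * a * g⁻¹ = a → g ∈ A := fun g hg => hCA g fun x hx => by
    obtain ⟨m, rfl⟩ := (hAa ▸ hx : x ∈ zpowers a)
    exact (show Commute g a from mul_inv_eq_iff_eq_mul.1 hg).zpow_right m
  -- how an element of `G` acts on `a`
  have hact : ∀ g : G, ∃ r : ℤ, g * a * g⁻¹ = a ^ r := fun g => by
    obtain ⟨r, hr⟩ := (hAa ▸ hAn.conj_mem a haA g : g * a * g⁻¹ ∈ zpowers a)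
    exact ⟨r, hr.symm⟩
  have hzp : ∀ i j : ℤ, a ^ i = a ^ j ↔ (2 ^ n : ℤ) ∣ i - j := by
    intro i j
    rw [← mul_inv_eq_one, ← zpow_sub, ← orderOf_dvd_iff_zpow_eq_one, hn]
    push_cast
    rfl
  have hconj2 : ∀ (g : G) (r : ℤ), g * a * g⁻¹ = a ^ r →
      g ^ 2 * a * (g ^ 2)⁻¹ = a ^ (r * r) := fun g r hr => by
    rw [show g ^ 2 * a * (g ^ 2)⁻¹ = g * (g * a * g⁻¹) * g⁻¹ by rw [sq]; group, hr, ← conj_zpow,
      hr, ← zpow_mul]
  -- an involution of the quotient inverts `a`, and squares to the involution of `A`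
  have hinv : ∀ g : G, g ∉ A → g ^ 2 ∈ A →
      g * a * g⁻¹ = a⁻¹ ∧ 2 ≤ n ∧ g ^ 2 = a ^ (2 ^ (n - 1) : ℤ) := by
    intro g hg hg2
    obtain ⟨r, hr⟩ := hact g
    have hg2a : g ^ 2 * a * (g ^ 2)⁻¹ = a := by
      obtain ⟨m, hm⟩ := (hAa ▸ hg2 : g ^ 2 ∈ zpowers a)
      rw [← hm]
      show a ^ m * a * (a ^ m)⁻¹ = a
      group
    have hrr : (2 ^ n : ℤ) ∣ r * r - 1 := (hzp _ _).1 (by rw [zpow_one, ← hconj2 g r hr, hg2a])
    have hr1 : ¬ (2 ^ n : ℤ) ∣ r - 1 := fun h => hg (hcentral g (by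
      rw [hr, (hzp r 1).2 h, zpow_one]))
    have hn2 : 2 ≤ n := by
      by_contra h
      apply hr1
      interval_cases n
      · simp
      · have : (2 : ℤ) ∣ r * r - 1 := by simpa using hrr
        rcases Int.emod_two_eq_zero_or_one r with h0 | h0
        · exfalso
          obtain ⟨k, rfl⟩ := Int.dvd_of_emod_eq_zero h0
          obtain ⟨v, hv⟩ := this
          rw [show 2 * k * (2 * k) = 2 * (2 * k * k) by ring] at hv
          omega
        · simpa using (by omega : (2 : ℤ) ∣ r - 1)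
    obtain ⟨N, rfl⟩ : ∃ N, n = N + 2 := ⟨n - 2, by omega⟩
    set Q : ℤ := 2 ^ N with hQ
    have h4 : (2 ^ (N + 2) : ℤ) = 4 * Q := by rw [hQ, pow_add]; ring
    have h2' : (2 ^ (N + 2 - 1) : ℤ) = 2 * Q := by
      rw [hQ, show N + 2 - 1 = N + 1 from rfl, pow_succ]; ring
    rw [h4] at hrr hr1
    simp only [h4] at hzp
    -- `r ≡ ± 1` modulo `2 Q`
    have hodd : Odd r := by
      rcases Int.even_or_odd r with ⟨k, hk⟩ | h
      · exfalso
        have h1 : (2 : ℤ) ∣ r * r - 1 := Dvd.dvd.trans ⟨2 * Q, by ring⟩ hrr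
        rw [hk, show (k + k) * (k + k) - 1 = 2 * (2 * k * k) - 1 by ring] at h1
        omega
      · exact h
    obtain ⟨s, rfl⟩ := hodd
    have hss : Q ∣ s * (s + 1) := by
      rw [show (2 * s + 1) * (2 * s + 1) - 1 = 4 * (s * (s + 1)) by ring] at hrr
      exact (mul_dvd_mul_iff_left four_ne_zero).1 hrr
    have hsplit : (N ≠ 0 ∧ Q ∣ s) ∨ Q ∣ s + 1 := by
      by_cases hN0 : N = 0
      · exact Or.inr ⟨s + 1, by rw [hQ, hN0, pow_zero, one_mul]⟩
      rcases Int.even_or_odd s with ⟨k, hk⟩ | ⟨k, hk⟩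
      · refine Or.inl ⟨hN0, ?_⟩
        have hco : IsCoprime Q (s + 1) := by
          rw [hQ]; exact (IsCoprime.pow_left ⟨-k, 1, by rw [hk]; ring⟩)
        exact hco.dvd_of_dvd_mul_right hss
      · right
        have hco : IsCoprime Q s := by
          rw [hQ]; exact (IsCoprime.pow_left ⟨-k, 1, by rw [hk]; ring⟩)
        exact hco.dvd_of_dvd_mul_left hss
    have hrel : ∀ j : ℤ, (g * a ^ j) ^ 2 = g ^ 2 * a ^ ((2 * s + 1) * j + j) := by
      intro j
      obtain ⟨m, hm⟩ := (hAa ▸ hg2 : g ^ 2 ∈ zpowers a)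
      have hm' : a ^ m = g ^ 2 := hm
      calc (g * a ^ j) ^ 2 = (g * a ^ j * g⁻¹) * g ^ 2 * a ^ j := by rw [sq, sq]; group
        _ = a ^ ((2 * s + 1) * j) * a ^ m * a ^ j := by rw [← conj_zpow, hr, ← zpow_mul, hm']
        _ = a ^ m * a ^ ((2 * s + 1) * j + j) := by
            rw [← zpow_add, ← zpow_add, ← zpow_add]; congr 1; ring
        _ = _ := by rw [hm']
    have hno : ∀ j : ℤ, (g * a ^ j) ^ 2 ≠ 1 := by
      intro j h1
      have hgj : g * a ^ j ∉ A := fun h =>
        hg (by simpa using mul_mem h (inv_mem (zpow_mem haA j)))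
      have hne : g * a ^ j ≠ 1 := fun e => hgj (e ▸ one_mem A)
      have hz : (a ^ (2 * Q)) ^ 2 = 1 := by
        rw [← zpow_natCast, ← zpow_mul, ← zpow_zero a, hzp]
        exact ⟨1, by push_cast; ring⟩
      have hz1 : a ^ (2 * Q) ≠ 1 := by
        rw [← zpow_zero a, Ne, hzp]
        rintro ⟨w, hw⟩
        have hQ0 : Q ≠ 0 := pow_ne_zero _ two_ne_zero
        have : (1 : ℤ) = 2 * w := mul_left_cancel₀ (mul_ne_zero two_ne_zero hQ0) (by linarith)
        omega
      exact hgj (zpowers_le.2 (zpow_mem haA _) (hu _ _ hz h1 hz1))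
    obtain ⟨m, hm⟩ := (hAa ▸ hg2 : g ^ 2 ∈ zpowers a)
    have hm' : a ^ m = g ^ 2 := hm
    have hfix : (4 * Q) ∣ 2 * s * m := by
      have h1 : g * a ^ m * g⁻¹ = a ^ m := by rw [hm', sq]; group
      rw [← conj_zpow, hr, ← zpow_mul, hzp] at h1
      rwa [show 2 * s * m = (2 * s + 1) * m - m by ring]
    have hQ0 : Q ≠ 0 := pow_ne_zero _ two_ne_zero
    rcases hsplit with ⟨hN0, hd⟩ | hd
    · -- `r ≡ 1 + 2 Q`: some element outside `A` squares to `1`
      exfalso
      obtain ⟨w, rfl⟩ := hd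
      have hw : ¬ (2 : ℤ) ∣ w := fun ⟨w', hw'⟩ => hr1 ⟨w', by rw [hw']; ring⟩
      have hmw : (2 : ℤ) ∣ w * m := by
        obtain ⟨v, hv⟩ := hfix
        exact ⟨v, mul_left_cancel₀ hQ0 (by linarith)⟩
      obtain ⟨m', rfl⟩ : (2 : ℤ) ∣ m := ((Int.prime_two).dvd_mul.1 hmw).resolve_left hw
      -- solve `(2 Q w + 2) j ≡ -2 m'`
      obtain ⟨u, v, huv⟩ : IsCoprime (Q * w + 1) (2 * Q) := by
        refine IsCoprime.mul_right ?_ ⟨1, -w, by ring⟩
        obtain ⟨N', rfl⟩ := Nat.exists_eq_succ_of_ne_zero hN0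
        exact ⟨1, -(2 ^ N' * w), by rw [hQ, pow_succ]; ring⟩
      refine hno (-u * m') ?_
      rw [hrel, ← hm', ← zpow_add, ← zpow_zero a, hzp]
      refine ⟨v * m', ?_⟩
      linear_combination (-2 * m') * huv
    · obtain ⟨w, hw⟩ := hd
      rcases Int.even_or_odd w with ⟨k, hk⟩ | ⟨k, hk⟩
      · -- `r ≡ -1`
        have hra : a ^ (2 * s + 1) = a⁻¹ := by
          rw [← zpow_neg_one, hzp]
          exact ⟨k, by linear_combination 2 * hw + 2 * Q * hk⟩
        refine ⟨hr.trans hra, by omega, ?_⟩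
        obtain ⟨m', rfl⟩ : (2 * Q) ∣ m := by
          obtain ⟨v, hv⟩ := hfix
          refine ⟨k * m - v, mul_left_cancel₀ (two_ne_zero (α := ℤ)) ?_⟩
          linear_combination (2 * m) * hw + (2 * Q * m) * hk - hv
        rcases Int.even_or_odd m' with ⟨l, hl⟩ | ⟨l, hl⟩
        · exfalso
          refine hno 0 ?_
          rw [hrel, ← hm', ← zpow_add, ← zpow_zero a, hzp]
          exact ⟨l, by rw [hl]; ring⟩
        · rw [← hm', h2', hzp]
          exact ⟨l, by rw [hl]; ring⟩
      · -- `r ≡ -1 + 2 Q`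
        exfalso
        have hfix2 : (4 * Q) ∣ 2 * Q * m * (2 * k + 1) - 2 * m := by
          refine (show 2 * Q * m * (2 * k + 1) - 2 * m = 2 * s * m by
            linear_combination (-2 * m) * hw - 2 * Q * m * hk) ▸ hfix
        by_cases hN0 : N = 0
        · -- then `r ≡ 1`, excluded
          apply hr1
          have hQ1 : Q = 1 := by rw [hQ, hN0, pow_zero]
          exact ⟨k, by linear_combination 2 * hw + 2 * Q * hk + (2 * hQ1)⟩
        obtain ⟨m', rfl⟩ : (2 * Q) ∣ m := by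
          obtain ⟨v, hv⟩ := hfix2
          have hco : IsCoprime (2 * Q) (Q * (2 * k + 1) - 1) := by
            refine IsCoprime.mul_left ?_ ⟨2 * k + 1, -1, by ring⟩
            obtain ⟨N', rfl⟩ := Nat.exists_eq_succ_of_ne_zero hN0
            exact ⟨2 ^ N' * (2 * k + 1), -1, by rw [hQ, pow_succ]; ring⟩
          refine hco.dvd_of_dvd_mul_right (y := m) ⟨v, ?_⟩
          refine mul_left_cancel₀ (two_ne_zero (α := ℤ)) ?_
          linear_combination hv
        rcases Int.even_or_odd m' with ⟨l, hl⟩ | ⟨l, hl⟩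
        · refine hno 0 ?_
          rw [hrel, ← hm', ← zpow_add, ← zpow_zero a, hzp]
          exact ⟨l, by rw [hl]; ring⟩
        · refine hno 1 ?_
          rw [hrel, ← hm', ← zpow_add, ← zpow_zero a, hzp]
          exact ⟨l + k + 1, by rw [hl]; linear_combination 2 * hw + 2 * Q * hk⟩
  -- elements outside `A` square into `A`
  have hsq : ∀ g : G, g ^ 2 ∈ A := by
    intro g
    obtain ⟨k, hk⟩ := hG g
    have key : ∀ j : ℕ, ∀ x : G, x ^ 2 ^ j ∈ A → x ^ 2 ∈ A := by
      intro j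
      induction j with
      | zero => intro x hx; rw [pow_zero, pow_one] at hx; exact pow_mem hx 2
      | succ j ih =>
        intro x hx
        have h4 : (x ^ 2) ^ 2 ∈ A := ih (x ^ 2) (by rwa [← pow_mul, ← pow_succ'])
        by_contra hxA
        obtain ⟨r, hr⟩ := hact x
        obtain ⟨hi, hn2, -⟩ := hinv (x ^ 2) hxA h4
        rw [hconj2 x r hr, ← zpow_neg_one, hzp] at hi
        have h4' : (4 : ℤ) ∣ r * r - -1 := by
          refine Dvd.dvd.trans ?_ hi
          exact ⟨2 ^ (n - 2), by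
            rw [show (4 : ℤ) = 2 ^ 2 by norm_num, ← pow_add, Nat.add_sub_cancel' hn2]⟩
        rcases Int.even_or_odd r with ⟨w, hw⟩ | ⟨w, hw⟩ <;>
        · rw [hw] at h4'
          obtain ⟨v, hv⟩ := h4'
          ring_nf at hv
          omega
    exact key k g (by rw [hk]; exact one_mem A)
  obtain ⟨g, -, hg⟩ := SetLike.exists_of_lt (lt_top_iff_ne_top.2 hAtop)
  obtain ⟨hga, hn2, hg2⟩ := hinv g hg (hsq g)
  have hcover : ∀ x : G, x ∈ A ∨ g⁻¹ * x ∈ A := by
    intro x
    by_cases hx : x ∈ A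
    · exact Or.inl hx
    · refine Or.inr (hcentral _ ?_)
      obtain ⟨hxa, -, -⟩ := hinv x hx (hsq x)
      rw [show g⁻¹ * x * a * (g⁻¹ * x)⁻¹ = g⁻¹ * (x * a * x⁻¹) * g by group, hxa, ← hga]
      group
  refine ⟨n - 1, ⟨?_⟩⟩
  set m := 2 ^ (n - 1) with hm
  have hm2 : 2 * m = 2 ^ n := by rw [hm, ← pow_succ', Nat.sub_add_cancel (by omega)]
  have hoa : orderOf a = 2 * m := by rw [hm2, hn]
  have hpow : ∀ i j : ℤ, ((i : ZMod (2 * m)) = j) → a ^ i = a ^ j := by
    intro i j h
    rw [hzp]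
    have := (ZMod.intCast_eq_intCast_iff_dvd_sub j i (2 * m)).1 h.symm
    rw [hm2] at this
    exact_mod_cast this
  haveI : NeZero (2 * m) := ⟨by rw [hm2]; positivity⟩
  have hgai : ∀ i : ℤ, a ^ i * g = g * a ^ (-i) := by
    intro i
    have : g * a ^ (-i) * g⁻¹ = a ^ i := by
      rw [← conj_zpow, hga, ← zpow_neg_one, ← zpow_mul]; congr 1; ring
    rw [← this]; group
  let f : QuaternionGroup m → G := fun q => match q with
    | .a i => a ^ (i.val : ℤ)
    | .xa i => g * a ^ (i.val : ℤ)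
  have hfm : ∀ x y, f (x * y) = f x * f y := by
    rintro (i | i) (j | j)
    · rw [QuaternionGroup.a_mul_a]
      show a ^ ((i + j).val : ℤ) = a ^ (i.val : ℤ) * a ^ (j.val : ℤ)
      rw [← zpow_add]
      exact hpow _ _ (by simp)
    · rw [QuaternionGroup.a_mul_xa]
      show g * a ^ ((j - i).val : ℤ) = a ^ (i.val : ℤ) * (g * a ^ (j.val : ℤ))
      rw [← mul_assoc, hgai, mul_assoc, ← zpow_add]
      exact congrArg (g * ·) (hpow _ _ (by simp; ring))
    · rw [QuaternionGroup.xa_mul_a]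
      show g * a ^ ((i + j).val : ℤ) = g * a ^ (i.val : ℤ) * a ^ (j.val : ℤ)
      rw [mul_assoc, ← zpow_add]
      exact congrArg (g * ·) (hpow _ _ (by simp))
    · rw [QuaternionGroup.xa_mul_xa]
      show a ^ (((m : ZMod (2 * m)) + j - i).val : ℤ) = g * a ^ (i.val : ℤ) * (g * a ^ (j.val : ℤ))
      rw [show g * a ^ (i.val : ℤ) * (g * a ^ (j.val : ℤ)) =
        g * (a ^ (i.val : ℤ) * g) * a ^ (j.val : ℤ) by group, hgai,
        show g * (g * a ^ (-(i.val : ℤ))) * a ^ (j.val : ℤ) =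
          g ^ 2 * (a ^ (-(i.val : ℤ)) * a ^ (j.val : ℤ)) by rw [sq]; group, hg2, ← zpow_add, ← zpow_add]
      refine hpow _ _ ?_
      simp [hm]
      ring
  let φ : QuaternionGroup m →* G := MonoidHom.mk' f hfm
  refine (MulEquiv.ofBijective φ ⟨?_, ?_⟩).symm
  · rw [injective_iff_map_eq_one]
    rintro (i | i) hi
    · have hi' : a ^ (i.val : ℤ) = 1 := hi
      rw [zpow_natCast] at hi'
      have := orderOf_dvd_of_pow_eq_one hi'
      rw [hoa] at this
      have h0 : i.val = 0 := Nat.eq_zero_of_dvd_of_lt this (ZMod.val_lt i)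
      rw [(ZMod.val_eq_zero i).1 h0]
      rfl
    · exfalso
      have hi' : g * a ^ (i.val : ℤ) = 1 := hi
      exact hg (by rw [mul_eq_one_iff_eq_inv] at hi'; rw [hi']; exact inv_mem (zpow_mem haA _))
  · intro x
    rcases hcover x with hx | hx
    · obtain ⟨i, hi⟩ := (hAa ▸ hx : x ∈ zpowers a)
      exact ⟨.a (i : ZMod (2 * m)), (hpow _ i (by simp)).trans hi⟩
    · obtain ⟨i, hi⟩ := (hAa ▸ hx : g⁻¹ * x ∈ zpowers a)
      refine ⟨.xa (i : ZMod (2 * m)), ?_⟩
      show g * a ^ (((i : ZMod (2 * m))).val : ℤ) = x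
      rw [hpow _ i (by simp), show a ^ i = g⁻¹ * x from hi, mul_inv_cancel_left]

theorem cyclic_or_quaternion_of_unique [Finite G] {p : ℕ} [Fact p.Prime] (hG : IsPGroup p G)
    (hu : UniqueOrderP p G) :
    IsCyclic G ∨ (p = 2 ∧ ∃ n : ℕ, Nonempty (G ≃* QuaternionGroup (2 ^ n))) := by
  by_cases hp : p = 2
  · subst hp
    exact (cyclic_or_quaternion_of_unique_two hG hu).imp id fun h => ⟨rfl, h⟩
  · exact Or.inl (isCyclic_of_unique_odd hp hG hu)

theorem uniqueOrderP_of_unique_subgroup [Finite G] {p : ℕ} [Fact p.Prime]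
    (h : ∀ H K : Subgroup G, Nat.card H = p → Nat.card K = p → H = K) : UniqueOrderP p G := by
  intro x y hx hy hx1
  by_cases hy1 : y = 1
  · rw [hy1]; exact one_mem _
  rw [h (zpowers x) (zpowers y) (by rw [Nat.card_zpowers, orderOf_eq_prime hx hx1])
    (by rw [Nat.card_zpowers, orderOf_eq_prime hy hy1])]
  exact mem_zpowers y

end CfsgLib.Coprime
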