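import Cfsg.Agent.Lib.Coprime.SchurZassenhaus
import Cfsg.Agent.Lib.Char.Induction
import Cfsg.Agent.Lib.Char.Virtual
import Cfsg.Agent.Lib.Char.Integrality
import Cfsg.Agent.Lib.PGroup.FixedPointFree

/-!
# Frobenius complements: kernel theorem, nilpotency, conjugacy
-/

set_option autoImplicit false
set_option linter.style.haveILetI false
set_option linter.unusedSectionVars false

namespace CfsgLib.Coprime

open Subgroup
open scoped ComplexConjugate
open Cfsg (indFun classInner)

universe u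

variable {G : Type u} [Group G] {H : Subgroup G}

theorem frob_eq_one (hH : Cfsg.IsFrobeniusComplement H) {g x : G} (hg : g ∉ H) (hx : x ∈ H)
    (hgx : g⁻¹ * x * g ∈ H) : x = 1 := by
  rw [← mem_bot, ← hH.2.2 g hg]
  refine ⟨hx, ?_⟩
  rw [← conjBy_eq_smul]
  exact mem_conjBy.2 hgx

theorem frob_mem_kernel_iff {x : G} :
    x ∈ Cfsg.frobeniusKernel H ↔ x = 1 ∨ ∀ g : G, g⁻¹ * x * g ∉ H := by
  refine or_congr Iff.rfl (forall_congr' fun g => ?_)
  rw [← conjBy_eq_smul, mem_conjBy]

/-- An element centralizing a non-identity element of a Frobenius complement lies in it. -/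
theorem frob_mem_of_commute (hH : Cfsg.IsFrobeniusComplement H) {x g : G} (hx : x ∈ H)
    (hx1 : x ≠ 1) (hc : Commute x g) : g ∈ H := by
  by_contra hg
  exact hx1 (frob_eq_one hH hg hx (by rw [mul_assoc, hc.eq, inv_mul_cancel_left]; exact hx))

theorem frob_kernel_inter {x : G} (hx : x ∈ Cfsg.frobeniusKernel H) (hxH : x ∈ H) : x = 1 :=
  (frob_mem_kernel_iff.1 hx).resolve_right fun h => h 1 (by simpa using hxH)

/-- The non-identity elements outside the kernel are parametrised by cosets and `H \ {1}`. -/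
noncomputable def frobEquiv (hH : Cfsg.IsFrobeniusComplement H) :
    (G ⧸ H) × {h : H // h ≠ 1} ≃ ↥(Cfsg.frobeniusKernel H)ᶜ := by
  refine Equiv.ofBijective (fun qh => ⟨qh.1.out * ((qh.2.1 : H) : G) * qh.1.out⁻¹, ?_⟩) ⟨?_, ?_⟩
  · rw [Set.mem_compl_iff, frob_mem_kernel_iff, not_or, not_forall]
    refine ⟨fun e => qh.2.2 (Subtype.ext ?_), ⟨qh.1.out, not_not.2 ?_⟩⟩
    · exact conj_eq_one_iff.1 e
    · simp [mul_assoc]
  · rintro ⟨q, ⟨h, hh⟩⟩ ⟨q', ⟨h', hh'⟩⟩ e
    have e' : q.out * (h : G) * q.out⁻¹ = q'.out * (h' : G) * q'.out⁻¹ := congrArg Subtype.val e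
    have hq : q = q' := by
      have hmem : q.out⁻¹ * q'.out ∈ H := by
        by_contra hn
        refine hh (Subtype.ext (frob_eq_one hH hn h.2 ?_))
        have e2 : (q.out⁻¹ * q'.out)⁻¹ * (h : G) * (q.out⁻¹ * q'.out) =
            q'.out⁻¹ * (q.out * (h : G) * q.out⁻¹) * q'.out := by group
        rw [e2, e']
        simp [mul_assoc]
      rw [← q.out_eq', ← q'.out_eq', QuotientGroup.eq]
      exact hmem
    subst hq
    have : (h : G) = h' := mul_left_cancel (mul_right_cancel e')
    exact Prod.ext rfl (Subtype.ext (Subtype.ext this))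
  · rintro ⟨x, hx⟩
    rw [Set.mem_compl_iff, frob_mem_kernel_iff, not_or, not_forall] at hx
    obtain ⟨hx1, g, hg⟩ := hx
    rw [not_not] at hg
    obtain ⟨k, hk⟩ : ∃ k ∈ H, (g : G ⧸ H).out = g * k :=
      ⟨g⁻¹ * (g : G ⧸ H).out, QuotientGroup.eq.1 (Quotient.out_eq' (g : G ⧸ H)).symm,
        (mul_inv_cancel_left _ _).symm⟩
    refine ⟨((g : G ⧸ H), ⟨⟨k⁻¹ * (g⁻¹ * x * g) * k, ?_⟩, fun e => hx1 ?_⟩), Subtype.ext ?_⟩
    · exact mul_mem (mul_mem (inv_mem hk.1) hg) hk.1
    · have e' : k⁻¹ * (g⁻¹ * x * g) * k = 1 := congrArg Subtype.val e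
      calc x = g * k * (k⁻¹ * (g⁻¹ * x * g) * k) * (g * k)⁻¹ := by group
        _ = 1 := by rw [e', mul_one, mul_inv_cancel]
    · show (g : G ⧸ H).out * (k⁻¹ * (g⁻¹ * x * g) * k) * (g : G ⧸ H).out⁻¹ = x
      rw [hk.2]; group

theorem frob_card_kernel [Finite G] (hH : Cfsg.IsFrobeniusComplement H) :
    Nat.card (Cfsg.frobeniusKernel H) = H.index := by
  classical
  have := Fintype.ofFinite G
  have h1 := Nat.card_congr (frobEquiv hH)
  rw [Nat.card_prod] at h1
  have h2 : Nat.card {h : H // h ≠ 1} + 1 = Nat.card H := by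
    have : Nat.card {h : H // h ≠ 1} = Nat.card H - 1 := by
      simp [Nat.card_eq_fintype_card, Fintype.card_subtype_compl]
    have h0 := Nat.card_pos (α := H)
    omega
  have h3 : Nat.card (Cfsg.frobeniusKernel H) + Nat.card ↥(Cfsg.frobeniusKernel H)ᶜ = Nat.card G := by
    rw [← Nat.card_sum]
    exact Nat.card_congr (Equiv.Set.sumCompl _)
  rw [← h1, ← card_mul_index H, ← h2] at h3
  rw [← Subgroup.index_eq_card] at h3
  nlinarith [h3]

theorem frob_index_mod [Finite G] (hH : Cfsg.IsFrobeniusComplement H) :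
    H.index % Nat.card H = 1 % Nat.card H := by
  classical
  have := Fintype.ofFinite G
  let X := {q : G ⧸ H // q ≠ ((1 : G) : G ⧸ H)}
  letI act : MulAction H X :=
    { smul := fun h q => ⟨(h : G) • q.1, fun e => q.2 (by
        have e' : q.1 = (h : G)⁻¹ • ((1 : G) : G ⧸ H) :=
          (inv_smul_smul (h : G) q.1).symm.trans (congrArg (fun z => (h : G)⁻¹ • z) e)
        rw [e']
        show (((h : G)⁻¹ * 1 : G) : G ⧸ H) = _
        exact QuotientGroup.eq.2 (by simp))⟩
      one_smul := fun q => Subtype.ext (one_smul G q.1)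
      mul_smul := fun h k q => Subtype.ext (mul_smul (h : G) (k : G) q.1) }
  have hfree : ∀ q : X, MulAction.stabilizer H q = ⊥ := by
    rintro ⟨q, hq⟩
    rw [eq_bot_iff]
    intro h hh
    obtain ⟨g, rfl⟩ := QuotientGroup.mk_surjective q
    have hg : g ∉ H := fun hg => hq (QuotientGroup.eq.2 (by simpa using hg))
    have e : (((h : G) * g : G) : G ⧸ H) = (g : G ⧸ H) :=
      congrArg Subtype.val (MulAction.mem_stabilizer_iff.1 hh)
    refine mem_bot.2 (Subtype.ext (frob_eq_one hH hg h.2 ?_))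
    have := inv_mem (QuotientGroup.eq.1 e)
    simpa [mul_assoc] using this
  have h1 := Nat.card_congr (MulAction.selfEquivOrbitsQuotientProd hfree)
  rw [Nat.card_prod] at h1
  have h2 : Nat.card X + 1 = H.index := by
    rw [Subgroup.index_eq_card]
    have : Nat.card X = Nat.card (G ⧸ H) - 1 := by
      simp [X, Nat.card_eq_fintype_card, Fintype.card_subtype_compl]
    have h0 := Nat.card_pos (α := G ⧸ H)
    omega
  rw [← h2, h1, Nat.add_mod, Nat.mul_mod_left, zero_add, Nat.mod_mod]

theorem frob_coprime_card_index [Finite G] (hH : Cfsg.IsFrobeniusComplement H) :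
    (Nat.card H).Coprime H.index := by
  refine Nat.coprime_of_dvd fun q hq hqH hqi => hq.ne_one ?_
  have h := frob_index_mod hH
  have h1 : H.index % q = 1 % q := by
    rw [← Nat.mod_mod_of_dvd H.index hqH, h, Nat.mod_mod_of_dvd 1 hqH]
  rw [Nat.mod_eq_zero_of_dvd hqi, Nat.one_mod_eq_one.2 hq.ne_one] at h1
  exact absurd h1 zero_ne_one

open CfsgLib.Char in
/-- Every character of the complement extends to one constant on the kernel. -/
theorem frob_exists_char [Finite G] (hH : Cfsg.IsFrobeniusComplement H)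
    (θ : Cfsg.IrrCharacter H) :
    ∃ χ : G → ℂ, Cfsg.IsCharacter G χ ∧ (∀ h : H, χ h = (θ : H → ℂ) h) ∧
      ∀ x ∈ Cfsg.frobeniusKernel H, χ x = χ 1 := by
  classical
  have := Fintype.ofFinite G
  have := Fintype.ofFinite H
  let one : Cfsg.IrrCharacter H := ⟨fun _ => 1, isIrrCharacter_one⟩
  by_cases hθ : θ = one
  · exact ⟨fun _ => 1, isCharacter_of_isIrr isIrrCharacter_one, fun h => by rw [hθ],
      fun _ _ => rfl⟩
  obtain ⟨d, hd, hd1⟩ := isIrrCharacter_degree θ.2
  set φ : H → ℂ := (θ : H → ℂ) - (d : ℂ) • (one : H → ℂ) with hφ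
  have hφ1 : φ 1 = 0 := by simp [hφ, hd1, one]
  have hφcl : Cfsg.IsClassFunction H φ := by
    intro g h
    simp [hφ, one, isClassFunction_irr θ g h]
  have hφgen : Cfsg.IsGeneralizedCharacter H φ := by
    refine isGeneralizedCharacter_sub
      (isGeneralizedCharacter_of_isCharacter (isCharacter_irr θ)) ?_
    exact isGeneralizedCharacter_zsmul
      (isGeneralizedCharacter_of_isCharacter (isCharacter_irr one)) (d : ℤ)
  have hres : ∀ h : H, indFun H φ h = φ h := by
    intro h
    by_cases h1 : h = 1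
    · subst h1
      rw [OneMemClass.coe_one, indFun_one, hφ1, mul_zero]
    · have key : ∀ x : G, Cfsg.extendByZero H φ (x⁻¹ * h * x) =
          if x ∈ H then φ h else 0 := by
        intro x
        split_ifs with hx
        · rw [extendByZero_mem H φ (mul_mem (mul_mem (inv_mem hx) h.2) hx)]
          refine Eq.trans (congrArg φ ?_) (hφcl h (⟨x, hx⟩ : H)⁻¹)
          exact Subtype.ext (by simp)
        · exact extendByZero_not_mem H φ fun hm =>
            h1 (Subtype.ext (frob_eq_one hH hx h.2 hm))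
      simp only [Cfsg.indFun, key]
      rw [Finset.sum_ite, Finset.sum_const_zero, add_zero, Finset.sum_const, nsmul_eq_mul,
        ← mul_assoc, ← Fintype.card_subtype, ← Nat.card_eq_fintype_card]
      rw [show Nat.card {x // x ∈ H} = Nat.card H from rfl, inv_mul_cancel₀
        (Nat.cast_ne_zero.2 Nat.card_pos.ne'), one_mul]
  set χ : G → ℂ := indFun H φ + (d : ℂ) • fun _ => 1 with hχ
  have hK : ∀ x ∈ Cfsg.frobeniusKernel H, χ x = χ 1 := by
    intro x hx
    rcases frob_mem_kernel_iff.1 hx with rfl | hx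
    · rfl
    · have h0 : indFun H φ x = 0 := by
        simp only [Cfsg.indFun]
        rw [Finset.sum_eq_zero fun g _ => extendByZero_not_mem H φ (hx g), mul_zero]
      simp [hχ, h0, indFun_one, hφ1]
  have hH' : ∀ h : H, χ h = (θ : H → ℂ) h := fun h => by
    show indFun H φ h + (d : ℂ) * 1 = _
    rw [hres h]
    simp [hφ, one]
  have hi1 : classInner (indFun H φ) (indFun H φ) = 1 + (d : ℂ) ^ 2 := by
    rw [classInner_indFun H φ _ (isClassFunction_indFun H φ)]
    simp only [hres]
    rw [hφ, classInner_sub_left, classInner_sub_right, classInner_sub_right, classInner_smul_left,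
      classInner_smul_right, classInner_smul_right, classInner_smul_left, classInner_irr_self,
      classInner_irr_self, classInner_irr_ne hθ, classInner_irr_ne (Ne.symm hθ), map_natCast]
    ring
  have hi2 : classInner (indFun H φ) (fun _ : G => (1 : ℂ)) = -(d : ℂ) := by
    rw [classInner_indFun H φ _ (isClassFunction_of_isCharacter
      (isCharacter_of_isIrr isIrrCharacter_one))]
    show classInner φ (one : H → ℂ) = _
    rw [hφ, classInner_sub_left, classInner_smul_left, classInner_irr_ne hθ, classInner_irr_self]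
    ring
  let oneG : Cfsg.IrrCharacter G := ⟨fun _ => 1, isIrrCharacter_one⟩
  have hi3 : classInner (fun _ : G => (1 : ℂ)) (indFun H φ) = -(d : ℂ) := by
    rw [← classInner_conj, hi2, map_neg, map_natCast]
  have hnorm : classInner χ χ = 1 := by
    rw [hχ, classInner_add_left, classInner_add_right, classInner_add_right, classInner_smul_left,
      classInner_smul_left, classInner_smul_right, classInner_smul_right, hi1, hi2, hi3,
      show classInner (fun _ : G => (1 : ℂ)) (fun _ => 1) = 1 from classInner_irr_self oneG,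
      map_natCast]
    ring
  have hgen : Cfsg.IsGeneralizedCharacter G χ :=
    isGeneralizedCharacter_add (isGeneralizedCharacter_indFun H hφgen)
      (isGeneralizedCharacter_zsmul
        (isGeneralizedCharacter_of_isCharacter (isCharacter_irr oneG)) (d : ℤ))
  have hirr : Cfsg.IsIrrCharacter G χ := isIrr_of_norm_one hgen hnorm (by
    have : χ 1 = (d : ℂ) := by simp [hχ, indFun_one, hφ1]
    rw [this]; simpa using hd)
  exact ⟨χ, isCharacter_of_isIrr hirr, hH', hK⟩

open CfsgLib.Char in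
/-- Frobenius' theorem. -/
theorem frob_kernel_subgroup [Finite G] (hH : Cfsg.IsFrobeniusComplement H) :
    ∃ N : Subgroup G, (N : Set G) = Cfsg.frobeniusKernel H ∧ N.Normal ∧
      Subgroup.IsComplement' N H := by
  classical
  have := Fintype.ofFinite H
  have hch := frob_exists_char hH
  choose χ hχ hres hK using hch
  choose n ρ hρ using hχ
  have hker : ∀ (θ : Cfsg.IrrCharacter H) (g : G),
      χ θ g = χ θ 1 ↔ g ∈ MonoidHom.ker (ρ θ) := by
    intro θ g
    rw [← hρ θ, Representation.char_one, char_eq_degree_iff]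
    rfl
  set N : Subgroup G := ⨅ θ : Cfsg.IrrCharacter H, MonoidHom.ker (ρ θ) with hN
  haveI : N.Normal := normal_iInf_normal fun θ => inferInstance
  have hNH : ∀ h ∈ H, h ∈ N → h = 1 := by
    intro h hh hn
    have : IsConj (⟨h, hh⟩ : H) 1 := by
      refine isConj_of_irr_agree fun θ => ?_
      have h1 := (hker θ h).2 ((mem_iInf.1 hn) θ)
      rw [show χ θ h = _ from hres θ ⟨h, hh⟩] at h1
      rw [h1]
      exact hres θ 1
    exact congrArg Subtype.val (isConj_one_right.1 this.symm)
  have heq : (N : Set G) = Cfsg.frobeniusKernel H := by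
    ext x
    refine ⟨fun hx => ?_, fun hx => mem_iInf.2 fun θ => (hker θ x).1 (hK θ x hx)⟩
    by_contra hk
    rw [frob_mem_kernel_iff, not_or, not_forall] at hk
    obtain ⟨hx1, g, hg⟩ := hk
    have hgN : g⁻¹ * x * g⁻¹⁻¹ ∈ N := Normal.conj_mem inferInstance x hx g⁻¹
    rw [inv_inv] at hgN
    have := hNH _ (not_not.1 hg) hgN
    exact hx1 (by rw [show x = g * (g⁻¹ * x * g) * g⁻¹ by group, this]; group)
  refine ⟨N, heq, inferInstance, ?_⟩
  have hc : Nat.card N = H.index := by
    rw [← frob_card_kernel hH, ← heq]; rfl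
  refine isComplement'_of_coprime (by rw [hc, mul_comm, card_mul_index]) ?_
  rw [hc]
  exact (frob_coprime_card_index hH).symm

/-- The kernel of a Frobenius group is nilpotent, and complement elements act freely on it. -/
theorem frob_kernel_data [Finite G] (hH : Cfsg.IsFrobeniusComplement H) :
    ∃ N : Subgroup G, (N : Set G) = Cfsg.frobeniusKernel H ∧ N.Normal ∧
      Subgroup.IsComplement' N H ∧ Group.IsNilpotent N := by
  obtain ⟨N, hNK, hN, hc⟩ := frob_kernel_subgroup hH
  refine ⟨N, hNK, hN, hc, ?_⟩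
  haveI := hN
  obtain ⟨r, hr, hrH⟩ := Nat.exists_prime_and_dvd
    (fun h => hH.1 (card_eq_one.1 h) : Nat.card H ≠ 1)
  haveI := Fact.mk hr
  obtain ⟨a, ha⟩ := exists_prime_orderOf_dvd_card' r hrH
  let φ : N ≃* N := MulAut.conjNormal (a : G)
  refine CfsgLib.PGroup.isNilpotent_of_fixedPointFree hr N φ ?_ ?_
  · intro x hx
    have h1 : (a : G) * x * (a : G)⁻¹ = x := congrArg Subtype.val hx
    have h2 : (x : G) ∈ H := frob_mem_of_commute hH a.2
      (fun e => by rw [show a = 1 from Subtype.ext e, orderOf_one] at ha; exact hr.ne_one ha.symm)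
      (mul_inv_eq_iff_eq_mul.1 h1)
    exact Subtype.ext (frob_kernel_inter (hNK ▸ x.2 : (x : G) ∈ Cfsg.frobeniusKernel H) h2)
  · have key : ∀ (j : ℕ) (g : N), (MulAut.conjNormal ((a : G) ^ j) : MulAut N) g = φ^[j] g := by
      intro j
      induction j with
      | zero => intro g; simp
      | succ j ih =>
        intro g
        rw [pow_succ', map_mul, MulAut.mul_apply, ih, Function.iterate_succ_apply']
    intro g
    rw [← key, ← ha, ← orderOf_coe, pow_orderOf_eq_one, map_one]
    rfl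

/-- A nilpotent normal subgroup meets every complement trivially, or it is inside the kernel:
uniqueness of the Frobenius kernel. -/
theorem frob_le_kernel [Finite G] (hH : Cfsg.IsFrobeniusComplement H) {N M : Subgroup G}
    (hN : (N : Set G) = Cfsg.frobeniusKernel H) [N.Normal] (hM : M.Normal)
    (hMn : Group.IsNilpotent M) (hNn : Group.IsNilpotent N) : M ≤ N := by
  haveI := hM
  by_contra hle
  have hNne : N ≠ ⊥ := by
    intro h
    have h1 := frob_card_kernel hH
    rw [← hN, h] at h1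
    have h2 : Nat.card ((⊥ : Subgroup G) : Set G) = 1 := card_bot
    rw [h2, eq_comm, index_eq_one] at h1
    exact hH.2.1 h1
  obtain ⟨x, hxM, hxN⟩ := SetLike.not_le_iff_exists.1 hle
  have hxK : x ∉ Cfsg.frobeniusKernel H := fun h => hxN (hN.symm ▸ h : x ∈ (N : Set G))
  rw [frob_mem_kernel_iff, not_or, not_forall] at hxK
  obtain ⟨hx1, g, hg⟩ := hxK
  rw [not_not] at hg
  have hyM : g⁻¹ * x * g ∈ M := by simpa using hM.conj_mem x hxM g⁻¹
  set y := g⁻¹ * x * g
  have hy1 : y ≠ 1 := fun e => hx1 (by rw [show x = g * y * g⁻¹ by simp [y, mul_assoc], e]; group)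
  -- `y` moves every element of `N`, although `[N, y]` descends in a nilpotent group
  haveI := hMn
  haveI := hNn
  have hmove : ∀ v ∈ N, y * v * y⁻¹ = v → v = 1 := fun v hv e =>
    frob_kernel_inter (hN ▸ hv : v ∈ Cfsg.frobeniusKernel H)
      (frob_mem_of_commute hH hg hy1 (mul_inv_eq_iff_eq_mul.1 e))
  have hNM : N ⊓ M = ⊥ := by
    have key : ∀ k, ∀ v ∈ N ⊓ M, (∀ h : v ∈ M,
        (⟨v, h⟩ : M) ∈ Subgroup.upperCentralSeries M k) → v = 1 := by
      intro k
      induction k with
      | zero =>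
        intro v hv h
        have := h hv.2
        rw [Subgroup.upperCentralSeries_zero, mem_bot] at this
        exact congrArg Subtype.val this
      | succ k ih =>
        intro v hv h
        refine hmove v hv.1 ?_
        have h1 := Subgroup.mem_upperCentralSeries_succ_iff.1 (h hv.2) ⟨y, hyM⟩
        have h2 : v * y * v⁻¹ * y⁻¹ = 1 := by
          refine ih _ ⟨?_, ?_⟩ fun _ => h1
          · rw [show v * y * v⁻¹ * y⁻¹ = v * (y * v⁻¹ * y⁻¹) by group]
            exact N.mul_mem hv.1 (Normal.conj_mem inferInstance _ (N.inv_mem hv.1) y)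
          · exact M.mul_mem (M.mul_mem (M.mul_mem hv.2 hyM) (M.inv_mem hv.2)) (M.inv_mem hyM)
        rw [mul_inv_eq_one, mul_inv_eq_iff_eq_mul] at h2
        exact mul_inv_eq_iff_eq_mul.2 h2.symm
    obtain ⟨k, hk⟩ := Group.IsNilpotent.nilpotent (G := M)
    exact (eq_bot_iff_forall _).2 fun v hv => key k v hv fun _ => hk ▸ mem_top _
  obtain ⟨v, hv, hv1⟩ := (N.ne_bot_iff_exists_ne_one.1 hNne)
    |>.elim fun v hv => (⟨v, v.2, fun e => hv (Subtype.ext e)⟩ : ∃ v : G, v ∈ N ∧ v ≠ 1)
  refine hv1 (hmove v hv ?_)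
  have hc : Commute v y := by
    have := commutator_eq_bot_iff_le_centralizer.1
      (le_bot_iff.1 ((commutator_le_inf N M).trans hNM.le)) hv
    exact ((mem_centralizer_iff.1 this) y hyM).symm
  exact mul_inv_eq_iff_eq_mul.2 hc.eq.symm

/-- All Frobenius complements have the same kernel and are conjugate. -/
theorem frob_complements_conj [Finite G] {H₀ : Subgroup G} (hH : Cfsg.IsFrobeniusComplement H)
    (hH₀ : Cfsg.IsFrobeniusComplement H₀) : ∃ g : G, conjBy g H₀ = H := by
  obtain ⟨N, hNK, hN, hc, hNn⟩ := frob_kernel_data hH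
  obtain ⟨N₀, hNK₀, hN₀, hc₀, hNn₀⟩ := frob_kernel_data hH₀
  haveI := hN
  haveI := hN₀
  have e : N₀ = N := le_antisymm (frob_le_kernel hH hNK hN₀ hNn₀ hNn)
    (frob_le_kernel hH₀ hNK₀ hN hNn hNn₀)
  subst e
  have hcop : (Nat.card N₀).Coprime N₀.index := by
    rw [hc.symm.index_eq_card, ← hc.index_eq_card]
    exact (frob_coprime_card_index hH).symm
  obtain ⟨g, -, hg⟩ := sz_conj hcop hc₀.symm.index_eq_card.symm hc.symm.index_eq_card.symm
    (Or.inl (haveI := hNn₀; inferInstance))
  exact ⟨g, hg⟩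

/-- A subgroup of order dividing that of a complement lies in a conjugate of it. -/
theorem frob_exists_conj_le [Finite G] (hH : Cfsg.IsFrobeniusComplement H) {A : Subgroup G}
    (hA : Nat.card A ∣ Nat.card H) : ∃ g : G, A ≤ conjBy g H := by
  obtain ⟨N, hNK, hN, hc, hNn⟩ := frob_kernel_data hH
  haveI := hN
  have hcop : (Nat.card N).Coprime (Nat.card A) := by
    refine Nat.Coprime.coprime_dvd_right hA ?_
    rw [← hc.index_eq_card]
    exact (frob_coprime_card_index hH).symm
  set B := H ⊓ (A ⊔ N)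
  have hsup : A ≤ B ⊔ N := by
    intro a ha
    have h : a ∈ ((N ⊔ H : Subgroup G) : Set G) := by rw [hc.sup_eq_top]; trivial
    rw [normal_mul] at h
    obtain ⟨n, hn, h', hh', rfl⟩ := h
    refine mul_mem (mem_sup_right hn) (mem_sup_left ⟨hh', ?_⟩)
    have := (A ⊔ N).mul_mem (mem_sup_right (N.inv_mem hn)) (mem_sup_left ha)
    rwa [inv_mul_cancel_left] at this
  have hBN : N ⊓ B = ⊥ := le_bot_iff.1 ((inf_le_inf_left N inf_le_left).trans hc.disjoint.eq_bot.le)
  have hcard : Nat.card A = Nat.card B := by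
    have e : A ⊔ N = B ⊔ N :=
      le_antisymm (sup_le hsup le_sup_right) (sup_le inf_le_right le_sup_right)
    have hA' : N ⊓ A = ⊥ := disjoint_of_coprime_card hcop
    have h1 : Nat.card A = Nat.card ↥((A ⊔ N).map (QuotientGroup.mk' N)) := by
      rw [Subgroup.map_sup, (Subgroup.map_eq_bot_iff N).2 (QuotientGroup.ker_mk' N).ge, sup_bot_eq]
      refine (Nat.card_congr (Equiv.ofBijective (fun a : A =>
        (⟨QuotientGroup.mk' N a, mem_map_of_mem _ a.2⟩ : A.map (QuotientGroup.mk' N))) ⟨?_, ?_⟩))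
      · intro a b hab
        have h2 : (a : G)⁻¹ * b ∈ N := QuotientGroup.eq.1 (congrArg Subtype.val hab)
        have h3 : (a : G)⁻¹ * b ∈ N ⊓ A := ⟨h2, Subgroup.mul_mem _ (Subgroup.inv_mem _ a.2) b.2⟩
        rw [hA', mem_bot, inv_mul_eq_one] at h3
        exact Subtype.ext h3
      · rintro ⟨_, a, ha, rfl⟩; exact ⟨⟨a, ha⟩, rfl⟩
    rw [h1, e, Subgroup.map_sup, (Subgroup.map_eq_bot_iff N).2 (QuotientGroup.ker_mk' N).ge,
      sup_bot_eq]
    refine (Nat.card_congr (Equiv.ofBijective (fun a : B =>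
      (⟨QuotientGroup.mk' N a, mem_map_of_mem _ a.2⟩ : B.map (QuotientGroup.mk' N))) ⟨?_, ?_⟩)).symm
    · intro a b hab
      have h2 : (a : G)⁻¹ * b ∈ N := QuotientGroup.eq.1 (congrArg Subtype.val hab)
      have h3 : (a : G)⁻¹ * b ∈ N ⊓ B := ⟨h2, Subgroup.mul_mem _ (Subgroup.inv_mem _ a.2) b.2⟩
      rw [hBN, mem_bot, inv_mul_eq_one] at h3
      exact Subtype.ext h3
    · rintro ⟨_, a, ha, rfl⟩; exact ⟨⟨a, ha⟩, rfl⟩
  obtain ⟨x, -, hx⟩ := sz_conj_in (A := B) (B := A) (N := N)
    (by rw [normalizer_eq_top]; exact le_top) (hcard ▸ hcop) hsup hcard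
    (Or.inr (haveI := hNn; inferInstance))
  refine ⟨x⁻¹, ?_⟩
  have h2 : conjBy x A ≤ H := hx.trans_le inf_le_left
  have h := map_mono (f := (MulAut.conj x⁻¹).toMonoidHom) h2
  rwa [show (conjBy x A).map (MulAut.conj x⁻¹).toMonoidHom = conjBy x⁻¹ (conjBy x A) from rfl,
    conjBy_conjBy, inv_mul_cancel, conjBy_one] at h

/-- Recognition by fixed-point-free action on a normal complement. -/
theorem frob_iff_fixed_point_free {K : Subgroup G} [K.Normal] (hc : Subgroup.IsComplement' K H)
    (hK : K ≠ ⊥) (hH : H ≠ ⊥) :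
    Cfsg.IsFrobeniusComplement H ↔ ∀ h ∈ H, h ≠ 1 → K ⊓ centralizer {h} = ⊥ := by
  constructor
  · intro hF h hh h1
    refine (eq_bot_iff_forall _).2 fun k ⟨hk, hkc⟩ => ?_
    have := frob_mem_of_commute hF hh h1 (mem_centralizer_singleton_iff.1 hkc).symm
    exact (Subgroup.disjoint_def.1 hc.disjoint) hk this
  · intro hfpf
    refine ⟨hH, fun e => hK ?_, fun g hg => (eq_bot_iff_forall _).2 fun x ⟨hx, hgx⟩ => ?_⟩
    · have h := hc.disjoint
      rwa [e, disjoint_top] at h
    · rw [← conjBy_eq_smul] at hgx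
      obtain ⟨y, hy, rfl⟩ := hgx
      have h : g ∈ ((K ⊔ H : Subgroup G) : Set G) := by rw [hc.sup_eq_top]; trivial
      rw [normal_mul] at h
      obtain ⟨k, hk, h', hh', rfl⟩ := h
      set z := h' * y * h'⁻¹ with hzdef
      have hz : z ∈ H := mul_mem (mul_mem hh' hy) (inv_mem hh')
      have hxz : (MulAut.conj (k * h')).toMonoidHom y = k * z * k⁻¹ := by
        simp [z, mul_assoc]
      rw [hxz] at hx ⊢
      have hw : (k * z * k⁻¹) * z⁻¹ = 1 := by
        refine Subgroup.disjoint_def.1 hc.disjoint ?_ (mul_mem hx (inv_mem hz))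
        rw [show k * z * k⁻¹ * z⁻¹ = k * (z * k⁻¹ * z⁻¹) by group]
        exact mul_mem hk (Normal.conj_mem inferInstance _ (inv_mem hk) z)
      have hzk : k * z * k⁻¹ = z := mul_inv_eq_one.1 hw
      rw [hzk]
      by_contra hz1
      have hk' : k ∈ K ⊓ centralizer {z} :=
        ⟨hk, mem_centralizer_singleton_iff.2 (mul_inv_eq_iff_eq_mul.1 hzk)⟩
      rw [hfpf z hz hz1, mem_bot] at hk'
      exact hg (by simpa [hk'] using hh')

end CfsgLib.Coprime
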