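import Mathlib.GroupTheory.Frattini
import Mathlib.GroupTheory.PGroup
import Mathlib.GroupTheory.Nilpotent

/-!
# Frattini subgroups of `p`-groups
-/

set_option autoImplicit false
set_option linter.style.haveILetI false

namespace CfsgLib.Coprime

open Subgroup
open scoped commutatorElement

variable {G : Type*} [Group G] [Finite G] {p : ℕ} [hp : Fact p.Prime]

theorem coatom_data_of_pGroup (hG : IsPGroup p G) {M : Subgroup G} (hM : IsCoatom M) :
    ∃ _ : M.Normal, M.index = p := by
  haveI := hG.isNilpotent
  haveI hn : M.Normal := NormalizerCondition.normal_of_coatom M Group.normalizerCondition_of_isNilpotent hM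
  refine ⟨hn, ?_⟩
  obtain ⟨k, hk⟩ := hG.index M
  rcases Nat.eq_zero_or_pos k with rfl | hk0
  · exact absurd (index_eq_one.1 (by simpa using hk)) hM.1
  have hd : p ∣ Nat.card (G ⧸ M) := by
    show p ∣ M.index
    rw [hk]; exact dvd_pow_self p hk0.ne'
  obtain ⟨x, hx⟩ := exists_prime_orderOf_dvd_card' (G := G ⧸ M) p hd
  have hne : zpowers x ≠ ⊥ := by
    rw [Ne, zpowers_eq_bot]
    rintro rfl
    exact hp.out.ne_one (by rw [← hx, orderOf_one])
  have htop : zpowers x = ⊤ := by
    by_contra h
    have h1 : M < (zpowers x).comap (QuotientGroup.mk' M) := by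
      refine lt_of_le_of_ne (QuotientGroup.le_comap_mk' M _) fun e => hne ?_
      have := congrArg (map (QuotientGroup.mk' M)) e
      rwa [map_comap_eq_self_of_surjective (QuotientGroup.mk'_surjective M),
        QuotientGroup.map_mk'_self, eq_comm] at this
    have h2 := congrArg (map (QuotientGroup.mk' M)) (hM.2 _ h1)
    rw [map_comap_eq_self_of_surjective (QuotientGroup.mk'_surjective M),
      map_top_of_surjective _ (QuotientGroup.mk'_surjective M)] at h2
    exact h h2
  show Nat.card (G ⧸ M) = p
  rw [← card_top (G := G ⧸ M), ← htop, Nat.card_zpowers, hx]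

theorem pow_mem_frattini (hG : IsPGroup p G) (x : G) : x ^ p ∈ frattini G := by
  have : ∀ M : Subgroup G, IsCoatom M → x ^ p ∈ M := by
    intro M hM
    obtain ⟨hn, hi⟩ := coatom_data_of_pGroup hG hM
    haveI := hn
    exact hi ▸ M.pow_index_mem x
  simp only [frattini, Order.radical, mem_iInf]
  exact fun M hM => this M hM

theorem commutator_le_frattini (hG : IsPGroup p G) : commutator G ≤ frattini G := by
  have : ∀ M : Subgroup G, IsCoatom M → commutator G ≤ M := by
    intro M hM
    obtain ⟨hn, hi⟩ := coatom_data_of_pGroup hG hM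
    haveI := hn
    haveI : IsCyclic (G ⧸ M) := isCyclic_of_prime_card (p := p) hi
    rw [commutator_def, commutator_le]
    intro a _ b _
    rw [← QuotientGroup.eq_one_iff, ← QuotientGroup.mk'_apply, map_commutatorElement,
      commutatorElement_eq_one_iff_mul_comm]
    exact (IsCyclic.commGroup (α := G ⧸ M)).mul_comm _ _
  simp only [frattini, Order.radical, le_iInf_iff]
  exact fun M hM => this M hM

theorem card_sup_zpowers_of_frattini_le (hG : IsPGroup p G) {K : Subgroup G}
    (hK : frattini G ≤ K) {x : G} (hx : x ∉ K) :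
    Nat.card (K ⊔ zpowers x : Subgroup G) = p * Nat.card K := by
  haveI : K.Normal := ⟨fun n hn g => by
    have h : ⁅g, n⁆ ∈ K := hK (commutator_le_frattini hG
      (commutator_mem_commutator (mem_top g) (mem_top n)))
    have := K.mul_mem h hn
    simpa [commutatorElement_def] using this⟩
  have hmap : (K ⊔ zpowers x).map (QuotientGroup.mk' K) = zpowers (x : G ⧸ K) := by
    rw [Subgroup.map_sup, QuotientGroup.map_mk'_self, bot_sup_eq, MonoidHom.map_zpowers]; rfl
  have hord : orderOf (x : G ⧸ K) = p := by
    refine orderOf_eq_prime ?_ fun e => hx ((QuotientGroup.eq_one_iff x).1 e)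
    rw [← QuotientGroup.mk_pow, QuotientGroup.eq_one_iff]
    exact hK (pow_mem_frattini hG x)
  have h1 := (K.subgroupOf (K ⊔ zpowers x)).card_eq_card_quotient_mul_card_subgroup
  rw [Nat.card_congr (subgroupOfEquivOfLe (le_sup_left : K ≤ K ⊔ zpowers x)).toEquiv] at h1
  rw [h1]
  congr 1
  rw [← hord, ← Nat.card_zpowers, ← hmap, ← Subgroup.relIndex_ker, QuotientGroup.ker_mk']
  rfl

theorem card_closure_sup_frattini (hG : IsPGroup p G) (T : Finset G) :
    ∃ T' ⊆ T, closure (T' : Set G) ⊔ frattini G = closure (T : Set G) ⊔ frattini G ∧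
      Nat.card (closure (T : Set G) ⊔ frattini G : Subgroup G) =
        p ^ T'.card * Nat.card (frattini G) := by
  classical
  induction T using Finset.induction_on with
  | empty => exact ⟨∅, le_rfl, rfl, by simp⟩
  | insert x T hxT ih =>
    obtain ⟨T', hT', he, hc⟩ := ih
    have hins : ∀ S : Finset G, closure ((insert x S : Finset G) : Set G) ⊔ frattini G =
        (closure (S : Set G) ⊔ frattini G) ⊔ zpowers x := by
      intro S
      rw [Finset.coe_insert, Set.insert_eq, Subgroup.closure_union, ← zpowers_eq_closure,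
        sup_comm (zpowers x), sup_right_comm]
    by_cases hx : x ∈ closure (T : Set G) ⊔ frattini G
    · refine ⟨T', hT'.trans (Finset.subset_insert _ _), ?_, ?_⟩
      · rw [hins, he, sup_eq_left.2 (zpowers_le.2 hx)]
      · rw [hins, sup_eq_left.2 (zpowers_le.2 hx), hc]
    · refine ⟨insert x T', Finset.insert_subset_insert x hT', ?_, ?_⟩
      · rw [hins, hins, he]
      · rw [hins, card_sup_zpowers_of_frattini_le hG le_sup_right hx, hc,
          Finset.card_insert_of_notMem (fun h => hxT (hT' h)), pow_succ]
        ring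

end CfsgLib.Coprime
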