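import Mathlib.GroupTheory.SpecificGroups.ZGroup
import Cfsg.Agent.Lib.Coprime.Action
import Cfsg.Agent.Lib.Coprime.Frobenius
import Cfsg.Agent.Lib.Coprime.UniqueOrderP

/-!
# Subgroups acting fixed-point-freely
-/

set_option autoImplicit false
set_option linter.style.haveILetI false
set_option linter.unusedSectionVars false

namespace CfsgLib.Coprime

open Subgroup

universe u

variable {G : Type u} [Group G] [Finite G]

/-- Each non-identity element of `A` centralizes only `1` in `V`. -/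
def IsFpfOn (A V : Subgroup G) : Prop := ∀ a ∈ A, a ≠ 1 → V ⊓ centralizer {a} = ⊥

theorem IsFpfOn.eq_one {A V : Subgroup G} (h : IsFpfOn A V) {a v : G} (ha : a ∈ A) (ha1 : a ≠ 1)
    (hv : v ∈ V) (hav : a * v * a⁻¹ = v) : v = 1 := by
  rw [← mem_bot, ← h a ha ha1]
  exact ⟨hv, mem_centralizer_singleton_iff.2 (mul_inv_eq_iff_eq_mul.1 hav).symm⟩

theorem IsFpfOn.mono {A B V W : Subgroup G} (h : IsFpfOn A V) (hB : B ≤ A) (hW : W ≤ V) :
    IsFpfOn B W := fun a ha ha1 =>
  le_bot_iff.1 ((inf_le_inf_right _ hW).trans (h a (hB ha) ha1).le)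

/-- The acting group divides `|V| - 1`. -/
theorem IsFpfOn.card_mod {A V : Subgroup G} (hA : A ≤ normalizer (V : Set G)) (h : IsFpfOn A V) :
    Nat.card V % Nat.card A = 1 % Nat.card A := by
  classical
  have := Fintype.ofFinite G
  let X := {v : V // v ≠ 1}
  letI act : MulAction A X :=
    { smul := fun a v => ⟨⟨(a : G) * v.1 * (a : G)⁻¹,
        ((mem_normalizer_iff.1 (hA a.2)) _).1 v.1.2⟩, fun e => v.2 (Subtype.ext
          (conj_eq_one_iff.1 (congrArg Subtype.val e : (a : G) * v.1 * (a : G)⁻¹ = 1)))⟩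
      one_smul := fun v => by
        refine Subtype.ext (Subtype.ext ?_)
        show ((1 : A) : G) * v.1 * ((1 : A) : G)⁻¹ = v.1
        simp
      mul_smul := fun a b v => by
        refine Subtype.ext (Subtype.ext ?_)
        show ((a * b : A) : G) * v.1 * ((a * b : A) : G)⁻¹ =
          (a : G) * ((b : G) * v.1 * (b : G)⁻¹) * (a : G)⁻¹
        simp [mul_assoc] }
  have hfree : ∀ v : X, MulAction.stabilizer A v = ⊥ := by
    intro v
    refine (eq_bot_iff_forall _).2 fun a ha => ?_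
    by_contra ha1
    have e : (a : G) * v.1 * (a : G)⁻¹ = v.1 :=
      congrArg (fun w : X => (w.1 : G)) (MulAction.mem_stabilizer_iff.1 ha)
    exact v.2 (Subtype.ext (h.eq_one a.2 (fun e1 => ha1 (Subtype.ext e1)) v.1.2 e))
  have h1 := Nat.card_congr (MulAction.selfEquivOrbitsQuotientProd hfree)
  rw [Nat.card_prod] at h1
  have h2 : Nat.card X + 1 = Nat.card V := by
    have : Nat.card X = Nat.card V - 1 := by
      simp [X, Nat.card_eq_fintype_card, Fintype.card_subtype_compl]
    have h0 := Nat.card_pos (α := V)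
    omega
  rw [← h2, h1, Nat.add_mod, Nat.mul_mod_left, zero_add, Nat.mod_mod]

theorem IsFpfOn.coprime {A V : Subgroup G} (hA : A ≤ normalizer (V : Set G)) (h : IsFpfOn A V) :
    (Nat.card A).Coprime (Nat.card V) := by
  refine Nat.coprime_of_dvd fun q hq hqA hqV => hq.ne_one ?_
  have h1 : Nat.card V % q = 1 % q := by
    rw [← Nat.mod_mod_of_dvd (Nat.card V) hqA, h.card_mod hA, Nat.mod_mod_of_dvd 1 hqA]
  rw [Nat.mod_eq_zero_of_dvd hqV, Nat.one_mod_eq_one.2 hq.ne_one] at h1
  exact absurd h1 zero_ne_one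

/-- An abelian group acting fixed-point-freely on a nontrivial group is cyclic. -/
theorem IsFpfOn.isCyclic {A K : Subgroup G} [IsMulCommutative A]
    (hA : A ≤ normalizer (K : Set G)) (h : IsFpfOn A K) (hK : K ≠ ⊥) : IsCyclic A := by
  by_contra hnc
  exact hK (le_bot_iff.1 (le_of_centralizers_le hnc hA (h.coprime hA)
    fun a ha ha1 => (h a ha ha1).le))

/-- A group with a Frobenius section cannot act fixed-point-freely on an abelian group. -/
theorem IsFpfOn.false_of_frobenius {A Q P V : Subgroup G} [IsMulCommutative V]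
    (hA : A ≤ normalizer (V : Set G)) (h : IsFpfOn A V) (hV : V ≠ ⊥)
    (hQA : Q ≤ A) (hPA : P ≤ A) (hQ : Q ≠ ⊥) (hP : P ≠ ⊥) (hPQ : P ≤ normalizer (Q : Set G))
    (hfix : ∀ t ∈ P, t ≠ 1 → ∀ u ∈ Q, t * u * t⁻¹ = u → u = 1) : False := by
  classical
  have := Fintype.ofFinite G
  open scoped IsMulCommutative in
  obtain ⟨⟨v, hv⟩, hv1⟩ := V.ne_bot_iff_exists_ne_one.1 hV
  let c : normalizer (V : Set G) → V → V := fun g x =>
    ⟨(g : G) * x * (g : G)⁻¹, ((mem_normalizer_iff.1 g.2) _).1 x.2⟩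
  have hcmul : ∀ g k x, c (g * k) x = c g (c k x) := fun g k x => Subtype.ext (by simp [c, mul_assoc])
  have hcprod : ∀ g, ∀ {ι : Type u} (s : Finset ι) (f : ι → V),
      c g (∏ i ∈ s, f i) = ∏ i ∈ s, c g (f i) := by
    intro g ι s f
    let φ : V →* V := MonoidHom.mk' (c g) fun x y => Subtype.ext (by simp [c, mul_assoc])
    exact map_prod φ f s
  have hzero : ∀ (T : Subgroup G) (hT : T ≤ A), T ≠ ⊥ → ∀ x : V,
      ∏ t : T, c ⟨t, hA (hT t.2)⟩ x = 1 := by
    intro T hT hne x
    obtain ⟨⟨s, hs⟩, hs1⟩ := T.ne_bot_iff_exists_ne_one.1 hne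
    refine Subtype.ext (h.eq_one (hT hs) (fun e => hs1 (Subtype.ext e)) (SetLike.coe_mem _) ?_)
    have e : c ⟨s, hA (hT hs)⟩ (∏ t : T, c ⟨t, hA (hT t.2)⟩ x) = ∏ t : T, c ⟨t, hA (hT t.2)⟩ x := by
      rw [hcprod]
      refine Fintype.prod_equiv (Equiv.mulLeft ⟨s, hs⟩) _ _ fun t => ?_
      rw [← hcmul]
      rfl
    exact congrArg Subtype.val e
  have hmem : ∀ (g : Q) (t : P), (g : G) * t * (g : G)⁻¹ ∈ normalizer (V : Set G) := fun g t =>
    hA (mul_mem (mul_mem (hQA g.2) (hPA t.2)) (inv_mem (hQA g.2)))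
  have key : ∏ g : Q, ∏ t : P, c ⟨_, hmem g t⟩ ⟨v, hv⟩ = 1 := by
    refine Finset.prod_eq_one fun g _ => ?_
    have hgP : conjBy (g : G) P ≤ A := by
      rintro _ ⟨t, ht, rfl⟩
      exact A.mul_mem (A.mul_mem (hQA g.2) (hPA ht)) (A.inv_mem (hQA g.2))
    have hne : conjBy (g : G) P ≠ ⊥ := fun e => hP (card_eq_one.1 (by
      rw [← card_conjBy (g : G) P, e, card_bot]))
    rw [← hzero _ hgP hne ⟨v, hv⟩]
    exact Fintype.prod_equiv
      (P.equivMapOfInjective (MulAut.conj (g : G)).toMonoidHom (MulEquiv.injective _)).toEquiv _ _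
      fun t => rfl
  rw [Finset.prod_comm] at key
  have hone : ∀ t : P, t ≠ 1 → ∏ g : Q, c ⟨_, hmem g t⟩ ⟨v, hv⟩ = 1 := by
    intro t ht
    have htV : (t : G) ∈ normalizer (V : Set G) := hA (hPA t.2)
    let σ : Q → Q := fun g => ⟨(g : G) * ((t : G) * (g : G)⁻¹ * (t : G)⁻¹),
      mul_mem g.2 (((mem_normalizer_iff.1 (hPQ t.2)) _).1 (inv_mem g.2))⟩
    have hσ : Function.Bijective σ := by
      refine Finite.injective_iff_bijective.1 fun g k hgk => ?_
      have e : (g : G) * ((t : G) * (g : G)⁻¹ * (t : G)⁻¹) =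
          (k : G) * ((t : G) * (k : G)⁻¹ * (t : G)⁻¹) := congrArg Subtype.val hgk
      have e2 : (t : G) * ((k : G)⁻¹ * g) * (t : G)⁻¹ = (k : G)⁻¹ * g := by
        calc (t : G) * ((k : G)⁻¹ * g) * (t : G)⁻¹
            = (k : G)⁻¹ * ((k : G) * ((t : G) * (k : G)⁻¹ * (t : G)⁻¹)) *
                ((t : G) * g * (t : G)⁻¹) := by group
          _ = _ := by rw [← e]; group
      have h1 := hfix t t.2 (fun e1 => ht (Subtype.ext e1)) _ (mul_mem (inv_mem k.2) g.2) e2
      exact Subtype.ext (inv_mul_eq_one.1 h1).symm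
    rw [← hzero Q hQA hQ (c ⟨t, htV⟩ ⟨v, hv⟩)]
    refine Fintype.prod_bijective σ hσ _ _ fun g => ?_
    rw [← hcmul]
    refine congrArg (fun z => c z ⟨v, hv⟩) (Subtype.ext ?_)
    show (g : G) * t * (g : G)⁻¹ = (g : G) * ((t : G) * (g : G)⁻¹ * (t : G)⁻¹) * t
    group
  rw [Finset.prod_eq_single 1 (fun t _ ht => hone t ht)
    (fun h => absurd (Finset.mem_univ _) h)] at key
  have hpow : (⟨v, hv⟩ : V) ^ Nat.card Q = 1 := by
    have : ∀ g : Q, c ⟨_, hmem g 1⟩ ⟨v, hv⟩ = ⟨v, hv⟩ := fun g => Subtype.ext (by simp [c])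
    rw [Finset.prod_congr rfl (fun g _ => this g), Finset.prod_const, Finset.card_univ,
      ← Nat.card_eq_fintype_card] at key
    exact key
  have hco : (Nat.card Q).Coprime (Nat.card V) :=
    (h.coprime hA).coprime_dvd_left (card_dvd_of_le hQA)
  have hd := Nat.dvd_gcd (orderOf_dvd_of_pow_eq_one hpow) (orderOf_dvd_natCard (⟨v, hv⟩ : V))
  rw [hco.gcd_eq_one, Nat.dvd_one, orderOf_eq_one_iff] at hd
  exact hv1 hd

/-- Elements of prime order with one normalizing the subgroup of the other commute. -/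
theorem IsFpfOn.commute_of_prime {A V : Subgroup G} [IsMulCommutative V]
    (hA : A ≤ normalizer (V : Set G)) (h : IsFpfOn A V) (hV : V ≠ ⊥) {x y : G}
    (hx : x ∈ A) (hy : y ∈ A) (hxp : (orderOf x).Prime) (hyp : (orderOf y).Prime)
    (hn : y * x * y⁻¹ ∈ zpowers x) : Commute y x := by
  by_contra hnc
  have hyn : y ∈ normalizer ((zpowers x : Subgroup G) : Set G) := by
    refine conjBy_eq_self_iff.1 (eq_of_le_of_card_ge ?_ (by rw [card_conjBy]))
    rw [conjBy, MonoidHom.map_zpowers, zpowers_le]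
    exact hn
  refine h.false_of_frobenius hA hV (Q := zpowers x) (P := zpowers y) (zpowers_le.2 hx)
    (zpowers_le.2 hy) ?_ ?_ (zpowers_le.2 hyn) ?_
  · rw [Ne, zpowers_eq_bot]
    rintro rfl
    exact Nat.not_prime_one (orderOf_one (G := G) ▸ hxp)
  · rw [Ne, zpowers_eq_bot]
    rintro rfl
    exact Nat.not_prime_one (orderOf_one (G := G) ▸ hyp)
  · intro t ht ht1 u hu htu
    by_contra hu1
    have gen : ∀ {z w : G}, (orderOf z).Prime → w ∈ zpowers z → w ≠ 1 → z ∈ zpowers w := by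
      intro z w hz hw hw1
      have hle : zpowers w ≤ zpowers z := zpowers_le.2 hw
      have hc : Nat.card (zpowers w) = Nat.card (zpowers z) := by
        rw [Nat.card_zpowers, Nat.card_zpowers]
        refine ((Nat.dvd_prime hz).1 ?_).resolve_left fun e => hw1 (orderOf_eq_one_iff.1 e)
        rw [← Nat.card_zpowers, ← Nat.card_zpowers]
        exact card_dvd_of_le hle
      rw [eq_of_le_of_card_ge hle hc.ge]
      exact mem_zpowers z
    have hc : Commute t u := mul_inv_eq_iff_eq_mul.1 htu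
    obtain ⟨i, hi⟩ := gen hyp ht ht1
    obtain ⟨j, hj⟩ := gen hxp hu hu1
    exact hnc (hi ▸ hj ▸ hc.zpow_zpow i j)

/-- An element fixing all elements of prime order of an abelian group it normalizes, of order
coprime to it, centralizes it. -/
theorem commute_of_fix_prime_order {V : Subgroup G} [IsMulCommutative V] {y : G}
    (hy : y ∈ normalizer (V : Set G)) (hcop : (orderOf y).Coprime (Nat.card V))
    (hfix : ∀ v ∈ V, (orderOf v).Prime → Commute y v) : ∀ v ∈ V, Commute y v := by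
  have hAV : zpowers y ≤ normalizer (V : Set G) := zpowers_le.2 hy
  have hc' : (Nat.card (zpowers y)).Coprime (Nat.card V) := by rwa [Nat.card_zpowers]
  have hle : zpowers y ≤ centralizer (V : Set G) := by
    refine le_centralizer_of_le_centralizer_commutator hAV hc'
      (Or.inr (isSolvable_of_isMulCommutative inferInstance)) ?_
    have hsup : ⁅V, zpowers y⁆ = ⊥ := by
      by_contra hne
      obtain ⟨q, hq, hd⟩ := Nat.exists_prime_and_dvd
        (fun h => hne (Subgroup.card_eq_one.1 h) : Nat.card (⁅V, zpowers y⁆ : Subgroup G) ≠ 1)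
      haveI := Fact.mk hq
      obtain ⟨x, hx⟩ := exists_prime_orderOf_dvd_card' q hd
      have hVA : ⁅V, zpowers y⁆ ≤ V := by
        rw [Subgroup.commutator_le]
        intro v hv a ha
        rw [commutatorElement_def]
        have := mul_mem hv (conj_mem_of_le_normalizer hAV ha (inv_mem hv))
        simpa [mul_assoc] using this
      have hxo : orderOf (x : G) = q := (Subgroup.orderOf_coe x).trans hx
      have hmem : (x : G) ∈ (V ⊓ centralizer (zpowers y : Set G)) ⊓ ⁅V, zpowers y⁆ :=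
        ⟨⟨hVA x.2, mem_centralizer_iff.2 fun a ha => by
          obtain ⟨i, rfl⟩ := ha
          exact ((hfix _ (hVA x.2) (hxo ▸ hq)).zpow_left i).eq⟩, x.2⟩
      rw [centralizer_inf_commutator_eq_bot inferInstance hAV hc', mem_bot] at hmem
      rw [hmem, orderOf_one] at hxo
      exact hq.ne_one hxo.symm
    rw [hsup, le_centralizer_iff]
    exact bot_le
  intro v hv
  exact (mem_centralizer_iff.1 (hle (mem_zpowers y)) v hv).symm

theorem isCyclic_of_uniqueOrderP_fpf {A K : Subgroup G} (hA : A ≤ normalizer (K : Set G))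
    (h : IsFpfOn A K) (hK : K ≠ ⊥) {p : ℕ} [Fact p.Prime] (P : Subgroup A) (hP : IsPGroup p P) :
    UniqueOrderP p P := by
  intro x y hx hy hx1
  haveI : Nontrivial P := ⟨⟨x, 1, hx1⟩⟩
  haveI := hP.center_nontrivial
  obtain ⟨k, hk⟩ := IsPGroup.iff_card.1 (hP.to_subgroup (center P))
  have hk0 : k ≠ 0 := fun e => absurd (Finite.one_lt_card (α := center P))
    (by rw [hk, e, pow_zero]; exact lt_irrefl 1)
  obtain ⟨⟨z, hzc⟩, hz⟩ := exists_prime_orderOf_dvd_card' (G := center P) p (hk ▸ dvd_pow_self p hk0)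
  have hzo : orderOf z = p := (Subgroup.orderOf_coe (⟨z, hzc⟩ : center P)).trans hz
  have key : ∀ w : P, w ^ p = 1 → w ∈ zpowers z := by
    intro w hw
    set B := closure ({z, w} : Set P) with hBdef
    have hcomm : IsMulCommutative B := by
      refine Subgroup.isMulCommutative_closure ?_
      rintro a (rfl | rfl) b (rfl | rfl)
      · rfl
      · exact (mem_center_iff.1 hzc _).symm
      · exact mem_center_iff.1 hzc _
      · rfl
    set B' := (B.map P.subtype).map A.subtype with hB'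
    haveI : IsMulCommutative B' := by
      refine ⟨⟨?_⟩⟩
      rintro ⟨_, _, ⟨a, ha, rfl⟩, rfl⟩ ⟨_, _, ⟨b, hb, rfl⟩, rfl⟩
      exact Subtype.ext (congrArg (fun t : B => (((t : P) : A) : G))
        (hcomm.is_comm.comm ⟨a, ha⟩ ⟨b, hb⟩))
    haveI : IsCyclic B' := (h.mono (map_subtype_le _) le_rfl).isCyclic
      ((map_subtype_le _).trans hA) hK
    let e : B ≃* B' := (B.equivMapOfInjective _ P.subtype_injective).trans
      ((B.map P.subtype).equivMapOfInjective _ A.subtype_injective)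
    haveI : IsCyclic B := isCyclic_of_injective (f := e.toMonoidHom) e.injective
    have hu : ∀ u v : B, orderOf u = p → v ^ p = 1 → v ∈ zpowers u := by
      intro u v hu hv
      classical
      have := Fintype.ofFinite B
      have h1 : (zpowers u : Set B).ncard = p := by
        rw [← Nat.card_coe_set_eq, ← hu, ← Nat.card_zpowers]; rfl
      have h2 : {v : B | v ^ p = 1}.ncard ≤ p := by
        rw [Set.ncard_eq_toFinset_card']
        simpa using IsCyclic.card_pow_eq_one_le (α := B) (Fact.out : p.Prime).pos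
      have hsub : (zpowers u : Set B) ⊆ {v : B | v ^ p = 1} := by
        rintro _ ⟨i, rfl⟩
        show (u ^ i) ^ p = 1
        rw [← zpow_natCast, ← zpow_mul, mul_comm, zpow_mul, zpow_natCast, ← hu, pow_orderOf_eq_one,
          one_zpow]
      have := Set.eq_of_subset_of_ncard_le hsub (h1.symm ▸ h2) (Set.toFinite _)
      exact (Set.ext_iff.1 this v).2 hv
    have hzB : z ∈ B := subset_closure (Set.mem_insert _ _)
    have hwB : w ∈ B := subset_closure (Set.mem_insert_of_mem _ rfl)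
    obtain ⟨i, hi⟩ := hu ⟨z, hzB⟩ ⟨w, hwB⟩ (by rw [← Subgroup.orderOf_coe]; exact hzo)
      (Subtype.ext hw)
    exact ⟨i, congrArg Subtype.val hi⟩
  have hxz := key x hx
  have hzx : zpowers x = zpowers z := by
    refine eq_of_le_of_card_ge (zpowers_le.2 hxz) ?_
    rw [Nat.card_zpowers, Nat.card_zpowers, hzo, orderOf_eq_prime hx hx1]
  exact hzx ▸ key y hy

theorem IsFpfOn.sylow_cyclic_or_quaternion {A K : Subgroup G} (hA : A ≤ normalizer (K : Set G))
    (h : IsFpfOn A K) (hK : K ≠ ⊥) {p : ℕ} [Fact p.Prime] (P : Sylow p A) :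
    IsCyclic P ∨ (p = 2 ∧ ∃ n : ℕ, Nonempty (P ≃* QuaternionGroup (2 ^ n))) :=
  cyclic_or_quaternion_of_unique P.2 (isCyclic_of_uniqueOrderP_fpf hA h hK P.1 P.2)

/-- A fixed-point-free involution inverts; so there is only one and the kernel is abelian. -/
theorem IsFpfOn.involution_inverts {A K : Subgroup G} (hA : A ≤ normalizer (K : Set G))
    (h : IsFpfOn A K) {s : G} (hs : s ∈ A) (hs2 : orderOf s = 2) :
    ∀ k ∈ K, s * k * s⁻¹ = k⁻¹ := by
  classical
  have hs1 : s ≠ 1 := fun e => by rw [e, orderOf_one] at hs2; omega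
  have hss : s * s = 1 := by rw [← sq, ← hs2, pow_orderOf_eq_one]
  let f : K → K := fun x => ⟨(x : G)⁻¹ * (s * x * s⁻¹),
    mul_mem (inv_mem x.2) (conj_mem_of_le_normalizer hA hs x.2)⟩
  have hf : Function.Bijective f := by
    refine Finite.injective_iff_bijective.1 fun x y hxy => ?_
    have e : (x : G)⁻¹ * (s * x * s⁻¹) = (y : G)⁻¹ * (s * y * s⁻¹) := congrArg Subtype.val hxy
    have e2 : s * ((x : G) * (y : G)⁻¹) * s⁻¹ = (x : G) * (y : G)⁻¹ := by
      calc s * ((x : G) * (y : G)⁻¹) * s⁻¹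
          = (x : G) * ((x : G)⁻¹ * (s * x * s⁻¹)) * (s * (y : G)⁻¹ * s⁻¹) := by group
        _ = _ := by rw [e]; group
    exact Subtype.ext (mul_inv_eq_one.1 (h.eq_one hs hs1 (mul_mem x.2 (inv_mem y.2)) e2))
  intro k hk
  obtain ⟨x, hx⟩ := hf.2 ⟨k, hk⟩
  have hx' : (x : G)⁻¹ * (s * x * s⁻¹) = k := congrArg Subtype.val hx
  rw [← hx']
  have hsi : s⁻¹ = s := inv_eq_of_mul_eq_one_right hss
  calc s * ((x : G)⁻¹ * (s * x * s⁻¹)) * s⁻¹
      = s * (x : G)⁻¹ * s * (x : G) * (s⁻¹ * s⁻¹) := by group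
    _ = _ := by rw [hsi, hss, mul_one, mul_inv_rev, inv_inv, mul_inv_rev, mul_inv_rev, hsi]; group

theorem IsFpfOn.unique_involution {A K : Subgroup G} (hA : A ≤ normalizer (K : Set G))
    (h : IsFpfOn A K) (hK : K ≠ ⊥) {s t : G} (hs : s ∈ A) (ht : t ∈ A) (hs2 : orderOf s = 2)
    (ht2 : orderOf t = 2) : t = s := by
  obtain ⟨⟨k, hk⟩, hk1⟩ := K.ne_bot_iff_exists_ne_one.1 hK
  by_contra hne
  have h1 : s⁻¹ * t ≠ 1 := fun e => hne (inv_mul_eq_one.1 e).symm
  refine hk1 (Subtype.ext (h.eq_one (mul_mem (inv_mem hs) ht) h1 hk ?_))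
  have a1 := h.involution_inverts hA hs hs2 k hk
  have a2 := h.involution_inverts hA ht ht2 k hk
  calc (s⁻¹ * t) * k * (s⁻¹ * t)⁻¹ = s⁻¹ * (t * k * t⁻¹) * s := by group
    _ = k := by rw [a2, ← a1]; group

theorem frob_complement_center_ne_bot {K H : Subgroup G} [K.Normal]
    (hc : Subgroup.IsComplement' K H) (hK : K ≠ ⊥) (hH : H ≠ ⊥) (h : IsFpfOn H K) :
    center H ≠ ⊥ := by
  classical
  have hHK : H ≤ normalizer (K : Set G) := by rw [normalizer_eq_top]; exact le_top
  haveI : Nontrivial H := (nontrivial_iff_ne_bot H).2 hH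
  by_cases heven : 2 ∣ Nat.card H
  · haveI := Fact.mk Nat.prime_two
    obtain ⟨⟨s, hs⟩, hs2⟩ := exists_prime_orderOf_dvd_card' (G := H) 2 heven
    have hs2' : orderOf s = 2 := (Subgroup.orderOf_coe (⟨s, hs⟩ : H)).trans hs2
    intro hbot
    have hmem : (⟨s, hs⟩ : H) ∈ center H := by
      refine mem_center_iff.2 fun g => ?_
      have := h.unique_involution hHK hK hs (H.mul_mem (H.mul_mem g.2 hs) (H.inv_mem g.2)) hs2'
        (by rw [← MulAut.conj_apply]; exact (MulEquiv.orderOf_eq _ s).trans hs2')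
      exact Subtype.ext (mul_inv_eq_iff_eq_mul.1 this)
    rw [hbot, mem_bot] at hmem
    rw [hmem, orderOf_one] at hs2
    omega
  haveI : IsZGroup H := by
    refine ⟨fun q hq Q => ?_⟩
    haveI := Fact.mk hq
    refine (h.sylow_cyclic_or_quaternion hHK hK Q).resolve_right ?_
    rintro ⟨rfl, n, ⟨e⟩⟩
    haveI : NeZero ((2 : ℕ) ^ n) := ⟨by positivity⟩
    have h4 := Nat.card_congr e.toEquiv
    rw [Nat.card_eq_fintype_card (α := QuaternionGroup (2 ^ n)), QuaternionGroup.card] at h4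
    exact heven ((dvd_mul_of_dvd_left (by norm_num : 2 ∣ 4) _).trans
      (h4 ▸ card_subgroup_dvd_card (Q : Subgroup H)))
  set D := commutator H
  haveI : IsCyclic D := IsZGroup.isCyclic_commutator H
  obtain ⟨B, hB⟩ := exists_right_complement'_of_coprime (N := D) (IsZGroup.coprime_commutator_index H)
  have hBne : B ≠ ⊥ := by
    intro e
    refine (IsZGroup.commutator_lt (G := H)).ne ?_
    have := hB.sup_eq_top
    rwa [e, sup_bot_eq] at this
  obtain ⟨q, hq, hqB⟩ := Nat.exists_prime_and_dvd (fun e => hBne (card_eq_one.1 e) : Nat.card B ≠ 1)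
  haveI := Fact.mk hq
  obtain ⟨⟨y, hyB⟩, hy⟩ := exists_prime_orderOf_dvd_card' (G := B) q hqB
  have hyo : orderOf y = q := (Subgroup.orderOf_coe (⟨y, hyB⟩ : B)).trans hy
  obtain ⟨N, hNK, hN, hNc, hNn⟩ := frob_kernel_data ((frob_iff_fixed_point_free hc hK hH).2 h)
  haveI := hN
  haveI := hNn
  -- an abelian `H`-invariant subgroup of the kernel
  have hNne : N ≠ ⊥ := by
    intro e
    have h1 := hNc.sup_eq_top
    rw [e, bot_sup_eq] at h1
    exact hK (by simpa [h1] using hc.disjoint)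
  set V := (center N).map N.subtype
  haveI : IsMulCommutative V := by
    refine ⟨⟨?_⟩⟩
    rintro ⟨_, a, ha, rfl⟩ ⟨_, b, _, rfl⟩
    exact Subtype.ext (congrArg (fun t : N => (t : G)) (mem_center_iff.1 ha b).symm)
  have hVn : V.Normal := ConjAct.normal_of_characteristic_of_normal
  have hVne : V ≠ ⊥ := by
    haveI : Nontrivial N := (nontrivial_iff_ne_bot N).2 hNne
    intro e
    have := nilpotent_inf_center_ne_bot (⊤ : Subgroup N) top_ne_bot
    rw [top_inf_eq] at this
    exact this (map_injective N.subtype_injective (e.trans (Subgroup.map_bot _).symm))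
  have hHV : H ≤ normalizer (V : Set G) := by rw [normalizer_eq_top]; exact le_top
  have hfV : IsFpfOn H V := by
    intro a ha ha1
    refine (eq_bot_iff_forall _).2 fun x ⟨hx, hxc⟩ => ?_
    have hxH : x ∈ H := frob_mem_of_commute ((frob_iff_fixed_point_free hc hK hH).2 h) ha ha1
      (mem_centralizer_singleton_iff.1 hxc).symm
    exact frob_kernel_inter (hNK ▸ (map_subtype_le _ hx : x ∈ N)) hxH
  intro hbot
  have hDn : y ∈ normalizer (D : Set H) := by rw [normalizer_eq_top]; trivial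
  have hcop : (orderOf y).Coprime (Nat.card D) := by
    refine Nat.Coprime.coprime_dvd_left ?_ (IsZGroup.coprime_commutator_index H).symm
    rw [hB.symm.index_eq_card]
    exact (hyo.symm ▸ hqB : orderOf y ∣ Nat.card B)
  open scoped IsMulCommutative in
  have hfix : ∀ v ∈ D, Commute y v := by
    refine commute_of_fix_prime_order hDn hcop fun v hv hvp => ?_
    have hvy : y * v * y⁻¹ ∈ zpowers v := by
      -- subgroups of a cyclic normal subgroup are normal
      haveI : (zpowers (⟨v, hv⟩ : D)).Characteristic := characteristic_iff_map_le.2 fun φ => by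
        obtain ⟨m, hm⟩ := MonoidHom.map_cyclic φ.toMonoidHom
        rintro _ ⟨x, hx, rfl⟩
        exact (hm x).symm ▸ zpow_mem hx m
      haveI hn : ((zpowers (⟨v, hv⟩ : D)).map D.subtype).Normal :=
        ConjAct.normal_of_characteristic_of_normal
      have e : (zpowers (⟨v, hv⟩ : D)).map D.subtype = zpowers v := MonoidHom.map_zpowers _ _
      exact e ▸ hn.conj_mem v (e.symm ▸ mem_zpowers v) y
    have := h.mono le_rfl le_rfl
    have hc' := hfV.commute_of_prime hHV hVne (x := (v : G)) (y := (y : G)) v.2 y.2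
      (by rwa [Subgroup.orderOf_coe]) (by rw [Subgroup.orderOf_coe, hyo]; exact hq)
      (by
        obtain ⟨i, hi⟩ := hvy
        exact ⟨i, by simpa using congrArg Subtype.val hi⟩)
    exact Subtype.ext hc'.eq
  have hycen : y ∈ center H := by
    refine mem_center_iff.2 fun g => ?_
    have hg : g ∈ ((D ⊔ B : Subgroup H) : Set H) := by rw [hB.sup_eq_top]; trivial
    rw [normal_mul] at hg
    obtain ⟨d, hd, b, hb, rfl⟩ := hg
    haveI : IsCyclic (H ⧸ D) := IsZGroup.isCyclic_abelianization (G := H)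
    haveI : IsCyclic B := isCyclic_of_surjective hB.symm.QuotientMulEquiv.toMonoidHom
      hB.symm.QuotientMulEquiv.surjective
    have hyb : Commute y b := congrArg Subtype.val
      (IsCyclic.commGroup.mul_comm (⟨y, hyB⟩ : B) ⟨b, hb⟩)
    exact ((hfix d hd).mul_right hyb).symm.eq
  rw [hbot, mem_bot] at hycen
  rw [hycen, orderOf_one] at hyo
  exact hq.ne_one hyo.symm

end CfsgLib.Coprime
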