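import Mathlib.GroupTheory.GroupAction.Primitive
import Cfsg.Agent.Lib.Coprime.Action
import Cfsg.Agent.Lib.Coprime.Fitting
import Cfsg.Agent.Lib.Coprime.Hall
import Cfsg.Agent.Lib.Coprime.Solvable

/-!
# Primitive groups and core-free maximal subgroups
-/

set_option autoImplicit false
set_option linter.style.haveILetI false
set_option linter.unusedSectionVars false

namespace CfsgLib.Coprime

open Subgroup
open scoped Pointwise

variable {G : Type*} [Group G]

theorem sup_eq_top_of_normal {U : Subgroup G} (hU : IsCoatom U) (hcore : U.normalCore = ⊥)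
    (N : Subgroup G) [N.Normal] (hN : N ≠ ⊥) : N ⊔ U = ⊤ :=
  hU.2 _ (lt_of_le_of_ne le_sup_right fun e => hN (le_bot_iff.1
    (hcore ▸ (normal_le_normalCore.2 (le_sup_left.trans e.ge) : N ≤ U.normalCore))))

theorem centralizer_inf_eq_bot {U : Subgroup G} (hU : IsCoatom U) (hcore : U.normalCore = ⊥)
    (N : Subgroup G) [N.Normal] (hN : N ≠ ⊥) : centralizer (N : Set G) ⊓ U = ⊥ := by
  haveI : (centralizer (N : Set G)).Normal := Subgroup.normal_centralizer
  haveI : (centralizer (N : Set G) ⊓ U).Normal := by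
    rw [← normalizer_eq_top_iff, eq_top_iff, ← sup_eq_top_of_normal hU hcore N hN]
    refine sup_le ?_ ?_
    · refine le_trans ?_ (centralizer_le_normalizer _)
      rw [le_centralizer_iff]
      exact inf_le_left
    · exact inf_le_normalizer (by rw [normalizer_eq_top]; exact le_top) le_normalizer
  exact le_bot_iff.1 (hcore ▸ normal_le_normalCore.2 (inf_le_right : centralizer (N : Set G) ⊓ U ≤ U))

theorem commute_of_minimal_ne {A B : Subgroup G} [A.Normal] [B.Normal]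
    (hAmin : ∀ K : Subgroup G, K.Normal → K ≤ A → K = ⊥ ∨ K = A)
    (hBmin : ∀ K : Subgroup G, K.Normal → K ≤ B → K = ⊥ ∨ K = B) (hA : A ≠ ⊥) (hAB : A ≠ B) :
    A ⊓ B = ⊥ ∧ A ≤ centralizer (B : Set G) := by
  have h : A ⊓ B = ⊥ := by
    rcases hAmin (A ⊓ B) inferInstance inf_le_left with h | h
    · exact h
    · rcases hBmin A inferInstance (inf_eq_left.1 h) with h2 | h2
      · exact absurd h2 hA
      · exact absurd h2 hAB
  exact ⟨h, commutator_eq_bot_iff_le_centralizer.1 (le_bot_iff.1 ((commutator_le_inf A B).trans h.le))⟩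

theorem mulEquiv_of_complements [Finite G] {L X Y B : Subgroup G} [B.Normal]
    (hX : X ⊓ B = ⊥) (hY : Y ⊓ B = ⊥) (hXL : X ⊔ B = L) (hYL : Y ⊔ B = L) : Nonempty (X ≃* Y) := by
  have key : ∀ X : Subgroup G, X ⊓ B = ⊥ → X ⊔ B = L →
      Nonempty (L.map (QuotientGroup.mk' B) ≃* X) := by
    intro X hX hXL
    let f : X →* L.map (QuotientGroup.mk' B) :=
      ((QuotientGroup.mk' B).comp X.subtype).codRestrict _ fun x =>
        mem_map_of_mem _ (hXL ▸ mem_sup_left x.2)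
    refine ⟨(MulEquiv.ofBijective f ⟨fun a b e => ?_, fun y => ?_⟩).symm⟩
    · have e' : ((a : G) : G ⧸ B) = ((b : G) : G ⧸ B) := congrArg Subtype.val e
      rw [QuotientGroup.eq] at e'
      have : (a : G)⁻¹ * b ∈ X ⊓ B := ⟨X.mul_mem (X.inv_mem a.2) b.2, e'⟩
      rw [hX, mem_bot] at this
      exact Subtype.ext (inv_mul_eq_one.1 this)
    · obtain ⟨_, l, hl, rfl⟩ := y
      obtain ⟨x, hx, b, hb, rfl⟩ := mem_sup_of_normal_right.1 (hXL.symm ▸ hl : l ∈ X ⊔ B)
      refine ⟨⟨x, hx⟩, Subtype.ext ?_⟩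
      show (x : G ⧸ B) = ((x * b : G) : G ⧸ B)
      rw [QuotientGroup.mk_mul, (QuotientGroup.eq_one_iff b).2 hb, mul_one]
  obtain ⟨e1⟩ := key X hX hXL
  obtain ⟨e2⟩ := key Y hY hYL
  exact ⟨e1.symm.trans e2⟩

theorem two_minimal_normal [Finite G] {U : Subgroup G} (hU : IsCoatom U)
    (hcore : U.normalCore = ⊥) (A B : Subgroup G) [A.Normal] [B.Normal] (hA : A ≠ ⊥) (hB : B ≠ ⊥)
    (hAmin : ∀ K : Subgroup G, K.Normal → K ≤ A → K = ⊥ ∨ K = A)
    (hBmin : ∀ K : Subgroup G, K.Normal → K ≤ B → K = ⊥ ∨ K = B) (hAB : A ≠ B) :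
    centralizer (B : Set G) = A ∧ centralizer (A : Set G) = B ∧ IsComplement' A U ∧
      IsComplement' B U ∧ ¬ IsMulCommutative A ∧ Nonempty (A ≃* B) ∧
      Nonempty (A ≃* ↥((A ⊔ B) ⊓ U)) := by
  have hC : ∀ (A B : Subgroup G) [A.Normal] [B.Normal], A ≠ ⊥ → B ≠ ⊥ →
      A ≤ centralizer (B : Set G) → centralizer (B : Set G) = A ∧ A ⊓ U = ⊥ ∧ IsComplement' A U := by
    intro A B _ _ hA hB hle
    have h1 := centralizer_inf_eq_bot hU hcore B hB
    have hU' : A ⊓ U = ⊥ := le_bot_iff.1 ((inf_le_inf_right U hle).trans h1.le)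
    refine ⟨le_antisymm (fun c hc => ?_) hle, hU', isComplement'_of_disjoint_and_mul_eq_univ
      (disjoint_iff.2 hU') (by rw [← normal_mul, sup_eq_top_of_normal hU hcore A hA, coe_top])⟩
    obtain ⟨a, ha, u, hu, rfl⟩ := mem_sup_of_normal_left.1
      (sup_eq_top_of_normal hU hcore A hA ▸ mem_top c : c ∈ A ⊔ U)
    have : u ∈ centralizer (B : Set G) ⊓ U := ⟨by
      have := mul_mem (inv_mem (hle ha)) hc
      rwa [inv_mul_cancel_left] at this, hu⟩
    rw [h1, mem_bot] at this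
    rwa [this, mul_one]
  obtain ⟨hinf, hleA⟩ := commute_of_minimal_ne hAmin hBmin hA hAB
  have hleB : B ≤ centralizer (A : Set G) := le_centralizer_iff.1 hleA
  obtain ⟨c1, u1, k1⟩ := hC A B hA hB hleA
  obtain ⟨c2, u2, k2⟩ := hC B A hB hA hleB
  have hnab : ¬ IsMulCommutative A := by
    intro hab
    haveI := hab
    have : A ≤ centralizer (A : Set G) := fun a ha => mem_centralizer_iff.2 fun b hb =>
      congrArg Subtype.val (mul_comm' (⟨b, hb⟩ : A) ⟨a, ha⟩)
    rw [c2] at this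
    exact hA (le_bot_iff.1 (hinf ▸ le_inf le_rfl this))
  have hD : ∀ (A B : Subgroup G) [B.Normal], B ⊓ U = ⊥ → B ⊔ U = ⊤ →
      (((A ⊔ B) ⊓ U) ⊓ B = ⊥ ∧ ((A ⊔ B) ⊓ U) ⊔ B = A ⊔ B) := by
    intro A B _ hBU hBtop
    refine ⟨le_bot_iff.1 (hBU ▸ le_inf inf_le_right (inf_le_left.trans inf_le_right)), ?_⟩
    refine le_antisymm (sup_le inf_le_left le_sup_right) fun x hx => ?_
    obtain ⟨b, hb, u, hu, rfl⟩ := mem_sup_of_normal_left.1 (hBtop ▸ mem_top x : x ∈ B ⊔ U)
    refine mul_mem (mem_sup_right hb) (mem_sup_left ⟨?_, hu⟩)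
    have := mul_mem (inv_mem (mem_sup_right (S := A) hb)) hx
    rwa [inv_mul_cancel_left] at this
  obtain ⟨d1, d2⟩ := hD A B u2 k2.sup_eq_top
  obtain ⟨d3, d4⟩ := hD B A u1 k1.sup_eq_top
  rw [sup_comm B A] at d3 d4
  obtain ⟨e1⟩ := mulEquiv_of_complements hinf d1 rfl d2
  obtain ⟨e2⟩ := mulEquiv_of_complements (inf_comm A B ▸ hinf : B ⊓ A = ⊥) d3 (sup_comm B A) d4
  exact ⟨c1, c2, k1, k2, hnab, ⟨e1.trans e2.symm⟩, ⟨e1⟩⟩

theorem nilpotent_inf_center_ne_bot' [Finite G] {M N : Subgroup G} [M.Normal] [Group.IsNilpotent N]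
    (hMN : M ≤ N) (hM : M ≠ ⊥) : M ⊓ centralizer (N : Set G) ≠ ⊥ := by
  intro h
  refine nilpotent_inf_center_ne_bot (M.subgroupOf N) (fun e => hM ?_)
    ((eq_bot_iff_forall _).2 fun x hx => ?_)
  · rw [← map_subgroupOf_eq_of_le hMN, e, Subgroup.map_bot]
  · have hxm : (x : G) ∈ M ⊓ centralizer (N : Set G) := ⟨mem_subgroupOf.1 hx.1,
      mem_centralizer_iff.2 fun y hy => congrArg Subtype.val (Subgroup.mem_center_iff.1 hx.2 ⟨y, hy⟩)⟩
    rw [h, mem_bot] at hxm
    exact Subtype.ext hxm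

theorem exists_minimal_abelian [Finite G] [Group.IsSolvable G] (M : Subgroup G) [M.Normal]
    (hM : M ≠ ⊥) (hmin : ∀ K : Subgroup G, K.Normal → K ≤ M → K = ⊥ ∨ K = M) :
    ∃ p d : ℕ, p.Prime ∧ 0 < d ∧ Nat.card M = p ^ d ∧ IsPGroup p M ∧
      M ≤ centralizer (M : Set G) := by
  obtain ⟨hc, p, hp, hpow⟩ := minimal_normal_solvable hM hmin
  haveI := Fact.mk hp
  have hP : IsPGroup p M := fun x => ⟨1, Subtype.ext (by simpa using hpow x x.2)⟩
  obtain ⟨d, hd⟩ := IsPGroup.iff_card.1 hP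
  refine ⟨p, d, hp, Nat.pos_of_ne_zero ?_, hd, hP, fun a ha => mem_centralizer_iff.2 fun b hb => hc b hb a ha⟩
  rintro rfl
  exact hM (card_eq_one.1 (by simpa using hd))

variable {Ω : Type*} [MulAction G Ω] [FaithfulSMul G Ω]

theorem primitive_normal_transitive (hprim : MulAction.IsPreprimitive G Ω) (M : Subgroup G)
    [M.Normal] (hM : M ≠ ⊥) : MulAction.IsPretransitive M Ω := by
  haveI := hprim
  refine MulAction.IsQuasiPreprimitive.isPretransitive_of_normal (G := G) fun e => hM ?_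
  refine (eq_bot_iff_forall _).2 fun m hm => FaithfulSMul.eq_of_smul_eq_smul (α := Ω) fun ω => ?_
  rw [one_smul]
  exact (Set.eq_univ_iff_forall.1 e ω) ⟨m, hm⟩

theorem abelian_transitive_regular {M : Subgroup G} (hMc : M ≤ centralizer (M : Set G))
    (ht : MulAction.IsPretransitive M Ω) {g : G} (hg : g ∈ centralizer (M : Set G)) {ω : Ω}
    (h : g • ω = ω) : g = 1 := by
  refine FaithfulSMul.eq_of_smul_eq_smul (α := Ω) fun x => ?_
  obtain ⟨⟨m, hm⟩, rfl⟩ := ht.exists_smul_eq ω x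
  show g • m • ω = (1 : G) • m • ω
  rw [one_smul, ← mul_smul, ← mem_centralizer_iff.1 hg m hm, mul_smul, h]

theorem primitive_minimal_normal_regular [Finite G] [Group.IsSolvable G] [Nonempty Ω]
    (hprim : MulAction.IsPreprimitive G Ω) (M : Subgroup G) [M.Normal] (hM : M ≠ ⊥)
    (hmin : ∀ K : Subgroup G, K.Normal → K ≤ M → K = ⊥ ∨ K = M) :
    MulAction.IsPretransitive M Ω ∧ (∀ ω : Ω, MulAction.stabilizer M ω = ⊥) ∧
      ∃ p d : ℕ, p.Prime ∧ 0 < d ∧ Nat.card Ω = p ^ d ∧ Nat.card M = p ^ d := by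
  have ht := primitive_normal_transitive hprim M hM
  obtain ⟨p, d, hp, hd, hcard, -, hMc⟩ := exists_minimal_abelian M hM hmin
  have hst : ∀ ω : Ω, MulAction.stabilizer M ω = ⊥ := fun ω => (eq_bot_iff_forall _).2 fun m hm =>
    Subtype.ext (abelian_transitive_regular hMc ht (hMc m.2) (MulAction.mem_stabilizer_iff.1 hm))
  refine ⟨ht, hst, p, d, hp, hd, ?_, hcard⟩
  obtain ⟨ω⟩ := ‹Nonempty Ω›
  haveI := ht
  rw [← hcard, ← MulAction.index_stabilizer_of_transitive M ω, hst ω, index_bot]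

theorem primitive_stabilizer_complement [Finite G] [Group.IsSolvable G]
    (hprim : MulAction.IsPreprimitive G Ω) (M : Subgroup G) [M.Normal] (hM : M ≠ ⊥)
    (hmin : ∀ K : Subgroup G, K.Normal → K ≤ M → K = ⊥ ∨ K = M) (ω : Ω) :
    IsComplement' M (MulAction.stabilizer G ω) ∧
      MulAction.stabilizer G ω ⊓ centralizer (M : Set G) = ⊥ ∧
      ∀ K : Subgroup G, K ≤ M → MulAction.stabilizer G ω ≤ normalizer (K : Set G) →
        K = ⊥ ∨ K = M := by
  have ht := primitive_normal_transitive hprim M hM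
  obtain ⟨p, d, hp, hd, hcard, -, hMc⟩ := exists_minimal_abelian M hM hmin
  set S := MulAction.stabilizer G ω
  have h1 : S ⊓ centralizer (M : Set G) = ⊥ := (eq_bot_iff_forall _).2 fun g hg =>
    abelian_transitive_regular hMc ht hg.2 (MulAction.mem_stabilizer_iff.1 hg.1)
  have hdis : M ⊓ S = ⊥ := le_bot_iff.1 (h1 ▸ le_inf inf_le_right (inf_le_left.trans hMc))
  have htop : ((M : Set G) * (S : Set G)) = Set.univ := by
    refine Set.eq_univ_of_forall fun g => ?_
    obtain ⟨⟨m, hm⟩, e⟩ := ht.exists_smul_eq ω (g • ω)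
    have e : m • ω = g • ω := e
    refine ⟨m, hm, m⁻¹ * g, ?_, mul_inv_cancel_left m g⟩
    show (m⁻¹ * g) • ω = ω
    rw [mul_smul, ← e, inv_smul_smul]
  refine ⟨isComplement'_of_disjoint_and_mul_eq_univ (disjoint_iff.2 hdis) htop, h1, fun K hK hKn => ?_⟩
  refine hmin K (normalizer_eq_top_iff.1 (eq_top_iff.2 fun g _ => ?_)) hK
  obtain ⟨m, hm, s, hs, rfl⟩ := (Set.eq_univ_iff_forall.1 htop g)
  refine mul_mem ?_ (hKn hs)
  exact (centralizer_le_normalizer _) (centralizer_le hK (hMc hm))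

omit [MulAction G Ω] in
theorem corefree_maximal_conj [Finite G] [Group.IsSolvable G] {U V : Subgroup G} (hU : IsCoatom U)
    (hV : IsCoatom V) (hUc : U.normalCore = ⊥) (hVc : V.normalCore = ⊥) :
    ∃ g : G, MulAut.conj g • U = V := by
  haveI : Nontrivial G := by
    by_contra h
    rw [not_nontrivial_iff_subsingleton] at h
    exact hU.1 (Subsingleton.elim _ _)
  obtain ⟨M, hMn, hM, -, hmin⟩ := exists_minimal_normal_le (N := (⊤ : Subgroup G)) top_ne_bot
  haveI := hMn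
  obtain ⟨p, d, hp, hd, hcard, hMp, hMc⟩ := exists_minimal_abelian M hM hmin
  haveI := Fact.mk hp
  have hC : ∀ W : Subgroup G, IsCoatom W → W.normalCore = ⊥ →
      M ⊓ W = ⊥ ∧ M ⊔ W = ⊤ ∧ centralizer (M : Set G) = M := by
    intro W hW hWc
    have h1 := centralizer_inf_eq_bot hW hWc M hM
    have h2 := sup_eq_top_of_normal hW hWc M hM
    refine ⟨le_bot_iff.1 ((inf_le_inf_right W hMc).trans h1.le), h2, le_antisymm (fun c hc => ?_) hMc⟩
    obtain ⟨m, hm, w, hw, rfl⟩ := mem_sup_of_normal_left.1 (h2 ▸ mem_top c : c ∈ M ⊔ W)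
    have : w ∈ centralizer (M : Set G) ⊓ W := ⟨by
      have := mul_mem (inv_mem (hMc hm)) hc
      rwa [inv_mul_cancel_left] at this, hw⟩
    rw [h1, mem_bot] at this
    rwa [this, mul_one]
  obtain ⟨hUi, hUs, hCM⟩ := hC U hU hUc
  obtain ⟨hVi, hVs, -⟩ := hC V hV hVc
  by_cases hMtop : M = ⊤
  · rw [hMtop, top_inf_eq] at hUi hVi
    exact ⟨1, by rw [map_one, one_smul, hUi, hVi]⟩
  haveI : Nontrivial (G ⧸ M) := QuotientGroup.nontrivial_iff.2 hMtop
  obtain ⟨N₀, hN₀n, hN₀, -, hN₀min⟩ :=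
    exists_minimal_normal_le (N := (⊤ : Subgroup (G ⧸ M))) top_ne_bot
  haveI := hN₀n
  obtain ⟨q, e, hq, he, hN₀c, hN₀p, -⟩ := exists_minimal_abelian N₀ hN₀ hN₀min
  haveI := Fact.mk hq
  set N := N₀.comap (QuotientGroup.mk' M) with hN
  have hMN : M ≤ N := QuotientGroup.le_comap_mk' M N₀
  have hcN : Nat.card N = p ^ d * q ^ e := by
    have := QuotientGroup.card_preimage_mk M (N₀ : Set (G ⧸ M))
    rw [← hcard, ← hN₀c]
    exact this
  have hpq : p ≠ q := by
    rintro rfl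
    have hNp : IsPGroup p N := IsPGroup.of_card (n := d + e) (by rw [hcN, pow_add])
    haveI := hNp.isNilpotent
    haveI : (centralizer (N : Set G)).Normal := Subgroup.normal_centralizer
    have hne : M ⊓ centralizer (N : Set G) ≠ ⊥ := nilpotent_inf_center_ne_bot' hMN hM
    rcases hmin _ inferInstance (inf_le_left : M ⊓ centralizer (N : Set G) ≤ M) with h | h
    · exact hne h
    · have h2 : N ≤ M := hCM ▸ le_centralizer_iff.1 (inf_eq_left.1 h)
      have h3 := card_dvd_of_le h2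
      rw [hcN, hcard, ← pow_add, Nat.pow_dvd_pow_iff_le_right hp.one_lt] at h3
      omega
  have hcop : (Nat.card M).Coprime (q ^ e) := by
    rw [hcard]; exact Nat.Coprime.pow _ _ ((Nat.coprime_primes hp hq).2 hpq)
  have hsup : ∀ W : Subgroup G, M ⊓ W = ⊥ → M ⊔ W = ⊤ →
      Nat.card (N ⊓ W : Subgroup G) = q ^ e ∧ N ⊓ W ⊔ M = N ∧ normalizer ((N ⊓ W : Subgroup G) : Set G) ≥ W := by
    intro W h1 h2
    have hs : N ⊓ W ⊔ M = N := le_antisymm (sup_le inf_le_left hMN) fun x hx => by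
      obtain ⟨m, hm, w, hw, rfl⟩ := mem_sup_of_normal_left.1 (h2 ▸ mem_top x : x ∈ M ⊔ W)
      refine mul_mem (mem_sup_right hm) (mem_sup_left ⟨?_, hw⟩)
      have := mul_mem (inv_mem (hMN hm)) hx
      rwa [inv_mul_cancel_left] at this
    refine ⟨?_, hs, inf_le_normalizer (by rw [normalizer_eq_top]; exact le_top) le_normalizer⟩
    have e1 : M.relIndex (N ⊓ W) = M.relIndex N := by
      conv_rhs => rw [← hs]
      rw [relIndex_sup_right]
    have e2 : M.relIndex (N ⊓ W) = Nat.card (N ⊓ W : Subgroup G) := by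
      rw [← inf_relIndex_right, show M ⊓ (N ⊓ W) = ⊥ from
        le_bot_iff.1 (h1 ▸ le_inf inf_le_left (inf_le_right.trans inf_le_right)), relIndex_bot_left]
    have e3 := card_mul_relIndex hMN
    rw [hcN, ← hcard] at e3
    rw [← e2, e1]
    exact Nat.eq_of_mul_eq_mul_left Nat.card_pos e3
  obtain ⟨cU, sU, nU⟩ := hsup U hUi hUs
  obtain ⟨cV, sV, nV⟩ := hsup V hVi hVs
  obtain ⟨x, hxM, hx⟩ := sz_conj_in (A := N ⊓ V) (B := N ⊓ U) (N := M)
    (by rw [normalizer_eq_top]; exact le_top) (by rw [cV]; exact hcop)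
    (by rw [sV]; exact inf_le_left) (by rw [cU, cV])
    (Or.inr (isSolvable_of_le le_top (Group.isSolvable_of_surjective
      (f := (topEquiv (G := G)).symm.toMonoidHom) (MulEquiv.surjective _))))
  have hnV : normalizer ((N ⊓ V : Subgroup G) : Set G) = V := by
    rcases hV.le_iff.1 nV with h | h
    · exfalso
      haveI := normalizer_eq_top_iff.1 h
      have hb : N ⊓ V = ⊥ := le_bot_iff.1 (hVc ▸ normal_le_normalCore.2 (inf_le_right : N ⊓ V ≤ V))
      rw [hb, card_bot] at cV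
      exact absurd cV.symm (Nat.one_lt_pow he.ne' hq.one_lt).ne'
    · exact h
  refine ⟨x, eq_of_le_of_card_ge ?_ ?_⟩
  · rw [← hnV, ← hx]
    rintro _ ⟨u, hu, rfl⟩
    refine conjBy_eq_self_iff.1 ?_
    show conjBy (x * u * x⁻¹) (conjBy x (N ⊓ U)) = conjBy x (N ⊓ U)
    rw [conjBy_conjBy, inv_mul_cancel_right, ← conjBy_conjBy, conjBy_eq_self_iff.2 (nU hu)]
  · rw [← conjBy_eq_smul, card_conjBy]
    have hc : ∀ W : Subgroup G, M ⊓ W = ⊥ → M ⊔ W = ⊤ → Nat.card W = M.index := fun W h1 h2 => by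
      rw [← relIndex_top_right M, ← h2, sup_comm M W, relIndex_sup_right, ← inf_relIndex_right,
        h1, relIndex_bot_left]
    rw [hc V hVi hVs, hc U hUi hUs]

end CfsgLib.Coprime
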