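import Cfsg.Agent.S0046
import Cfsg.Agent.Lib.PGroup.Basic
import Cfsg.Agent.Lib.Coprime.Solvable
import Cfsg.Agent.Lib.Coprime.Action
import Mathlib.GroupTheory.SpecificGroups.Cyclic

/-!
# Schmidt groups and Wielandt's theorem on nilpotent Hall subgroups
-/

set_option autoImplicit false
set_option linter.style.haveILetI false
set_option linter.unusedSectionVars false

namespace CfsgLib.Coprime

open Subgroup
open scoped commutatorElement

universe u

variable {G : Type u} [Group G]

/-- Elements of coprime order of a finite nilpotent group commute. -/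
theorem commute_of_isNilpotent_coprime [Finite G] [Group.IsNilpotent G] {p q : ℕ} [Fact p.Prime]
    [Fact q.Prime] (hpq : p ≠ q) {x y : G} (hx : IsPGroup p (zpowers x)) (hy : IsPGroup q (zpowers y)) :
    Commute x y := by
  obtain ⟨P, hP⟩ := hx.exists_le_sylow
  obtain ⟨Q, hQ⟩ := hy.exists_le_sylow
  have hn := (Group.isNilpotent_of_finite_tfae (G := G)).out 0 3 rfl rfl |>.1 inferInstance
  haveI : (P : Subgroup G).Normal := hn p inferInstance P
  haveI : (Q : Subgroup G).Normal := hn q inferInstance Q
  exact commute_of_normal_of_disjoint _ _ inferInstance inferInstance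
    (IsPGroup.disjoint_of_ne p q hpq _ _ P.2 Q.2) x y (hP (mem_zpowers x)) (hQ (mem_zpowers y))

theorem commute_of_sup_nilpotent [Finite G] {p q : ℕ} [Fact p.Prime] [Fact q.Prime] (hpq : p ≠ q)
    {A B L : Subgroup G} (hA : IsPGroup p A) (hB : IsPGroup q B) (hAL : A ≤ L) (hBL : B ≤ L)
    (hL : Group.IsNilpotent L) : A ≤ centralizer (B : Set G) := by
  haveI := hL
  intro a ha
  rw [mem_centralizer_iff]
  intro b hb
  have ha' : IsPGroup p (zpowers (⟨a, hAL ha⟩ : L)) :=
    ((hA.to_le (zpowers_le.2 ha)).comap_of_injective L.subtype L.subtype_injective).to_le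
      (zpowers_le.2 (show (⟨a, hAL ha⟩ : L) ∈ (zpowers a).comap L.subtype from mem_zpowers a))
  have hb' : IsPGroup q (zpowers (⟨b, hBL hb⟩ : L)) :=
    ((hB.to_le (zpowers_le.2 hb)).comap_of_injective L.subtype L.subtype_injective).to_le
      (zpowers_le.2 (show (⟨b, hBL hb⟩ : L) ∈ (zpowers b).comap L.subtype from mem_zpowers b))
  exact congrArg Subtype.val (commute_of_isNilpotent_coprime hpq ha' hb').eq.symm

/-- In a nilpotent group an element of order prime to `p` centralizes every `p`-subgroup. -/
theorem commute_of_coprime_pow [Finite G] [Group.IsNilpotent G] {p : ℕ} [hp : Fact p.Prime] {b y : G}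
    {P : Subgroup G} (hcop : (orderOf b).Coprime p) (hP : IsPGroup p P) (hy : y ∈ P) :
    Commute b y := by
  refine mem_centralizer_singleton_iff.1 (CfsgLib.PGroup.mem_of_forall_prime_pow_mem
    (S := centralizer ({y} : Set G)) fun r hr => ?_)
  haveI := Fact.mk hr
  by_cases hrp : r = p
  · subst hrp
    refine ⟨orderOf b, fun hd => hr.ne_one (Nat.eq_one_of_dvd_coprimes hcop hd dvd_rfl), ?_⟩
    rw [pow_orderOf_eq_one]
    exact one_mem _
  obtain ⟨a, k, hk, hbk⟩ := Nat.exists_eq_pow_mul_and_not_dvd (orderOf_pos b).ne' r hr.ne_one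
  refine ⟨k, hk, mem_centralizer_singleton_iff.2 ?_⟩
  have hbp : IsPGroup r (zpowers (b ^ k)) := by
    refine IsPGroup.of_card (n := a) ?_
    rw [Nat.card_zpowers, orderOf_pow_of_dvd (fun e => hk (by simp [e])) (Dvd.intro_left _ hbk.symm),
      hbk, Nat.mul_div_cancel _ (Nat.pos_of_ne_zero fun e => hk (by simp [e]))]
  exact (commute_of_isNilpotent_coprime hrp hbp (hP.to_le (zpowers_le.2 hy))).eq

/-- A Sylow subgroup normalized by a Sylow subgroup for every other prime is normal. -/
theorem sylow_normal_of_forall [Finite G] {p : ℕ} [Fact p.Prime] (P : Sylow p G)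
    (h : ∀ r : ℕ, r.Prime → r ≠ p → ∃ R : Sylow r G,
      (R : Subgroup G) ≤ normalizer ((P : Subgroup G) : Set G)) : (P : Subgroup G).Normal := by
  refine normalizer_eq_top_iff.1 (eq_top_of_card_eq _ (Nat.dvd_antisymm (card_subgroup_dvd_card _)
    ((Nat.dvd_iff_prime_pow_dvd_dvd _ _).2 fun s j hs hd => ?_)))
  haveI := Fact.mk hs
  have hj := pow_dvd_pow s ((hs.pow_dvd_iff_le_factorization Nat.card_pos.ne').1 hd)
  by_cases hsp : s = p
  · subst hsp
    exact hj.trans (P.card_eq_multiplicity ▸ card_dvd_of_le le_normalizer)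
  · obtain ⟨R, hR⟩ := h s hs hsp
    exact hj.trans (R.card_eq_multiplicity ▸ card_dvd_of_le hR)

theorem exists_normal_prime_index [Finite G] [Group.IsSolvable G] [Nontrivial G] :
    ∃ M : Subgroup G, M.Normal ∧ M.index.Prime := by
  obtain ⟨M, hM, hle⟩ := (eq_top_or_exists_le_coatom (commutator G)).resolve_left
    (Group.IsSolvable.commutator_lt_top_of_nontrivial G).ne
  haveI hn : M.Normal := ⟨fun m hm g => by
    have := M.mul_mem (hle (commutator_mem_commutator (mem_top g) (mem_top m))) hm
    simpa [commutatorElement_def] using this⟩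
  refine ⟨M, hn, ?_⟩
  haveI : Nontrivial (G ⧸ M) := QuotientGroup.nontrivial_iff.2 hM.1
  obtain ⟨q, hq, hqd⟩ := Nat.exists_prime_and_dvd (Finite.one_lt_card (α := G ⧸ M)).ne'
  haveI := Fact.mk hq
  obtain ⟨x, hx⟩ := exists_prime_orderOf_dvd_card' q hqd
  obtain ⟨x, rfl⟩ := QuotientGroup.mk_surjective x
  have htop : M ⊔ zpowers x = ⊤ := by
    refine hM.2 _ (lt_of_le_of_ne le_sup_left fun e => hq.ne_one ?_)
    rw [← hx, (QuotientGroup.eq_one_iff x).2 (e ▸ mem_sup_right (mem_zpowers x)), orderOf_one]
  have h1 : zpowers (x : G ⧸ M) = ⊤ := by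
    have := congrArg (Subgroup.map (QuotientGroup.mk' M)) htop
    rwa [Subgroup.map_sup, QuotientGroup.map_mk'_self, bot_sup_eq, MonoidHom.map_zpowers,
      Subgroup.map_top_of_surjective _ (QuotientGroup.mk'_surjective M)] at this
  show Nat.Prime (Nat.card (G ⧸ M))
  rw [← Subgroup.card_top (G := G ⧸ M), ← h1, Nat.card_zpowers, hx]
  exact hq

/-- A Schmidt group has a normal Sylow subgroup and a cyclic one. -/
theorem schmidt_structure [Finite G] (hG : ¬ Group.IsNilpotent G)
    (h : ∀ H : Subgroup G, H ≠ ⊤ → Group.IsNilpotent H) :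
    ∃ p q : ℕ, p.Prime ∧ q.Prime ∧ p ≠ q ∧ ∃ (P : Sylow p G) (Q : Sylow q G), IsCyclic P ∧
      (Q : Subgroup G).Normal ∧ (P : Subgroup G) ⊔ Q = ⊤ ∧
      ¬ (P : Subgroup G) ≤ centralizer ((Q : Subgroup G) : Set G) := by
  haveI : Group.IsSolvable G := Cfsg.Agent.S0046.result fun M hM => h M hM.1
  haveI : Nontrivial G := by
    by_contra hn
    rw [not_nontrivial_iff_subsingleton] at hn
    exact hG inferInstance
  obtain ⟨M, hMn, hMp⟩ := exists_normal_prime_index (G := G)
  haveI := hMn
  obtain ⟨p, hp, hMi⟩ : ∃ p, p.Prime ∧ M.index = p := ⟨_, hMp, rfl⟩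
  haveI := Fact.mk hp
  haveI hMnil := h M (fun e => hp.ne_one (by rw [← hMi, e, index_top]))
  have hnormal : ∀ (r : ℕ), r.Prime → r ≠ p → ∀ R : Sylow r G, (R : Subgroup G).Normal := by
    intro r hr hrp R
    haveI := Fact.mk hr
    have hRM : (R : Subgroup G) ≤ M := by
      intro x hx
      refine (QuotientGroup.eq_one_iff x).1 (orderOf_eq_one_iff.1 ?_)
      obtain ⟨k, hk⟩ := IsPGroup.iff_orderOf.1 R.2 ⟨x, hx⟩
      refine Nat.eq_one_of_dvd_coprimes (Nat.Coprime.pow_left k ((Nat.coprime_primes hr hp).2 hrp))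
        ((orderOf_map_dvd (QuotientGroup.mk' M) x).trans ?_)
        ((orderOf_dvd_natCard (x : G ⧸ M)).trans (dvd_of_eq hMi))
      rw [← hk, Subgroup.orderOf_coe ⟨x, hx⟩]
    haveI : ((R.subtype hRM : Sylow r M) : Subgroup M).Normal :=
      (Group.isNilpotent_of_finite_tfae (G := M)).out 0 3 rfl rfl |>.1 hMnil r inferInstance _
    haveI := Sylow.characteristic_of_normal (R.subtype hRM) inferInstance
    have e : ((R.subtype hRM : Sylow r M) : Subgroup M).map M.subtype = R :=
      map_subgroupOf_eq_of_le hRM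
    exact e ▸ ConjAct.normal_of_characteristic_of_normal
  let P : Sylow p G := default
  obtain ⟨q, hq, hqp, Q, hQ⟩ : ∃ q : ℕ, q.Prime ∧ q ≠ p ∧ ∃ Q : Sylow q G,
      ¬ (P : Subgroup G) ≤ centralizer ((Q : Subgroup G) : Set G) := by
    by_contra hcon
    push Not at hcon
    refine hG ((Group.isNilpotent_of_finite_tfae (G := G)).out 0 3 rfl rfl |>.2 fun r hr R => ?_)
    haveI := hr
    by_cases hrp : r = p
    · subst hrp
      have hP : (P : Subgroup G).Normal := sylow_normal_of_forall P fun s hs hsp => by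
        haveI := Fact.mk hs
        exact ⟨default, (le_centralizer_iff.1 (hcon s hs hsp default)).trans (centralizer_le_normalizer _)⟩
      haveI := Sylow.unique_of_normal P hP
      exact Subsingleton.elim P R ▸ hP
    · exact hnormal r hr.out hrp R
  haveI := Fact.mk hq
  haveI hQn := hnormal q hq hqp Q
  have htop : (P : Subgroup G) ⊔ Q = ⊤ := by
    by_contra hne
    exact hQ (commute_of_sup_nilpotent hqp.symm P.2 Q.2 le_sup_left le_sup_right (h _ hne))
  refine ⟨p, q, hp, hq, hqp.symm, P, Q, ?_, hQn, htop, hQ⟩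
  by_contra hnc
  refine hQ fun x hx => ?_
  have hxp : IsPGroup p (zpowers x) := P.2.to_le (zpowers_le.2 hx)
  have hne : zpowers x ⊔ (Q : Subgroup G) ≠ ⊤ := by
    intro e
    refine hnc ⟨⟨⟨x, hx⟩, fun z => ?_⟩⟩
    obtain ⟨y, hy, w, hw, hz⟩ := mem_sup_of_normal_right.1
      (e ▸ mem_top (z : G) : (z : G) ∈ zpowers x ⊔ (Q : Subgroup G))
    have hwP : w ∈ (P : Subgroup G) := by
      have := mul_mem (inv_mem (zpowers_le.2 hx hy)) z.2
      rwa [← hz, inv_mul_cancel_left] at this
    have hw1 : w = 1 :=
      Subgroup.disjoint_def.1 (IsPGroup.disjoint_of_ne p q hqp.symm _ _ P.2 Q.2) hwP hw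
    obtain ⟨i, hi⟩ := mem_zpowers_iff.1 hy
    refine mem_zpowers_iff.2 ⟨i, Subtype.ext ?_⟩
    rw [SubgroupClass.coe_zpow, hi, ← hz, hw1, mul_one]
  exact commute_of_sup_nilpotent hqp.symm hxp Q.2 le_sup_left le_sup_right (h _ hne) (mem_zpowers x)

/-- A finite nilpotent group with abelian Sylow subgroups is abelian. -/
theorem isMulCommutative_of_nilpotent_abelian_sylow [Finite G] [Group.IsNilpotent G]
    (h : ∀ (p : ℕ) [Fact p.Prime] (P : Sylow p G), IsMulCommutative (P : Subgroup G)) :
    IsMulCommutative G := by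
  have htop : center G = ⊤ := by
    refine eq_top_of_card_eq _ (Nat.dvd_antisymm (card_subgroup_dvd_card _)
      ((Nat.dvd_iff_prime_pow_dvd_dvd _ _).2 fun p j hp hd => ?_))
    haveI := Fact.mk hp
    let P : Sylow p G := default
    refine dvd_trans ?_ (card_dvd_of_le (?_ : (P : Subgroup G) ≤ center G))
    · rw [P.card_eq_multiplicity]
      exact pow_dvd_pow p ((hp.pow_dvd_iff_le_factorization Nat.card_pos.ne').1 hd)
    intro x hx
    have hc : centralizer ({x} : Set G) = ⊤ := by
      refine eq_top_of_card_eq _ (Nat.dvd_antisymm (card_subgroup_dvd_card _)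
        ((Nat.dvd_iff_prime_pow_dvd_dvd _ _).2 fun r i hr hd' => ?_))
      haveI := Fact.mk hr
      let R : Sylow r G := default
      refine dvd_trans ?_ (card_dvd_of_le (?_ : (R : Subgroup G) ≤ centralizer ({x} : Set G)))
      · rw [R.card_eq_multiplicity]
        exact pow_dvd_pow r ((hr.pow_dvd_iff_le_factorization Nat.card_pos.ne').1 hd')
      intro y hy
      rw [mem_centralizer_singleton_iff]
      by_cases hrp : r = p
      · subst hrp
        have hn := (Group.isNilpotent_of_finite_tfae (G := G)).out 0 3 rfl rfl |>.1 inferInstance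
        haveI : (P : Subgroup G).Normal := hn r inferInstance P
        haveI := Sylow.unique_of_normal P inferInstance
        have hy' : y ∈ (P : Subgroup G) := Subsingleton.elim R P ▸ hy
        haveI := h r P
        exact congrArg Subtype.val (mul_comm' (⟨y, hy'⟩ : (P : Subgroup G)) ⟨x, hx⟩)
      · exact (commute_of_isNilpotent_coprime hrp (R.2.to_le (zpowers_le.2 hy))
          (P.2.to_le (zpowers_le.2 hx))).eq
    exact mem_center_iff.2 fun g => mem_centralizer_singleton_iff.1 (hc ▸ mem_top g)
  exact ⟨⟨fun a b => (mem_center_iff.1 (htop ▸ mem_top a) b).symm⟩⟩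

/-- Wielandt: a nilpotent Hall subgroup contains a conjugate of every subgroup for its primes. -/
theorem exists_conj_le_nilpotent_hall [Finite G] {H : Subgroup G} (hH : Group.IsNilpotent H)
    (hHall : (Nat.card H).Coprime H.index) :
    ∀ (k : ℕ) (K : Subgroup G), Nat.card K = k →
      (∀ p : ℕ, p.Prime → p ∣ Nat.card K → p ∣ Nat.card H) → ∃ x : G, K ≤ conjBy x H := by
  intro k
  induction k using Nat.strongRecOn with
  | ind k ih =>
    intro K hk hK
    have hHsyl : ∀ (r : ℕ), r.Prime → r ∣ Nat.card H → ∀ (R : Sylow r H), ∃ S : Sylow r G,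
        (S : Subgroup G) = (R : Subgroup H).map H.subtype := by
      intro r hr hrH R
      haveI := Fact.mk hr
      obtain ⟨S, hS⟩ := (R.2.map H.subtype).exists_le_sylow
      refine ⟨S, (eq_of_le_of_card_ge hS (le_of_eq ?_)).symm⟩
      rw [S.card_eq_multiplicity, card_map_of_injective H.subtype_injective, R.card_eq_multiplicity,
        ← H.card_mul_index, Nat.factorization_mul Nat.card_pos.ne' index_ne_zero_of_finite]
      have : ¬ r ∣ H.index := fun e => hr.ne_one (Nat.eq_one_of_dvd_coprimes hHall hrH e)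
      simp [Nat.factorization_eq_zero_of_not_dvd this]
    -- a `p`-group is easy
    have hPG : ∀ (r : ℕ) (U : Subgroup G), r.Prime → IsPGroup r U → (U ≠ ⊥ → r ∣ Nat.card H) →
        ∀ R : Subgroup G, R ≤ H → U ≤ centralizer (R : Set G) →
        ∃ c ∈ centralizer (R : Set G), ∀ (W : Sylow r H),
          ((W : Subgroup H).map H.subtype ≤ centralizer (R : Set G) → conjBy c U ≤ H) := by
      intro r U hr hU hd R hRH hUR
      haveI := Fact.mk hr
      by_cases hU1 : U = ⊥
      · exact ⟨1, one_mem _, fun W _ => by rw [hU1, conjBy, Subgroup.map_bot]; exact bot_le⟩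
      let W : Sylow r H := default
      by_cases hW : (W : Subgroup H).map H.subtype ≤ centralizer (R : Set G)
      · obtain ⟨S, hS⟩ := hHsyl r hr (hd hU1) W
        set C := centralizer (R : Set G)
        obtain ⟨T, hT⟩ := (hU.comap_of_injective C.subtype C.subtype_injective).exists_le_sylow
        obtain ⟨c, hc⟩ := MulAction.exists_smul_eq C T (S.subtype (hS ▸ hW))
        refine ⟨c, c.2, fun _ _ => ?_⟩
        rintro _ ⟨u, hu, rfl⟩
        have h1 : (⟨u, hUR hu⟩ : C) ∈ (T : Subgroup C) := hT hu
        have h2 : c * (⟨u, hUR hu⟩ : C) * c⁻¹ ∈ ((c • T : Sylow r C) : Subgroup C) :=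
          ⟨_, h1, rfl⟩
        rw [hc] at h2
        have h3 : (c : G) * u * (c : G)⁻¹ ∈ (S : Subgroup G) := h2
        rw [hS] at h3
        exact map_subtype_le _ h3
      · refine ⟨1, one_mem _, fun W' hW' => absurd ?_ hW⟩
        haveI := hH
        have hn := (Group.isNilpotent_of_finite_tfae (G := H)).out 0 3 rfl rfl |>.1 hH
        haveI : (W : Subgroup H).Normal := hn r inferInstance W
        haveI := Sylow.unique_of_normal W inferInstance
        rwa [Subsingleton.elim W W']
    have hHcomm : ∀ (r s : ℕ) [Fact r.Prime] [Fact s.Prime], r ≠ s →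
        ∀ (W : Sylow r H) (V : Subgroup G), V ≤ H → IsPGroup s V →
          (W : Subgroup H).map H.subtype ≤ centralizer (V : Set G) := fun r s _ _ hrs W V hV hVp =>
      commute_of_sup_nilpotent hrs (W.2.map H.subtype) hVp (map_subtype_le _) hV hH
    by_cases hKn : Group.IsNilpotent K
    · -- nilpotent: split off one Sylow subgroup
      haveI := hKn
      rcases eq_or_ne K ⊥ with rfl | hKne
      · exact ⟨1, bot_le⟩
      obtain ⟨p, hp, hpd⟩ := Nat.exists_prime_and_dvd (fun e => hKne (card_eq_one.1 e) : Nat.card K ≠ 1)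
      haveI := Fact.mk hp
      let P : Sylow p K := default
      have hn := (Group.isNilpotent_of_finite_tfae (G := K)).out 0 3 rfl rfl |>.1 hKn
      haveI : (P : Subgroup K).Normal := hn p inferInstance P
      obtain ⟨R', hR'⟩ := exists_right_complement'_of_coprime (N := (P : Subgroup K)) P.card_coprime_index
      set R := R'.map K.subtype
      set P₀ := (P : Subgroup K).map K.subtype
      have hlt : Nat.card R < k := by
        rw [← hk, card_map_of_injective K.subtype_injective, ← hR'.card_mul_card]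
        refine lt_mul_of_one_lt_left Nat.card_pos ?_
        haveI : Nontrivial P := (nontrivial_iff_ne_bot _).2 (P.ne_bot_of_dvd_card hpd)
        exact Finite.one_lt_card
      obtain ⟨x, hx⟩ := ih _ hlt R rfl fun r hr hd => hK r hr (hd.trans (card_dvd_of_le (map_subtype_le _)))
      have hx' : conjBy x⁻¹ R ≤ H := by
        have := Subgroup.map_mono (f := (MulAut.conj x⁻¹).toMonoidHom) hx
        rwa [show (conjBy x H).map (MulAut.conj x⁻¹).toMonoidHom = conjBy x⁻¹ (conjBy x H) from rfl,
          conjBy_conjBy, inv_mul_cancel, conjBy_one] at this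
      -- `P` centralizes `R`
      have hcent : P₀ ≤ centralizer (R : Set G) := by
        intro a ha
        obtain ⟨a, ha'', rfl⟩ := ha
        rw [mem_centralizer_iff]
        rintro _ ⟨b, hb, rfl⟩
        have hcop : (orderOf b).Coprime p := by
          refine Nat.Coprime.coprime_dvd_left ((dvd_of_eq (Subgroup.orderOf_coe (⟨b, hb⟩ : R'))).trans
            (orderOf_dvd_natCard _)) ?_
          rw [← hR'.symm.index_eq_card]
          exact ((hp.coprime_iff_not_dvd).2 P.not_dvd_index).symm
        exact congrArg Subtype.val (commute_of_coprime_pow hcop P.2 ha'').eq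
      have hP' : conjBy x⁻¹ P₀ ≤ centralizer (conjBy x⁻¹ R : Set G) := by
        rintro _ ⟨a, ha, rfl⟩
        rw [mem_centralizer_iff]
        rintro _ ⟨b, hb, rfl⟩
        rw [← map_mul, ← map_mul, mem_centralizer_iff.1 (hcent ha) b hb]
      obtain ⟨c, hc, hcH⟩ := hPG p (conjBy x⁻¹ P₀) hp ((P.2.map _).map _)
        (fun _ => hK p hp hpd) (conjBy x⁻¹ R) hx' hP'
      let W : Sylow p H := default
      have hW : (W : Subgroup H).map H.subtype ≤ centralizer (conjBy x⁻¹ R : Set G) := by
        intro w hw
        rw [mem_centralizer_iff]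
        intro b hb
        obtain ⟨w, hwW, rfl⟩ := hw
        have hbH := hx' hb
        have hcop : (orderOf (⟨b, hbH⟩ : H)).Coprime p := by
          rw [← Subgroup.orderOf_coe]
          refine Nat.Coprime.coprime_dvd_left ((dvd_of_eq (Subgroup.orderOf_coe (⟨b, hb⟩ : conjBy x⁻¹ R))).trans
            (orderOf_dvd_natCard _)) ?_
          rw [card_conjBy, card_map_of_injective K.subtype_injective, ← hR'.symm.index_eq_card]
          exact ((hp.coprime_iff_not_dvd).2 P.not_dvd_index).symm
        haveI := hH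
        exact congrArg Subtype.val (commute_of_coprime_pow hcop W.2 hwW).eq
      have hKc : conjBy (c * x⁻¹) K ≤ H := by
        have hsup : K = P₀ ⊔ R := by
          rw [← Subgroup.map_sup, hR'.sup_eq_top, ← MonoidHom.range_eq_map, range_subtype]
        rw [hsup, conjBy, Subgroup.map_sup]
        refine sup_le ?_ ?_
        · rw [show P₀.map (MulAut.conj (c * x⁻¹)).toMonoidHom = conjBy c (conjBy x⁻¹ P₀) from
            (conjBy_conjBy _ _ _).symm]
          exact hcH W hW
        · rw [show R.map (MulAut.conj (c * x⁻¹)).toMonoidHom = conjBy c (conjBy x⁻¹ R) from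
            (conjBy_conjBy _ _ _).symm]
          rintro _ ⟨r, hr, rfl⟩
          show c * r * c⁻¹ ∈ H
          rw [← mem_centralizer_iff.1 hc r hr, mul_inv_cancel_right]
          exact hx' hr
      refine ⟨(c * x⁻¹)⁻¹, fun y hy => ?_⟩
      rw [mem_conjBy, inv_inv]
      exact hKc (conj_mem_conjBy hy)
    · -- not nilpotent: impossible
      exfalso
      refine hKn ?_
      by_contra hKn'
      have hsub : ∀ T : Subgroup K, T ≠ ⊤ → Group.IsNilpotent T := by
        intro T hT
        obtain ⟨x, hx⟩ := ih (Nat.card (T.map K.subtype)) (by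
          rw [card_map_of_injective K.subtype_injective, ← hk]
          exact (card_le_card_group T).lt_of_ne fun e => hT (eq_top_of_card_eq T e)) _ rfl
          fun r hr hd => hK r hr (hd.trans (card_dvd_of_le (map_subtype_le _)))
        haveI := isNilpotent_of_le hx (by
          haveI := hH
          exact Group.nilpotent_of_mulEquiv (H.equivMapOfInjective _ (MulEquiv.injective (MulAut.conj x))))
        exact Group.nilpotent_of_mulEquiv (T.equivMapOfInjective _ K.subtype_injective).symm
      obtain ⟨p, q, hp, hq, hpq, P, Q, -, hQn, -, hPQ⟩ := schmidt_structure hKn' hsub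
      haveI := Fact.mk hp
      haveI := Fact.mk hq
      haveI := hQn
      set P₀ := (P : Subgroup K).map K.subtype
      set Q₀ := (Q : Subgroup K).map K.subtype
      -- move `Q` into `H`
      have hdq : ∀ (r : ℕ) [Fact r.Prime] (R : Sylow r K), (R : Subgroup K) ≠ ⊥ → r ∣ Nat.card H := by
        intro r _ R hR
        refine hK r Fact.out ?_
        obtain ⟨j, hj⟩ := IsPGroup.iff_card.1 R.2
        have hj0 : j ≠ 0 := by rintro rfl; exact hR (card_eq_one.1 (by simpa using hj))
        exact (dvd_pow_self r hj0).trans (hj ▸ card_subgroup_dvd_card _)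
      have hP1 : (P : Subgroup K) ≠ ⊥ := fun e => hPQ (e ▸ bot_le)
      have hQ1 : (Q : Subgroup K) ≠ ⊥ := fun e => hPQ (fun a _ => mem_centralizer_iff.2 fun b hb => by
        rw [e] at hb
        rw [Subgroup.mem_bot.1 hb, one_mul, mul_one])
      let V : Sylow q H := default
      obtain ⟨S, hS⟩ := hHsyl q hq (hdq q Q hQ1) V
      obtain ⟨S', hS'⟩ := (Q.2.map K.subtype).exists_le_sylow
      obtain ⟨g, hg⟩ := MulAction.exists_smul_eq G S' S
      set Q₁ := conjBy g Q₀
      set P₁ := conjBy g P₀
      have hQ₁ : Q₁ ≤ H := by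
        refine le_trans (?_ : Q₁ ≤ (S : Subgroup G)) (hS.le.trans (map_subtype_le _))
        rw [← hg]
        exact map_mono hS'
      let W : Sylow p H := default
      obtain ⟨S₂, hS₂⟩ := hHsyl p hp (hdq p P hP1) W
      have hSC : (S₂ : Subgroup G) ≤ centralizer (Q₁ : Set G) :=
        hS₂.le.trans (hHcomm p q hpq W Q₁ hQ₁ ((Q.2.map _).map _))
      set N := normalizer (Q₁ : Set G)
      set C := centralizer (Q₁ : Set G)
      haveI : (C.subgroupOf N).Normal := by
        refine (normal_subgroupOf_iff_le_normalizer (centralizer_le_normalizer _)).2 ?_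
        exact normalizer_le_normalizer_centralizer Q₁
      have hi : ¬ p ∣ (C.subgroupOf N).index := by
        intro hd
        refine S₂.not_dvd_index (hd.trans ?_)
        exact (Dvd.intro_left _ (relIndex_mul_relIndex (S₂ : Subgroup G) C N hSC
          (centralizer_le_normalizer _))).trans
            (relIndex_dvd_index_of_le (hSC.trans (centralizer_le_normalizer _)))
      have hP₁ : P₁ ≤ C := by
        intro a ha
        have haN : a ∈ N := by
          obtain ⟨a, ha, rfl⟩ := ha
          rw [← conjBy_eq_self_iff]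
          show conjBy (g * a * g⁻¹) (conjBy g Q₀) = _
          rw [conjBy_conjBy, inv_mul_cancel_right, ← conjBy_conjBy]
          refine congrArg _ (conjBy_eq_self_iff.2 ?_)
          obtain ⟨a, -, rfl⟩ := ha
          exact ((normal_subgroupOf_iff_le_normalizer (map_subtype_le _)).1 (by
            rw [subgroupOf, comap_map_eq_self_of_injective K.subtype_injective]; exact hQn)) a.2
        have h1 : ((⟨a, haN⟩ : N) : N ⧸ C.subgroupOf N) = 1 := by
          obtain ⟨j, hj⟩ := IsPGroup.iff_orderOf.1 ((P.2.map K.subtype).map (MulAut.conj g).toMonoidHom) ⟨a, ha⟩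
          refine orderOf_eq_one_iff.1 (Nat.eq_one_of_dvd_coprimes
            (Nat.Coprime.pow_left j ((hp.coprime_iff_not_dvd).2 hi))
            ((orderOf_map_dvd (QuotientGroup.mk' (C.subgroupOf N)) ⟨a, haN⟩).trans ?_)
            (orderOf_dvd_natCard _))
          rw [← hj, ← Subgroup.orderOf_coe, ← Subgroup.orderOf_coe]
        exact (QuotientGroup.eq_one_iff (⟨a, haN⟩ : N)).1 h1
      refine hPQ fun a ha => mem_centralizer_iff.2 fun b hb => Subtype.ext ?_
      have h2 := mem_centralizer_iff.1 (hP₁ (conj_mem_conjBy (mem_map_of_mem K.subtype ha)))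
        _ (conj_mem_conjBy (g := g) (mem_map_of_mem K.subtype hb))
      exact mul_right_cancel (b := g⁻¹) (by simpa [mul_assoc] using h2)

end CfsgLib.Coprime
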