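import Mathlib.GroupTheory.Frattini
import Cfsg.Agent.Lib.Coprime.Fitting

/-!
# Frattini subgroups and complements
-/

set_option autoImplicit false
set_option linter.style.haveILetI false
set_option linter.unusedSectionVars false

namespace CfsgLib.Coprime

open Subgroup
open scoped commutatorElement

variable {G : Type*} [Group G]

theorem le_frattini_of_forall_coatom {H : Subgroup G}
    (h : ∀ M : Subgroup G, IsCoatom M → H ≤ M) : H ≤ frattini G := by
  simp only [frattini, Order.radical, le_iInf_iff]
  exact fun M hM => h M hM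

theorem frattini_map_subtype_le [Finite G] (H : Subgroup G) [H.Normal] :
    (frattini H).map H.subtype ≤ frattini G := by
  haveI : ((frattini H).map H.subtype).Normal := ConjAct.normal_of_characteristic_of_normal
  refine le_frattini_of_forall_coatom fun M hM => ?_
  by_contra hle
  have hsup : (frattini H).map H.subtype ⊔ M = ⊤ :=
    hM.2 _ (lt_of_le_of_ne le_sup_right fun e => hle (le_sup_left.trans e.ge))
  have h1 : M.subgroupOf H = ⊤ := by
    refine frattini_nongenerating (eq_top_iff.2 fun x _ => ?_)
    obtain ⟨f, hf, m, hm, e⟩ := mem_sup_of_normal_left.1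
      (hsup ▸ mem_top (x : G) : (x : G) ∈ (frattini H).map H.subtype ⊔ M)
    obtain ⟨f, hf, rfl⟩ := hf
    have hmH : m ∈ H := by
      have := H.mul_mem (H.inv_mem f.2) x.2
      rwa [← e, coe_subtype, inv_mul_cancel_left] at this
    rw [show x = f * ⟨m, hmH⟩ from Subtype.ext e.symm]
    exact mul_mem (mem_sup_right hf) (mem_sup_left (mem_subgroupOf.2 hm))
  exact hle ((map_subtype_le _).trans (subgroupOf_eq_top.1 h1))

theorem commutator_le_frattini_of_isNilpotent [Finite G] [Group.IsNilpotent G] :
    commutator G ≤ frattini G := by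
  refine le_frattini_of_forall_coatom fun M hM => ?_
  haveI hn : M.Normal :=
    NormalizerCondition.normal_of_coatom M Group.normalizerCondition_of_isNilpotent hM
  have hcyc : ∀ x : G, x ∉ M → ∀ g : G, ∃ k : ℤ, (g : G ⧸ M) = (x : G ⧸ M) ^ k := by
    intro x hx g
    have hg : g ∈ M ⊔ zpowers x := by
      rw [hM.2 _ (lt_of_le_of_ne le_sup_left fun e => hx (e ▸ mem_sup_right (mem_zpowers x)))]
      exact mem_top g
    obtain ⟨m, hm, _, ⟨k, rfl⟩, rfl⟩ := mem_sup_of_normal_left.1 hg
    exact ⟨k, by rw [QuotientGroup.mk_mul, (QuotientGroup.eq_one_iff m).2 hm, one_mul, QuotientGroup.mk_zpow]⟩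
  rw [commutator_def, commutator_le]
  intro a _ b _
  by_cases ha : a ∈ M
  · rw [commutatorElement_def, show a * b * a⁻¹ * b⁻¹ = a * (b * a⁻¹ * b⁻¹) by group]
    exact M.mul_mem ha (hn.conj_mem _ (M.inv_mem ha) b)
  · obtain ⟨k, hk⟩ := hcyc a ha b
    rw [← QuotientGroup.eq_one_iff, ← QuotientGroup.mk'_apply, map_commutatorElement,
      commutatorElement_eq_one_iff_mul_comm, QuotientGroup.mk'_apply, QuotientGroup.mk'_apply, hk]
    exact (Commute.refl (a : G ⧸ M)).zpow_right k

/-- An abelian normal subgroup meeting the Frattini subgroup trivially is complemented. -/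
theorem exists_complement_of_inf_frattini [Finite G] (A : Subgroup G) [A.Normal]
    [IsMulCommutative A] (hΦ : A ⊓ frattini G = ⊥) : ∃ H : Subgroup G, IsComplement' A H := by
  obtain ⟨H, hH, hmin⟩ := exists_minimalFor_of_wellFoundedLT (fun H : Subgroup G => A ⊔ H = ⊤) id
    ⟨⊤, sup_top_eq A⟩
  haveI : (A ⊓ H).Normal := by
    rw [← normalizer_eq_top_iff, eq_top_iff, ← hH]
    refine sup_le ?_ ?_
    · intro a ha
      rw [mem_normalizer_iff]
      intro x
      have key : ∀ y ∈ A, a * y * a⁻¹ = y := fun y hy => by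
        rw [show a * y = y * a from congrArg Subtype.val (mul_comm' (⟨a, ha⟩ : A) ⟨y, hy⟩),
          mul_inv_cancel_right]
      constructor
      · intro hx
        rwa [key x hx.1]
      · intro hx
        have hxA : x ∈ A := by
          have := A.mul_mem (A.mul_mem (A.inv_mem ha) hx.1) ha
          simpa [mul_assoc] using this
        rwa [key x hxA] at hx
    · intro h hh
      rw [mem_normalizer_iff]
      intro x
      refine and_congr (mem_normalizer_iff.1 (by rw [normalizer_eq_top]; exact mem_top h) x)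
        (mem_normalizer_iff.1 (le_normalizer hh) x)
  have hle : A ⊓ H ≤ frattini G := by
    refine le_frattini_of_forall_coatom fun M hM => ?_
    by_contra hnot
    have hsup : (A ⊓ H) ⊔ M = ⊤ :=
      hM.2 _ (lt_of_le_of_ne le_sup_right fun e => hnot (le_sup_left.trans e.ge))
    have h1 : A ⊔ (M ⊓ H) = ⊤ := by
      rw [eq_top_iff, ← hH]
      refine sup_le le_sup_left fun h hh => ?_
      obtain ⟨c, hc, m, hm, rfl⟩ := mem_sup_of_normal_left.1
        (hsup ▸ mem_top h : h ∈ (A ⊓ H) ⊔ M)
      refine mul_mem (mem_sup_left hc.1) (mem_sup_right ⟨hm, ?_⟩)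
      have := H.mul_mem (H.inv_mem hc.2) hh
      rwa [inv_mul_cancel_left] at this
    exact hnot ((hmin h1 (inf_le_right : M ⊓ H ≤ H)).trans inf_le_left |>.trans' inf_le_right)
  refine ⟨H, isComplement'_of_disjoint_and_mul_eq_univ ?_ (by rw [← normal_mul, hH, coe_top])⟩
  rw [disjoint_iff, ← le_bot_iff, ← hΦ]
  exact le_inf inf_le_left hle

end CfsgLib.Coprime
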