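import Cfsg.Agent.Lib.Coprime.PComponent
import Cfsg.Agent.Lib.Coprime.Action
import Cfsg.Agent.Lib.Coprime.Solvable
import Cfsg.Agent.Lib.Fusion.Residual

/-!
# `p`-constraint, the `p`-layer and `p`-local subgroups
-/

set_option autoImplicit false
set_option linter.style.haveILetI false
set_option linter.unusedSectionVars false

namespace CfsgLib.Coprime

open Subgroup
open scoped commutatorElement

variable {G : Type*} [Group G] [Finite G] {p : ℕ} [hp : Fact p.Prime]

theorem pPrime_inf_pGroup_eq_bot {B U : Subgroup G} (hB : (Nat.card B).Coprime p)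
    (hU : IsPGroup p U) : B ⊓ U = ⊥ := by
  obtain ⟨k, hk⟩ := IsPGroup.iff_card.1 hU
  exact Subgroup.inf_eq_bot_of_coprime (by rw [hk]; exact hB.pow_right k)

theorem pResidual_eq_top_of_isPerfect {X : Type*} [Group X] [Finite X] [Group.IsPerfect X] :
    Cfsg.pResidual p X = ⊤ := by
  haveI := CfsgLib.Fusion.pResidual_normal (G := X) (p := p)
  by_contra h
  haveI : Nontrivial (X ⧸ Cfsg.pResidual p X) := QuotientGroup.nontrivial_iff.2 h
  haveI : Group.IsPerfect (X ⧸ Cfsg.pResidual p X) :=
    Group.IsPerfect.ofSurjective (f := QuotientGroup.mk' (Cfsg.pResidual p X)) (QuotientGroup.mk'_surjective _)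
  haveI : Group.IsNilpotent (X ⧸ Cfsg.pResidual p X) :=
    (CfsgLib.Fusion.isPGroup_quotient_pResidual (p := p) (Cfsg.pResidual p X) le_rfl).isNilpotent
  exact Group.IsPerfect.not_isSolvable (X ⧸ Cfsg.pResidual p X) inferInstance

/-- A perfect subgroup commuting with `R` and with the fixed points of `R` on `U` commutes with
the `p`-group `U` (Thompson). -/
theorem perfect_le_centralizer_of_fixed {R U J : Subgroup G} (hR : IsPGroup p R) (hU : IsPGroup p U)
    (hJ : ⁅J, J⁆ = J) (hRU : R ≤ normalizer (U : Set G)) (hJU : J ≤ normalizer (U : Set G))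
    (hJR : R ≤ centralizer (J : Set G))
    (hC : U ⊓ centralizer (R : Set G) ≤ centralizer (J : Set G)) :
    J ≤ centralizer (U : Set G) := by
  haveI : Group.IsPerfect J := Subgroup.isPerfect_iff.2 hJ
  have h : Cfsg.pResidual p J ≤ (centralizer (U : Set G)).subgroupOf J := by
    refine (closure_le _).2 fun b hb => ?_
    have hle : zpowers (b : G) ≤ J := zpowers_le.2 b.2
    refine (pq_lemma (P := R) (Q := zpowers (b : G)) (U := U) hR ?_ hU
      (hJR.trans (centralizer_le hle)) hRU (hle.trans hJU) (hC.trans (centralizer_le hle)))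
      (mem_zpowers (b : G))
    rw [Nat.card_zpowers, Subgroup.orderOf_coe]
    exact hb
  rw [pResidual_eq_top_of_isPerfect, top_le_iff, subgroupOf_eq_top] at h
  exact h

theorem le_centralizer_pCore_of_isComponent {K : Subgroup G} (hK : Cfsg.IsComponent K) :
    K ≤ centralizer (Cfsg.pCore p G : Set G) := by
  haveI := pCore_normal' (G := G) p
  haveI : Group.IsNilpotent (Cfsg.pCore p G) := (pCore_isPGroup p).isNilpotent
  exact commutator_eq_bot_iff_le_centralizer.1 (component_commutator_solvable_eq_bot hK inferInstance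
    (by rw [Subgroup.normalizer_eq_top]; exact le_top))

theorem layer_eq_bot_iff_centralizer_pCore_le (hO : Cfsg.pPrimeCore p G = ⊥) :
    Cfsg.layer G = ⊥ ↔ centralizer (Cfsg.pCore p G : Set G) ≤ Cfsg.pCore p G := by
  refine ⟨fun h => ?_, fun h => ?_⟩
  · have e := centralizer_fitting_le_of_layer_eq_bot h
    rwa [fitting_eq_pCore_of_pPrimeCore_eq_bot hO] at e
  · refine le_bot_iff.1 (sSup_le fun K hK => absurd ?_ (not_isSolvable_of_isComponent hK))
    haveI : Group.IsNilpotent (Cfsg.pCore p G) := (pCore_isPGroup p).isNilpotent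
    exact Group.isSolvable_of_isSolvable_injective
      (inclusion_injective ((le_centralizer_pCore_of_isComponent (p := p) hK).trans h))

theorem pLayer_eq_bot_iff_layer :
    Cfsg.pLayer p G = ⊥ ↔ Cfsg.layer (G ⧸ Cfsg.pPrimeCore p G) = ⊥ := by
  rw [← map_pLayer]
  refine ⟨fun h => by rw [h, Subgroup.map_bot], fun h => le_bot_iff.1 (sSup_le fun K hK =>
    absurd ?_ (pComponent_not_le_pPrimeCore hK))⟩
  rw [Subgroup.map_eq_bot_iff, QuotientGroup.ker_mk'] at h
  exact (pComponent_le_pLayer hK).trans h

/-- In a group with `O_{p'} = 1` and `C(O_p) ≤ O_p`, `p`-local subgroups have trivial `O_{p'}`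
and trivial layer. -/
theorem local_of_centralizer_pCore_le
    (hC : centralizer (Cfsg.pCore p G : Set G) ≤ Cfsg.pCore p G) {R : Subgroup G}
    (hR : IsPGroup p R) :
    Cfsg.pPrimeCore p (normalizer (R : Set G)) = ⊥ ∧ Cfsg.layer (normalizer (R : Set G)) = ⊥ := by
  haveI hUn := pCore_normal' (G := G) p
  set U := Cfsg.pCore p G
  have hU : IsPGroup p U := pCore_isPGroup p
  set N := normalizer (R : Set G)
  have hRU : R ≤ normalizer (U : Set G) := by rw [Subgroup.normalizer_eq_top]; exact le_top
  have hfix : U ⊓ centralizer (R : Set G) ≤ N := inf_le_right.trans (centralizer_le_normalizer_self R)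
  constructor
  · set B := (Cfsg.pPrimeCore p N).map N.subtype with hBdef
    have hB : (Nat.card B).Coprime p := by
      rw [hBdef, card_map_of_injective N.subtype_injective]; exact pPrimeCore_coprime hp.out
    have hBN : B ≤ N := map_subtype_le _
    have hconj : ∀ x ∈ N, ∀ b ∈ B, x * b * x⁻¹ ∈ B := by
      rintro x hx _ ⟨b, hb, rfl⟩
      exact ⟨(⟨x, hx⟩ : N) * b * (⟨x, hx⟩ : N)⁻¹,
        (inferInstance : (Cfsg.pPrimeCore p N).Normal).conj_mem b hb ⟨x, hx⟩, rfl⟩
    have hRB : R ≤ centralizer (B : Set G) := by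
      rw [← commutator_eq_bot_iff_le_centralizer, eq_bot_iff, ← pPrime_inf_pGroup_eq_bot hB hR,
        commutator_le]
      intro r hr b hb
      rw [commutatorElement_def]
      refine Subgroup.mem_inf.2 ⟨mul_mem (hconj r (le_normalizer hr) b hb) (inv_mem hb), ?_⟩
      rw [show r * b * r⁻¹ * b⁻¹ = r * (b * r⁻¹ * b⁻¹) by group]
      exact mul_mem hr ((Subgroup.mem_normalizer_iff.1 (hBN hb) _).1 (inv_mem hr))
    have hUB : U ⊓ centralizer (R : Set G) ≤ centralizer (B : Set G) := by
      rw [← commutator_eq_bot_iff_le_centralizer, eq_bot_iff, ← pPrime_inf_pGroup_eq_bot hB hU,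
        commutator_le]
      intro u hu b hb
      rw [commutatorElement_def]
      refine Subgroup.mem_inf.2 ⟨mul_mem (hconj u (hfix hu) b hb) (inv_mem hb), ?_⟩
      rw [show u * b * u⁻¹ * b⁻¹ = u * (b * u⁻¹ * b⁻¹) by group]
      exact mul_mem hu.1 (hUn.conj_mem _ (inv_mem hu.1) b)
    have hle := pq_lemma hR hB hU hRB hRU (by rw [Subgroup.normalizer_eq_top]; exact le_top) hUB
    have hbot : B = ⊥ := le_bot_iff.1 ((le_inf le_rfl (hle.trans hC)).trans
      (pPrime_inf_pGroup_eq_bot hB hU).le)
    exact (map_eq_bot_iff_of_injective _ N.subtype_injective).1 hbot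
  · refine le_bot_iff.1 (sSup_le fun K hK => absurd ?_ (not_isSolvable_of_isComponent hK))
    haveI : Group.IsPerfect K := hK.2.1
    have hperf : ⁅K.map N.subtype, K.map N.subtype⁆ = K.map N.subtype := by
      rw [← map_commutator, commutator_self_of_isComponent hK]
    have hKN : K.map N.subtype ≤ N := map_subtype_le _
    have hcomm : ∀ A : Subgroup G, A ≤ N → IsPGroup p A → N ≤ normalizer (A : Set G) →
        A ≤ centralizer (K.map N.subtype : Set G) := by
      intro A hAN hA hn
      have hA' : IsPGroup p (A.subgroupOf N) := hA.comap_subtype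
      haveI : Group.IsNilpotent (A.subgroupOf N) := hA'.isNilpotent
      haveI : (A.subgroupOf N).Normal := (normal_subgroupOf_iff_le_normalizer hAN).2 hn
      have h := congrArg (Subgroup.map N.subtype) (component_commutator_solvable_eq_bot hK
        (inferInstance : Group.IsSolvable (A.subgroupOf N)) (by rw [Subgroup.normalizer_eq_top]; exact le_top))
      rw [map_commutator, Subgroup.map_bot, map_subgroupOf_eq_of_le hAN, commutator_comm,
        commutator_eq_bot_iff_le_centralizer] at h
      exact h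
    have h1 := perfect_le_centralizer_of_fixed hR hU hperf hRU
      (by rw [Subgroup.normalizer_eq_top]; exact le_top) (hcomm R le_normalizer hR le_rfl)
      (hcomm _ hfix (hU.to_le inf_le_left) (inf_le_normalizer
        (by rw [Subgroup.normalizer_eq_top]; exact le_top)
        (normalizer_le_normalizer_centralizer R)))
    haveI : Group.IsNilpotent U := hU.isNilpotent
    haveI : Group.IsSolvable (K.map N.subtype) :=
      Group.isSolvable_of_isSolvable_injective (inclusion_injective (h1.trans hC))
    exact Group.isSolvable_of_isSolvable_injective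
      (f := (K.equivMapOfInjective N.subtype N.subtype_injective).toMonoidHom) (MulEquiv.injective _)

/-- Lift to the normalizer of a `p`-subgroup along a quotient by a `p'`-group. -/
theorem exists_mem_normalizer_lift {O P : Subgroup G} [O.Normal] (hO : ¬ p ∣ Nat.card O)
    (hP : IsPGroup p P) {g : G}
    (hg : QuotientGroup.mk' O g ∈ normalizer ((P.map (QuotientGroup.mk' O) : Subgroup _) : Set (G ⧸ O))) :
    ∃ o ∈ O, o * g ∈ normalizer (P : Set G) := by
  set M := O ⊔ P
  have hrel : ¬ p ∣ P.relIndex M := fun h => hO (h.trans (by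
    rw [show M = P ⊔ O from sup_comm O P]; exact relIndex_sup_dvd_card P O))
  have hgM : P.map (MulAut.conj g).toMonoidHom ≤ M := by
    rintro _ ⟨x, hx, rfl⟩
    have h := (Subgroup.mem_normalizer_iff.1 hg _).1 (mem_map_of_mem (QuotientGroup.mk' O) hx)
    rw [← map_inv, ← map_mul, ← map_mul, ← Subgroup.mem_comap, comap_map_eq,
      QuotientGroup.ker_mk', sup_comm] at h
    exact h
  obtain ⟨m, hm, hle⟩ := CfsgLib.Fusion.exists_conj_le_of_not_dvd_relIndex (p := p) hP
    (le_sup_right : P ≤ M) hrel (hP.map (MulAut.conj g).toMonoidHom) hgM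
  obtain ⟨o, ho, y, hy, rfl⟩ : ∃ o ∈ O, ∃ y ∈ P, m = y * o := by
    have hm' : m ∈ ((P ⊔ O : Subgroup G) : Set G) := sup_comm O P ▸ hm
    rw [mul_normal] at hm'
    obtain ⟨y, hy, o, ho, rfl⟩ := hm'
    exact ⟨o, ho, y, hy, rfl⟩
  refine ⟨o, ho, ?_⟩
  refine CfsgLib.Fusion.conjBy_eq_iff.1 (CfsgLib.Fusion.conjBy_eq_of_le ?_)
  rintro _ ⟨x, hx, rfl⟩
  have h := hle (CfsgLib.Fusion.conj_mem_conjBy (g := y * o) (mem_map_of_mem (MulAut.conj g).toMonoidHom hx))
  simp only [MulEquiv.coe_toMonoidHom, MulAut.conj_apply] at h ⊢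
  have h' := mul_mem (mul_mem (inv_mem hy) h) hy
  rwa [show y⁻¹ * (y * o * (g * x * g⁻¹) * (y * o)⁻¹) * y = o * g * x * (o * g)⁻¹ by group] at h'

end CfsgLib.Coprime
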