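import Cfsg.Agent.Lib.Coprime.Action
import Cfsg.Agent.Lib.CFun.OddZgroupLength
import Cfsg.Prelude.Def_Local

/-!
Coprime generation by the centralizers of the hyperplanes of an elementary abelian group.
-/

set_option autoImplicit false
set_option linter.style.haveILetI false

namespace CfsgLib.Coprime

universe u

/-- If a noncyclic elementary abelian `p`-group `B` acts on the `p'`-group `X`, then `X` is generated
by the fixed points of the hyperplanes of `B`. -/
theorem le_of_hyperplanes {G : Type u} [Group G] [Finite G] {p : ℕ} [Fact p.Prime] {B X W : Subgroup G}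
    (hBe : Cfsg.IsElementaryAbelian p B) (hA2 : p ^ 2 ≤ Nat.card B) (hXp : ¬ p ∣ Nat.card X)
    (hAN : B ≤ Subgroup.normalizer (X : Set G))
    (hW : ∀ E : Subgroup G, E ≤ B → E.relIndex B = p → X ⊓ Subgroup.centralizer (E : Set G) ≤ W) :
    X ≤ W := by
  obtain ⟨A, rfl⟩ : ∃ A, A = B := ⟨B, rfl⟩
  obtain ⟨hAc, hAe⟩ := hBe
  haveI := hAc
  have hA : ∀ {x : G}, x ∈ A → x ∈ A := fun h => h
  have hab : ∀ a ∈ A, ∀ b ∈ A, Commute a b := fun a ha b hb =>
    congrArg Subtype.val (hAc.is_comm.comm (⟨a, ha⟩ : A) ⟨b, hb⟩)
  have hord : ∀ a ∈ A, a ≠ 1 → orderOf a = p := fun a ha h1 => orderOf_eq_prime (hAe a ha) h1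
  have key : ∀ E : Subgroup G, E ≤ A → E < A → X ⊓ Subgroup.centralizer (E : Set G) ≤ W := by
    intro E
    induction E using WellFoundedGT.induction with
    | _ E ih =>
      intro hEA hlt
      obtain ⟨C, -, hC⟩ := exists_maximal_ge_of_wellFoundedGT
        (fun Y : Subgroup G => Y ≤ A ∧ E ⊓ Y = ⊥) ⊥ ⟨bot_le, inf_bot_eq E⟩
      obtain ⟨hCA, hEC⟩ := hC.prop
      have hnorm : ∀ Y Z : Subgroup G, Y ≤ A → Z ≤ A → Z ≤ Subgroup.normalizer (Y : Set G) :=
        fun Y Z hY hZ z hz => Subgroup.mem_normalizer_iff.2 fun y => by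
          constructor
          · intro hy
            rwa [(hab z (hA (hZ hz)) y (hA (hY hy))).eq, mul_inv_cancel_right]
          · intro hy
            have h := (hab z (hA (hZ hz)) _ (hA (hY hy))).eq
            rw [inv_mul_cancel_right] at h
            exact (mul_left_cancel h) ▸ hy
      have hsup : E ⊔ C = A := by
        refine le_antisymm (sup_le hEA hCA) fun y hy => ?_
        by_contra hyEC
        have hle : C ⊔ Subgroup.zpowers y ≤ A := sup_le hCA (Subgroup.zpowers_le.2 hy)
        have hmeet : E ⊓ (C ⊔ Subgroup.zpowers y) = ⊥ := by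
          refine le_bot_iff.1 fun e he => ?_
          obtain ⟨c, hc, z, hz, rfl⟩ := CfsgLib.Coprime.mem_sup_exists
            (hnorm C _ hCA (Subgroup.zpowers_le.2 hy)) he.2
          by_cases hz1 : z = 1
          · rw [hz1, mul_one] at he ⊢
            exact hEC.le ⟨he.1, hc⟩
          · exfalso
            have hzA : z ∈ A := hA (Subgroup.zpowers_le.2 hy hz)
            have hz' : z ∈ E ⊔ C := by
              have := (E ⊔ C).mul_mem ((E ⊔ C).inv_mem (Subgroup.mem_sup_right hc))
                (Subgroup.mem_sup_left he.1 : c * z ∈ E ⊔ C)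
              rwa [inv_mul_cancel_left] at this
            refine hyEC ((Subgroup.zpowers_le.2 hz') ?_)
            have heq : Subgroup.zpowers z = Subgroup.zpowers y := Subgroup.eq_of_le_of_card_ge
              (Subgroup.zpowers_le.2 hz) (by
                rw [Nat.card_zpowers, Nat.card_zpowers, hord z hzA hz1]
                exact Nat.le_of_dvd (Fact.out (p := p.Prime)).pos
                  (orderOf_dvd_of_pow_eq_one (hAe y (hA hy))))
            rw [heq]; exact Subgroup.mem_zpowers y
        have := hC.eq_of_le ⟨hle, hmeet⟩ le_sup_left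
        exact hyEC (Subgroup.mem_sup_right (this ▸ Subgroup.mem_sup_right (Subgroup.mem_zpowers y)))
      have hCp : IsPGroup p C := fun c => ⟨1, by
        rw [pow_one]; exact Subtype.ext (hAe _ (hA (hCA c.2)))⟩
      have hCc : IsMulCommutative C := ⟨⟨fun a b => Subtype.ext (hab _ (hA (hCA a.2)) _ (hA (hCA b.2))).eq⟩⟩
      haveI := hCc
      by_cases hcyc : IsCyclic C
      · -- E is a hyperplane
        have hCne : C ≠ ⊥ := fun h => hlt.ne (by rw [← hsup, h, sup_bot_eq])
        obtain ⟨g, hg⟩ := hcyc.exists_generator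
        have hgC : C = Subgroup.zpowers (g : G) := le_antisymm (fun c hc => by
          obtain ⟨k, hk⟩ := hg ⟨c, hc⟩
          exact ⟨k, congrArg Subtype.val hk⟩) (Subgroup.zpowers_le.2 g.2)
        have hcard : Nat.card C = p := by
          rw [hgC, Nat.card_zpowers]
          refine hord _ (hA (hCA g.2)) fun h => hCne ?_
          rw [hgC, h, Subgroup.zpowers_one_eq_bot]
        have hidx : E.relIndex A = p := by
          have h1 := Subgroup.card_mul_index (E.subgroupOf A)
          rw [Nat.card_congr (Subgroup.subgroupOfEquivOfLe hEA).toEquiv] at h1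
          have h2 : Nat.card A = Nat.card E * Nat.card C := by
            rw [← hsup]; exact CfsgLib.CFun.ZLen.card_sup_eq (hnorm E C hEA hCA) hEC
          rw [h2, hcard] at h1
          exact Nat.eq_of_mul_eq_mul_left Nat.card_pos h1
        exact hW E hEA hidx
      · have hCN : C ≤ Subgroup.normalizer ((X ⊓ Subgroup.centralizer (E : Set G) : Subgroup G) : Set G) :=
          CfsgLib.Coprime.inf_le_normalizer (hCA.trans hAN)
            ((hnorm E C hEA hCA).trans (CfsgLib.Coprime.normalizer_le_normalizer_centralizer E))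
        have hcop : (Nat.card C).Coprime (Nat.card ↥(X ⊓ Subgroup.centralizer (E : Set G))) := by
          obtain ⟨k, hk⟩ := IsPGroup.iff_card.1 hCp
          rw [hk]
          exact ((Fact.out (p := p.Prime)).coprime_iff_not_dvd.2 fun h =>
            hXp (h.trans (Subgroup.card_dvd_of_le inf_le_left))).pow_left k
        refine CfsgLib.Coprime.le_of_centralizers_le hcyc hCN hcop fun a ha ha1 => ?_
        have hanot : a ∉ E := fun h => ha1 (Subgroup.mem_bot.1 (hEC.le ⟨h, ha⟩))
        set E' := E ⊔ Subgroup.zpowers a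
        have hE'A : E' ≤ A := sup_le hEA (Subgroup.zpowers_le.2 (hCA ha))
        refine le_trans ?_ (ih E' (lt_of_le_of_ne le_sup_left fun h =>
          hanot (h ▸ Subgroup.mem_sup_right (Subgroup.mem_zpowers a))) hE'A
          (lt_of_le_of_ne hE'A fun h => hcyc ?_))
        · refine le_inf (inf_le_left.trans inf_le_left) ?_
          rw [Subgroup.le_centralizer_iff]
          refine sup_le ?_ (Subgroup.zpowers_le.2 ?_)
          · rw [Subgroup.le_centralizer_iff]; exact inf_le_left.trans inf_le_right
          · exact Subgroup.mem_centralizer_iff.2 fun u hu =>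
              Subgroup.mem_centralizer_singleton_iff.1 hu.2
        · have hCa : C = Subgroup.zpowers a := le_antisymm (fun c hc => by
            obtain ⟨e, he, z, hz, rfl⟩ := CfsgLib.Coprime.mem_sup_exists
              (hnorm E _ hEA (Subgroup.zpowers_le.2 (hCA ha))) (h.ge (hCA hc))
            have heC : e ∈ C := by
              have := C.mul_mem hc (C.inv_mem (Subgroup.zpowers_le.2 ha hz))
              rwa [mul_inv_cancel_right] at this
            rw [Subgroup.mem_bot.1 (hEC.le ⟨he, heC⟩), one_mul]; exact hz)
            (Subgroup.zpowers_le.2 ha)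
          rw [hCa]; infer_instance
  have hAne : (⊥ : Subgroup G) < A := bot_lt_iff_ne_bot.2 fun h => by
    rw [h, Subgroup.card_bot] at hA2
    exact absurd hA2 (not_le.2 (Nat.one_lt_pow two_ne_zero (Fact.out (p := p.Prime)).one_lt))
  refine le_trans ?_ (key ⊥ bot_le hAne)
  exact le_inf le_rfl fun x _ => Subgroup.mem_centralizer_iff.2 fun y hy => by
    rw [Subgroup.mem_bot.1 hy, one_mul, mul_one]

end CfsgLib.Coprime
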