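import Cfsg.Agent.Lib.Coprime.PClosure
import Cfsg.Agent.Lib.Coprime.Component
import Cfsg.Agent.Lib.Fusion.Abelian

/-!
# `p`-components and the `p`-layer

The `p`-component over a component `K̄` of `X / O_{p'}(X)` is `O^{p'}` of the preimage of `K̄`.
-/

set_option autoImplicit false
set_option linter.style.haveILetI false
set_option linter.unusedSectionVars false

namespace CfsgLib.Coprime

open Subgroup
open scoped commutatorElement

variable {G : Type*} [Group G] [Finite G] {p : ℕ} [hp : Fact p.Prime]

/-! ### Cores of subnormal subgroups -/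

theorem relIndex_sup_dvd_card (H N : Subgroup G) [N.Normal] :
    H.relIndex (H ⊔ N) ∣ Nat.card N := by
  refine Nat.dvd_of_mul_dvd_mul_left (Nat.card_pos (α := H)) ?_
  rw [Subgroup.relIndex, ← Nat.card_congr (subgroupOfEquivOfLe (le_sup_left : H ≤ H ⊔ N)).toEquiv,
    card_mul_index, Nat.card_congr (subgroupOfEquivOfLe (le_sup_left : H ≤ H ⊔ N)).toEquiv]
  exact card_sup_dvd_of_normal H N

theorem map_pPrimeCore_of_isSubnormal {H : Subgroup G} (hH : H.IsSubnormal) :
    (Cfsg.pPrimeCore p H).map H.subtype = Cfsg.pPrimeCore p G ⊓ H := by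
  refine le_antisymm (le_inf ?_ (map_subtype_le _)) ?_
  · haveI : (Cfsg.pPrimeCore p H).Normal := inferInstance
    refine le_pPrimeCore_of_isSubnormal hp.out (IsSubnormal.trans' (Normal.isSubnormal inferInstance) hH) ?_
    rw [card_map_of_injective H.subtype_injective]
    exact pPrimeCore_coprime hp.out
  · intro x hx
    refine ⟨⟨x, hx.2⟩, ?_, rfl⟩
    refine le_pPrimeCore (N := (Cfsg.pPrimeCore p G).subgroupOf H) ?_ (mem_subgroupOf.2 hx.1)
    refine (pPrimeCore_coprime (G := G) hp.out).coprime_dvd_left ?_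
    rw [← card_map_of_injective H.subtype_injective, subgroupOf_map_subtype]
    exact card_dvd_of_le inf_le_left

theorem dvd_card_of_isComponent (hO : Cfsg.pPrimeCore p G = ⊥) {K : Subgroup G}
    (hK : Cfsg.IsComponent K) : p ∣ Nat.card K := by
  by_contra h
  have h1 : K ≤ (⊥ : Subgroup G) :=
    hO ▸ le_pPrimeCore_of_isSubnormal hp.out hK.1
      (Nat.coprime_comm.1 (hp.out.coprime_iff_not_dvd.2 h))
  exact not_le_of_isComponent_of_isSolvable hK
    (show Group.IsSolvable (⊥ : Subgroup G) from inferInstance) h1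

/-- A quasisimple group of order divisible by `p` has a `p`-element outside the centre. -/
theorem exists_pElement_not_mem_center {X : Type*} [Group X] [Finite X]
    (hX : Cfsg.IsQuasisimple X) (hd : p ∣ Nat.card X) :
    ∃ (x : X) (k : ℕ), x ^ p ^ k = 1 ∧ x ∉ center X := by
  by_contra hc
  push Not at hc
  obtain ⟨P⟩ : Nonempty (Sylow p X) := inferInstance
  have hle : (P : Subgroup X) ≤ center X := fun x hx => by
    obtain ⟨k, hk⟩ := P.2 ⟨x, hx⟩
    exact hc x k (by simpa using congrArg Subtype.val hk)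
  haveI : IsMulCommutative (P : Subgroup X) :=
    ⟨⟨fun a b => Subtype.ext (mem_center_iff.1 (hle b.2) a.1)⟩⟩
  haveI := hX.1
  have hP : (P : Subgroup X) = ⊥ := (eq_bot_iff_forall _).2 fun x hx =>
    CfsgLib.Fusion.central_inf_commutator_eq_one _ P.card_coprime_index (hle hx)
      ((Group.IsPerfect.commutator_eq_top (G := X)).symm ▸ mem_top x) hx
  exact P.ne_bot_of_dvd_card hd hP

theorem pClosure_eq_of_isComponent (hO : Cfsg.pPrimeCore p G = ⊥) {K : Subgroup G}
    (hK : Cfsg.IsComponent K) : pClosure p K = K := by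
  obtain ⟨x, k, hk, hx⟩ := exists_pElement_not_mem_center hK.2 (dvd_card_of_isComponent hO hK)
  haveI : ((pClosure p K).subgroupOf K).Normal :=
    (normal_subgroupOf_iff_le_normalizer (pClosure_le p K)).2
      (le_normalizer.trans (normalizer_le_normalizer_pClosure K))
  refine (eq_or_le_center_of_le_component hK (IsSubnormal.trans (pClosure_le p K)
    (Normal.isSubnormal inferInstance) hK.1) (pClosure_le p K)).resolve_right fun h => hx (h ?_)
  rw [mem_subgroupOf]
  exact mem_pClosure x.2 (k := k) (by simpa using congrArg Subtype.val hk)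

/-! ### The `p`-component over a component of `X / O_{p'}(X)` -/

/-- The `p`-component over `K̄`. -/
def pComponentOver (p : ℕ) {G : Type*} [Group G] (Kbar : Subgroup (G ⧸ Cfsg.pPrimeCore p G)) :
    Subgroup G :=
  pClosure p (Kbar.comap (QuotientGroup.mk' (Cfsg.pPrimeCore p G)))

local notation "π" => QuotientGroup.mk' (Cfsg.pPrimeCore p G)

theorem map_pComponentOver {Kbar : Subgroup (G ⧸ Cfsg.pPrimeCore p G)}
    (hK : Cfsg.IsComponent Kbar) : (pComponentOver p Kbar).map π = Kbar := by
  rw [pComponentOver, map_pClosure,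
    map_comap_eq_self_of_surjective (QuotientGroup.mk'_surjective _)]
  exact pClosure_eq_of_isComponent (pPrimeCore_quotient_eq_bot hp.out) hK

theorem isSubnormal_pComponentOver {Kbar : Subgroup (G ⧸ Cfsg.pPrimeCore p G)}
    (hK : Cfsg.IsComponent Kbar) : (pComponentOver p Kbar).IsSubnormal := by
  refine IsSubnormal.trans (pClosure_le _ _) (Normal.isSubnormal ?_) (hK.1.comap π)
  exact (normal_subgroupOf_iff_le_normalizer (pClosure_le _ _)).2
    (le_normalizer.trans (normalizer_le_normalizer_pClosure _))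

theorem pComponentOver_le_of_map_eq {H : Subgroup G} (hH : H.IsSubnormal)
    {Kbar : Subgroup (G ⧸ Cfsg.pPrimeCore p G)} (he : H.map π = Kbar) :
    pComponentOver p Kbar ≤ H := by
  refine pClosure_le_of_isSubnormal hH fun hd => pPrimeCore_not_dvd (G := G) hp.out (hd.trans ?_)
  rw [← he, comap_map_eq, QuotientGroup.ker_mk']
  exact relIndex_sup_dvd_card H _

theorem isPComponent_pComponentOver {Kbar : Subgroup (G ⧸ Cfsg.pPrimeCore p G)}
    (hK : Cfsg.IsComponent Kbar) : Cfsg.IsPComponent p (pComponentOver p Kbar) :=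
  ⟨isSubnormal_pComponentOver hK, (map_pComponentOver hK).symm ▸ hK, fun _ hH hle he =>
    le_antisymm hle (pComponentOver_le_of_map_eq hH (he.trans (map_pComponentOver hK)))⟩

theorem eq_pComponentOver {K : Subgroup G} (hK : Cfsg.IsPComponent p K) :
    K = pComponentOver p (K.map π) :=
  (hK.2.2 _ (isSubnormal_pComponentOver hK.2.1) (pComponentOver_le_of_map_eq hK.1 rfl)
    (map_pComponentOver hK.2.1)).symm

theorem IsPComponent_unique {K L : Subgroup G} (hK : Cfsg.IsPComponent p K)
    (hL : Cfsg.IsPComponent p L) (h : K.map π = L.map π) : K = L := by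
  rw [eq_pComponentOver hK, eq_pComponentOver hL, h]

theorem pClosure_pComponent {K : Subgroup G} (hK : Cfsg.IsPComponent p K) : pClosure p K = K := by
  rw [eq_pComponentOver hK, pComponentOver, pClosure_pClosure]

theorem commutator_self_pComponent {K : Subgroup G} (hK : Cfsg.IsPComponent p K) : ⁅K, K⁆ = K := by
  haveI : (⁅K, K⁆.subgroupOf K).Normal :=
    normal_subgroupOf_of_le_normalizer (normalizer_commutator_ge_left K K)
  refine hK.2.2 _ (IsSubnormal.trans (commutator_le_self K) (Normal.isSubnormal inferInstance) hK.1)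
    (commutator_le_self K) ?_
  rw [map_commutator]
  exact commutator_self_of_isComponent hK.2.1

theorem pComponent_not_le_pPrimeCore {K : Subgroup G} (hK : Cfsg.IsPComponent p K) :
    ¬ K ≤ Cfsg.pPrimeCore p G := fun h => by
  refine not_le_of_isComponent_of_isSolvable hK.2.1
    (show Group.IsSolvable (⊥ : Subgroup (G ⧸ Cfsg.pPrimeCore p G)) from inferInstance) ?_
  rw [le_bot_iff, Subgroup.map_eq_bot_iff, QuotientGroup.ker_mk']
  exact h

theorem dvd_card_pComponent {K : Subgroup G} (hK : Cfsg.IsPComponent p K) : p ∣ Nat.card K :=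
  (dvd_card_of_isComponent (pPrimeCore_quotient_eq_bot hp.out) hK.2.1).trans (card_map_dvd K π)

/-- Elements normalizing the image of a `p`-component normalize it. -/
theorem mem_normalizer_pComponent {K : Subgroup G} (hK : Cfsg.IsPComponent p K) {g : G}
    (hg : π g ∈ normalizer ((K.map π : Subgroup (G ⧸ Cfsg.pPrimeCore p G)) : Set _)) :
    g ∈ normalizer (K : Set G) := by
  rw [eq_pComponentOver hK, pComponentOver]
  exact normalizer_le_normalizer_pClosure _
    (le_normalizer_comap π (Subgroup.mem_comap.2 hg))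

theorem pPrimeCore_le_normalizer_pComponent {K : Subgroup G} (hK : Cfsg.IsPComponent p K) :
    Cfsg.pPrimeCore p G ≤ normalizer (K : Set G) := fun x hx =>
  mem_normalizer_pComponent hK (by
    rw [QuotientGroup.mk'_apply, (QuotientGroup.eq_one_iff x).2 hx]; exact one_mem _)

/-! ### The `p`-layer -/

theorem pComponent_le_pLayer {K : Subgroup G} (hK : Cfsg.IsPComponent p K) :
    K ≤ Cfsg.pLayer p G := le_sSup hK

theorem map_pLayer : (Cfsg.pLayer p G).map π = Cfsg.layer (G ⧸ Cfsg.pPrimeCore p G) := by
  refine le_antisymm (map_le_iff_le_comap.2 (sSup_le fun K hK => map_le_iff_le_comap.1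
    (component_le_layer hK.2.1))) (sSup_le fun Kbar hK => ?_)
  rw [← map_pComponentOver hK]
  exact map_mono (pComponent_le_pLayer (isPComponent_pComponentOver hK))

theorem isSubnormal_conj {K : Subgroup G} (h : K.IsSubnormal) (g : G) :
    (K.map (MulAut.conj g).toMonoidHom).IsSubnormal :=
  h.map (MulAut.conj g).surjective

theorem isPComponent_conj {K : Subgroup G} (hK : Cfsg.IsPComponent p K) (g : G) :
    Cfsg.IsPComponent p (K.map (MulAut.conj g).toMonoidHom) := by
  have hmap : ∀ H : Subgroup G, (H.map (MulAut.conj g).toMonoidHom).map π =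
      (H.map π).map (MulAut.conj (π g)).toMonoidHom := by
    intro H
    rw [Subgroup.map_map, Subgroup.map_map]
    congr 1
  refine ⟨isSubnormal_conj hK.1 g, ?_, fun H hH hle he => ?_⟩
  · rw [hmap]
    exact isComponent_map_equiv _ hK.2.1
  have hback : ∀ H : Subgroup G,
      (H.map (MulAut.conj g⁻¹).toMonoidHom).map (MulAut.conj g).toMonoidHom = H := by
    intro H
    rw [Subgroup.map_map]
    convert Subgroup.map_id H
    ext x
    simp [MulAut.conj_apply, mul_assoc]
  rw [← hback H]
  refine congrArg (Subgroup.map (MulAut.conj g).toMonoidHom) (hK.2.2 _ (isSubnormal_conj hH _) ?_ ?_)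
  · rw [← map_le_map_iff_of_injective (f := (MulAut.conj g).toMonoidHom) (MulAut.conj g).injective,
      hback]
    exact hle
  · refine map_injective (f := (MulAut.conj (π g)).toMonoidHom) (MulAut.conj (π g)).injective ?_
    rw [← hmap, hback, ← hmap]
    exact he

theorem pLayer_normal : (Cfsg.pLayer p G).Normal := by
  refine ⟨fun x hx g => ?_⟩
  have h : Cfsg.pLayer p G ≤ (Cfsg.pLayer p G).comap (MulAut.conj g).toMonoidHom :=
    sSup_le fun K hK => map_le_iff_le_comap.1 (pComponent_le_pLayer (isPComponent_conj hK g))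
  exact h hx

theorem pLayer_le_normalizer_pComponent {K : Subgroup G} (hK : Cfsg.IsPComponent p K) :
    Cfsg.pLayer p G ≤ normalizer (K : Set G) := fun x hx =>
  mem_normalizer_pComponent hK (layer_le_normalizer_component hK.2.1
    (map_pLayer.le (mem_map_of_mem π hx)))

/-- The `p`-layer is `O^{p'}` of the preimage of the layer of `X / O_{p'}(X)`. -/
theorem pLayer_eq_pClosure :
    Cfsg.pLayer p G = pClosure p ((Cfsg.layer (G ⧸ Cfsg.pPrimeCore p G)).comap π) := by
  refine le_antisymm (sSup_le fun K hK => ?_) ?_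
  · rw [← pClosure_pComponent hK]
    exact pClosure_mono (map_le_iff_le_comap.1 (component_le_layer hK.2.1))
  · haveI := pLayer_normal (G := G) (p := p)
    refine pClosure_le_of_isSubnormal (Normal.isSubnormal inferInstance) fun hd =>
      pPrimeCore_not_dvd (G := G) hp.out (hd.trans ?_)
    rw [← map_pLayer, comap_map_eq, QuotientGroup.ker_mk']
    exact relIndex_sup_dvd_card _ _

theorem pClosure_pLayer : pClosure p (Cfsg.pLayer p G) = Cfsg.pLayer p G := by
  rw [pLayer_eq_pClosure, pClosure_pClosure]

theorem commutator_self_pLayer : ⁅Cfsg.pLayer p G, Cfsg.pLayer p G⁆ = Cfsg.pLayer p G := by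
  refine le_antisymm (commutator_le_self _) (sSup_le fun K hK => ?_)
  rw [← commutator_self_pComponent hK]
  exact commutator_mono (pComponent_le_pLayer hK) (pComponent_le_pLayer hK)

/-- When `O_{p'}(X) = 1` the `p`-components are the components. -/
theorem pLayer_eq_layer (hO : Cfsg.pPrimeCore p G = ⊥) : Cfsg.pLayer p G = Cfsg.layer G := by
  have hinj : Function.Injective π := by
    rw [← MonoidHom.ker_eq_bot_iff, QuotientGroup.ker_mk', hO]
  refine map_injective hinj ?_
  rw [map_pLayer]
  exact (map_layer_equiv (MulEquiv.ofBijective π ⟨hinj, QuotientGroup.mk'_surjective _⟩)).symm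

/-! ### Surjections with kernel a `p'`-group -/

theorem comap_pPrimeCore_of_ker {G' : Type*} [Group G'] {f : G →* G'}
    (hf : Function.Surjective f) (hker : ¬ p ∣ Nat.card f.ker) :
    (Cfsg.pPrimeCore p G').comap f = Cfsg.pPrimeCore p G := by
  haveI : Finite G' := Finite.of_surjective f hf
  refine le_antisymm ?_ (map_le_iff_le_comap.1 (map_pPrimeCore_le hf p))
  refine le_pPrimeCore_of_not_dvd hp.out fun h => ?_
  have hk : f.ker ≤ (Cfsg.pPrimeCore p G').comap f := ker_le_comap f _
  have e1 := relIndex_map_map f (⊥ : Subgroup G) ((Cfsg.pPrimeCore p G').comap f)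
  rw [Subgroup.map_bot, relIndex_bot_left, bot_sup_eq, sup_eq_left.2 hk,
    map_comap_eq_self_of_surjective hf] at e1
  rw [← card_mul_index (f.ker.subgroupOf ((Cfsg.pPrimeCore p G').comap f)),
    Nat.card_congr (subgroupOfEquivOfLe hk).toEquiv] at h
  rcases hp.out.dvd_mul.1 h with h | h
  · exact hker h
  · exact pPrimeCore_not_dvd (G := G') hp.out (e1.symm ▸ h)

theorem map_pLayer_of_ker {G' : Type*} [Group G'] {f : G →* G'} (hf : Function.Surjective f)
    (hker : ¬ p ∣ Nat.card f.ker) : (Cfsg.pLayer p G).map f = Cfsg.pLayer p G' := by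
  haveI : Finite G' := Finite.of_surjective f hf
  have hO := comap_pPrimeCore_of_ker hf hker
  let ψ : G →* G' ⧸ Cfsg.pPrimeCore p G' := (QuotientGroup.mk' (Cfsg.pPrimeCore p G')).comp f
  have hψ : ψ.ker = Cfsg.pPrimeCore p G := by
    rw [← MonoidHom.comap_ker, QuotientGroup.ker_mk', hO]
  let e : G ⧸ Cfsg.pPrimeCore p G ≃* G' ⧸ Cfsg.pPrimeCore p G' :=
    (QuotientGroup.quotientMulEquivOfEq hψ.symm).trans
      (QuotientGroup.quotientKerEquivOfSurjective ψ ((QuotientGroup.mk'_surjective _).comp hf))
  have key : (Cfsg.layer (G' ⧸ Cfsg.pPrimeCore p G')).comap ψ =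
      (Cfsg.layer (G ⧸ Cfsg.pPrimeCore p G)).comap π := by
    rw [show ψ = e.toMonoidHom.comp π from MonoidHom.ext fun _ => rfl, ← comap_comap,
      ← map_layer_equiv e, comap_map_eq_self_of_injective e.injective]
  rw [pLayer_eq_pClosure (G := G), pLayer_eq_pClosure (G := G'), map_pClosure, ← key, ← comap_comap,
    map_comap_eq_self_of_surjective hf]

theorem map_pLayer_equiv {G' : Type*} [Group G'] (e : G ≃* G') :
    (Cfsg.pLayer p G).map e.toMonoidHom = Cfsg.pLayer p G' :=
  map_pLayer_of_ker e.surjective (by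
    rw [(MonoidHom.ker_eq_bot_iff e.toMonoidHom).2 e.injective, card_bot]
    exact hp.out.not_dvd_one)

/-! ### Subnormal subgroups -/

/-- The `p`-components of a subnormal subgroup are the `p`-components inside it. -/
theorem isPComponent_map_subtype_iff {N : Subgroup G} (hN : N.IsSubnormal) (K : Subgroup N) :
    Cfsg.IsPComponent p (K.map N.subtype) ↔ Cfsg.IsPComponent p K := by
  let f : N →* (N.map π) := (π).subgroupMap N
  have hf : f.ker = Cfsg.pPrimeCore p N := by
    refine map_injective N.subtype_injective ?_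
    rw [map_pPrimeCore_of_isSubnormal hN]
    ext x
    constructor
    · rintro ⟨y, hy, rfl⟩
      exact ⟨(QuotientGroup.eq_one_iff (y : G)).1 (congrArg Subtype.val (MonoidHom.mem_ker.1 hy)), y.2⟩
    · intro hx
      exact ⟨⟨x, hx.2⟩, MonoidHom.mem_ker.2 (Subtype.ext ((QuotientGroup.eq_one_iff x).2 hx.1)), rfl⟩
  let e : N ⧸ Cfsg.pPrimeCore p N ≃* (N.map π) :=
    (QuotientGroup.quotientMulEquivOfEq hf.symm).trans
      (QuotientGroup.quotientKerEquivOfSurjective f ((π).subgroupMap_surjective N))
  have hmap : ∀ H : Subgroup N, (H.map N.subtype).map π =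
      ((H.map (QuotientGroup.mk' (Cfsg.pPrimeCore p N))).map e.toMonoidHom).map (N.map π).subtype := by
    intro H
    rw [Subgroup.map_map, Subgroup.map_map, Subgroup.map_map]
    congr 1
  have hcomp : Cfsg.IsComponent ((K.map N.subtype).map π) ↔
      Cfsg.IsComponent (K.map (QuotientGroup.mk' (Cfsg.pPrimeCore p N))) := by
    rw [hmap, isComponent_map_subtype_iff (hN.map (QuotientGroup.mk'_surjective _))]
    refine ⟨fun h => ?_, isComponent_map_equiv e⟩
    have h' := isComponent_map_equiv e.symm h
    rwa [Subgroup.map_map, show e.symm.toMonoidHom.comp e.toMonoidHom = MonoidHom.id _ from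
      MonoidHom.ext fun x => e.symm_apply_apply x, Subgroup.map_id] at h'
  have heq : ∀ H : Subgroup N, (H.map N.subtype).map π = (K.map N.subtype).map π ↔
      H.map (QuotientGroup.mk' (Cfsg.pPrimeCore p N)) =
        K.map (QuotientGroup.mk' (Cfsg.pPrimeCore p N)) := by
    intro H
    rw [hmap, hmap]
    exact ((map_injective (N.map π).subtype_injective).eq_iff).trans
      ((map_injective (f := e.toMonoidHom) e.injective).eq_iff)
  refine ⟨fun ⟨h1, h2, h3⟩ => ⟨(isSubnormal_map_subtype_iff hN K).1 h1, hcomp.1 h2,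
      fun H hH hle he => map_injective N.subtype_injective
        (h3 _ ((isSubnormal_map_subtype_iff hN H).2 hH) (map_mono hle) ((heq H).2 he))⟩,
    fun ⟨h1, h2, h3⟩ => ⟨(isSubnormal_map_subtype_iff hN K).2 h1, hcomp.2 h2,
      fun H hH hle he => ?_⟩⟩
  have hHN : H ≤ N := hle.trans (map_subtype_le K)
  have hH' : (H.subgroupOf N).map N.subtype = H := map_subgroupOf_eq_of_le hHN
  rw [← hH']
  refine congrArg (Subgroup.map N.subtype) (h3 _ hH.subgroupOf ?_ ((heq _).1 (hH'.symm ▸ he)))
  rwa [← map_le_map_iff_of_injective N.subtype_injective, hH']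

theorem pLayer_map_subtype_le {N : Subgroup G} (hN : N.IsSubnormal) :
    (Cfsg.pLayer p N).map N.subtype ≤ Cfsg.pLayer p G :=
  map_le_iff_le_comap.2 (sSup_le fun K hK => map_le_iff_le_comap.1
    (pComponent_le_pLayer ((isPComponent_map_subtype_iff hN K).2 hK)))

/-- A subnormal subgroup containing the `p`-layer has the same `p`-layer. -/
theorem pLayer_map_subtype_eq {N : Subgroup G} (hN : N.IsSubnormal)
    (h : Cfsg.pLayer p G ≤ N) : (Cfsg.pLayer p N).map N.subtype = Cfsg.pLayer p G := by
  refine le_antisymm (pLayer_map_subtype_le hN) (sSup_le fun K hK => ?_)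
  have hKN := (pComponent_le_pLayer hK).trans h
  rw [← map_subgroupOf_eq_of_le hKN] at hK ⊢
  exact map_mono (pComponent_le_pLayer ((isPComponent_map_subtype_iff hN _).1 hK))

/-- The `p`-layer lies in each normal subgroup with solvable quotient. -/
theorem pLayer_le_of_isSolvable_quotient {N : Subgroup G} [N.Normal]
    (h : Group.IsSolvable (G ⧸ N)) : Cfsg.pLayer p G ≤ N := by
  haveI := h
  have hperf := congrArg (Subgroup.map (QuotientGroup.mk' N)) (commutator_self_pLayer (G := G) (p := p))
  rw [map_commutator] at hperf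
  by_contra hc
  have hne : Nontrivial ((Cfsg.pLayer p G).map (QuotientGroup.mk' N)) := by
    rw [Subgroup.nontrivial_iff_ne_bot, Ne, Subgroup.map_eq_bot_iff, QuotientGroup.ker_mk']
    exact hc
  haveI : Group.IsPerfect ((Cfsg.pLayer p G).map (QuotientGroup.mk' N)) :=
    Subgroup.isPerfect_iff.2 hperf
  exact Group.IsPerfect.not_isSolvable ((Cfsg.pLayer p G).map (QuotientGroup.mk' N)) inferInstance

end CfsgLib.Coprime
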