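import Cfsg.Prelude.Def_Balance
import Cfsg.Agent.Lib.Coprime.Terminal
import Cfsg.Agent.Lib.Invol.Basic

/-!
# The `2`-components of a double layer
-/

set_option autoImplicit false

namespace CfsgLib.Coprime

open Subgroup
open scoped commutatorElement

variable {G : Type*} [Group G] [Finite G]

/-- A `p`-component maps onto a `p`-component along a surjection with kernel a `p'`-group. -/
theorem isPComponent_map_of_ker {p : ℕ} [Fact p.Prime] {G' : Type*} [Group G'] {f : G →* G'}
    (hf : Function.Surjective f) (hker : ¬ p ∣ Nat.card f.ker) {J : Subgroup G}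
    (hJ : Cfsg.IsPComponent p J) : Cfsg.IsPComponent p (J.map f) := by
  haveI : Finite G' := Finite.of_surjective f hf
  have hO := comap_pPrimeCore_of_ker hf hker
  set π := QuotientGroup.mk' (Cfsg.pPrimeCore p G) with hπ
  set π' := QuotientGroup.mk' (Cfsg.pPrimeCore p G') with hπ'
  let ψ : G →* G' ⧸ Cfsg.pPrimeCore p G' := π'.comp f
  have hψ : ψ.ker = Cfsg.pPrimeCore p G := by
    rw [← MonoidHom.comap_ker, QuotientGroup.ker_mk', hO]
  let e : G ⧸ Cfsg.pPrimeCore p G ≃* G' ⧸ Cfsg.pPrimeCore p G' :=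
    (QuotientGroup.quotientMulEquivOfEq hψ.symm).trans
      (QuotientGroup.quotientKerEquivOfSurjective ψ ((QuotientGroup.mk'_surjective _).comp hf))
  have key : ∀ H : Subgroup G, (H.map f).map π' = (H.map π).map e.toMonoidHom := fun H => by
    rw [Subgroup.map_map, Subgroup.map_map]
    rfl
  refine ⟨hJ.1.map hf, key J ▸ isComponent_map_equiv e hJ.2.1, fun H hH hle he => ?_⟩
  set H₁ := ((H.comap f).subgroupOf J).map J.subtype with hH₁
  have h1 : H₁ = H.comap f ⊓ J := subgroupOf_map_subtype _ _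
  have h2 : H₁.map f = H := by
    rw [h1, inf_comm]
    refine le_antisymm ?_ fun u hu => ?_
    · rintro _ ⟨v, hv, rfl⟩; exact hv.2
    · obtain ⟨v, hv, rfl⟩ := hle hu
      exact ⟨v, ⟨hv, hu⟩, rfl⟩
  have h3 : H₁.map π = J.map π := by
    refine map_injective (f := e.toMonoidHom) e.injective ?_
    rw [← key, ← key, h2, he]
  have hs : H₁.IsSubnormal := IsSubnormal.trans' (hH.comap f).subgroupOf hJ.1
  have h4 := hJ.2.2 H₁ hs (map_subtype_le _) h3
  rw [← h2, h4]

theorem isPComponent_map_equiv {p : ℕ} [Fact p.Prime] {G' : Type*} [Group G'] (e : G ≃* G')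
    {J : Subgroup G} (hJ : Cfsg.IsPComponent p J) : Cfsg.IsPComponent p (J.map e.toMonoidHom) :=
  isPComponent_map_of_ker e.surjective (by
    rw [(MonoidHom.ker_eq_bot_iff e.toMonoidHom).2 e.injective, card_bot]
    exact (Fact.out : p.Prime).not_dvd_one) hJ

/-- The centralizer of an involution covers the centralizer of its image modulo an odd normal subgroup. -/
theorem exists_centralizer_lift {N : Subgroup G} [N.Normal] (hN : Odd (Nat.card N)) {x g : G}
    (hx : orderOf x = 2) (h : (QuotientGroup.mk g : G ⧸ N) * QuotientGroup.mk x =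
      QuotientGroup.mk x * QuotientGroup.mk g) :
    ∃ c ∈ centralizer ({x} : Set G), (QuotientGroup.mk c : G ⧸ N) = QuotientGroup.mk g := by
  have hy : orderOf (g * x * g⁻¹) = 2 := Invol.invol_conj hx g
  have hmem : x * (g * x * g⁻¹) ∈ N := by
    rw [← QuotientGroup.eq_one_iff, QuotientGroup.mk_mul, QuotientGroup.mk_mul, QuotientGroup.mk_mul,
      QuotientGroup.mk_inv, h, mul_inv_cancel_right, ← QuotientGroup.mk_mul, Invol.invol_mul_self hx,
      QuotientGroup.mk_one]
  have hodd : Odd (orderOf (x * (g * x * g⁻¹))) :=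
    hN.of_dvd_nat (orderOf_dvd_of_mem hmem)
  obtain ⟨d, hd, e⟩ := Invol.exists_conj_eq_of_odd hx hy hodd
  have hdN : d ∈ N := zpowers_le.2 hmem hd
  refine ⟨d⁻¹ * g, mem_centralizer_singleton_iff.2 ?_, ?_⟩
  · calc d⁻¹ * g * x = d⁻¹ * (g * x * g⁻¹) * g := by group
      _ = d⁻¹ * (d * x * d⁻¹) * g := by rw [e]
      _ = x * (d⁻¹ * g) := by group
  · rw [QuotientGroup.mk_mul, QuotientGroup.mk_inv, (QuotientGroup.eq_one_iff d).2 hdN, inv_one, one_mul]
where
  orderOf_dvd_of_mem {N : Subgroup G} {u : G} (hu : u ∈ N) : orderOf u ∣ Nat.card N := by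
    rw [← Subgroup.orderOf_mk u hu]; exact orderOf_dvd_natCard _

/-- The `2`-components of a normal subgroup of `C(x) ∩ C(y)` below `C(y)`. -/
theorem double_layer_aux {x y : G} (hx : orderOf x = 2) (hxy : x * y = y * x)
    (hB : Cfsg.HasBProperty (↥(centralizer ({y} : Set G)) ⧸ Cfsg.oddCore ↥(centralizer ({y} : Set G))))
    (M : Subgroup G) (hMx : M ≤ centralizer ({x} : Set G)) (hMy : M ≤ centralizer ({y} : Set G))
    (hMn : ∀ m ∈ M, ∀ u ∈ centralizer ({x} : Set G), u ∈ centralizer ({y} : Set G) → u * m * u⁻¹ ∈ M)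
    (J : Subgroup M) (hJ : Cfsg.IsPComponent 2 J) :
    Cfsg.IsComponent
      ((((J.map M.subtype).subgroupOf (centralizer ({y} : Set G))).map
        (QuotientGroup.mk' (Cfsg.oddCore ↥(centralizer ({y} : Set G))))).subgroupOf
      (centralizer ({(QuotientGroup.mk' (Cfsg.oddCore ↥(centralizer ({y} : Set G)))
        ⟨x, mem_centralizer_singleton_iff.mpr hxy⟩ :
          ↥(centralizer ({y} : Set G)) ⧸ Cfsg.oddCore ↥(centralizer ({y} : Set G)))} : Set _))) ∧
    ∀ E : Subgroup G, E ≤ centralizer ({x} : Set G) ⊓ centralizer ({y} : Set G) → Odd (Nat.card ↥E) →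
      (∀ j ∈ J.map M.subtype, ∀ e ∈ E, j * e * j⁻¹ ∈ E) →
      ⁅J.map M.subtype, E⁆ ≤
        (Cfsg.oddCore ↥(centralizer ({y} : Set G))).map (centralizer ({y} : Set G)).subtype := by
  haveI : Fact (Nat.Prime 2) := ⟨Nat.prime_two⟩
  set Cx := centralizer ({x} : Set G) with hCx
  set Y := centralizer ({y} : Set G) with hY
  set xY : Y := ⟨x, mem_centralizer_singleton_iff.mpr hxy⟩ with hxY
  set π := QuotientGroup.mk' (Cfsg.oddCore ↥Y) with hπ
  set X := centralizer ({xY} : Set Y) with hX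
  set X' := centralizer ({π xY} : Set (↥Y ⧸ Cfsg.oddCore ↥Y)) with hX'
  have hoY : orderOf xY = 2 := by rw [← Subgroup.orderOf_coe]; exact hx
  have hNodd : Odd (Nat.card (Cfsg.oddCore ↥Y)) :=
    Nat.not_even_iff_odd.1 fun h => pPrimeCore_not_dvd (G := ↥Y) Nat.prime_two h.two_dvd
  have hXmem : ∀ u : X, ((u : Y) : G) ∈ Cx := fun u => mem_centralizer_singleton_iff.2
    (congrArg Subtype.val (mem_centralizer_singleton_iff.1 u.2))
  have hmemX : ∀ (u : G) (hu : u ∈ Y), u ∈ Cx → (⟨u, hu⟩ : Y) ∈ X := fun u hu h =>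
    mem_centralizer_singleton_iff.2 (Subtype.ext (mem_centralizer_singleton_iff.1 h))
  -- the embedding of the double layer
  let j : M →* X :=
    { toFun := fun m => ⟨⟨m, hMy m.2⟩, hmemX _ (hMy m.2) (hMx m.2)⟩
      map_one' := rfl
      map_mul' := fun _ _ => rfl }
  have hj : Function.Injective j := fun a b h =>
    Subtype.ext (congrArg (fun u : X => ((u : Y) : G)) h)
  haveI hjn : j.range.Normal := by
    refine ⟨?_⟩
    rintro _ ⟨m, rfl⟩ u
    exact ⟨⟨_, hMn m m.2 _ (hXmem u) (u : Y).2⟩, rfl⟩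
  have hJX : Cfsg.IsPComponent 2 (J.map j) := by
    have h1 := isPComponent_map_equiv (MonoidHom.ofInjective hj) hJ
    have h2 := (isPComponent_map_subtype_iff (Normal.isSubnormal hjn) _).2 h1
    rwa [Subgroup.map_map] at h2
  -- the projection
  let f : X →* X' := (π.comp X.subtype).codRestrict X' fun u => mem_centralizer_singleton_iff.2 (by
    show π (u : Y) * π xY = π xY * π (u : Y)
    rw [← map_mul, ← map_mul, mem_centralizer_singleton_iff.1 u.2])
  have hf : Function.Surjective f := by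
    rintro ⟨q, hq⟩
    obtain ⟨g, rfl⟩ := QuotientGroup.mk'_surjective _ q
    obtain ⟨c, hc, e⟩ := exists_centralizer_lift hNodd hoY (mem_centralizer_singleton_iff.1 hq)
    exact ⟨⟨c, hc⟩, Subtype.ext e⟩
  have hker : ¬ 2 ∣ Nat.card f.ker := fun h => by
    have h1 : f.ker.map X.subtype ≤ Cfsg.oddCore ↥Y := by
      rintro _ ⟨u, hu, rfl⟩
      exact (QuotientGroup.eq_one_iff (u : Y)).1 (congrArg Subtype.val (MonoidHom.mem_ker.1 hu))
    have h2 := card_dvd_of_le h1
    rw [card_map_of_injective X.subtype_injective] at h2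
    exact pPrimeCore_not_dvd (G := ↥Y) Nat.prime_two (h.trans h2)
  have hJ' := isPComponent_map_of_ker hf hker hJX
  -- the B-property removes the core
  have hoX : orderOf (π xY) = 2 := by
    have h1 := orderOf_map_dvd π xY
    rw [hoY] at h1
    refine ((Nat.dvd_prime Nat.prime_two).1 h1).resolve_left fun e => ?_
    have h2 : xY ∈ Cfsg.oddCore ↥Y := (QuotientGroup.eq_one_iff xY).1 (orderOf_eq_one_iff.1 e)
    have h3 := orderOf_dvd_natCard (⟨xY, h2⟩ : Cfsg.oddCore ↥Y)
    rw [Subgroup.orderOf_mk, hoY] at h3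
    exact pPrimeCore_not_dvd (G := ↥Y) Nat.prime_two h3
  have hcore : ⁅(J.map j).map f, Cfsg.pPrimeCore 2 ↥X'⁆ = ⊥ := by
    refine eq_bot_iff.2 ((commutator_mono (pComponent_le_pLayer hJ') le_rfl).trans ?_)
    intro u hu
    have h1 := hB (π xY) hoX (mem_map_of_mem X'.subtype hu)
    rw [show Cfsg.oddCore (↥Y ⧸ Cfsg.oddCore ↥Y) = ⊥ from pPrimeCore_quotient_eq_bot Nat.prime_two,
      mem_bot] at h1
    exact mem_bot.2 (Subtype.ext h1)
  have hcomp := isComponent_of_centralizes_core hJ' hcore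
  have heq : (J.map j).map f =
      (((J.map M.subtype).subgroupOf Y).map π).subgroupOf X' := by
    ext u
    constructor
    · rintro ⟨_, ⟨m, hm, rfl⟩, rfl⟩
      exact mem_subgroupOf.2 ⟨⟨(m : G), hMy m.2⟩, mem_subgroupOf.2 ⟨m, hm, rfl⟩, rfl⟩
    · intro hu
      obtain ⟨v, hv, hvu⟩ := mem_subgroupOf.1 hu
      obtain ⟨m, hm, hmv⟩ := mem_subgroupOf.1 hv
      refine ⟨j m, mem_map_of_mem j hm, Subtype.ext ?_⟩
      rw [← hvu]
      exact congrArg π (Subtype.ext hmv)
  refine ⟨heq ▸ hcomp, fun E hE hodd hnorm => ?_⟩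
  set EX := (E.comap (Y.subtype.comp X.subtype)).map f with hEX
  have hEodd : Odd (Nat.card EX) := by
    refine hodd.of_dvd_nat ((card_map_dvd _ f).trans ?_)
    rw [← card_map_of_injective (f := Y.subtype.comp X.subtype)
      (Y.subtype_injective.comp X.subtype_injective)]
    exact card_dvd_of_le (map_comap_le _ _)
  set Jf := (J.map j).map f with hJf
  have hJE : Jf ≤ normalizer (EX : Set X') := by
    rintro _ ⟨_, ⟨m, hm, rfl⟩, rfl⟩
    have hmG := mem_map_of_mem M.subtype hm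
    refine mem_normalizer_iff.2 fun q => ⟨?_, fun h => ?_⟩
    · rintro ⟨e, he, rfl⟩
      refine ⟨j m * e * (j m)⁻¹, ?_, by simp⟩
      exact hnorm _ hmG _ he
    · obtain ⟨e, he, e'⟩ := h
      refine ⟨(j m)⁻¹ * e * j m, ?_, by rw [map_mul, map_mul, map_inv, e']; group⟩
      have h1 := hnorm _ (Subgroup.inv_mem _ hmG) _ he
      rw [inv_inv] at h1
      exact h1
  set W := Jf ⊔ EX with hW
  haveI : (EX.subgroupOf W).Normal :=
    normal_subgroupOf_of_le_normalizer (sup_le hJE EX.le_normalizer)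
  have hcW : Cfsg.IsComponent (Jf.subgroupOf W) := isComponent_subgroupOf hcomp le_sup_left
  have h0 : ⁅Jf, EX⁆ = ⊥ := by
    rcases component_le_or_commutator_eq_bot hcW
      (Normal.isSubnormal (H := EX.subgroupOf W) inferInstance) with h | h
    · exfalso
      have h1 := card_dvd_of_le h
      rw [Nat.card_congr (subgroupOfEquivOfLe (le_sup_left : Jf ≤ W)).toEquiv,
        Nat.card_congr (subgroupOfEquivOfLe (le_sup_right : EX ≤ W)).toEquiv] at h1
      exact Nat.not_even_iff_odd.2 hEodd (even_iff_two_dvd.2 ((dvd_card_pComponent hJ').trans h1))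
    · have h1 := congrArg (Subgroup.map W.subtype) h
      rwa [map_commutator, map_subgroupOf_eq_of_le le_sup_left, map_subgroupOf_eq_of_le le_sup_right,
        Subgroup.map_bot] at h1
  rw [commutator_le]
  rintro _ ⟨m, hm, rfl⟩ e he
  have heX : (⟨e, (hE he).2⟩ : Y) ∈ X := hmemX e (hE he).2 (hE he).1
  have h1 := commutator_eq_bot_iff_forall.1 h0 (f (j m)) (mem_map_of_mem f (mem_map_of_mem j hm))
    (f ⟨_, heX⟩) (mem_map_of_mem f (by exact he))
  refine ⟨⁅((j m : X) : Y), (⟨e, (hE he).2⟩ : Y)⁆, ?_, rfl⟩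
  refine (QuotientGroup.eq_one_iff (N := Cfsg.oddCore ↥Y) _).1 ?_
  show π _ = 1
  rw [map_commutatorElement, commutatorElement_eq_one_iff_mul_comm]
  exact congrArg Subtype.val h1

/-- The double layer. -/
theorem double_layer {x y : G} (hx : orderOf x = 2) (hxy : x * y = y * x)
    (hB : Cfsg.HasBProperty (↥(centralizer ({y} : Set G)) ⧸ Cfsg.oddCore ↥(centralizer ({y} : Set G))))
    (J : Subgroup ↥((Cfsg.pLayer 2 ↥(centralizer ({x} : Set G))).map (centralizer ({x} : Set G)).subtype ⊓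
      centralizer ({y} : Set G)))
    (hJ : Cfsg.IsPComponent 2 J) :
    Cfsg.IsComponent
      ((((J.map (Subgroup.subtype _)).subgroupOf (centralizer ({y} : Set G))).map
        (QuotientGroup.mk' (Cfsg.oddCore ↥(centralizer ({y} : Set G))))).subgroupOf
      (centralizer ({(QuotientGroup.mk' (Cfsg.oddCore ↥(centralizer ({y} : Set G)))
        ⟨x, mem_centralizer_singleton_iff.mpr hxy⟩ :
          ↥(centralizer ({y} : Set G)) ⧸ Cfsg.oddCore ↥(centralizer ({y} : Set G)))} : Set _))) ∧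
    ∀ E : Subgroup G, E ≤ centralizer ({x} : Set G) ⊓ centralizer ({y} : Set G) → Odd (Nat.card ↥E) →
      (∀ j ∈ J.map (Subgroup.subtype _), ∀ e ∈ E, j * e * j⁻¹ ∈ E) →
      ⁅J.map (Subgroup.subtype _), E⁆ ≤
        (Cfsg.oddCore ↥(centralizer ({y} : Set G))).map (centralizer ({y} : Set G)).subtype := by
  haveI : Fact (Nat.Prime 2) := ⟨Nat.prime_two⟩
  refine double_layer_aux hx hxy hB _ (inf_le_left.trans (map_subtype_le _)) inf_le_right ?_ J hJ
  rintro _ ⟨⟨l, hl, rfl⟩, hly⟩ u hux huy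
  haveI := pLayer_normal (G := ↥(centralizer ({x} : Set G))) (p := 2)
  exact ⟨⟨_, Subgroup.Normal.conj_mem inferInstance l hl ⟨u, hux⟩, rfl⟩,
    Subgroup.mul_mem _ (Subgroup.mul_mem _ huy hly) (Subgroup.inv_mem _ huy)⟩

end CfsgLib.Coprime
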