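import Cfsg.Agent.Lib.Coprime.SchurZassenhaus

/-!
# Subnormal subgroups: joins, the zipper lemma, Wielandt's criterion
-/

set_option autoImplicit false
set_option linter.style.haveILetI false
set_option linter.unusedSectionVars false

namespace CfsgLib.Coprime

open Subgroup
open scoped Pointwise

universe u

variable {G : Type u} [Group G] [Finite G]

theorem isSubnormal_conjBy {A : Subgroup G} (hA : A.IsSubnormal) (g : G) :
    (conjBy g A).IsSubnormal :=
  hA.map (MulEquiv.surjective _)

/-- Subnormality inside a subgroup, moved by conjugation. -/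
theorem isSubnormal_subgroupOf_conjBy {A X : Subgroup G} (hAX : A ≤ X)
    (h : (A.subgroupOf X).IsSubnormal) (g : G) :
    ((conjBy g A).subgroupOf (conjBy g X)).IsSubnormal := by
  let e : X ≃* ↥(conjBy g X) := X.equivMapOfInjective _ (MulEquiv.injective _)
  have he : (A.subgroupOf X).map e.toMonoidHom = (conjBy g A).subgroupOf (conjBy g X) := by
    apply Subgroup.map_injective (conjBy g X).subtype_injective
    rw [map_subgroupOf_eq_of_le (map_mono hAX), Subgroup.map_map,
      show (conjBy g X).subtype.comp e.toMonoidHom = (MulAut.conj g).toMonoidHom.comp X.subtype from rfl,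
      ← Subgroup.map_map, map_subgroupOf_eq_of_le hAX]
  exact he ▸ h.map e.surjective

/-- The join of a subnormal subgroup with a normal one is subnormal. -/
theorem isSubnormal_sup_normal {B : Subgroup G} (hB : B.IsSubnormal) (N : Subgroup G) [N.Normal] :
    (B ⊔ N).IsSubnormal := by
  have h := (hB.map (f := QuotientGroup.mk' N) (QuotientGroup.mk'_surjective N)).comap
    (QuotientGroup.mk' N)
  rwa [Subgroup.comap_map_eq, QuotientGroup.ker_mk'] at h

theorem card_lt_of_lt {A B : Subgroup G} (h : A < B) : Nat.card A < Nat.card B :=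
  lt_of_le_of_ne (Nat.le_of_dvd Nat.card_pos (card_dvd_of_le h.le)) fun e =>
    h.ne (eq_of_le_of_card_ge h.le e.ge)

/-- The join of two subnormal subgroups, the second normalizing the first, is subnormal. -/
theorem isSubnormal_sup_of_le_normalizer {A B : Subgroup G} (hA : A.IsSubnormal)
    (hB : B.IsSubnormal) (hBA : B ≤ normalizer (A : Set G)) : (A ⊔ B).IsSubnormal := by
  suffices key : ∀ (n : ℕ) (M : Subgroup G), Nat.card M = n → A ≤ M →
      B ≤ normalizer (M : Set G) → (M ⊔ B).IsSubnormal → (A ⊔ B).IsSubnormal from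
    key _ ⊤ rfl le_top (by rw [normalizer_eq_top]; exact le_top)
      (by rw [top_sup_eq]; exact Subgroup.IsSubnormal.top)
  intro n
  induction n using Nat.strongRecOn with
  | ind n ih =>
    intro M hn hAM hBM hMB
    subst hn
    by_cases hAeq : A = M
    · exact hAeq ▸ hMB
    have hne : A.subgroupOf M ≠ ⊤ := fun e => hAeq (le_antisymm hAM (subgroupOf_eq_top.1 e))
    obtain ⟨K, hKn, hAK, hKlt⟩ :=
      (hA.subgroupOf (K := M)).exists_normal_and_le_and_lt_top_of_ne hne
    -- the normal closure of `A` in `M`, generated by conjugates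
    set M₁ : Subgroup G := ⨆ m : M, conjBy (m : G) A with hM₁
    have hAM₁ : A ≤ M₁ := le_iSup_of_le (1 : M) (by rw [OneMemClass.coe_one, conjBy_one])
    have hM₁M : M₁ ≤ M := iSup_le fun m => (map_mono hAM).trans (le_of_eq (conjBy_eq_self_of_mem m.2))
    have hM₁K : M₁ ≤ K.map M.subtype := iSup_le fun m => by
      rintro _ ⟨a, ha, rfl⟩
      exact ⟨_, hKn.conj_mem ⟨a, hAM ha⟩ (hAK (mem_subgroupOf.2 ha)) m, rfl⟩
    have hlt : Nat.card M₁ < Nat.card M := by
      refine lt_of_le_of_lt (Nat.le_of_dvd Nat.card_pos (card_dvd_of_le hM₁K)) ?_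
      rw [card_map_of_injective M.subtype_injective]
      have := card_lt_of_lt hKlt
      rwa [card_top] at this
    have hinv : ∀ g : G, g ∈ normalizer (M : Set G) → conjBy g A = A → conjBy g M₁ ≤ M₁ := by
      intro g hgM hgA
      rw [hM₁, conjBy, Subgroup.map_iSup]
      refine iSup_le fun m => ?_
      refine le_iSup_of_le (⟨g * m * g⁻¹, (Subgroup.mem_normalizer_iff.1 hgM m).1 m.2⟩ : M)
        (le_of_eq ?_)
      show conjBy g (conjBy (m : G) A) = conjBy (g * m * g⁻¹) A
      conv_rhs => rw [← hgA, conjBy_conjBy, inv_mul_cancel_right]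
      rw [conjBy_conjBy]
    have hBM₁ : B ≤ normalizer (M₁ : Set G) := fun b hb => conjBy_eq_self_iff.1
      (eq_of_le_of_card_ge (hinv b (hBM hb) (conjBy_eq_self_iff.2 (hBA hb)))
        (by rw [card_conjBy]))
    have hMM₁ : M ≤ normalizer (M₁ : Set G) := fun x hx => conjBy_eq_self_iff.1
      (eq_of_le_of_card_ge (by
        rw [hM₁, conjBy, Subgroup.map_iSup]
        exact iSup_le fun m => le_iSup_of_le ((⟨x, hx⟩ : M) * m) (le_of_eq (by
          show conjBy x (conjBy (m : G) A) = _
          rw [conjBy_conjBy]; rfl))) (by rw [card_conjBy]))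
    refine ih _ hlt M₁ rfl hAM₁ hBM₁ ?_
    have hle : M₁ ⊔ B ≤ M ⊔ B := sup_le_sup_right hM₁M _
    haveI : (M₁.subgroupOf (M ⊔ B)).Normal :=
      (normal_subgroupOf_iff_le_normalizer (hM₁M.trans le_sup_left)).2 (sup_le hMM₁ hBM₁)
    have h2 := isSubnormal_sup_normal (hB.subgroupOf (K := M ⊔ B)) (M₁.subgroupOf (M ⊔ B))
    rw [← subgroupOf_sup le_sup_right (hM₁M.trans le_sup_left), sup_comm B M₁] at h2
    exact Subgroup.IsSubnormal.trans hle h2 hMB

theorem isSubnormal_sSup_aux {S : Set (Subgroup G)}
    (hsup : ∀ A ∈ S, ∀ B : Subgroup G, B.IsSubnormal → B ≤ sSup S → (A ⊔ B).IsSubnormal)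
    {T : Set (Subgroup G)} (hT : T ⊆ S) : (sSup T).IsSubnormal := by
  induction T, T.toFinite using Set.Finite.induction_on with
  | empty => rw [sSup_empty]; exact Subgroup.IsSubnormal.bot
  | @insert a s _ _ ih =>
    rw [sSup_insert]
    exact hsup a (hT (Set.mem_insert a s)) _ (ih fun x hx => hT (Set.mem_insert_of_mem a hx))
      (sSup_le_sSup fun x hx => hT (Set.mem_insert_of_mem a hx))

/-- Wielandt: the join of two subnormal subgroups is subnormal. -/
theorem isSubnormal_sup {A B : Subgroup G} (hA : A.IsSubnormal) (hB : B.IsSubnormal) :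
    (A ⊔ B).IsSubnormal := by
  induction hk : Nat.card G using Nat.strongRecOn generalizing G with
  | ind k ih =>
    subst hk
    by_cases hAt : A = ⊤
    · rw [hAt, top_sup_eq]; exact Subgroup.IsSubnormal.top
    obtain ⟨N, hN, hAN, hNlt⟩ := hA.exists_normal_and_le_and_lt_top_of_ne hAt
    haveI := hN
    have hNcard : Nat.card N < Nat.card G := by
      have := card_lt_of_lt hNlt
      rwa [card_top] at this
    set S : Set (Subgroup G) := {X | ∃ j ∈ A ⊔ B, X = conjBy j A} with hS
    have hSN : ∀ X ∈ S, X ≤ N := by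
      rintro X ⟨j, -, rfl⟩
      refine (map_mono hAN).trans (le_of_eq (conjBy_eq_self_iff.2 ?_))
      rw [normalizer_eq_top]; trivial
    have hAst : (sSup S).IsSubnormal := by
      refine isSubnormal_sSup_aux (S := S) (fun X hX Y hY hYS => ?_) (subset_refl S)
      obtain ⟨j, hj, rfl⟩ := hX
      have hXN := hSN _ ⟨j, hj, rfl⟩
      have hYN : Y ≤ N := hYS.trans (sSup_le hSN)
      have h := ih _ hNcard (G := N) ((isSubnormal_conjBy hA j).subgroupOf (K := N))
        (hY.subgroupOf (K := N)) rfl
      rw [← subgroupOf_sup hXN hYN] at h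
      exact Subgroup.IsSubnormal.trans (sup_le hXN hYN) h (Subgroup.Normal.isSubnormal hN)
    have hAle : A ≤ sSup S := le_sSup ⟨1, one_mem _, (conjBy_one A).symm⟩
    have hBn : B ≤ normalizer ((sSup S : Subgroup G) : Set G) := by
      intro b hb
      refine conjBy_eq_self_iff.1 (eq_of_le_of_card_ge ?_ (by rw [card_conjBy]))
      rw [conjBy, (Subgroup.gc_map_comap _).l_sSup]
      refine iSup₂_le fun X ⟨j, hj, hX⟩ => le_sSup ⟨b * j, mul_mem (mem_sup_right hb) hj, ?_⟩
      rw [hX]; exact conjBy_conjBy b j A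
    have heq : sSup S ⊔ B = A ⊔ B := le_antisymm (sup_le (sSup_le fun X ⟨j, hj, hX⟩ => by
      rw [hX]; exact (map_mono le_sup_left).trans (le_of_eq (conjBy_eq_self_of_mem hj)))
      le_sup_right) (sup_le_sup_right hAle B)
    exact heq ▸ isSubnormal_sup_of_le_normalizer hAst hB hBn

theorem isSubnormal_sSup {S : Set (Subgroup G)} (h : ∀ A ∈ S, A.IsSubnormal) :
    (sSup S).IsSubnormal :=
  isSubnormal_sSup_aux (fun A hA _ hB _ => isSubnormal_sup (h A hA) hB) (subset_refl S)

/-- A subnormal subgroup that is not normal has another conjugate inside its normalizer. -/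
theorem exists_conjBy_le_normalizer {T : Subgroup G} (hT : T.IsSubnormal) (hn : ¬ T.Normal) :
    ∃ g : G, conjBy g T ≠ T ∧ conjBy g T ≤ normalizer (T : Set G) := by
  induction hk : Nat.card G using Nat.strongRecOn generalizing G with
  | ind k ih =>
    subst hk
    obtain ⟨N, hN, hTN, hNlt⟩ := hT.exists_normal_and_le_and_lt_top_of_ne fun e => hn (e ▸ inferInstance)
    haveI := hN
    by_cases hTn : N ≤ normalizer (T : Set G)
    · have : ∃ g : G, conjBy g T ≠ T := by
        by_contra! h
        exact hn (normalizer_eq_top_iff.1 (eq_top_iff.2 fun g _ => conjBy_eq_self_iff.1 (h g)))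
      obtain ⟨g, hg⟩ := this
      refine ⟨g, hg, ((map_mono hTN).trans (le_of_eq (conjBy_eq_self_iff.2 ?_))).trans hTn⟩
      rw [normalizer_eq_top]; trivial
    · have hcard : Nat.card N < Nat.card G := by
        have := card_lt_of_lt hNlt
        rwa [card_top] at this
      obtain ⟨g, hne, hle⟩ := ih _ hcard (G := N) (hT.subgroupOf (K := N))
        (fun h => hTn ((normal_subgroupOf_iff_le_normalizer hTN).1 h)) rfl
      have hTg : conjBy (g : G) T = (conjBy g (T.subgroupOf N)).map N.subtype := by
        rw [conjBy_map, map_subgroupOf_eq_of_le hTN]; rfl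
      refine ⟨g, fun e => hne (map_injective N.subtype_injective ?_), ?_⟩
      · rw [map_subgroupOf_eq_of_le hTN, ← hTg, e]
      · rw [hTg]
        rintro _ ⟨x, hx, rfl⟩
        rw [← conjBy_eq_self_iff]
        have h2 := congrArg (Subgroup.map N.subtype) (conjBy_eq_self_iff.2 (hle hx))
        rwa [conjBy_map, map_subgroupOf_eq_of_le hTN] at h2

/-- In a conjugation-invariant family of subnormal subgroups some member outside a given part
normalizes its join. -/
theorem exists_mem_normalizer_join {S S₀ : Set (Subgroup G)} (hS : ∀ U ∈ S, U.IsSubnormal)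
    (hconj : ∀ U ∈ S, ∀ g : G, conjBy g U ∈ S) (h₀ : S₀ ⊂ S) :
    ∃ X ∈ S, X ∉ S₀ ∧ X ≤ normalizer ((sSup S₀ : Subgroup G) : Set G) := by
  set T := sSup S₀
  by_cases h1 : ∃ X ∈ S, X ∉ S₀ ∧ X ≤ T
  · obtain ⟨X, hX, hX₀, hXT⟩ := h1
    exact ⟨X, hX, hX₀, hXT.trans le_normalizer⟩
  by_cases hTn : T.Normal
  · obtain ⟨X, hX, hX₀⟩ := Set.exists_of_ssubset h₀
    exact ⟨X, hX, hX₀, by rw [normalizer_eq_top]; exact le_top⟩
  obtain ⟨g, hne, hle⟩ := exists_conjBy_le_normalizer
    (isSubnormal_sSup fun U hU => hS U (h₀.subset hU)) hTn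
  by_contra hnot
  push Not at h1 hnot
  refine hne (eq_of_le_of_card_ge ?_ (by rw [card_conjBy]))
  rw [conjBy, (Subgroup.gc_map_comap _).l_sSup]
  refine iSup₂_le fun U hU => ?_
  by_contra hU'
  refine hnot _ (hconj U (h₀.subset hU) g) (fun h => hU' (le_sSup h)) ?_
  exact (map_mono (le_sSup hU)).trans hle

/-- Zipper lemma: a subgroup subnormal in every proper subgroup containing it, but not in the
group, lies in a unique maximal subgroup. -/
theorem zipper {A : Subgroup G} (hA : ¬ A.IsSubnormal)
    (h : ∀ X : Subgroup G, A ≤ X → X ≠ ⊤ → (A.subgroupOf X).IsSubnormal) :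
    ∃ M : Subgroup G, IsCoatom M ∧ A ≤ M ∧ ∀ K : Subgroup G, A ≤ K → K ≠ ⊤ → K ≤ M := by
  induction hk : Nat.card G - Nat.card A using Nat.strongRecOn generalizing A with
  | ind k ih =>
    subst hk
    have hNne : normalizer (A : Set G) ≠ ⊤ := fun e =>
      hA (Subgroup.Normal.isSubnormal (normalizer_eq_top_iff.1 e))
    obtain ⟨M, hM, hNM⟩ := (eq_top_or_exists_le_coatom (normalizer (A : Set G))).resolve_left hNne
    refine ⟨M, hM, le_normalizer.trans hNM, fun K hAK hK => ?_⟩
    obtain ⟨K', hK', hKK'⟩ := (eq_top_or_exists_le_coatom K).resolve_left hK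
    refine hKK'.trans ?_
    by_contra hne
    have hAK' := hAK.trans hKK'
    have hsn := h K' hAK' hK'.1
    have hnn : ¬ (A.subgroupOf K').Normal := fun hn =>
      hne (((normal_subgroupOf_iff_le_normalizer hAK').1 hn).trans hNM)
    obtain ⟨g, hgne, hgle⟩ := exists_conjBy_le_normalizer hsn hnn
    have hgA : conjBy (g : G) A = (conjBy g (A.subgroupOf K')).map K'.subtype := by
      rw [conjBy_map, map_subgroupOf_eq_of_le hAK']; rfl
    have hAg : conjBy (g : G) A ≤ normalizer (A : Set G) := by
      rw [hgA]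
      rintro _ ⟨x, hx, rfl⟩
      rw [← conjBy_eq_self_iff]
      have h2 := congrArg (Subgroup.map K'.subtype) (conjBy_eq_self_iff.2 (hgle hx))
      rwa [conjBy_map, map_subgroupOf_eq_of_le hAK'] at h2
    set B := A ⊔ conjBy (g : G) A
    have hlt : A < B := by
      refine lt_of_le_of_ne le_sup_left fun e => hgne ?_
      have hle : conjBy (g : G) A ≤ A := (le_sup_right : _ ≤ B).trans e.ge
      have heq := eq_of_le_of_card_ge hle (by rw [card_conjBy])
      refine map_injective K'.subtype_injective ?_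
      rw [map_subgroupOf_eq_of_le hAK', ← hgA, heq]
    have hBK : B ≤ K' := sup_le hAK' (hgA.trans_le (map_subtype_le _))
    have hBsn : ¬ B.IsSubnormal := fun hB => hA (Subgroup.IsSubnormal.step A B le_sup_left hB
      ((normal_subgroupOf_iff_le_normalizer le_sup_left).2 (sup_le le_normalizer hAg)))
    have hBX : ∀ X : Subgroup G, B ≤ X → X ≠ ⊤ → (B.subgroupOf X).IsSubnormal := by
      intro X hBX hX
      have hg1 : A ≤ X := le_sup_left.trans hBX
      have hg2 : conjBy (g : G) A ≤ X := le_sup_right.trans hBX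
      rw [show B.subgroupOf X = A.subgroupOf X ⊔ (conjBy (g : G) A).subgroupOf X from
        subgroupOf_sup hg1 hg2]
      refine isSubnormal_sup (h X hg1 hX) ?_
      have hA' : A ≤ conjBy (g : G)⁻¹ X := by
        have h2 := map_mono (f := (MulAut.conj (g : G)⁻¹).toMonoidHom) hg2
        rwa [show (conjBy (g : G) A).map (MulAut.conj (g : G)⁻¹).toMonoidHom =
          conjBy (g : G)⁻¹ (conjBy (g : G) A) from rfl, conjBy_conjBy, inv_mul_cancel,
          conjBy_one] at h2
      have hX' : conjBy (g : G)⁻¹ X ≠ ⊤ := fun e => hX (eq_top_of_card_eq X (by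
        rw [← card_conjBy (g : G)⁻¹ X, e, card_top]))
      have h3 := isSubnormal_subgroupOf_conjBy hA' (h _ hA' hX') (g : G)
      rwa [show conjBy (g : G) (conjBy (g : G)⁻¹ X) = X by
        rw [conjBy_conjBy, mul_inv_cancel, conjBy_one]] at h3
    have hcard := card_lt_of_lt hlt
    have hBG : Nat.card B ≤ Nat.card G := Nat.le_of_dvd Nat.card_pos (card_subgroup_dvd_card B)
    obtain ⟨M₀, hM₀, -, huniq⟩ := ih _ (by omega) hBsn hBX rfl
    have hBM : B ≤ M := (sup_le le_normalizer hAg).trans hNM
    have e1 : M = M₀ := ((hM.le_iff).1 (huniq M hBM hM.1)).resolve_left hM₀.1 |>.symm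
    exact hne ((huniq K' hBK hK'.1).trans_eq e1.symm)

/-- Wielandt's criterion: a subgroup subnormal in its join with each of its conjugates is
subnormal. -/
theorem isSubnormal_of_subnormal_in_join_conj {A : Subgroup G}
    (h : ∀ g : G, (A.subgroupOf (A ⊔ conjBy g A)).IsSubnormal) : A.IsSubnormal := by
  induction hk : Nat.card G using Nat.strongRecOn generalizing G with
  | ind k ih =>
    subst hk
    have hprop : ∀ X : Subgroup G, A ≤ X → X ≠ ⊤ → (A.subgroupOf X).IsSubnormal := by
      intro X hAX hX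
      have hcard : Nat.card X < Nat.card G := by
        have := card_lt_of_lt (lt_top_iff_ne_top.2 hX)
        rwa [card_top] at this
      refine ih _ hcard (G := X) (fun g => ?_) rfl
      have hgX : conjBy (g : G) A ≤ X := (map_mono hAX).trans (le_of_eq (conjBy_eq_self_of_mem g.2))
      have e : A.subgroupOf X ⊔ conjBy g (A.subgroupOf X) = (A ⊔ conjBy (g : G) A).subgroupOf X := by
        rw [subgroupOf_sup hAX hgX]
        congr 1
        apply map_injective X.subtype_injective
        rw [conjBy_map, map_subgroupOf_eq_of_le hAX, map_subgroupOf_eq_of_le hgX]; rfl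
      rw [e]
      let f := subgroupOfEquivOfLe (sup_le hAX hgX : A ⊔ conjBy (g : G) A ≤ X)
      exact (h g).comap f.toMonoidHom
    by_contra hnot
    obtain ⟨M, hM, hAM, huniq⟩ := zipper hnot hprop
    have hclos : ∀ g : G, conjBy g A ≤ M := by
      intro g
      refine le_sup_right.trans (huniq (A ⊔ conjBy g A) le_sup_left fun e => hnot ?_)
      exact Subgroup.IsSubnormal.trans le_sup_left (h g) (e ▸ Subgroup.IsSubnormal.top)
    set N := normalClosure (A : Set G)
    have hNM : N ≤ M := (closure_le M).2 fun c hc => by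
      obtain ⟨a, ha, hac⟩ := Group.mem_conjugatesOfSet_iff.1 hc
      obtain ⟨g, rfl⟩ := isConj_iff.1 hac
      exact hclos g (conj_mem_conjBy ha)
    exact hnot (Subgroup.IsSubnormal.trans le_normalClosure
      (hprop N le_normalClosure fun e => hM.1 (top_le_iff.1 (e ▸ hNM)))
      (Subgroup.Normal.isSubnormal normalClosure_normal))

end CfsgLib.Coprime
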