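import Cfsg.Agent.Lib.Coprime.LargeSubnormal
import Cfsg.Agent.Lib.Coprime.Subnormal
import Mathlib.Tactic.Group

/-!
# Bender's theorem on pairs of subgroups containing each other's generalized Fitting subgroups
-/

set_option autoImplicit false
set_option linter.style.haveILetI false
set_option linter.unusedSectionVars false

namespace CfsgLib.Coprime.BenderPair

open Subgroup CfsgLib.Coprime.Large

variable {G : Type*} [Group G] [Finite G]

/-- `O_p(M)` inside `G`. -/
def opc (p : ℕ) (M : Subgroup G) : Subgroup G := (Cfsg.pCore p M).map M.subtype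

/-- The `p'`-part of `F(M)` inside `G`. -/
def xpc (p : ℕ) (M : Subgroup G) : Subgroup G := (fitPrime p M).map M.subtype

/-- `F*(M)` inside `G`. -/
def fsc (M : Subgroup G) : Subgroup G := (Cfsg.generalizedFittingSubgroup M).map M.subtype

theorem le_normalizer_map_subtype (M : Subgroup G) (N : Subgroup M) [N.Normal] :
    M ≤ normalizer ((N.map M.subtype : Subgroup G) : Set G) := by
  refine le_trans ?_ (le_normalizer_map M.subtype)
  rw [normalizer_eq_top (H := N), ← MonoidHom.range_eq_map, range_subtype]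

theorem le_normalizer_opc (p : ℕ) (M : Subgroup G) : M ≤ normalizer (opc p M : Set G) := by
  haveI := pCore_normal' (G := M) p
  exact le_normalizer_map_subtype M _

theorem le_normalizer_xpc (p : ℕ) [Fact p.Prime] (M : Subgroup G) :
    M ≤ normalizer (xpc p M : Set G) := by
  haveI := fitPrime_normal (H := M) (p := p)
  exact le_normalizer_map_subtype M _

theorem opc_le_fsc (p : ℕ) [Fact p.Prime] (M : Subgroup G) : opc p M ≤ fsc M :=
  map_mono ((pCore_le_fitting p).trans fitting_le_generalizedFitting)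

theorem xpc_le_fsc (p : ℕ) (M : Subgroup G) : xpc p M ≤ fsc M :=
  map_mono (inf_le_left.trans fitting_le_generalizedFitting)

theorem isPGroup_opc (p : ℕ) (M : Subgroup G) : IsPGroup p (opc p M) :=
  (pCore_isPGroup p).map _

theorem orderOf_coprime_xpc {p : ℕ} [Fact p.Prime] {M : Subgroup G} {k : G} (hk : k ∈ xpc p M) :
    (orderOf k).Coprime p := by
  obtain ⟨k, hk', rfl⟩ := hk
  rw [coe_subtype, Subgroup.orderOf_coe]
  exact orderOf_coprime_fitPrime hk'

theorem mem_fsc_of_commute {M : Subgroup G} {x : G} (hx : x ∈ M) (h : ∀ f ∈ fsc M, f * x = x * f) :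
    x ∈ fsc M := by
  refine ⟨⟨x, hx⟩, centralizer_generalizedFitting_le (mem_centralizer_iff.2 fun f hf => ?_), rfl⟩
  exact Subtype.ext (h f ⟨f, hf, rfl⟩)

/-- A `p`-subgroup and a `p'`-subgroup normalizing each other commute. -/
theorem commute_of_normalizing {p : ℕ} [Fact p.Prime] {P X : Subgroup G} (hP : IsPGroup p P)
    (hX : ∀ k ∈ X, (orderOf k).Coprime p) (hPX : P ≤ normalizer (X : Set G))
    (hXP : X ≤ normalizer (P : Set G)) : ∀ x ∈ P, ∀ k ∈ X, x * k = k * x := by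
  intro x hx k hk
  have h1 : x * k * x⁻¹ * k⁻¹ ∈ P := by
    rw [show x * k * x⁻¹ * k⁻¹ = x * (k * x⁻¹ * k⁻¹) by group]
    exact P.mul_mem hx ((mem_normalizer_iff.1 (hXP hk) _).1 (P.inv_mem hx))
  have h2 : x * k * x⁻¹ * k⁻¹ ∈ X := X.mul_mem ((mem_normalizer_iff.1 (hPX hx) k).1 hk) (X.inv_mem hk)
  have h3 := eq_one_of_both hP h1 (hX _ h2)
  rwa [mul_inv_eq_one, mul_inv_eq_iff_eq_mul] at h3

/-- The components of `M` inside `N` are components of `N`, if `F*(N) ≤ M`. -/
theorem layer_le_layer {M N : Subgroup G} (hMN : fsc M ≤ N) (hNM : fsc N ≤ M) :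
    (Cfsg.layer M).map M.subtype ≤ (Cfsg.layer N).map N.subtype := by
  refine map_le_iff_le_comap.2 (sSup_le fun K hK => ?_)
  rw [← map_le_iff_le_comap]
  set K' := K.map M.subtype with hK'
  have hK'N : K' ≤ N := (map_mono ((component_le_layer hK).trans layer_le_generalizedFitting)).trans hMN
  haveI := generalizedFitting_normal (G := N)
  set H1 := N.subgroupOf M with hH1
  have hKH : K ≤ H1 := fun k hk => mem_subgroupOf.2 (hK'N (mem_map_of_mem _ hk))
  set F := ((fsc N).subgroupOf M).subgroupOf H1 with hF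
  haveI : F.Normal := ⟨fun f hf g =>
    (mem_normalizer_iff.1 (le_normalizer_map_subtype N (Cfsg.generalizedFittingSubgroup N) g.2) _).1 hf⟩
  have hK'F : K' ≤ fsc N := by
    rintro _ ⟨k, hk, rfl⟩
    rcases component_le_or_commutator_eq_bot (isComponent_subgroupOf hK hKH)
      (inferInstance : F.Normal).isSubnormal with h | h
    · exact h (show (⟨k, hKH hk⟩ : H1) ∈ K.subgroupOf H1 from hk)
    · refine mem_fsc_of_commute (hK'N (mem_map_of_mem _ hk)) fun f hf => ?_
      have := commutator_eq_bot_iff_forall.1 h ⟨k, hKH hk⟩ hk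
        ⟨⟨f, hNM hf⟩, (show (⟨f, hNM hf⟩ : M) ∈ H1 from mem_subgroupOf.2
          (map_subtype_le (Cfsg.generalizedFittingSubgroup N) hf))⟩ hf
      exact (congrArg (fun v : H1 => ((v : M) : G)) this).symm
  have hcomp : Cfsg.IsComponent (K'.subgroupOf N) := by
    refine ⟨?_, isQuasisimple_congr ((subgroupOfEquivOfLe hK'N).symm) ?_⟩
    · have h1 : (K'.subgroupOf (fsc N)).IsSubnormal := by
        have h := hK.1.comap (Subgroup.inclusion hNM)
        have e : K.comap (Subgroup.inclusion hNM) = K'.subgroupOf (fsc N) := by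
          ext x
          constructor
          · intro hx; exact ⟨_, hx, rfl⟩
          · rintro ⟨k, hk, e⟩
            show Subgroup.inclusion hNM x ∈ K
            rwa [show Subgroup.inclusion hNM x = k from Subtype.ext e.symm]
        rwa [e] at h
      have h2 : ((K'.subgroupOf N).subgroupOf (Cfsg.generalizedFittingSubgroup N)).IsSubnormal :=
        h1.comap ((Cfsg.generalizedFittingSubgroup N).equivMapOfInjective N.subtype
          N.subtype_injective).toMonoidHom
      refine h2.trans ?_ (inferInstance : (Cfsg.generalizedFittingSubgroup N).Normal).isSubnormal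
      intro x hx
      obtain ⟨y, hy, e⟩ := hK'F (mem_subgroupOf.1 hx)
      exact Subtype.ext e ▸ hy
    · exact isQuasisimple_congr (K.equivMapOfInjective _ M.subtype_injective) hK.2
  intro x hx
  exact ⟨⟨x, hK'N hx⟩, component_le_layer hcomp (mem_subgroupOf.2 hx), rfl⟩

/-- The conditions on a primitive pair. -/
def Pair (M₁ M₂ : Subgroup G) : Prop :=
  ∀ A : Subgroup G, A ≠ ⊥ → A ≤ M₁ ⊓ M₂ →
    (M₁ ≤ normalizer (A : Set G) → M₂ ⊓ normalizer (A : Set G) = M₁ ⊓ M₂) ∧
    (M₂ ≤ normalizer (A : Set G) → M₁ ⊓ normalizer (A : Set G) = M₁ ⊓ M₂)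

theorem Pair.symm {M₁ M₂ : Subgroup G} (h : Pair M₁ M₂) : Pair M₂ M₁ := fun A hA hle => by
  rw [inf_comm M₂ M₁] at hle ⊢
  exact ⟨(h A hA hle).2, (h A hA hle).1⟩

theorem Pair.false_of_common {M₁ M₂ : Subgroup G} (h : Pair M₁ M₂) (hne : M₁ ≠ M₂) {A : Subgroup G}
    (hA : A ≠ ⊥) (hle : A ≤ M₁ ⊓ M₂) (h1 : M₁ ≤ normalizer (A : Set G))
    (h2 : M₂ ≤ normalizer (A : Set G)) : False := by
  have e1 := (h A hA hle).1 h1
  have e2 := (h A hA hle).2 h2
  rw [inf_eq_left.2 h2] at e1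
  rw [inf_eq_left.2 h1] at e2
  exact hne (le_antisymm (e2.le.trans inf_le_right) (e1.le.trans inf_le_left))

section Core

variable {M₁ M₂ : Subgroup G} (hpair : Pair M₁ M₂) (h₁ : fsc M₁ ≤ M₂) (h₂ : fsc M₂ ≤ M₁)
  (hE : Cfsg.layer M₁ = ⊥) {p : ℕ} [Fact p.Prime] (hX2 : xpc p M₂ ≠ ⊥)

include hpair h₁ h₂ hE hX2

theorem core_eq : opc p (M₁ ⊓ M₂) = opc p M₁ := by
  classical
  set H := M₁ ⊓ M₂
  set U := opc p H
  have hUH : U ≤ H := map_subtype_le _
  have hO1H : opc p M₁ ≤ H := le_inf (map_subtype_le _) ((opc_le_fsc p M₁).trans h₁)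
  refine le_antisymm ?_ ?_
  swap
  · have hn : ((opc p M₁).subgroupOf H).Normal := (normal_subgroupOf_iff_le_normalizer hO1H).2
      (inf_le_left.trans (le_normalizer_opc p M₁))
    haveI := hn
    have h := le_pCore (N := (opc p M₁).subgroupOf H) ((isPGroup_opc p M₁).comap_subtype)
    intro x hx
    exact ⟨⟨x, hO1H hx⟩, h (mem_subgroupOf.2 hx), rfl⟩
  set X₁ := xpc p M₁
  set X₂ := xpc p M₂
  have hX1H : X₁ ≤ H := le_inf (map_subtype_le _) ((xpc_le_fsc p M₁).trans h₁)
  have hX2H : X₂ ≤ H := le_inf ((xpc_le_fsc p M₂).trans h₂) (map_subtype_le _)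
  have hX1 : ∀ k ∈ X₁, (orderOf k).Coprime p := fun k hk => orderOf_coprime_xpc hk
  have hcomm12 : ∀ o ∈ opc p M₁, ∀ y ∈ X₂, o * y = y * o :=
    commute_of_normalizing (isPGroup_opc p M₁) (fun k hk => orderOf_coprime_xpc hk)
      (fun o ho => le_normalizer_xpc p M₂ (hO1H ho).2)
      (fun y hy => le_normalizer_opc p M₁ (hX2H hy).1)
  have hUX : ∀ u ∈ U, ∀ k ∈ X₁, u * k = k * u :=
    commute_of_normalizing (isPGroup_opc p H) hX1
      (fun u hu => le_normalizer_xpc p M₁ (hUH hu).1)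
      (fun k hk => le_normalizer_opc p H (hX1H hk))
  have hXX : X₂ ≤ normalizer (X₁ : Set G) := fun y hy => le_normalizer_xpc p M₁ (hX2H hy).1
  have hcard : ∀ z ∈ X₂ ⊔ X₁, (orderOf z).Coprime p := by
    intro z hz
    refine Nat.Coprime.coprime_dvd_left (Subgroup.orderOf_dvd_natCard _ hz) ?_
    refine Nat.Coprime.coprime_dvd_left (card_sup_dvd_of_le_normalizer hXX) ?_
    have hf : ∀ M : Subgroup G, (Nat.card (xpc p M)).Coprime p := fun M => by
      refine ((Fact.out : p.Prime).coprime_iff_not_dvd.2 fun hd => ?_).symm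
      obtain ⟨w, hw⟩ := exists_prime_orderOf_dvd_card' p hd
      have := orderOf_coprime_xpc w.2
      rw [Subgroup.orderOf_coe, hw] at this
      exact (Fact.out : p.Prime).ne_one (Nat.eq_one_of_dvd_coprimes this dvd_rfl dvd_rfl)
    exact Nat.Coprime.mul_left (hf M₂) (hf M₁)
  -- `p`-elements centralizing `X₁` lie in `H`
  have key : ∀ c ∈ M₁, (∀ k ∈ X₁, c * k = k * c) → IsPGroup p (zpowers c) → c ∈ H := by
    intro c hc hck hcp
    have hN : M₁ ⊓ normalizer (X₂ : Set G) = H := (hpair X₂ hX2 hX2H).2 (le_normalizer_xpc p M₂)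
    rw [← hN]
    refine ⟨hc, centralizer_le_normalizer _ (mem_centralizer_iff.2 fun y hy => ?_)⟩
    have hy1 : y ∈ M₁ := (hX2H hy).1
    set w := c * y * c⁻¹ * y⁻¹ with hw
    have hwM : w ∈ M₁ := M₁.mul_mem (M₁.mul_mem (M₁.mul_mem hc hy1) (M₁.inv_mem hc)) (M₁.inv_mem hy1)
    have hwO : ∀ o ∈ opc p M₁, o * w = w * o := by
      intro o ho
      have h := hcomm12 _ ((mem_normalizer_iff''.1 (le_normalizer_opc p M₁ hc) o).1 ho) y hy
      have e1 : Commute o (c * y * c⁻¹) := by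
        show o * (c * y * c⁻¹) = c * y * c⁻¹ * o
        calc o * (c * y * c⁻¹) = c * ((c⁻¹ * o * c) * y) * c⁻¹ := by group
          _ = c * y * c⁻¹ * o := by rw [h]; group
      exact (e1.mul_right ((show Commute o y from hcomm12 o ho y hy).inv_right)).eq
    have hwX : ∀ k ∈ X₁, k * w = w * k := by
      intro k hk
      have hk' : y⁻¹ * k * y ∈ X₁ := (mem_normalizer_iff''.1 (hXX hy) k).1 hk
      have e1 : c * (y⁻¹ * k * y) * c⁻¹ = y⁻¹ * k * y := by rw [hck _ hk', mul_inv_cancel_right]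
      have e2 : c * k * c⁻¹ = k := by rw [hck _ hk, mul_inv_cancel_right]
      refine (mul_inv_eq_iff_eq_mul.1 ?_).symm
      calc w * k * w⁻¹ = c * y * (c⁻¹ * (y⁻¹ * k * y) * c) * y⁻¹ * c⁻¹ := by rw [hw]; group
        _ = c * y * (y⁻¹ * k * y) * y⁻¹ * c⁻¹ := by
            conv_lhs => rw [← e1]
            group
        _ = c * k * c⁻¹ := by group
        _ = k := e2
    have hdec : ∀ f ∈ fsc M₁, ∃ o ∈ opc p M₁, ∃ k ∈ X₁, o * k = f := by
      rintro _ ⟨f, hf, rfl⟩
      rw [Cfsg.generalizedFittingSubgroup, hE, bot_sup_eq] at hf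
      obtain ⟨o, ho, k, hk, e⟩ := exists_decomp_fitting (p := p) hf
      exact ⟨_, ⟨o, ho, rfl⟩, _, ⟨k, hk, rfl⟩, by rw [← map_mul, e]⟩
    have hwF : w ∈ fsc M₁ := by
      refine mem_fsc_of_commute hwM fun f hf => ?_
      obtain ⟨o, ho, k, hk, rfl⟩ := hdec f hf
      rw [mul_assoc, hwX k hk, ← mul_assoc, hwO o ho, mul_assoc]
    obtain ⟨o, ho, k, hk, hok⟩ := hdec w hwF
    have hko : Commute o k :=
      (commute_of_normalizing (isPGroup_opc p M₁) hX1
        (fun v hv => le_normalizer_xpc p M₁ (hO1H hv).1)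
        (fun v hv => le_normalizer_opc p M₁ (hX1H hv).1) o ho k hk)
    have hoy : Commute o (k * y) := hko.mul_right (hcomm12 o ho y hy)
    have hcy : c * y * c⁻¹ = o * (k * y) := by
      rw [← mul_assoc, hok, hw]
      group
    have ho1 : o = 1 := by
      obtain ⟨a, ha⟩ := isPGroup_opc p M₁ ⟨o, ho⟩
      have h1 : (o * (k * y)) ^ (orderOf y * orderOf (k * y)) = 1 := by
        rw [← hcy, conj_pow, pow_mul, pow_orderOf_eq_one, one_pow]; simp
      rw [hoy.mul_pow, mul_comm (orderOf y), pow_mul, pow_mul, pow_orderOf_eq_one, one_pow, mul_one,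
        ← pow_mul] at h1
      refine orderOf_eq_one_iff.1 (Nat.eq_one_of_dvd_coprimes ?_ (orderOf_dvd_of_pow_eq_one h1)
        (orderOf_dvd_of_pow_eq_one (congrArg Subtype.val ha)))
      exact Nat.Coprime.pow_right a (Nat.Coprime.mul_left
        (hcard _ (Subgroup.mul_mem _ (mem_sup_right hk) (mem_sup_left hy))) (orderOf_coprime_xpc hy))
    rw [ho1, one_mul] at hcy
    obtain ⟨b, hb⟩ := hcp ⟨c, mem_zpowers c⟩
    have hb' : c ^ p ^ b = 1 := congrArg Subtype.val hb
    have hpow : ∀ n : ℕ, c ^ n * y * (c ^ n)⁻¹ = k ^ n * y := by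
      intro n
      induction n with
      | zero => simp
      | succ n ih =>
        have e2 : c * k ^ n * c⁻¹ = k ^ n := by rw [hck _ (X₁.pow_mem hk n), mul_inv_cancel_right]
        calc c ^ (n + 1) * y * (c ^ (n + 1))⁻¹ = c * (c ^ n * y * (c ^ n)⁻¹) * c⁻¹ := by
              rw [pow_succ']; group
          _ = (c * k ^ n * c⁻¹) * (c * y * c⁻¹) := by rw [ih]; group
          _ = k ^ n * (k * y) := by rw [e2, hcy]
          _ = k ^ (n + 1) * y := by rw [pow_succ, mul_assoc]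
    have hk1 : k = 1 := by
      have h := hpow (p ^ b)
      rw [hb', one_mul, inv_one, mul_one, right_eq_mul] at h
      exact orderOf_eq_one_iff.1 (Nat.eq_one_of_dvd_coprimes ((hX1 k hk).pow_right b) dvd_rfl
        (orderOf_dvd_of_pow_eq_one h))
    rw [hk1, one_mul, mul_inv_eq_iff_eq_mul] at hcy
    exact hcy.symm
  set S : Set G := {c | c ∈ M₁ ∧ (∀ k ∈ X₁, c * k = k * c) ∧ IsPGroup p (zpowers c)}
  set C₀ := closure S with hC₀
  have hC₀H : C₀ ≤ H := (closure_le _).2 fun c hc => key c hc.1 hc.2.1 hc.2.2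
  have hS : ∀ g ∈ M₁, ∀ c ∈ S, g * c * g⁻¹ ∈ S := by
    intro g hg c hc
    refine ⟨M₁.mul_mem (M₁.mul_mem hg hc.1) (M₁.inv_mem hg), fun k hk => ?_, ?_⟩
    · have hk' : g⁻¹ * k * g ∈ X₁ := (mem_normalizer_iff''.1 (le_normalizer_xpc p M₁ hg) k).1 hk
      calc g * c * g⁻¹ * k = g * (c * (g⁻¹ * k * g)) * g⁻¹ := by group
        _ = k * (g * c * g⁻¹) := by rw [hc.2.1 _ hk']; group
    · have h := hc.2.2.map (MulAut.conj g).toMonoidHom
      rwa [MonoidHom.map_zpowers] at h
  haveI hC₀n : (C₀.subgroupOf M₁).Normal := by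
    refine ⟨fun x hx g => mem_subgroupOf.2 ?_⟩
    have h : C₀ ≤ C₀.comap (MulAut.conj (g : G)).toMonoidHom :=
      (closure_le _).2 fun c hc => subset_closure (hS g g.2 c hc)
    exact h (mem_subgroupOf.1 hx)
  have hUS : U ≤ C₀ := fun u hu => subset_closure ⟨(hUH hu).1, hUX u hu,
    (isPGroup_opc p H).to_le (zpowers_le.2 hu)⟩
  have hUsn : (U.subgroupOf M₁).IsSubnormal := by
    haveI : ((U.subgroupOf M₁).subgroupOf (C₀.subgroupOf M₁)).Normal := by
      refine ⟨fun x hx g => ?_⟩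
      exact (mem_normalizer_iff.1 (le_normalizer_opc p H (hC₀H g.2)) _).1 hx
    exact (inferInstance : ((U.subgroupOf M₁).subgroupOf (C₀.subgroupOf M₁)).Normal).isSubnormal.trans
      (fun x hx => mem_subgroupOf.2 (hUS (mem_subgroupOf.1 hx))) hC₀n.isSubnormal
  intro u hu
  exact ⟨⟨u, (hUH hu).1⟩, le_pCore_of_isSubnormal hUsn ((isPGroup_opc p H).comap_subtype)
    (mem_subgroupOf.2 hu), rfl⟩

end Core

/-- `O_q(M) ≤ F(M)_{p'}` for `q ≠ p`. -/
theorem opc_le_xpc {p q : ℕ} [Fact p.Prime] [Fact q.Prime] (h : q ≠ p) (M : Subgroup G) :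
    opc q M ≤ xpc p M :=
  map_mono (le_inf (pCore_le_fitting q) (pCore_le_pPrimeCore_of_ne h))

/-- Bender's theorem. -/
theorem bender_pair {M₁ M₂ : Subgroup G} (hne : M₁ ≠ M₂) (hpair : Pair M₁ M₂)
    (h₁ : fsc M₁ ≤ M₂) (h₂ : fsc M₂ ≤ M₁) :
    ∃ p : ℕ, p.Prime ∧ Cfsg.generalizedFittingSubgroup M₁ = Cfsg.pCore p M₁ ∧
      Cfsg.generalizedFittingSubgroup M₂ = Cfsg.pCore p M₂ := by
  classical
  have hEeq := le_antisymm (layer_le_layer h₁ h₂) (layer_le_layer h₂ h₁)
  have hE₁ : Cfsg.layer M₁ = ⊥ := by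
    by_contra hE
    have hle : (Cfsg.layer M₁).map M₁.subtype ≤ M₁ ⊓ M₂ :=
      le_inf (map_subtype_le _) ((map_mono layer_le_generalizedFitting).trans h₁)
    haveI := layer_normal (G := M₁)
    haveI := layer_normal (G := M₂)
    refine hpair.false_of_common hne ?_ hle (le_normalizer_map_subtype M₁ _) ?_
    · rwa [ne_eq, Subgroup.map_eq_bot_iff_of_injective _ M₁.subtype_injective]
    · rw [hEeq]; exact le_normalizer_map_subtype M₂ _
  have hE₂ : Cfsg.layer M₂ = ⊥ := by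
    rw [hE₁, Subgroup.map_bot] at hEeq
    exact (Subgroup.map_eq_bot_iff_of_injective _ M₂.subtype_injective).1 hEeq.symm
  -- the sets of primes agree
  have hpi : ∀ {A B : Subgroup G}, fsc A ≤ B → fsc B ≤ A → Cfsg.layer A = ⊥ →
      ∀ (q : ℕ) [Fact q.Prime], opc q A = ⊥ → opc q B = ⊥ := by
    intro A B hAB hBA hA q _ hq
    have hcomm := commute_of_normalizing (X := xpc q A) (isPGroup_opc q B) (fun k hk => orderOf_coprime_xpc hk)
      (fun x hx => le_normalizer_xpc q A (hBA (opc_le_fsc q B hx)))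
      (fun k hk => le_normalizer_opc q B (hAB (xpc_le_fsc q A hk)))
    have hF : fsc A ≤ xpc q A := by
      rintro _ ⟨f, hf, rfl⟩
      rw [Cfsg.generalizedFittingSubgroup, hA, bot_sup_eq] at hf
      obtain ⟨o, ho, k, hk, e⟩ := exists_decomp_fitting (p := q) hf
      rw [opc, Subgroup.map_eq_bot_iff_of_injective _ A.subtype_injective] at hq
      rw [hq, mem_bot] at ho
      rw [ho, one_mul] at e
      exact ⟨f, e ▸ hk, rfl⟩
    refine (eq_bot_iff_forall _).2 fun x hx => eq_one_of_both (isPGroup_opc q B) hx ?_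
    refine orderOf_coprime_xpc (hF (mem_fsc_of_commute (hBA (opc_le_fsc q B hx)) fun f hf => ?_))
    exact (hcomm x hx f (hF hf)).symm
  have hne1 : ∃ p : ℕ, p.Prime ∧ opc p M₁ ≠ ⊥ := by
    by_contra hc
    push Not at hc
    have hF : ∀ {A : Subgroup G}, Cfsg.layer A = ⊥ → (∀ p : ℕ, p.Prime → opc p A = ⊥) → A = ⊥ := by
      intro A hA h
      have hFA : Cfsg.generalizedFittingSubgroup A = ⊥ := by
        rw [Cfsg.generalizedFittingSubgroup, hA, bot_sup_eq, fitting_eq_iSup_pCore, iSup_eq_bot]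
        exact fun q => (Subgroup.map_eq_bot_iff_of_injective _ A.subtype_injective).1 (h q q.2)
      refine (eq_bot_iff_forall _).2 fun x hx => ?_
      have h1 := mem_fsc_of_commute (M := A) hx fun f hf => by
        rw [fsc, hFA, Subgroup.map_bot, mem_bot] at hf
        simp [hf]
      rw [fsc, hFA, Subgroup.map_bot, mem_bot] at h1
      exact h1
    exact hne ((hF hE₁ hc).trans (hF hE₂ fun q hq => by
      haveI := Fact.mk hq
      exact hpi h₁ h₂ hE₁ q (hc q hq)).symm)
  obtain ⟨p, hp, hp1⟩ := hne1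
  haveI := Fact.mk hp
  refine ⟨p, hp, ?_⟩
  by_cases honly : ∀ q : ℕ, q.Prime → q ≠ p → opc q M₁ = ⊥
  · have hF : ∀ {A : Subgroup G}, Cfsg.layer A = ⊥ → (∀ q : ℕ, q.Prime → q ≠ p → opc q A = ⊥) →
        Cfsg.generalizedFittingSubgroup A = Cfsg.pCore p A := by
      intro A hA h
      rw [Cfsg.generalizedFittingSubgroup, hA, bot_sup_eq]
      refine le_antisymm ?_ (pCore_le_fitting p)
      rw [fitting_eq_iSup_pCore]
      refine iSup_le fun q => ?_
      by_cases hq : (q : ℕ) = p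
      · rw [hq]
      · rw [(Subgroup.map_eq_bot_iff_of_injective _ A.subtype_injective).1 (h q q.2 hq)]
        exact bot_le
    exact ⟨hF hE₁ honly, hF hE₂ fun q hq hqp => by
      haveI := Fact.mk hq
      exact hpi h₁ h₂ hE₁ q (honly q hq hqp)⟩
  exfalso
  push Not at honly
  obtain ⟨q, hq, hqp, hq1⟩ := honly
  haveI := Fact.mk hq
  have hq2 : opc q M₂ ≠ ⊥ := fun e => hq1 (hpi h₂ h₁ hE₂ q e)
  have hX1 : xpc p M₁ ≠ ⊥ := fun e => hq1 (le_bot_iff.1 (e ▸ opc_le_xpc hqp M₁))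
  have hX2 : xpc p M₂ ≠ ⊥ := fun e => hq2 (le_bot_iff.1 (e ▸ opc_le_xpc hqp M₂))
  have e1 := core_eq hpair h₁ h₂ hE₁ (p := p) hX2
  have e2 := core_eq hpair.symm h₂ h₁ hE₂ (p := p) hX1
  rw [inf_comm] at e2
  refine hpair.false_of_common hne hp1 (le_inf (map_subtype_le _) ((opc_le_fsc p M₁).trans h₁))
    (le_normalizer_opc p M₁) ?_
  rw [← e1, e2]
  exact le_normalizer_opc p M₂

end CfsgLib.Coprime.BenderPair
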