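import Cfsg.Agent.Lib.Coprime.Component
import Cfsg.Agent.Lib.Coprime.PConstrained
import Cfsg.Agent.Lib.Coprime.FrattiniExtra
import Cfsg.Agent.Lib.Fusion.Sylow

/-!
# The generalized Fitting subgroup modulo `Z(E(G)) Φ(F(G))`
-/

set_option autoImplicit false
set_option linter.unusedSectionVars false

namespace CfsgLib.Coprime

open Subgroup
open scoped commutatorElement

universe u

variable {G : Type u} [Group G]

/-- A surjection maps the Frattini subgroup into the Frattini subgroup. -/
theorem map_frattini_le_of_surjective {H : Type*} [Group H] {f : G →* H}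
    (hf : Function.Surjective f) : (frattini G).map f ≤ frattini H := by
  refine le_frattini_of_forall_coatom fun M hM => ?_
  rw [Subgroup.map_le_iff_le_comap]
  have hc : IsCoatom (M.comap f) := by
    refine ⟨fun h => hM.1 ?_, fun K hK => ?_⟩
    · rw [← map_comap_eq_self_of_surjective hf M, h, Subgroup.map_top_of_surjective f hf]
    · have hker : f.ker ≤ K := (ker_le_comap f M).trans hK.le
      have h1 : M < K.map f := by
        refine lt_of_le_of_ne ?_ fun h => hK.ne ?_
        · rw [← map_comap_eq_self_of_surjective hf M]; exact map_mono hK.le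
        · rw [h, comap_map_eq_self hker]
      rw [← comap_map_eq_self hker, hM.2 _ h1, comap_top]
  exact frattini_le_coatom hc

/-- A normal subgroup which is nilpotent modulo a normal subgroup of the Frattini subgroup is
nilpotent. -/
theorem isNilpotent_of_map_of_le_frattini [Finite G] {M N : Subgroup G} [M.Normal] [N.Normal]
    (hNM : N ≤ M) (hN : N ≤ frattini G)
    (h : Group.IsNilpotent (M.map (QuotientGroup.mk' N))) : Group.IsNilpotent M := by
  refine (Group.isNilpotent_of_finite_tfae.out 0 3).2 fun p hp P => ?_
  haveI : Fact p.Prime := by first | exact hp | exact ⟨hp⟩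
  set f := QuotientGroup.mk' N with hf
  haveI : (M.map f).Normal := Subgroup.Normal.map inferInstance f (QuotientGroup.mk'_surjective N)
  let S : Sylow p (M.map f) := P.mapSurjective (f.subgroupMap_surjective M)
  haveI := h
  haveI : (S : Subgroup (M.map f)).Normal := inferInstance
  haveI : (S : Subgroup (M.map f)).Characteristic := Sylow.characteristic_of_normal S inferInstance
  set T := (P : Subgroup M).map M.subtype with hT
  have hST : (S : Subgroup (M.map f)).map (M.map f).subtype = T.map f := by
    rw [show (S : Subgroup (M.map f)) = (P : Subgroup M).map (f.subgroupMap M) from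
      Sylow.coe_mapSurjective _ P, Subgroup.map_map, hT, Subgroup.map_map]
    rfl
  haveI hTn : (T.map f).Normal := hST ▸ map_subtype_normal_of_characteristic (M.map f) _
  set Q := (T.map f).comap f with hQ
  have hTQ : T ≤ Q := le_comap_map f T
  have hQM : Q ≤ M := by
    rw [hQ, comap_map_eq, QuotientGroup.ker_mk']
    exact sup_le (map_subtype_le _) hNM
  have hTi : ¬ p ∣ T.relIndex Q := fun hd => P.not_dvd_index (by
    have h1 : T.relIndex Q ∣ T.relIndex M :=
      Dvd.intro _ (relIndex_mul_relIndex T Q M hTQ hQM)
    have h2 : T.relIndex M = (P : Subgroup M).index := by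
      rw [relIndex, hT, subgroupOf, comap_map_eq_self_of_injective M.subtype_injective]
    exact h2 ▸ hd.trans h1)
  have htop : normalizer (T : Set G) ⊔ frattini G = ⊤ := by
    refine eq_top_iff.2 fun x _ => ?_
    obtain ⟨q, hq, hqT⟩ := CfsgLib.Fusion.exists_conj_le_of_not_dvd_relIndex (p := p)
      (P.2.map M.subtype) hTQ hTi (CfsgLib.Fusion.isPGroup_conjBy x (P.2.map M.subtype))
      (fun y hy => by
        obtain ⟨t, ht, rfl⟩ := hy
        exact (inferInstance : Q.Normal).conj_mem t (hTQ ht) x)
    rw [CfsgLib.Fusion.conjBy_conjBy] at hqT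
    have hqx := CfsgLib.Fusion.conjBy_eq_iff.1 (CfsgLib.Fusion.conjBy_eq_of_le hqT)
    rw [show x = q⁻¹ * (q * x) by group]
    refine mul_mem (inv_mem ?_) (mem_sup_left hqx)
    have hq' : q ∈ T ⊔ N := by rwa [hQ, comap_map_eq, QuotientGroup.ker_mk'] at hq
    exact (sup_le (le_normalizer.trans le_sup_left) (hN.trans le_sup_right) :
      T ⊔ N ≤ normalizer (T : Set G) ⊔ frattini G) hq'
  have hn : T.Normal := normalizer_eq_top_iff.1 (frattini_nongenerating htop)
  refine ⟨fun x hx g => ?_⟩
  have := hn.conj_mem _ (mem_map_of_mem M.subtype hx) g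
  obtain ⟨y, hy, hye⟩ := this
  rwa [show g * x * g⁻¹ = y from Subtype.ext (by simpa using hye.symm)]

/-- The centre of the layer lies in the Frattini subgroup. -/
theorem layer_inf_centralizer_layer_le_frattini [Finite G] :
    Cfsg.layer G ⊓ centralizer (Cfsg.layer G : Set G) ≤ frattini G := by
  set E := Cfsg.layer G
  haveI := layer_normal (G := G)
  set Z := E ⊓ centralizer (E : Set G) with hZ
  refine le_frattini_of_forall_coatom fun H hH => ?_
  by_contra hle
  have htop : Z ⊔ H = ⊤ := hH.2 _ (lt_of_le_of_ne le_sup_right fun e => hle (le_sup_left.trans e.ge))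
  have hEH : E ≤ H := by
    have hperf : ⁅E, E⁆ = E := layer_isPerfect
    rw [← hperf, commutator_le]
    intro a ha b hb
    obtain ⟨z, hz, c, hc, rfl⟩ := mem_sup_of_normal_left.1 (htop ▸ mem_top a : a ∈ Z ⊔ H)
    obtain ⟨w, hw, d, hd, rfl⟩ := mem_sup_of_normal_left.1 (htop ▸ mem_top b : b ∈ Z ⊔ H)
    have hcE : c ∈ E := by
      have := E.mul_mem (E.inv_mem hz.1) ha
      rwa [inv_mul_cancel_left] at this
    have hdE : d ∈ E := by
      have := E.mul_mem (E.inv_mem hw.1) hb
      rwa [inv_mul_cancel_left] at this
    have e1 : ∀ {z e : G}, z ∈ Z → e ∈ E → e * z = z * e := fun hz he => mem_centralizer_iff.1 hz.2 _ he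
    have : ⁅z * c, w * d⁆ = ⁅c, d⁆ := by
      rw [commutatorElement_def, commutatorElement_def]
      calc z * c * (w * d) * (z * c)⁻¹ * (w * d)⁻¹
          = z * (c * w) * (d * c⁻¹) * z⁻¹ * (d⁻¹ * w⁻¹) := by group
        _ = w * (z * (c * (d * c⁻¹))) * z⁻¹ * (d⁻¹ * w⁻¹) := by
            rw [e1 hw hcE, show z * (w * c) = (z * w) * c by group,
              show z * w = w * z from (e1 hz hw.1).symm]
            group
        _ = w * ((c * (d * c⁻¹)) * z) * z⁻¹ * (d⁻¹ * w⁻¹) := by
            rw [e1 hz (E.mul_mem hcE (E.mul_mem hdE (E.inv_mem hcE)))]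
        _ = w * (c * d * c⁻¹ * d⁻¹) * w⁻¹ := by group
        _ = c * d * c⁻¹ * d⁻¹ * w * w⁻¹ := by
            rw [e1 hw (E.mul_mem (E.mul_mem (E.mul_mem hcE hdE) (E.inv_mem hcE)) (E.inv_mem hdE))]
        _ = _ := by group
    rw [this, commutatorElement_def]
    exact H.mul_mem (H.mul_mem (H.mul_mem hc hd) (H.inv_mem hc)) (H.inv_mem hd)
  exact hle (inf_le_left.trans hEH)

/-- A perfect subgroup acting trivially on the Frattini quotient of a normal nilpotent subgroup
centralizes it. -/
theorem perfect_le_centralizer_of_trivial_on_frattini [Finite G] {P F : Subgroup G} [F.Normal]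
    [Group.IsNilpotent F] (hP : ⁅P, P⁆ = P)
    (h : ∀ k ∈ P, ∀ x ∈ F, k * x * k⁻¹ * x⁻¹ ∈ (frattini F).map F.subtype) :
    P ≤ centralizer (F : Set G) := by
  have hmain : ∀ q : ℕ, q.Prime → ∀ k ∈ P, ∀ x ∈ F,
      k * x * k⁻¹ * x⁻¹ ∈ (Cfsg.pPrimeCore q F).map F.subtype := by
    intro q hq
    haveI : Fact q.Prime := ⟨hq⟩
    haveI := pPrimeCore_characteristic (G := F) q
    set M := (Cfsg.pPrimeCore q F).map F.subtype with hM
    haveI : M.Normal := map_subtype_normal_of_characteristic F _
    set f := QuotientGroup.mk' M with hf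
    set K := F.map f with hK
    have hKp : IsPGroup q K := by
      have h1 : IsPGroup q (F ⧸ Cfsg.pPrimeCore q F) := by
        refine IsPGroup.iff_card.2 ⟨_, Nat.eq_prime_pow_of_unique_prime_dvd Nat.card_pos.ne' ?_⟩
        intro r hr hrd
        by_contra hne
        haveI : Fact r.Prime := ⟨hr⟩
        haveI : Group.IsNilpotent (F ⧸ Cfsg.pPrimeCore q F) :=
          Group.nilpotent_of_surjective _ (QuotientGroup.mk'_surjective _)
        obtain ⟨S⟩ : Nonempty (Sylow r (F ⧸ Cfsg.pPrimeCore q F)) := inferInstance
        haveI : (S : Subgroup (F ⧸ Cfsg.pPrimeCore q F)).Normal := inferInstance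
        have h2 : (Nat.card (S : Subgroup (F ⧸ Cfsg.pPrimeCore q F))).Coprime q := by
          obtain ⟨n, hn⟩ := IsPGroup.iff_card.1 S.2
          rw [hn]
          exact Nat.Coprime.pow_left n ((Nat.coprime_primes hr hq).2 hne)
        have h3 := le_pPrimeCore h2
        rw [pPrimeCore_quotient_eq_bot hq, le_bot_iff] at h3
        exact S.ne_bot_of_dvd_card hrd h3
      intro y
      obtain ⟨_, x, hx, rfl⟩ := y
      obtain ⟨n, hn⟩ := h1 (QuotientGroup.mk' _ ⟨x, hx⟩)
      refine ⟨n, Subtype.ext ?_⟩
      rw [← map_pow, QuotientGroup.mk'_apply, QuotientGroup.eq_one_iff] at hn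
      rw [SubmonoidClass.coe_pow, OneMemClass.coe_one]
      show (f x) ^ q ^ n = 1
      rw [← map_pow, hf, QuotientGroup.mk'_apply, QuotientGroup.eq_one_iff, hM]
      exact ⟨_, hn, by simp⟩
    haveI : K.Normal := Subgroup.Normal.map inferInstance f (QuotientGroup.mk'_surjective M)
    -- elements of order prime to `q` act trivially
    set D : Subgroup G := (centralizer (K : Set (G ⧸ M))).comap f with hDdef
    have hD : ∀ k ∈ P, Nat.Coprime (orderOf k) q → k ∈ D := by
      intro k hk hco
      refine mem_comap.2 (Subgroup.zpowers_le.1 (le_centralizer_of_trivial_on_frattini_quotient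
        (A := zpowers (f k)) (K := K) (by rw [normalizer_eq_top (H := K)]; exact le_top) ?_ ?_))
      · obtain ⟨n, hn⟩ := IsPGroup.iff_card.1 hKp
        refine Nat.Coprime.coprime_dvd_right (card_subgroup_dvd_card _) ?_
        rw [hn, Nat.card_zpowers]
        exact Nat.Coprime.pow_right n (hco.coprime_dvd_left (orderOf_map_dvd f k))
      · intro a ha y hy
        obtain ⟨z, rfl⟩ := mem_zpowers_iff.1 ha
        obtain ⟨x, hx, rfl⟩ := hy
        obtain ⟨w, hw, hw'⟩ := h (k ^ z) (P.zpow_mem hk z) x hx
        refine ⟨f.subgroupMap F w, map_frattini_le_of_surjective (f.subgroupMap_surjective F)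
          (mem_map_of_mem _ hw), ?_⟩
        show f (w : G) = _
        rw [coe_subtype] at hw'
        rw [hw']
        simp only [map_mul, map_inv, map_zpow]
    have hPD : P ≤ D := by
      intro k hk
      haveI : Group.IsPerfect P := ⟨by
        refine Subgroup.map_injective P.subtype_injective ?_
        rw [_root_.commutator_def, map_commutator, ← MonoidHom.range_eq_map, range_subtype, hP]⟩
      have htop : (⊤ : Subgroup P) ≤ D.subgroupOf P := by
        rw [← pResidual_eq_top_of_isPerfect (p := q) (X := P)]
        refine (closure_le _).2 fun y hy => hD y y.2 ?_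
        rw [Subgroup.orderOf_coe]
        exact hy
      exact htop (mem_top ⟨k, hk⟩)
    intro k hk x hx
    have h5 : f k * f x = f x * f k :=
      (mem_centralizer_iff.1 (hPD hk) (f x) (mem_map_of_mem f hx)).symm
    rw [← QuotientGroup.eq_one_iff (N := M), ← QuotientGroup.mk'_apply, ← hf, map_mul, map_mul,
      map_mul, map_inv, map_inv, h5]
    group
  intro k hk
  refine mem_centralizer_iff.2 fun x hx => ?_
  have hxk : k * x * k⁻¹ * x⁻¹ = 1 := by
    by_contra hne
    set c := k * x * k⁻¹ * x⁻¹
    have hcF : c ∈ F := map_subtype_le _ (h k hk x hx)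
    obtain ⟨q, hq, hd⟩ := Nat.exists_prime_and_dvd (show orderOf c ≠ 1 from
      fun e => hne (orderOf_eq_one_iff.1 e))
    obtain ⟨d, hd', e⟩ := hmain q hq k hk x hx
    have h1 : orderOf c ∣ Nat.card (Cfsg.pPrimeCore q F) := by
      rw [show c = (d : G) from e.symm, Subgroup.orderOf_coe]
      exact Subgroup.orderOf_dvd_natCard _ hd'
    exact pPrimeCore_not_dvd hq (hd.trans h1)
  rw [mul_inv_eq_one, mul_inv_eq_iff_eq_mul] at hxk
  exact hxk.symm

theorem generalizedFitting_map_mk' [Finite G] (N : Subgroup G) [N.Normal]
    (hN : N = (Cfsg.layer G ⊓ centralizer (Cfsg.layer G : Set G)) ⊔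
      (frattini (Cfsg.fittingSubgroup G)).map (Cfsg.fittingSubgroup G).subtype) :
    Cfsg.generalizedFittingSubgroup (G ⧸ N) =
      (Cfsg.generalizedFittingSubgroup G).map (QuotientGroup.mk' N) := by
  set E := Cfsg.layer G with hE
  set F := Cfsg.fittingSubgroup G with hF
  haveI hEn : E.Normal := layer_normal
  haveI hFn : F.Normal := fitting_normal
  haveI hFnil : Group.IsNilpotent F := fitting_isNilpotent
  set Z := E ⊓ centralizer (E : Set G) with hZ
  set Φ := (frattini F).map F.subtype with hΦ
  haveI : Φ.Normal := map_subtype_normal_of_characteristic F _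
  set f := QuotientGroup.mk' N with hf
  have hfs : Function.Surjective f := QuotientGroup.mk'_surjective N
  have hker : f.ker = N := QuotientGroup.ker_mk' N
  have hNF : N ≤ F := hN ▸ sup_le layer_inf_centralizer_layer_le_fitting (map_subtype_le _)
  have hNΦ : N ≤ frattini G :=
    hN ▸ sup_le layer_inf_centralizer_layer_le_frattini (frattini_map_subtype_le F)
  have hNE : N ≤ centralizer (E : Set G) := hNF.trans fitting_le_centralizer_layer
  -- the Fitting subgroup of the quotient
  have hfit : Cfsg.fittingSubgroup (G ⧸ N) = F.map f := by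
    refine le_antisymm ?_ (map_fitting_le hfs)
    rw [← map_comap_eq_self_of_surjective hfs (Cfsg.fittingSubgroup (G ⧸ N))]
    refine map_mono ?_
    haveI := fitting_normal (G := G ⧸ N)
    haveI : ((Cfsg.fittingSubgroup (G ⧸ N)).comap f).Normal := inferInstance
    refine le_fitting (isNilpotent_of_map_of_le_frattini (hker.ge.trans (ker_le_comap f _)) hNΦ ?_)
    rw [map_comap_eq_self_of_surjective hfs]
    exact fitting_isNilpotent
  -- images of components
  have hcomp : ∀ L : Subgroup G, Cfsg.IsComponent L → Cfsg.IsComponent (L.map f) := by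
    intro L hL
    refine ⟨hL.1.map hfs, ?_⟩
    haveI := hL.2.1
    set φ := f.subgroupMap L
    have hφ : Function.Surjective φ := f.subgroupMap_surjective L
    haveI : Group.IsPerfect (L.map f) := Group.IsPerfect.ofSurjective (f := φ) hφ
    haveI : Nontrivial (L.map f) := (nontrivial_iff_ne_bot _).2 fun h => by
      rw [Subgroup.map_eq_bot_iff, hker] at h
      have hs : Group.IsSolvable F := isSolvable_of_isNilpotent hFnil
      exact not_le_of_isComponent_of_isSolvable hL hs (h.trans hNF)
    refine isQuasisimple_of_normal_le_center fun M hM => ?_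
    rcases subnormal_eq_top_or_le_center hL.2 (H := M.comap φ)
      (hM.comap φ).isSubnormal with h | h
    · left
      rw [← map_comap_eq_self_of_surjective hφ M, h, Subgroup.map_top_of_surjective φ hφ]
    · right
      intro y hy
      obtain ⟨x, rfl⟩ := hφ y
      refine mem_center_iff.2 fun z => ?_
      obtain ⟨w, rfl⟩ := hφ z
      rw [← map_mul, ← map_mul, mem_center_iff.1 (h (mem_comap.2 hy)) w]
  have hEle : E.map f ≤ Cfsg.layer (G ⧸ N) := by
    rw [Subgroup.map_le_iff_le_comap]
    exact sSup_le fun L hL => map_le_iff_le_comap.1 (component_le_layer (hcomp L hL))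
  -- the centralizer of the image
  set C := centralizer ((E.map f : Subgroup (G ⧸ N)) : Set (G ⧸ N)) ⊓
    centralizer ((F.map f : Subgroup (G ⧸ N)) : Set (G ⧸ N)) with hC
  haveI : (E.map f).Normal := hEn.map f hfs
  haveI : (F.map f).Normal := hFn.map f hfs
  haveI : C.Normal := inferInstance
  have hCF : C ≤ F.map f := by
    set W := C.comap f with hW
    have hWE0 : ⁅W, E⁆ ≤ N := by
      rw [← hker, ← Subgroup.map_eq_bot_iff, map_commutator, commutator_eq_bot_iff_le_centralizer,
        hW, map_comap_eq_self_of_surjective hfs]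
      exact inf_le_left
    have hWE : ⁅W, E⁆ = ⊥ := commutator_eq_bot_of_perfect layer_isPerfect (le_bot_iff.1
      ((commutator_mono hWE0 le_rfl).trans (commutator_eq_bot_iff_le_centralizer.2 hNE).le))
    have hWF : ⁅W, F⁆ ≤ N := by
      rw [← hker, ← Subgroup.map_eq_bot_iff, map_commutator, commutator_eq_bot_iff_le_centralizer,
        hW, map_comap_eq_self_of_surjective hfs]
      exact inf_le_right
    set g := QuotientGroup.mk' Φ with hg
    have h2 : ⁅⁅W, W⁆, F⁆ ≤ Φ := by
      rw [← QuotientGroup.ker_mk' Φ, ← hg, ← Subgroup.map_eq_bot_iff, map_commutator, map_commutator]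
      have hNg : N.map g ≤ Z.map g := by
        rw [hN, Subgroup.map_sup]
        refine sup_le le_rfl ?_
        rw [(Subgroup.map_eq_bot_iff Φ).2 (QuotientGroup.ker_mk' Φ).ge]
        exact bot_le
      have h3 : ⁅⁅W.map g, F.map g⁆, W.map g⁆ = ⊥ := by
        refine le_bot_iff.1 ((commutator_mono ((map_commutator W F g).ge.trans
          ((map_mono hWF).trans hNg)) le_rfl).trans (le_of_eq ?_))
        rw [← map_commutator, Subgroup.map_eq_bot_iff]
        refine le_trans (le_of_eq ?_) bot_le
        exact le_bot_iff.1 ((commutator_mono inf_le_left le_rfl).trans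
          (by rw [commutator_comm, hWE]))
      have h4 : ⁅⁅F.map g, W.map g⁆, W.map g⁆ = ⊥ := by rwa [commutator_comm (F.map g)]
      exact commutator_commutator_eq_bot_of_rotate h3 h4
    -- the perfect residue of `W`
    have hsol : Group.IsSolvable W := by
      obtain ⟨n, hn⟩ : ∃ n, derivedSeries W n = derivedSeries W (n + 1) := by
        by_contra hne
        push Not at hne
        have hlt : ∀ n, Nat.card (derivedSeries W n) + n ≤ Nat.card W := by
          intro n
          induction n with
          | zero => simp
          | succ n ih =>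
            have h5 : derivedSeries W (n + 1) < derivedSeries W n :=
              lt_of_le_of_ne (derivedSeries_antitone W (Nat.le_succ n)) (hne n).symm
            have h6 := Set.ncard_lt_ncard (SetLike.coe_ssubset_coe.2 h5) (Set.toFinite _)
            simp only [← Nat.card_coe_set_eq, SetLike.coe_sort_coe] at h6
            omega
        have h7 := hlt (Nat.card W + 1)
        omega
      set P := (derivedSeries W n).map W.subtype with hPdef
      have hP : ⁅P, P⁆ = P := by
        rw [hPdef, ← map_commutator, ← derivedSeries_succ, ← hn]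
      have hPW : P ≤ W := map_subtype_le _
      have hPW1 : P ≤ ⁅W, W⁆ := hP ▸ commutator_mono hPW hPW
      have hPF : P ≤ centralizer (F : Set G) :=
        perfect_le_centralizer_of_trivial_on_frattini hP fun k hk x hx => h2
          (commutator_mem_commutator (hPW1 hk) hx)
      have hPE : P ≤ centralizer (E : Set G) :=
        hPW.trans (commutator_eq_bot_iff_le_centralizer.1 hWE)
      have hPC : P ≤ centralizer (Cfsg.generalizedFittingSubgroup G : Set G) := by
        rw [le_centralizer_iff]
        exact sup_le (le_centralizer_iff.1 hPE) (le_centralizer_iff.1 hPF)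
      have hPf : P ≤ F := by
        rw [hF, ← generalizedFitting_inf_centralizer_layer]
        exact le_inf (hPC.trans centralizer_generalizedFitting_le) hPE
      have hs : Group.IsSolvable P := isSolvable_of_isNilpotent (isNilpotent_of_le hPf hFnil)
      have hP0 : P = ⊥ := by
        by_contra hne
        haveI : Nontrivial P := (nontrivial_iff_ne_bot P).2 hne
        haveI : Group.IsPerfect P := ⟨by
          refine Subgroup.map_injective P.subtype_injective ?_
          rw [_root_.commutator_def, map_commutator, ← MonoidHom.range_eq_map, range_subtype, hP]⟩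
        exact Group.IsPerfect.not_isSolvable P hs
      refine ⟨n, ?_⟩
      rwa [hPdef, Subgroup.map_eq_bot_iff, ker_subtype, le_bot_iff] at hP0
    rw [← hfit]
    refine le_fitting_of_le_centralizer_fitting (hfit ▸ inf_le_right)
      (by rw [normalizer_eq_top (H := C)]; exact le_top) ?_
    rw [← map_comap_eq_self_of_surjective hfs C, ← hW]
    haveI := hsol
    exact Group.isSolvable_of_surjective (f.subgroupMap_surjective W)
  rw [Cfsg.generalizedFittingSubgroup, Cfsg.generalizedFittingSubgroup, Subgroup.map_sup, hfit]
  refine congrArg (· ⊔ F.map f) (le_antisymm ?_ hEle)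
  refine sSup_le fun L hL => ?_
  rcases component_le_or_commutator_eq_bot hL (hEn.map f hfs).isSubnormal with h | h
  · exact h
  · exfalso
    have hLC : L ≤ C := by
      refine le_inf ?_ ?_
      · rw [← commutator_eq_bot_iff_le_centralizer, commutator_comm]
        first | exact h | (rw [commutator_comm]; exact h)
      · rw [← hfit]
        exact (component_le_layer hL).trans layer_le_centralizer_fitting
    exact not_le_of_isComponent_of_isSolvable hL
      (isSolvable_of_isNilpotent (hfit ▸ fitting_isNilpotent)) (hLC.trans hCF)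

end CfsgLib.Coprime
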