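import Cfsg.Agent.Lib.Coprime.PConstrained
import Cfsg.Prelude.Def_Balance

/-!
# The extended 2-layer
-/

set_option autoImplicit false
set_option linter.style.haveILetI false
set_option linter.unusedSectionVars false

namespace CfsgLib.Coprime

open Subgroup

variable {G : Type*} [Group G] [Finite G]

/-- `O_{p'}(H)` as a subgroup of `G`. -/
def coreIn (p : ℕ) (H : Subgroup G) : Subgroup G := (Cfsg.pPrimeCore p H).map H.subtype

theorem coreIn_le (p : ℕ) (H : Subgroup G) : coreIn p H ≤ H := map_subtype_le _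

theorem map_coreIn_equiv {G' : Type*} [Group G'] (p : ℕ) (e : G ≃* G') (H : Subgroup G) :
    (coreIn p H).map e.toMonoidHom = coreIn p (H.map e.toMonoidHom) := by
  unfold coreIn
  rw [← map_pPrimeCore_equiv (H.equivMapOfInjective e.toMonoidHom e.injective), Subgroup.map_map,
    Subgroup.map_map]
  congr 1

theorem normalizer_le_normalizer_coreIn (p : ℕ) (H : Subgroup G) :
    normalizer (H : Set G) ≤ normalizer ((coreIn p H : Subgroup G) : Set G) := fun g hg => by
  rw [← CfsgLib.Fusion.conjBy_eq_iff, CfsgLib.Fusion.conjBy, map_coreIn_equiv]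
  exact congrArg (coreIn p) (CfsgLib.Fusion.conjBy_eq_iff.2 hg)

theorem coprime_card_coreIn {p : ℕ} (hp : p.Prime) (H : Subgroup G) :
    (Nat.card (coreIn p H)).Coprime p := by
  rw [coreIn, card_map_of_injective H.subtype_injective]
  exact pPrimeCore_coprime hp

theorem not_dvd_relIndex_inf_of_isSubnormal {p : ℕ} [Fact p.Prime] (S : Sylow p G) {H : Subgroup G}
    (hH : H.IsSubnormal) : ¬ p ∣ ((S : Subgroup G) ⊓ H).relIndex H := by
  induction hH with
  | top => rw [inf_top_eq, relIndex_top_right]; exact S.not_dvd_index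
  | step H K hle _ hN ih =>
    haveI := hN
    have hp' : IsPGroup p ((((S : Subgroup G) ⊓ K).subgroupOf K)) :=
      (S.2.to_le inf_le_left).comap_subtype
    have h := CfsgLib.Fusion.not_dvd_relIndex_inf_of_normal (hp'.toSylow ih) (H.subgroupOf K)
    rw [show ((hp'.toSylow ih : Sylow p K) : Subgroup K) = ((S : Subgroup G) ⊓ K).subgroupOf K from rfl,
      show ((S : Subgroup G) ⊓ K).subgroupOf K ⊓ H.subgroupOf K =
        ((S : Subgroup G) ⊓ K ⊓ H).subgroupOf K from (comap_inf _ _ _).symm, relIndex_subgroupOf hle,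
      inf_assoc, inf_eq_right.2 hle] at h
    exact h

/-- `O(C(T))` for a subgroup `T` of the subgroup `M`, viewed in `G`. -/
def centCore (M : Subgroup G) (T : Subgroup M) : Subgroup G :=
  coreIn 2 (centralizer ((T.map M.subtype : Subgroup G) : Set G))

/-- `L_{2'}(G) O_{2',2}(G)`. -/
abbrev twoM (G : Type*) [Group G] : Subgroup G := Cfsg.pLayer 2 G ⊔ Cfsg.pPrimePCore 2 G

theorem extendedTwoLayer_eq_iSup :
    Cfsg.extendedTwoLayer G = Cfsg.pLayer 2 G ⊔ Cfsg.oddCore G ⊔
      ⨆ T : Sylow 2 ↥(twoM G), centCore (twoM G) (T : Subgroup ↥(twoM G)) := rfl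

variable [hp : Fact (Nat.Prime 2)]

theorem pLayer_sup_pPrimePCore_normal :
    (Cfsg.pLayer 2 G ⊔ Cfsg.pPrimePCore 2 G).Normal := by
  haveI := pLayer_normal (G := G) (p := 2)
  haveI := pCore_normal' (G := G ⧸ Cfsg.pPrimeCore 2 G) 2
  haveI : (Cfsg.pPrimePCore 2 G).Normal := Normal.comap inferInstance _
  exact sup_normal _ _

theorem le_layer_sup_core_sup_sylow (T : Sylow 2 ↥(twoM G)) :
    twoM G ≤ Cfsg.pLayer 2 G ⊔ Cfsg.oddCore G ⊔
      (T : Subgroup ↥(twoM G)).map (twoM G).subtype := by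
  haveI := pLayer_normal (G := G) (p := 2)
  have hOW : Cfsg.oddCore G ≤ Cfsg.pPrimePCore 2 G := fun x hx => by
    rw [Cfsg.pPrimePCore, Subgroup.mem_comap, QuotientGroup.mk'_apply,
      (QuotientGroup.eq_one_iff x).2 hx]
    exact one_mem _
  set A := Cfsg.pLayer 2 G ⊔ Cfsg.oddCore G with hA
  set B := A ⊔ (T : Subgroup ↥(twoM G)).map (twoM G).subtype
  have h1 : ¬ 2 ∣ B.relIndex (twoM G) := fun h => T.not_dvd_index (h.trans (by
    rw [Subgroup.relIndex]
    exact index_dvd_of_le fun x hx =>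
      mem_subgroupOf.2 ((le_sup_right : _ ≤ B) (mem_map_of_mem (twoM G).subtype hx))))
  have h2 : ∃ k : ℕ, B.relIndex (twoM G) ∣ 2 ^ k := by
    obtain ⟨k, hk⟩ := IsPGroup.iff_card.1 (pCore_isPGroup (G := G ⧸ Cfsg.pPrimeCore 2 G) 2)
    refine ⟨k, (relIndex_dvd_of_le_left (twoM G) (le_sup_left : A ≤ B)).trans ?_⟩
    have hMA : twoM G = Cfsg.pPrimePCore 2 G ⊔ A := by
      rw [hA, twoM, ← sup_assoc, sup_eq_left.2 (show Cfsg.oddCore G ≤
        Cfsg.pPrimePCore 2 G ⊔ Cfsg.pLayer 2 G from hOW.trans le_sup_left), sup_comm]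
    rw [hMA, relIndex_sup_right]
    refine (relIndex_dvd_of_le_left _ (le_sup_right : Cfsg.oddCore G ≤ A)).trans (dvd_of_eq ?_)
    have e := relIndex_map_map (QuotientGroup.mk' (Cfsg.pPrimeCore 2 G)) (⊥ : Subgroup G)
      (Cfsg.pPrimePCore 2 G)
    rw [Subgroup.map_bot, relIndex_bot_left, QuotientGroup.ker_mk', bot_sup_eq, sup_eq_left.2 hOW,
      Cfsg.pPrimePCore, map_comap_eq_self_of_surjective (QuotientGroup.mk'_surjective _)] at e
    rw [Cfsg.pPrimePCore, ← hk]
    exact e.symm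
  obtain ⟨k, hk⟩ := h2
  exact relIndex_eq_one.1 (Nat.eq_one_of_dvd_coprimes
    ((hp.out.coprime_iff_not_dvd.2 h1).pow_left k).symm dvd_rfl hk)

/-- One Sylow 2-subgroup suffices in the definition of the extended 2-layer. -/
theorem extendedTwoLayer_eq (T : Sylow 2 ↥(twoM G)) :
    Cfsg.extendedTwoLayer G = Cfsg.pLayer 2 G ⊔ Cfsg.oddCore G ⊔ centCore (twoM G) (T : Subgroup ↥(twoM G)) := by
  refine le_antisymm ?_ (sup_le_sup le_rfl (le_iSup
    (fun S : Sylow 2 ↥(twoM G) =>
      centCore (twoM G) (S : Subgroup ↥(twoM G))) T))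
  haveI := pLayer_normal (G := G) (p := 2)
  set F := Cfsg.pLayer 2 G ⊔ Cfsg.oddCore G ⊔ centCore (twoM G) (T : Subgroup ↥(twoM G)) with hF
  have hnorm : twoM G ≤ normalizer (F : Set G) := by
    refine (le_layer_sup_core_sup_sylow T).trans (sup_le (le_sup_left.trans le_normalizer) ?_)
    refine Coprime.sup_le_normalizer (by rw [Subgroup.normalizer_eq_top (Cfsg.pLayer 2 G ⊔ Cfsg.oddCore G)]; exact le_top) ?_
    refine le_trans ?_ (Subgroup.centralizer_le_normalizer _)
    rw [le_centralizer_iff]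
    exact coreIn_le _ _
  rw [extendedTwoLayer_eq_iSup]
  refine sup_le le_sup_left (iSup_le fun S => ?_)
  obtain ⟨m, rfl⟩ := MulAction.exists_smul_eq ↥(twoM G) T S
  have e : centCore (twoM G) ((m • T : Sylow 2 ↥(twoM G)) : Subgroup ↥(twoM G)) =
      CfsgLib.Fusion.conjBy (m : G) (centCore (twoM G) (T : Subgroup ↥(twoM G))) := by
    refine (congrArg (coreIn 2) ?_).trans (map_coreIn_equiv 2 (MulAut.conj (m : G)) _).symm
    show _ = CfsgLib.Fusion.conjBy (m : G) _
    rw [CfsgLib.Fusion.conjBy_centralizer, Sylow.coe_subgroup_smul]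
    congr 2
    show Subgroup.map _ (Subgroup.map (MulAut.conj m).toMonoidHom _) =
      Subgroup.map (MulAut.conj (m : G)).toMonoidHom _
    rw [Subgroup.map_map, Subgroup.map_map]
    congr 1
  rw [e]
  refine (map_mono (le_sup_right : _ ≤ F)).trans (le_of_eq ?_)
  exact CfsgLib.Fusion.conjBy_eq_iff.2 (hnorm m.2)

theorem extendedTwoLayer_normal : (Cfsg.extendedTwoLayer G).Normal := by
  obtain ⟨T⟩ : Nonempty (Sylow 2 ↥(twoM G)) := inferInstance
  haveI := pLayer_normal (G := G) (p := 2)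
  haveI : (twoM G).Normal := pLayer_sup_pPrimePCore_normal (G := G)
  rw [← Subgroup.normalizer_eq_top_iff, eq_top_iff, ← Sylow.normalizer_sup_eq_top T, sup_le_iff]
  rw [extendedTwoLayer_eq T]
  refine ⟨Coprime.sup_le_normalizer (by rw [Subgroup.normalizer_eq_top (Cfsg.pLayer 2 G ⊔ Cfsg.oddCore G)]; exact le_top)
    ((normalizer_le_normalizer_centralizer _).trans (normalizer_le_normalizer_coreIn _ _)), ?_⟩
  refine (le_layer_sup_core_sup_sylow T).trans (sup_le (le_sup_left.trans le_normalizer) ?_)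
  refine Coprime.sup_le_normalizer (by rw [Subgroup.normalizer_eq_top (Cfsg.pLayer 2 G ⊔ Cfsg.oddCore G)]; exact le_top) ?_
  refine le_trans ?_ (Subgroup.centralizer_le_normalizer _)
  rw [le_centralizer_iff]
  exact coreIn_le _ _

end CfsgLib.Coprime
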