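import Mathlib.GroupTheory.Sylow
import Cfsg.Agent.Lib.Coprime.Hall
import Cfsg.Agent.Lib.Coprime.SchurZassenhaus

/-!
# Factorized groups
-/

set_option autoImplicit false
set_option linter.style.haveILetI false
set_option linter.unusedSectionVars false

namespace CfsgLib.Coprime

open Subgroup
open scoped Pointwise

variable {G : Type*} [Group G]

/-- In a factorized group the pairs of conjugates of the two factors are conjugate. -/
theorem exists_common_conj {H K : Subgroup G} (hHK : ∀ g : G, ∃ h ∈ H, ∃ k ∈ K, g = h * k)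
    (x y : G) : ∃ h ∈ H, ∃ k ∈ K, y = x * h * k := by
  obtain ⟨h, hh, k, hk, e⟩ := hHK (x⁻¹ * y)
  exact ⟨h, hh, k, hk, by rw [mul_assoc, ← e, mul_inv_cancel_left]⟩

theorem conjBy_of_normal_subgroupOf {A H : Subgroup G} (hA : A ≤ H) (hn : (A.subgroupOf H).Normal)
    {h : G} (hh : h ∈ H) : conjBy h A = A :=
  conjBy_eq_self_iff.2 ((normal_subgroupOf_iff_le_normalizer hA).1 hn hh)

/-- If the product set of two subgroups of a finite group fills `S` in cardinality it is `S`. -/
theorem coe_eq_mul_of_le [Finite G] {A B S : Subgroup G} (hA : A ≤ S) (hB : B ≤ S)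
    (h : B.relIndex S ≤ B.relIndex A) : (S : Set G) = (A : Set G) * B := by
  have hb : Function.Surjective (quotientSubgroupOfEmbeddingOfLE B hA) := by
    refine ((Nat.bijective_iff_injective_and_card _).2 ⟨Function.Embedding.injective _, ?_⟩).2
    exact le_antisymm (relIndex_le_of_le_right hA Subgroup.index_ne_zero_of_finite) h
  refine Set.Subset.antisymm (fun s hs => ?_) ?_
  · obtain ⟨q, hq⟩ := hb ((⟨s, hs⟩ : S))
    induction q using Quotient.inductionOn' with
    | h a =>
      exact ⟨a, a.2, (a : G)⁻¹ * s, mem_subgroupOf.1 (QuotientGroup.eq.1 hq), by group⟩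
  · rintro _ ⟨a, ha, b, hb, rfl⟩
    exact S.mul_mem (hA ha) (hB hb)

theorem relIndex_eq_index_of_product [Finite G] {H K : Subgroup G}
    (hHK : ∀ g : G, ∃ h ∈ H, ∃ k ∈ K, g = h * k) : K.relIndex H = K.index := by
  refine Nat.card_eq_of_bijective (quotientSubgroupOfEmbeddingOfLE K (le_top : H ≤ ⊤))
    ⟨Function.Embedding.injective _, fun q => ?_⟩ |>.trans (relIndex_top_right K)
  induction q using Quotient.inductionOn' with
  | h g =>
    obtain ⟨h, hh, k, hk, e⟩ := hHK (g : G)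
    refine ⟨((⟨h, hh⟩ : H)), ?_⟩
    refine QuotientGroup.eq.2 (mem_subgroupOf.2 ?_)
    show h⁻¹ * (g : G) ∈ K
    rwa [e, inv_mul_cancel_left]

theorem exists_sylow_product [Finite G] {H K : Subgroup G}
    (hHK : ∀ g : G, ∃ h ∈ H, ∃ k ∈ K, g = h * k) (p : ℕ) [Fact p.Prime] :
    ∃ (P : Sylow p H) (Q : Sylow p K) (R : Sylow p G), ((R : Subgroup G) : Set G) =
      (((P : Subgroup H).map H.subtype : Subgroup G) : Set G) *
        (((Q : Subgroup K).map K.subtype : Subgroup G) : Set G) := by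
  obtain ⟨R₀, hR₀⟩ := ((default : Sylow p H).2.map H.subtype).exists_le_sylow
  obtain ⟨R₁, hR₁⟩ := ((default : Sylow p K).2.map K.subtype).exists_le_sylow
  obtain ⟨g, hg⟩ := MulAction.exists_smul_eq G R₁ R₀
  obtain ⟨h, hh, k, hk, rfl⟩ := hHK g
  set R := h⁻¹ • R₀
  have hRk : R = k • R₁ := by
    rw [show R = h⁻¹ • R₀ from rfl, ← hg, mul_smul, inv_smul_smul]
  have key : ∀ (L : Subgroup G) (x : G) (hx : x ∈ L) (R' : Sylow p G) (P' : Sylow p L),
      (P' : Subgroup L).map L.subtype ≤ R' →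
      (((⟨x, hx⟩ : L) • P' : Sylow p L) : Subgroup L).map L.subtype ≤ (x • R' : Sylow p G) := by
    intro L x hx R' P' hle
    rintro _ ⟨_, ⟨y, hy, rfl⟩, rfl⟩
    exact ⟨(y : G), hle ⟨y, hy, rfl⟩, rfl⟩
  set P : Sylow p H := (⟨h⁻¹, H.inv_mem hh⟩ : H) • default
  set Q : Sylow p K := (⟨k, hk⟩ : K) • default
  have hP : (P : Subgroup H).map H.subtype ≤ R := key H _ _ R₀ default hR₀
  have hQ : (Q : Subgroup K).map K.subtype ≤ R := hRk ▸ key K k hk R₁ default hR₁
  refine ⟨P, Q, R, coe_eq_mul_of_le hP hQ ?_⟩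
  set P₀ := (P : Subgroup H).map H.subtype
  set Q₀ := (Q : Subgroup K).map K.subtype
  -- compare `p`-parts
  have hp : p.Prime := Fact.out
  have c1 : Nat.card P₀ = p ^ (Nat.card H).factorization p := by
    rw [card_map_of_injective H.subtype_injective, P.card_eq_multiplicity]
  have c2 : Nat.card Q₀ = p ^ (Nat.card K).factorization p := by
    rw [card_map_of_injective K.subtype_injective, Q.card_eq_multiplicity]
  have c4 : Nat.card (Q₀ ⊓ P₀ : Subgroup G) ≤ p ^ (Nat.card (K ⊓ H : Subgroup G)).factorization p := by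
    obtain ⟨j, hj⟩ := IsPGroup.iff_card.1
      ((P.2.map H.subtype).to_le (inf_le_right : Q₀ ⊓ P₀ ≤ P₀))
    rw [hj]
    refine Nat.pow_le_pow_right hp.pos ((hp.pow_dvd_iff_le_factorization Nat.card_pos.ne').1 ?_)
    rw [← hj]
    exact card_dvd_of_le (inf_le_inf (map_subtype_le _) (map_subtype_le _))
  have e1 : Nat.card (K ⊓ H : Subgroup G) * K.index = Nat.card H := by
    rw [← relIndex_eq_index_of_product hHK, ← inf_relIndex_right K H,
      card_mul_relIndex (inf_le_right : K ⊓ H ≤ H)]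
  have e2 : (Nat.card (K ⊓ H : Subgroup G)).factorization p + (K.index).factorization p =
      (Nat.card H).factorization p := by
    rw [← e1, Nat.factorization_mul Nat.card_pos.ne' Subgroup.index_ne_zero_of_finite]; rfl
  have e3 : (Nat.card K).factorization p + (K.index).factorization p = (Nat.card G).factorization p := by
    rw [← K.card_mul_index, Nat.factorization_mul Nat.card_pos.ne' Subgroup.index_ne_zero_of_finite]; rfl
  have f1 : Nat.card (Q₀ ⊓ P₀ : Subgroup G) * Q₀.relIndex P₀ = Nat.card P₀ := by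
    rw [← inf_relIndex_right Q₀ P₀, card_mul_relIndex (inf_le_right : Q₀ ⊓ P₀ ≤ P₀)]
  have f2 : Nat.card Q₀ * Q₀.relIndex (R : Subgroup G) = Nat.card R := card_mul_relIndex hQ
  rw [R.card_eq_multiplicity, c2, ← e3, pow_add] at f2
  have f3 := Nat.eq_of_mul_eq_mul_left (pow_pos hp.pos _) f2
  rw [c1, ← e2, pow_add] at f1
  rw [f3]
  refine Nat.le_of_mul_le_mul_left ?_ (Nat.card_pos (α := (Q₀ ⊓ P₀ : Subgroup G)))
  rw [f1]
  exact Nat.mul_le_mul_right _ c4

/-- Normal Hall subgroups of the factors of a solvable factorized group permute. -/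
theorem hall_factors_permute [Finite G] [Group.IsSolvable G] {H K A B : Subgroup G}
    (hHK : ∀ g : G, ∃ h ∈ H, ∃ k ∈ K, g = h * k) (hA : A ≤ H) (hAn : (A.subgroupOf H).Normal)
    (hAh : (Nat.card A).Coprime A.index) (hBh : (Nat.card B).Coprime B.index)
    (hB : B ≤ K) (hBn : (B.subgroupOf K).Normal) :
    ∃ S : Subgroup G, (S : Set G) = (A : Set G) * B := by
  set π : Set ℕ := {q | q ∣ Nat.card A ∨ q ∣ Nat.card B}
  obtain ⟨S₀, hS₀, hAS₀⟩ := IsHallIn.exists_ge (π := π) (L := (⊤ : Subgroup G))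
    (Group.isSolvable_of_surjective (f := (topEquiv (G := G)).symm.toMonoidHom) (MulEquiv.surjective _))
    le_top (fun q _ hd => Or.inl hd)
  obtain ⟨x, -, hx⟩ := hS₀.exists_conj_le
    (Group.isSolvable_of_surjective (f := (topEquiv (G := G)).symm.toMonoidHom) (MulEquiv.surjective _))
    (le_top : B ≤ ⊤) (fun q _ hd => Or.inr hd)
  obtain ⟨h, hh, k, hk, rfl⟩ := hHK x
  rw [← conjBy_conjBy, conjBy_of_normal_subgroupOf hB hBn hk] at hx
  set S := conjBy h⁻¹ S₀
  have hBS : B ≤ S := by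
    have := map_mono (f := (MulAut.conj h⁻¹).toMonoidHom) hx
    rwa [show (conjBy h B).map (MulAut.conj h⁻¹).toMonoidHom = conjBy h⁻¹ (conjBy h B) from rfl,
      conjBy_conjBy, inv_mul_cancel, conjBy_one] at this
  have hAS : A ≤ S := by
    rw [← conjBy_of_normal_subgroupOf hA hAn (H.inv_mem hh)]
    exact map_mono hAS₀
  refine ⟨S, coe_eq_mul_of_le hAS hBS ?_⟩
  have hSπ : IsPiNum π (Nat.card S) := by rw [card_conjBy]; exact hS₀.2.1
  -- `|S|` is the least common multiple
  have hlcm : Nat.card S ∣ (Nat.card A).lcm (Nat.card B) := by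
    refine (Nat.dvd_iff_prime_pow_dvd_dvd _ _).2 fun q j hq hd => ?_
    rcases Nat.eq_zero_or_pos j with rfl | hj
    · simp
    have hdG : q ^ j ∣ Nat.card G := hd.trans (card_subgroup_dvd_card S)
    rcases hSπ q hq ((dvd_pow_self q hj.ne').trans hd) with hqA | hqB
    · refine ((Nat.Coprime.pow_left j ((hq.coprime_iff_not_dvd).2 fun e =>
        hq.ne_one (Nat.eq_one_of_dvd_coprimes hAh hqA e))).dvd_of_dvd_mul_right ?_).trans
        (Nat.dvd_lcm_left _ _)
      rwa [card_mul_index]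
    · refine ((Nat.Coprime.pow_left j ((hq.coprime_iff_not_dvd).2 fun e =>
        hq.ne_one (Nat.eq_one_of_dvd_coprimes hBh hqB e))).dvd_of_dvd_mul_right ?_).trans
        (Nat.dvd_lcm_right _ _)
      rwa [card_mul_index]
  have f1 : Nat.card (B ⊓ A : Subgroup G) * B.relIndex A = Nat.card A := by
    rw [← inf_relIndex_right B A, card_mul_relIndex (inf_le_right : B ⊓ A ≤ A)]
  have f2 : Nat.card B * B.relIndex S = Nat.card S := card_mul_relIndex hBS
  have hg : Nat.card (B ⊓ A : Subgroup G) ≤ (Nat.card A).gcd (Nat.card B) :=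
    Nat.le_of_dvd (Nat.gcd_pos_of_pos_left _ Nat.card_pos)
      (Nat.dvd_gcd (card_dvd_of_le inf_le_right) (card_dvd_of_le inf_le_left))
  have h3 := Nat.gcd_mul_lcm (Nat.card A) (Nat.card B)
  have h4 : Nat.card S ≤ (Nat.card A).lcm (Nat.card B) :=
    Nat.le_of_dvd (Nat.lcm_pos Nat.card_pos Nat.card_pos) hlcm
  refine Nat.le_of_mul_le_mul_left (?_ : Nat.card B * Nat.card (B ⊓ A : Subgroup G) * B.relIndex S ≤
      Nat.card B * Nat.card (B ⊓ A : Subgroup G) * B.relIndex A)
    (Nat.mul_pos (Nat.card_pos (α := B)) (Nat.card_pos (α := (B ⊓ A : Subgroup G))))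
  calc Nat.card B * Nat.card (B ⊓ A : Subgroup G) * B.relIndex S
      = Nat.card (B ⊓ A : Subgroup G) * Nat.card S := by rw [← f2]; ring
    _ ≤ (Nat.card A).gcd (Nat.card B) * (Nat.card A).lcm (Nat.card B) := Nat.mul_le_mul hg h4
    _ = Nat.card B * Nat.card (B ⊓ A : Subgroup G) * B.relIndex A := by rw [h3, ← f1]; ring

end CfsgLib.Coprime
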