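import Cfsg.Agent.Lib.Coprime.Component
import Cfsg.Agent.Lib.Coprime.Fitting
import Cfsg.Agent.Lib.Coprime.Solvable
import Cfsg.Agent.Lib.Coprime.PConstrained
import Cfsg.Agent.Lib.Coprime.Action

/-!
# Large subnormal subgroups of the generalized Fitting subgroup
-/

set_option autoImplicit false
set_option linter.style.haveILetI false

open Subgroup
open scoped Pointwise

namespace CfsgLib.Coprime.Large

variable {H : Type*} [Group H] [Finite H] {p : ℕ} [Fact p.Prime]

/-- The `p'`-part of the Fitting subgroup. -/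
def fitPrime (p : ℕ) (H : Type*) [Group H] : Subgroup H :=
  Cfsg.fittingSubgroup H ⊓ Cfsg.pPrimeCore p H

theorem fitPrime_normal : (fitPrime p H).Normal := by
  haveI := fitting_normal (G := H)
  haveI : (Cfsg.pPrimeCore p H).Normal := Subgroup.sSup_normal _ (fun _ h => h.1)
  unfold fitPrime
  infer_instance

theorem orderOf_coprime_fitPrime {k : H} (hk : k ∈ fitPrime p H) : (orderOf k).Coprime p :=
  (pPrimeCore_coprime (Fact.out : p.Prime)).coprime_dvd_left (Subgroup.orderOf_dvd_natCard _ hk.2)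

theorem eq_one_of_both {k : H} {P : Subgroup H} (hP : IsPGroup p P) (hk : k ∈ P)
    (hc : (orderOf k).Coprime p) : k = 1 := by
  obtain ⟨a, ha⟩ := hP ⟨k, hk⟩
  exact orderOf_eq_one_iff.1 (Nat.eq_one_of_dvd_coprimes (hc.pow_right a) dvd_rfl
    (orderOf_dvd_of_pow_eq_one (congrArg Subtype.val ha)))

theorem commute_core_fitPrime {o k : H} (ho : o ∈ Cfsg.pCore p H) (hk : k ∈ fitPrime p H) :
    Commute o k := by
  haveI := pCore_normal' (G := H) p
  haveI := fitPrime_normal (H := H) (p := p)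
  refine Subgroup.commute_of_normal_of_disjoint (Cfsg.pCore p H) (fitPrime p H) inferInstance
    inferInstance (disjoint_iff.2 (eq_bot_iff.2 ?_)) o k ho hk
  exact fun x hx => eq_one_of_both (pCore_isPGroup p) hx.1 (orderOf_coprime_fitPrime hx.2)

theorem exists_decomp_fitting {f : H} (hf : f ∈ Cfsg.fittingSubgroup H) :
    ∃ o ∈ Cfsg.pCore p H, ∃ k ∈ fitPrime p H, o * k = f := by
  haveI := fitPrime_normal (H := H) (p := p)
  have hle : Cfsg.fittingSubgroup H ≤ Cfsg.pCore p H ⊔ fitPrime p H := by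
    rw [fitting_eq_iSup_pCore]
    refine iSup_le fun q => ?_
    haveI : Fact (q : ℕ).Prime := ⟨q.2⟩
    by_cases hq : (q : ℕ) = p
    · rw [hq]; exact le_sup_left
    · exact le_trans (le_inf (pCore_le_fitting _) (pCore_le_pPrimeCore_of_ne hq)) le_sup_right
  have h : f ∈ ((Cfsg.pCore p H ⊔ fitPrime p H : Subgroup H) : Set H) := hle hf
  rw [mul_normal] at h
  exact h

/-- Commuting factors of coprime orders are powers of the product. -/
theorem parts_mem {S : Subgroup H} {o k : H} (ho : o ∈ Cfsg.pCore p H) (hk : k ∈ fitPrime p H)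
    (h : o * k ∈ S) : o ∈ S ∧ k ∈ S := by
  have hc := commute_core_fitPrime ho hk
  obtain ⟨a, ha⟩ := (pCore_isPGroup p : IsPGroup p (Cfsg.pCore p H)) ⟨o, ho⟩
  have ha' : o ^ p ^ a = 1 := congrArg Subtype.val ha
  have h1 : k ^ p ^ a ∈ S := by
    have := pow_mem h (p ^ a)
    rwa [hc.mul_pow, ha', one_mul] at this
  obtain ⟨m, hm⟩ := exists_pow_eq_self_of_coprime (x := k) (n := p ^ a)
    ((orderOf_coprime_fitPrime hk).pow_right a).symm
  have hkS : k ∈ S := hm ▸ pow_mem h1 m
  refine ⟨?_, hkS⟩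
  have := mul_mem h (inv_mem hkS)
  rwa [mul_inv_cancel_right] at this

theorem exists_decomp {x : H} (hx : x ∈ Cfsg.generalizedFittingSubgroup H) :
    ∃ e ∈ Cfsg.layer H, ∃ o ∈ Cfsg.pCore p H, ∃ k ∈ fitPrime p H, e * (o * k) = x := by
  obtain ⟨e, he, f, hf, rfl⟩ := exists_mul_of_mem_generalizedFitting hx
  obtain ⟨o, ho, k, hk, rfl⟩ := exists_decomp_fitting (p := p) hf
  exact ⟨e, he, o, ho, k, hk, rfl⟩

theorem commute_layer_fitting {e f : H} (he : e ∈ Cfsg.layer H) (hf : f ∈ Cfsg.fittingSubgroup H) :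
    Commute e f :=
  (mem_centralizer_iff.1 (layer_le_centralizer_fitting he) f hf).symm

/-- Elements of `F*` of order prime to `p` lie in `E · O_{p'}(F)`. -/
theorem mem_of_coprime {y : H} (hy : y ∈ Cfsg.generalizedFittingSubgroup H)
    (hc : (orderOf y).Coprime p) : y ∈ Cfsg.layer H ⊔ fitPrime p H := by
  haveI := layer_normal (G := H)
  haveI := fitPrime_normal (H := H) (p := p)
  obtain ⟨e, he, o, ho, k, hk, rfl⟩ := exists_decomp (p := p) hy
  set π := QuotientGroup.mk' (Cfsg.layer H ⊔ fitPrime p H)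
  have hπ : π (e * (o * k)) = π o := by
    have h1 : π e = 1 := (QuotientGroup.eq_one_iff _).2 (mem_sup_left he)
    have h2 : π k = 1 := (QuotientGroup.eq_one_iff _).2 (mem_sup_right hk)
    rw [map_mul, map_mul, h1, h2, one_mul, mul_one]
  refine (QuotientGroup.eq_one_iff _).1 (show π (e * (o * k)) = 1 from orderOf_eq_one_iff.1 ?_)
  obtain ⟨a, ha⟩ := (pCore_isPGroup p : IsPGroup p (Cfsg.pCore p H)) ⟨o, ho⟩
  have ha' : o ^ p ^ a = 1 := congrArg Subtype.val ha
  refine Nat.eq_one_of_dvd_coprimes (hc.pow_right a) (orderOf_map_dvd π _) ?_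
  rw [hπ]
  exact orderOf_dvd_of_pow_eq_one (by rw [← map_pow, ha', map_one])

/-- Elements of `F*` of order prime to `p` centralize `O_p`. -/
theorem commute_core_of_coprime {y o : H} (hy : y ∈ Cfsg.generalizedFittingSubgroup H)
    (hc : (orderOf y).Coprime p) (ho : o ∈ Cfsg.pCore p H) : Commute y o := by
  have hle : Cfsg.layer H ⊔ fitPrime p H ≤ centralizer ({o} : Set H) :=
    sup_le (fun e he => mem_centralizer_singleton_iff.2 (commute_layer_fitting he (pCore_le_fitting p ho)))
      (fun k hk => mem_centralizer_singleton_iff.2 (commute_core_fitPrime ho hk).symm)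
  exact mem_centralizer_singleton_iff.1 (hle (mem_of_coprime hy hc))

variable {S : Subgroup H}

theorem layer_le (hS : S ≤ Cfsg.generalizedFittingSubgroup H)
    (hsn : (S.subgroupOf (Cfsg.generalizedFittingSubgroup H)).IsSubnormal)
    (hC : ∀ f ∈ Cfsg.generalizedFittingSubgroup H, (∀ s ∈ S, Commute f s) → f ∈ S) :
    Cfsg.layer H ≤ S := by
  set F := Cfsg.generalizedFittingSubgroup H
  refine sSup_le fun K hK => ?_
  have hKF : K ≤ F := (component_le_layer hK).trans layer_le_generalizedFitting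
  rcases component_le_or_commutator_eq_bot (isComponent_subgroupOf hK hKF) hsn with h | h
  · exact fun x hx => h (show (⟨x, hKF hx⟩ : F) ∈ K.subgroupOf F from mem_subgroupOf.2 hx)
  · refine fun x hx => hC x (hKF hx) fun s hs => ?_
    exact congrArg Subtype.val (commutator_eq_bot_iff_forall.1 h ⟨x, hKF hx⟩ (mem_subgroupOf.2 hx)
      ⟨s, hS hs⟩ (mem_subgroupOf.2 hs))

/-- A `p`-subgroup normalized by `S` moves `S` only inside `O_p`. -/
theorem commutator_mem_core (hS : S ≤ Cfsg.generalizedFittingSubgroup H) (hE : Cfsg.layer H ≤ S)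
    {P : Subgroup H} (hP : IsPGroup p P) (hSP : S ≤ normalizer (P : Set H)) {x s : H} (hx : x ∈ P)
    (hs : s ∈ S) : x * s * x⁻¹ * s⁻¹ ∈ Cfsg.pCore p H := by
  set F := Cfsg.generalizedFittingSubgroup H
  haveI hFn : F.Normal := generalizedFitting_normal
  set R := P ⊓ F with hR
  have hRp : IsPGroup p R := hP.to_le inf_le_left
  have hSR : Cfsg.layer H ≤ normalizer (R : Set H) :=
    inf_le_normalizer (hE.trans hSP) (by rw [normalizer_eq_top]; exact le_top)
  haveI := hRp.isNilpotent
  have h := commutator_eq_bot_iff_le_centralizer.1 ((commutator_comm _ _).trans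
    (layer_commutator_solvable_eq_bot (R := R) inferInstance hSR))
  have hc : x * s * x⁻¹ * s⁻¹ ∈ R := by
    refine ⟨?_, F.mul_mem (hFn.conj_mem s (hS hs) x) (F.inv_mem (hS hs))⟩
    rw [show x * s * x⁻¹ * s⁻¹ = x * (s * x⁻¹ * s⁻¹) by group]
    exact P.mul_mem hx ((mem_normalizer_iff.1 (hSP hs) _).1 (P.inv_mem hx))
  have hfit : x * s * x⁻¹ * s⁻¹ ∈ Cfsg.fittingSubgroup H := by
    rw [← generalizedFitting_inf_centralizer_layer]
    exact ⟨hc.2, h hc⟩
  obtain ⟨o, ho, k, hk, hok⟩ := exists_decomp_fitting (p := p) hfit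
  have hkR := (parts_mem ho hk (show o * k ∈ R from hok.symm ▸ hc)).2
  rw [← hok, eq_one_of_both hRp hkR (orderOf_coprime_fitPrime hk), mul_one]
  exact ho

/-- An element of `p`-power order centralizes the `p'`-elements of `S`. -/
theorem commute_of_commutator_mem (hS : S ≤ Cfsg.generalizedFittingSubgroup H) {x s : H}
    (hs : s ∈ S) (hsc : (orderOf s).Coprime p) (h : x * s * x⁻¹ * s⁻¹ ∈ Cfsg.pCore p H) :
    Commute x s := by
  set w := x * s * x⁻¹ * s⁻¹ with hw
  have hc : Commute w s := (commute_core_of_coprime (hS hs) hsc h).symm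
  have h1 : (w * s) ^ orderOf s = 1 := by
    rw [hw, inv_mul_cancel_right, conj_pow, pow_orderOf_eq_one, mul_one, mul_inv_cancel]
  rw [hc.mul_pow, pow_orderOf_eq_one, mul_one] at h1
  have h2 : w = 1 := eq_one_of_both (pCore_isPGroup p) h
    (hsc.coprime_dvd_left (orderOf_dvd_of_pow_eq_one h1))
  show x * s = s * x
  rw [hw, mul_inv_eq_one, mul_inv_eq_iff_eq_mul] at h2
  exact h2

theorem layer_le_of_coprime (hE : Cfsg.layer H ≤ S) {C : Subgroup H}
    (h : ∀ s ∈ S, (orderOf s).Coprime p → s ∈ C) : Cfsg.layer H ≤ C := by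
  haveI : Group.IsPerfect (Cfsg.layer H) := Subgroup.isPerfect_iff.2 layer_isPerfect
  have htop := pResidual_eq_top_of_isPerfect (p := p) (X := Cfsg.layer H)
  intro e he
  have hm : (⟨e, he⟩ : Cfsg.layer H) ∈ Cfsg.pResidual p (Cfsg.layer H) := htop ▸ mem_top _
  have hle : Cfsg.pResidual p (Cfsg.layer H) ≤ C.subgroupOf (Cfsg.layer H) :=
    (closure_le _).2 fun g hg => mem_subgroupOf.2
      (h g (hE g.2) (by rw [Subgroup.orderOf_coe]; exact hg))
  exact mem_subgroupOf.1 (hle hm)

/-- Elements of `F*` commuting with the `p'`-elements of `S` and with `O_p ∩ S` lie in `S`. -/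
theorem mem_of_commute (hS : S ≤ Cfsg.generalizedFittingSubgroup H) (hE : Cfsg.layer H ≤ S)
    (hC : ∀ f ∈ Cfsg.generalizedFittingSubgroup H, (∀ s ∈ S, Commute f s) → f ∈ S)
    {f : H} (hf : f ∈ Cfsg.generalizedFittingSubgroup H)
    (h1 : ∀ s ∈ S, (orderOf s).Coprime p → Commute f s)
    (h2 : ∀ o ∈ S ⊓ Cfsg.pCore p H, Commute f o) : f ∈ S := by
  refine hC f hf fun s hs => ?_
  obtain ⟨e, he, o, ho, k, hk, rfl⟩ := exists_decomp (p := p) (hS hs)
  have hok : o * k ∈ S := by
    have := mul_mem (inv_mem (hE he)) hs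
    rwa [inv_mul_cancel_left] at this
  obtain ⟨hoS, hkS⟩ := parts_mem ho hk hok
  refine Commute.mul_right ?_ ((h2 o ⟨hoS, ho⟩).mul_right (h1 k hkS (orderOf_coprime_fitPrime hk)))
  have := layer_le_of_coprime (C := centralizer ({f} : Set H)) hE fun s hs hsc =>
    mem_centralizer_singleton_iff.2 (h1 s hs hsc).symm
  exact (mem_centralizer_singleton_iff.1 (this he)).symm

/-- A `p`-element centralizing the `p'`-elements of `S` centralizes those of `F*`. -/
theorem commute_gen_of_commute (hS : S ≤ Cfsg.generalizedFittingSubgroup H) (hE : Cfsg.layer H ≤ S)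
    (hC : ∀ f ∈ Cfsg.generalizedFittingSubgroup H, (∀ s ∈ S, Commute f s) → f ∈ S)
    {x : H} {a : ℕ} (hx : x ^ p ^ a = 1) (h : ∀ s ∈ S, (orderOf s).Coprime p → Commute x s) :
    ∀ y ∈ Cfsg.generalizedFittingSubgroup H, (orderOf y).Coprime p → Commute x y := by
  have hEx : Cfsg.layer H ≤ centralizer ({x} : Set H) :=
    layer_le_of_coprime hE fun s hs hsc => mem_centralizer_singleton_iff.2 (h s hs hsc).symm
  haveI hKn := fitPrime_normal (H := H) (p := p)
  set K := fitPrime p H
  set N := K ⊓ centralizer ({x} : Set H) with hN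
  have hKF : K ≤ Cfsg.generalizedFittingSubgroup H := inf_le_left.trans fitting_le_generalizedFitting
  have hKx : K ≤ centralizer ({x} : Set H) := by
    by_contra hne
    have hlt : N < K := lt_of_le_of_ne inf_le_left fun e => hne (e ▸ inf_le_right)
    haveI : Group.IsNilpotent K := by
      haveI := fitting_isNilpotent (G := H)
      exact isNilpotent_of_le (inf_le_left : K ≤ Cfsg.fittingSubgroup H) inferInstance
    have hne' : N.subgroupOf K ≠ ⊤ := fun e => hlt.not_ge (subgroupOf_eq_top.1 e)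
    obtain ⟨m, hm, hmN⟩ := SetLike.exists_of_lt (Group.normalizerCondition_of_isNilpotent _ hne'.lt_top)
    refine hmN (mem_subgroupOf.2 ⟨m.2, mem_centralizer_singleton_iff.2 ?_⟩)
    set c := (m : H)⁻¹ * (x * m * x⁻¹) with hc
    have hcK : c ∈ K := mul_mem (inv_mem m.2) (hKn.conj_mem m m.2 x)
    have hcS : c ∈ S := by
      refine mem_of_commute hS hE hC (hKF hcK) (fun s hs hsc => ?_)
        fun o ho => (commute_core_fitPrime ho.2 hcK).symm
      -- decompose `s`
      obtain ⟨e, he, o, ho, k, hk, rfl⟩ := exists_decomp (p := p) (hS hs)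
      have hok : o * k ∈ S := by
        have := mul_mem (inv_mem (hE he)) hs
        rwa [inv_mul_cancel_left] at this
      obtain ⟨-, hkS⟩ := parts_mem ho hk hok
      refine ((commute_layer_fitting he hcK.1).symm).mul_right ((commute_core_fitPrime ho hcK).symm.mul_right ?_)
      have hkN : k ∈ N := ⟨hk, mem_centralizer_singleton_iff.2 (h k hkS (orderOf_coprime_fitPrime hk)).symm⟩
      have hcon : (m : H) * k * (m : H)⁻¹ ∈ N :=
        mem_subgroupOf.1 ((mem_normalizer_iff.1 hm ⟨k, hk⟩).1 (mem_subgroupOf.2 hkN))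
      have e1 : Commute x k := (mem_centralizer_singleton_iff.1 hkN.2).symm
      have e2 : Commute x ((m : H) * k * (m : H)⁻¹) := (mem_centralizer_singleton_iff.1 hcon.2).symm
      show c * k = k * c
      have e3 : x * ((m : H) * k * (m : H)⁻¹) * x⁻¹ = (m : H) * k * (m : H)⁻¹ := by
        rw [e2.eq, mul_inv_cancel_right]
      have e4 : (x * (m : H) * x⁻¹) * k * (x * (m : H) * x⁻¹)⁻¹ = (m : H) * k * (m : H)⁻¹ := by
        rw [← e3]
        calc (x * (m : H) * x⁻¹) * k * (x * (m : H) * x⁻¹)⁻¹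
            = x * m * (x⁻¹ * k * x) * (m : H)⁻¹ * x⁻¹ := by group
          _ = x * m * k * (m : H)⁻¹ * x⁻¹ := by rw [mul_assoc x⁻¹ k x, ← e1.eq, inv_mul_cancel_left]
          _ = x * ((m : H) * k * (m : H)⁻¹) * x⁻¹ := by group
      calc c * k = (m : H)⁻¹ * ((x * m * x⁻¹) * k * (x * (m : H) * x⁻¹)⁻¹) * m * c := by rw [hc]; group
        _ = (m : H)⁻¹ * ((m : H) * k * (m : H)⁻¹) * m * c := by rw [e4]
        _ = k * c := by group
    have hxc : Commute x c := h c hcS (orderOf_coprime_fitPrime hcK)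
    have key : ∀ n : ℕ, x ^ n * (m : H) * (x ^ n)⁻¹ = m * c ^ n := by
      intro n
      induction n with
      | zero => simp
      | succ n ih =>
        calc x ^ (n + 1) * (m : H) * (x ^ (n + 1))⁻¹ = x * (x ^ n * m * (x ^ n)⁻¹) * x⁻¹ := by
              rw [pow_succ' x n]; group
          _ = x * (m * c ^ n) * x⁻¹ := by rw [ih]
          _ = (x * m * x⁻¹) * (x * c ^ n * x⁻¹) := by group
          _ = (m * c) * c ^ n := by
              rw [(hxc.pow_right n).eq, mul_inv_cancel_right, hc, mul_inv_cancel_left]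
          _ = m * c ^ (n + 1) := by rw [pow_succ' c n, mul_assoc]
    have hca : c ^ p ^ a = 1 := by
      have := key (p ^ a)
      rw [hx, one_mul, inv_one, mul_one, left_eq_mul] at this
      exact this
    have hc1 : c = 1 := orderOf_eq_one_iff.1 (Nat.eq_one_of_dvd_coprimes
      ((orderOf_coprime_fitPrime hcK).pow_right a) dvd_rfl (orderOf_dvd_of_pow_eq_one hca))
    have := key 1
    rw [pow_one, pow_one, hc1, mul_one, mul_inv_eq_iff_eq_mul] at this
    exact this.symm
  intro y hy hyc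
  exact (mem_centralizer_singleton_iff.1 ((sup_le hEx hKx) (mem_of_coprime hy hyc))).symm

end CfsgLib.Coprime.Large
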