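import Mathlib.GroupTheory.Complement
import Mathlib.GroupTheory.Index
import Mathlib.GroupTheory.OrderOfElement
import Mathlib.Tactic.Group

/-!
# Gaschütz's theorem

For a transversal of `U` among the cosets of a complement `A` to `K` in `U`, the product of
differences gives a crossed homomorphism whose zero set is a complement to `K` in `G`.
-/

set_option autoImplicit false
set_option linter.style.haveILetI false
set_option linter.unusedSectionVars false

namespace CfsgLib.Coprime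

open Subgroup
open scoped IsMulCommutative

/-- The hypotheses: `A` is a complement to `K` in `U`. -/
structure GzData {G : Type*} [Group G] (K U A : Subgroup G) : Prop where
  le : A ≤ U
  inf_eq : A ⊓ K = ⊥
  sup_eq : K ⊔ A = U

variable {G : Type*} [Group G] [Finite G] {K U A : Subgroup G} [K.Normal] [IsMulCommutative K]
  (D : GzData K U A)

/-- A choice of an `A`-coset inside each `U`-coset. -/
def GSection (D : GzData K U A) : Type _ :=
  {σ : G ⧸ U → G ⧸ A // ∀ c, quotientMapOfLE D.le (σ c) = c}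

include D in
theorem gz_free {k : K} {x : G ⧸ A} (h : (k : G) • x = x) : k = 1 := by
  obtain ⟨g, rfl⟩ := QuotientGroup.mk_surjective x
  rw [MulAction.Quotient.smul_mk, smul_eq_mul, QuotientGroup.eq] at h
  have hK : g⁻¹ * k * g ∈ K := by simpa using ‹K.Normal›.conj_mem _ k.2 g⁻¹
  have hA : g⁻¹ * k * g ∈ A := by
    have := A.inv_mem h
    simpa [mul_assoc] using this
  have h1 : g⁻¹ * k * g = 1 := by rw [← mem_bot, ← D.inf_eq]; exact ⟨hA, hK⟩
  refine Subtype.ext ?_
  calc (k : G) = g * (g⁻¹ * k * g) * g⁻¹ := by group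
    _ = 1 := by rw [h1]; group

include D in
theorem gz_transitive {x y : G ⧸ A} (h : quotientMapOfLE D.le x = quotientMapOfLE D.le y) :
    ∃ k : K, (k : G) • x = y := by
  obtain ⟨g, rfl⟩ := QuotientGroup.mk_surjective x
  obtain ⟨g', rfl⟩ := QuotientGroup.mk_surjective y
  rw [quotientMapOfLE_apply_mk, quotientMapOfLE_apply_mk, QuotientGroup.eq] at h
  obtain ⟨k, hk, a, ha, hka⟩ := mem_sup_of_normal_left.1 (D.sup_eq.symm ▸ h : g⁻¹ * g' ∈ K ⊔ A)
  refine ⟨⟨g * k * g⁻¹, ‹K.Normal›.conj_mem k hk g⟩, ?_⟩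
  rw [MulAction.Quotient.smul_mk, smul_eq_mul, QuotientGroup.eq]
  rw [show g' = g * (g⁻¹ * g') by group, ← hka]
  simpa [mul_assoc] using ha


/-- The difference of two sections at `c`. -/
noncomputable def gzDiffAt (σ τ : GSection D) (c : G ⧸ U) : K :=
  Classical.choose (gz_transitive D ((τ.2 c).trans (σ.2 c).symm))

theorem gzDiffAt_spec (σ τ : GSection D) (c : G ⧸ U) :
    (gzDiffAt D σ τ c : G) • τ.1 c = σ.1 c :=
  Classical.choose_spec (gz_transitive D ((τ.2 c).trans (σ.2 c).symm))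

theorem gzDiffAt_eq {σ τ : GSection D} {c : G ⧸ U} {k : K} (h : (k : G) • τ.1 c = σ.1 c) :
    gzDiffAt D σ τ c = k := by
  have h1 := gzDiffAt_spec D σ τ c
  have h2 : ((k⁻¹ * gzDiffAt D σ τ c : K) : G) • τ.1 c = τ.1 c := by
    rw [Subgroup.coe_mul, mul_smul, h1, ← h, Subgroup.coe_inv, inv_smul_smul]
  exact (inv_mul_eq_one.1 (gz_free D h2)).symm

/-- The product of all differences. -/
noncomputable def gzDiff (σ τ : GSection D) : K :=
  letI := Fintype.ofFinite (G ⧸ U)
  ∏ c, gzDiffAt D σ τ c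

theorem gzDiff_mul (σ τ ρ : GSection D) :
    gzDiff D σ τ * gzDiff D τ ρ = gzDiff D σ ρ := by
  unfold gzDiff
  rw [← Finset.prod_mul_distrib]
  refine Finset.prod_congr rfl fun c _ => (gzDiffAt_eq D ?_).symm
  rw [Subgroup.coe_mul, mul_smul, gzDiffAt_spec, gzDiffAt_spec]

theorem gzDiff_self (σ : GSection D) : gzDiff D σ σ = 1 := by
  have := gzDiff_mul D σ σ σ
  exact mul_eq_left.1 this

theorem gz_map_smul (g : G) (x : G ⧸ A) :
    quotientMapOfLE D.le (g • x) = g • quotientMapOfLE D.le x := by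
  induction x using QuotientGroup.induction_on with
  | _ y => rfl

/-- Translate of a section. -/
def gzSmul (g : G) (σ : GSection D) : GSection D :=
  ⟨fun c => g • σ.1 (g⁻¹ • c), fun c => by
    rw [gz_map_smul D, σ.2, smul_inv_smul]⟩

theorem gzSmul_mul (g h : G) (σ : GSection D) :
    gzSmul D (g * h) σ = gzSmul D g (gzSmul D h σ) :=
  Subtype.ext (funext fun c => by simp [gzSmul, mul_smul])

theorem gzSmul_one (σ : GSection D) : gzSmul D 1 σ = σ :=
  Subtype.ext (funext fun c => by simp [gzSmul])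

theorem gzDiff_smul (g : G) (σ τ : GSection D) :
    (gzDiff D (gzSmul D g σ) (gzSmul D g τ) : G) =
      g * gzDiff D σ τ * g⁻¹ := by
  let φ : K →* K := MonoidHom.mk' (fun k => ⟨g * k * g⁻¹, ‹K.Normal›.conj_mem k k.2 g⟩)
    (fun a b => Subtype.ext (by simp [mul_assoc]))
  show _ = ((φ (gzDiff D σ τ) : K) : G)
  congr 1
  unfold gzDiff
  rw [map_prod]
  letI := Fintype.ofFinite (G ⧸ U)
  refine Fintype.prod_equiv (MulAction.toPerm g⁻¹) _ _ fun c => ?_
  refine gzDiffAt_eq D ?_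
  show (g * (gzDiffAt D σ τ (g⁻¹ • c) : G) * g⁻¹) • (g • τ.1 (g⁻¹ • c)) =
    g • σ.1 (g⁻¹ • c)
  rw [mul_smul, mul_smul, inv_smul_smul, gzDiffAt_spec]

theorem gzDiff_smul_kernel (k : K) (σ : GSection D) :
    gzDiff D (gzSmul D k σ) σ = k ^ U.index := by
  unfold gzDiff
  letI := Fintype.ofFinite (G ⧸ U)
  have : ∀ c, gzDiffAt D (gzSmul D k σ) σ c = k := by
    intro c
    refine gzDiffAt_eq D ?_
    show (k : G) • σ.1 c = (k : G) • σ.1 ((k : G)⁻¹ • c)
    have e : (k : G)⁻¹ • c = c := by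
      induction c using QuotientGroup.induction_on with
      | _ x =>
        rw [MulAction.Quotient.smul_mk, QuotientGroup.eq, smul_eq_mul,
          show ((k : G)⁻¹ * x)⁻¹ * x = x⁻¹ * k * x by group]
        refine D.sup_eq ▸ mem_sup_left ?_
        simpa using ‹K.Normal›.conj_mem _ k.2 x⁻¹
    rw [e]
  rw [Finset.prod_congr rfl (fun c _ => this c), Finset.prod_const, Finset.card_univ,
    ← Nat.card_eq_fintype_card]
  rfl

variable (hcop : (Nat.card K).Coprime U.index)

/-- The complement attached to a section. -/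
noncomputable def gzComplement (σ : GSection D) : Subgroup G where
  carrier := {g | gzDiff D (gzSmul D g σ) σ = 1}
  one_mem' := by
    show gzDiff D (gzSmul D 1 σ) σ = 1
    rw [gzSmul_one, gzDiff_self]
  mul_mem' := by
    intro g h hg hh
    show gzDiff D (gzSmul D (g * h) σ) σ = 1
    rw [← gzDiff_mul D _ (gzSmul D g σ), gzSmul_mul]
    refine Subtype.ext ?_
    rw [Subgroup.coe_mul, gzDiff_smul, show gzDiff D (gzSmul D h σ) σ = 1 from hh,
      show gzDiff D (gzSmul D g σ) σ = 1 from hg]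
    simp
  inv_mem' := by
    intro g hg
    show gzDiff D (gzSmul D g⁻¹ σ) σ = 1
    refine Subtype.ext ?_
    have h1 := gzDiff_smul D g⁻¹ (gzSmul D g σ) σ
    rw [show gzDiff D (gzSmul D g σ) σ = 1 from hg, ← gzSmul_mul,
      inv_mul_cancel, gzSmul_one] at h1
    have h2 := gzDiff_mul D σ (gzSmul D g⁻¹ σ) σ
    rw [gzDiff_self] at h2
    have h3 : gzDiff D σ (gzSmul D g⁻¹ σ) = 1 :=
      Subtype.ext (h1.trans (by simp))
    rw [h3, one_mul] at h2
    rw [h2]

include hcop

theorem gz_pow_eq_one {k : K} (h : k ^ U.index = 1) : k = 1 := by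
  rw [← orderOf_eq_one_iff]
  exact Nat.eq_one_of_dvd_coprimes hcop (orderOf_dvd_natCard k) (orderOf_dvd_of_pow_eq_one h)

theorem gz_exists_pow (z : K) : ∃ k : K, k ^ U.index = z :=
  ⟨(powCoprime hcop).symm z, (powCoprime hcop).apply_symm_apply z⟩

theorem gzComplement_isComplement' (σ : GSection D) :
    IsComplement' K (gzComplement D σ) := by
  refine isComplement'_of_disjoint_and_mul_eq_univ (disjoint_def.2 fun {x} hx hx' => ?_) ?_
  · have h : gzDiff D (gzSmul D ((⟨x, hx⟩ : K) : G) σ) σ = 1 := hx'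
    rw [gzDiff_smul_kernel] at h
    exact congrArg Subtype.val (gz_pow_eq_one hcop h)
  · refine Set.eq_univ_of_forall fun g => ?_
    obtain ⟨k, hk⟩ := gz_exists_pow hcop (gzDiff D (gzSmul D g σ) σ)
    refine ⟨k, k.2, (k : G)⁻¹ * g, ?_, by group⟩
    show gzDiff D (gzSmul D ((k : G)⁻¹ * g) σ) σ = 1
    rw [← gzDiff_mul D _ (gzSmul D ((k⁻¹ : K) : G) σ), gzDiff_smul_kernel,
      show (k : G)⁻¹ * g = ((k⁻¹ : K) : G) * g by simp, gzSmul_mul]
    have h1 : gzDiff D (gzSmul D ((k⁻¹ : K) : G) (gzSmul D g σ))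
        (gzSmul D ((k⁻¹ : K) : G) σ) =
          gzDiff D (gzSmul D g σ) σ := by
      refine Subtype.ext ?_
      rw [gzDiff_smul, ← Subgroup.coe_inv, ← Subgroup.coe_mul, ← Subgroup.coe_mul]
      congr 1
      rw [mul_comm k⁻¹, mul_assoc, mul_inv_cancel, mul_one]
    rw [h1, ← hk, inv_pow, mul_inv_cancel]

omit hcop in
/-- A complement meeting `U` in `A` gives a section fixed by it. -/
theorem exists_section_fixed {H : Subgroup G} (hH : IsComplement' K H) (hHA : H ⊓ U = A) :
    ∃ σ : GSection D, H ≤ gzComplement D σ := by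
  have hex : ∀ c : G ⧸ U, ∃ h ∈ H, (h : G ⧸ U) = c := by
    intro c
    obtain ⟨g, rfl⟩ := QuotientGroup.mk_surjective c
    have hg : g ∈ H ⊔ K := hH.symm.sup_eq_top ▸ mem_top g
    obtain ⟨h, hh, k, hk, rfl⟩ := mem_sup_of_normal_right.1 hg
    refine ⟨h, hh, QuotientGroup.eq.2 ?_⟩
    rw [inv_mul_cancel_left]
    exact D.sup_eq ▸ mem_sup_left hk
  choose f hf hfc using hex
  refine ⟨⟨fun c => (f c : G ⧸ A), fun c => hfc c⟩, fun g hg => ?_⟩
  have hfix : gzSmul D g ⟨fun c => (f c : G ⧸ A), fun c => hfc c⟩ =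
      ⟨fun c => (f c : G ⧸ A), fun c => hfc c⟩ := by
    refine Subtype.ext (funext fun c => ?_)
    show g • ((f (g⁻¹ • c) : G) : G ⧸ A) = (f c : G ⧸ A)
    rw [MulAction.Quotient.smul_mk, QuotientGroup.eq, smul_eq_mul, ← hHA]
    refine ⟨H.mul_mem (H.inv_mem (H.mul_mem hg (hf _))) (hf _), ?_⟩
    refine QuotientGroup.eq.1 ?_
    rw [← smul_eq_mul, ← MulAction.Quotient.smul_mk, hfc, hfc, smul_inv_smul]
  show gzDiff D (gzSmul D g _) _ = 1
  rw [hfix]
  exact gzDiff_self D _

include D hcop in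
theorem gaschutz_conj {H₀ H₁ : Subgroup G} (h₀ : IsComplement' K H₀) (h₁ : IsComplement' K H₁)
    (e₀ : H₀ ⊓ U = A) (e₁ : H₁ ⊓ U = A) :
    ∃ k ∈ K, H₀.map (MulAut.conj k).toMonoidHom = H₁ := by
  obtain ⟨σ, hσ⟩ := exists_section_fixed D h₀ e₀
  obtain ⟨τ, hτ⟩ := exists_section_fixed D h₁ e₁
  obtain ⟨k, hk⟩ := gz_exists_pow hcop (gzDiff D τ σ)
  have hc : ∀ (T : Subgroup G) (ρ : GSection D), IsComplement' K T →
      T ≤ gzComplement D ρ → T = gzComplement D ρ := by
    intro T ρ hT hle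
    refine eq_of_le_of_card_ge hle (le_of_eq ?_)
    rw [← hT.symm.index_eq_card, (gzComplement_isComplement' D hcop ρ).symm.index_eq_card]
  have hk1 : gzDiff D (gzSmul D k σ) τ = 1 := by
    have h := gzDiff_mul D (gzSmul D k σ) τ σ
    rw [gzDiff_smul_kernel, hk] at h
    exact mul_eq_right.1 h
  have hk2 : gzDiff D τ (gzSmul D k σ) = 1 := by
    have h := gzDiff_mul D τ (gzSmul D k σ) τ
    rw [gzDiff_self, hk1, mul_one] at h
    exact h
  refine ⟨k, k.2, ?_⟩
  refine eq_of_le_of_card_ge ?_ (le_of_eq ?_)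
  · rw [hc H₀ σ h₀ hσ, hc H₁ τ h₁ hτ]
    rintro _ ⟨g, hg, rfl⟩
    show gzDiff D (gzSmul D ((k : G) * g * (k : G)⁻¹) τ) τ = 1
    have a1 : gzDiff D (gzSmul D ((k : G) * g * (k : G)⁻¹) τ)
        (gzSmul D ((k : G) * g) σ) = 1 := by
      refine Subtype.ext ?_
      have e : (k : G) * g = (k : G) * g * (k : G)⁻¹ * k := by group
      have e' : gzSmul D ((k : G) * g) σ = gzSmul D ((k : G) * g * (k : G)⁻¹) (gzSmul D k σ) := by
        rw [← gzSmul_mul, ← e]
      rw [e']
      rw [gzDiff_smul, hk2]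
      simp
    have a2 : gzDiff D (gzSmul D ((k : G) * g) σ)
        (gzSmul D k σ) = 1 := by
      refine Subtype.ext ?_
      rw [gzSmul_mul, gzDiff_smul,
        show gzDiff D (gzSmul D g σ) σ = 1 from hg]
      simp
    rw [← gzDiff_mul D _ (gzSmul D ((k : G) * g) σ),
      ← gzDiff_mul D (gzSmul D ((k : G) * g) σ) (gzSmul D k σ),
      a1, a2, hk1]
    simp
  · rw [card_map_of_injective (MulEquiv.injective _), ← h₀.symm.index_eq_card,
      h₁.symm.index_eq_card]

include D in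
omit hcop in
theorem gaschutz_exists (hcop : (Nat.card K).Coprime U.index) :
    ∃ H : Subgroup G, IsComplement' K H :=
  ⟨_, gzComplement_isComplement' D hcop
    ⟨fun c => (c.out : G ⧸ A), fun c => QuotientGroup.out_eq' c⟩⟩

end CfsgLib.Coprime
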