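import Cfsg.Agent.Lib.Fusion.AlperinTame
import Cfsg.Agent.Lib.Fusion.Residual
import Cfsg.Agent.Lib.Coprime.Action

/-!
# Lifting local control of fusion from a normal subgroup

`N` is normal, `P` a Sylow subgroup, `W ≤ P ⊓ N` is normalized by the normalizer of `P ⊓ N` and
`N_N(W)` controls `N`-fusion inside `P ⊓ N`.  Then `N_G(W)` controls `G`-fusion inside `P`.
-/

set_option autoImplicit false
set_option linter.unusedSectionVars false

namespace CfsgLib.Coprime.ControlLift

open Subgroup CfsgLib.Fusion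

universe u

variable {G : Type u} [Group G]

/-- `g` acts on `A` as an element of the normalizer of `W` does. -/
def Good (W A : Subgroup G) (g : G) : Prop :=
  ∃ h ∈ normalizer (W : Set G), ∀ a ∈ A, h * a * h⁻¹ = g * a * g⁻¹

theorem Good.mono {W A B : Subgroup G} {g : G} (h : Good W B g) (hle : A ≤ B) : Good W A g :=
  let ⟨k, hk, hk'⟩ := h; ⟨k, hk, fun a ha => hk' a (hle ha)⟩

theorem good_of_mem {W A : Subgroup G} {g : G} (h : g ∈ normalizer (W : Set G)) : Good W A g :=
  ⟨g, h, fun _ _ => rfl⟩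

theorem good_of_centralizes {W A : Subgroup G} {g : G} (h : g ∈ centralizer (A : Set G)) :
    Good W A g :=
  ⟨1, one_mem _, fun a ha => by simp [mem_centralizer_iff'.1 h a ha]⟩

theorem Good.comp {W A : Subgroup G} {g k : G} (hg : Good W A g)
    (hk : Good W (Fusion.conjBy g A) k) : Good W A (k * g) := by
  obtain ⟨h₁, hh₁, e₁⟩ := hg
  obtain ⟨h₂, hh₂, e₂⟩ := hk
  refine ⟨h₂ * h₁, mul_mem hh₂ hh₁, fun a ha => ?_⟩
  rw [show h₂ * h₁ * a * (h₂ * h₁)⁻¹ = h₂ * (h₁ * a * h₁⁻¹) * h₂⁻¹ by group, e₁ a ha,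
    e₂ _ (Fusion.conj_mem_conjBy ha)]
  group

/-- The elements of `N(A)` acting on `A` as elements of `N(W)`. -/
def goodNormalizer (W A : Subgroup G) : Subgroup G where
  carrier := {x | x ∈ normalizer (A : Set G) ∧ Good W A x}
  one_mem' := ⟨one_mem _, good_of_mem (one_mem _)⟩
  mul_mem' := fun {x y} hx hy => ⟨mul_mem hx.1 hy.1,
    hy.2.comp (by rw [Fusion.conjBy_eq_iff.2 hy.1]; exact hx.2)⟩
  inv_mem' := fun {x} hx => by
    refine ⟨inv_mem hx.1, ?_⟩
    obtain ⟨h, hh, e⟩ := hx.2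
    refine ⟨h⁻¹, inv_mem hh, fun a ha => ?_⟩
    have hxa : x⁻¹ * a * x ∈ A := (mem_normalizer_iff''.1 hx.1 a).1 ha
    have h1 := e _ hxa
    rw [show x * (x⁻¹ * a * x) * x⁻¹ = a by group] at h1
    rw [inv_inv, inv_inv]
    conv_lhs => rw [← h1]
    group

/-- In a `p`-group every proper subgroup is properly contained in its normalizer. -/
theorem exists_normalizer_not_mem [Finite G] {p : ℕ} [Fact p.Prime] {S A : Subgroup G}
    (hS : IsPGroup p S) (hAS : A ≤ S) (hne : ¬ S ≤ A) :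
    ∃ y ∈ S, y ∈ normalizer (A : Set G) ∧ y ∉ A := by
  haveI : Group.IsNilpotent S := hS.isNilpotent
  have hlt : A.subgroupOf S < ⊤ := by
    rw [lt_top_iff_ne_top, Ne, subgroupOf_eq_top]; exact hne
  obtain ⟨y, hy, hyA⟩ := SetLike.exists_of_lt
    (Group.normalizerCondition_of_isNilpotent (G := S) (A.subgroupOf S) hlt)
  refine ⟨y, y.2, mem_normalizer_iff.2 fun x => ?_, hyA⟩
  by_cases hx : x ∈ S
  · exact mem_normalizer_iff.1 hy ⟨x, hx⟩
  · exact iff_of_false (fun h => hx (hAS h)) fun h =>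
      hx (by simpa [mul_assoc] using mul_mem (mul_mem (inv_mem y.2) (hAS h)) y.2)

theorem card_lt_of_lt [Finite G] {H K : Subgroup G} (h : H < K) : Nat.card H < Nat.card K := by
  have := Set.ncard_lt_ncard (SetLike.coe_ssubset_coe.2 h) (Set.toFinite _)
  simpa [← Nat.card_coe_set_eq] using this

variable [Finite G] {p : ℕ} [Fact p.Prime]

/-- A normalized subgroup meets a relative Sylow subgroup in a relative Sylow subgroup. -/
theorem not_dvd_relIndex_inf {T H M : Subgroup G} (hT : IsPGroup p T) (hTH : T ≤ H)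
    (hi : ¬ p ∣ T.relIndex H) (hMH : M ≤ H) (hn : H ≤ normalizer (M : Set G)) :
    ¬ p ∣ (T ⊓ M).relIndex M := by
  obtain ⟨U, hU, hUM, hUp, hUi⟩ := exists_le_not_dvd_relIndex
    (hT.to_le (inf_le_left (b := M))) inf_le_right
  obtain ⟨h, hh, hh'⟩ := exists_conj_le_of_not_dvd_relIndex hT hTH hi hUp (hUM.trans hMH)
  have h1 : Fusion.conjBy h U ≤ T ⊓ M := le_inf hh'
    ((Fusion.conjBy_mono hUM).trans (Fusion.conjBy_eq_iff.2 (hn hh)).le)
  have h2 : Nat.card U ≤ Nat.card (T ⊓ M : Subgroup G) :=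
    (Fusion.card_conjBy h U).ge.trans (Subgroup.card_le_of_le h1)
  rwa [Subgroup.eq_of_le_of_card_ge hU h2]

/-- Hypothesis: `N_N(W)` controls `N`-fusion in `P ⊓ N`. -/
def Inner (P : Sylow p G) (N W : Subgroup G) : Prop :=
  ∀ A : Subgroup G, A ≤ (P : Subgroup G) ⊓ N → ∀ n ∈ N, Fusion.conjBy n A ≤ (P : Subgroup G) ⊓ N →
    ∃ h ∈ N ⊓ normalizer (W : Set G), ∀ a ∈ A, h * a * h⁻¹ = n * a * n⁻¹

/-- The step at a fully normalized subgroup. -/
theorem good_of_fully_normalized (P : Sylow p G) (N W : Subgroup G) [N.Normal]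
    (hWn : normalizer (((P : Subgroup G) ⊓ N : Subgroup G) : Set G) ≤ normalizer (W : Set G))
    (hin : Inner P N W) {A : Subgroup G} (hA : A ≤ P)
    (hfn : ¬ p ∣ ((P : Subgroup G) ⊓ normalizer (A : Set G)).relIndex (normalizer (A : Set G)))
    (ih : ∀ A' : Subgroup G, A' ≤ P → Nat.card A < Nat.card A' →
      ∀ y ∈ normalizer (A' : Set G), Good W A' y)
    {x : G} (hx : x ∈ normalizer (A : Set G)) : Good W A x := by
  have hp : p.Prime := Fact.out
  set Q := (P : Subgroup G) ⊓ N with hQ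
  have hPQ : (P : Subgroup G) ≤ normalizer (Q : Set G) := by
    refine inf_le_normalizer le_normalizer ?_
    rw [normalizer_eq_top (H := N)]; exact le_top
  have hPW : (P : Subgroup G) ≤ normalizer (W : Set G) := hPQ.trans hWn
  by_cases hQA : Q ≤ A
  · have hB : A ⊓ N = Q :=
      le_antisymm (inf_le_inf_right N hA) (le_inf hQA inf_le_right)
    refine good_of_mem (hWn ?_)
    rw [← hB]
    refine mem_normalizer_iff.2 fun y => and_congr (mem_normalizer_iff.1 hx y) ?_
    exact ⟨fun h => Normal.conj_mem inferInstance y h x, fun h => by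
      simpa [mul_assoc] using Normal.conj_mem (inferInstance : N.Normal) _ h x⁻¹⟩
  set NA := normalizer (A : Set G) with hNA
  set B := A ⊓ N with hBdef
  set T := (P : Subgroup G) ⊓ NA with hT
  have hTp : IsPGroup p T := P.2.to_le inf_le_left
  set M := N ⊓ NA with hM
  have hNAN : NA ≤ normalizer (N : Set G) := by rw [normalizer_eq_top (H := N)]; exact le_top
  have hNAM : NA ≤ normalizer (M : Set G) := inf_le_normalizer hNAN le_normalizer
  have hNAB : NA ≤ normalizer (B : Set G) := inf_le_normalizer le_rfl hNAN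
  set R := T ⊓ M with hR
  have hRi := not_dvd_relIndex_inf hTp inf_le_right hfn inf_le_right hNAM
  set K := goodNormalizer W A with hK
  -- subgroups larger than `A`
  have hbig : ∀ S : Subgroup G, S ≤ (P : Subgroup G) ⊓ NA → ¬ S ≤ A →
      ∀ y ∈ NA, y ∈ normalizer (S : Set G) → y ∈ K := by
    intro S hS hSA y hy hyS
    refine ⟨hy, ((ih (A ⊔ S) (sup_le hA (hS.trans inf_le_left)) ?_ y ?_).mono le_sup_left)⟩
    · exact card_lt_of_lt (lt_of_le_of_ne le_sup_left fun h => hSA (h ▸ le_sup_right))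
    · rw [← Fusion.conjBy_eq_iff, Fusion.conjBy, Subgroup.map_sup]
      exact congrArg₂ _ (Fusion.conjBy_eq_iff.2 hy) (Fusion.conjBy_eq_iff.2 hyS)
  have hRA : ¬ R ≤ A := by
    intro hle
    have hAQ : A ≤ normalizer (Q : Set G) := hA.trans hPQ
    obtain ⟨y, hy, hyN, hyA⟩ := exists_normalizer_not_mem (A := A)
      (P.2.to_le (sup_le inf_le_left hA) : IsPGroup p (Q ⊔ A : Subgroup G)) le_sup_right
      (fun h => hQA (le_sup_left.trans h))
    obtain ⟨q, hq, a, ha, rfl⟩ := mem_sup_exists hAQ hy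
    have hqN : q ∈ NA := by
      have := mul_mem hyN (inv_mem (le_normalizer ha : a ∈ NA))
      rwa [mul_inv_cancel_right] at this
    exact hyA (mul_mem (hle ⟨⟨hq.1, hqN⟩, hq.2, hqN⟩) ha)
  -- the centralizer of `B`
  set U := N ⊓ centralizer (B : Set G) with hU
  have hNAU : NA ≤ normalizer (U : Set G) :=
    inf_le_normalizer hNAN (hNAB.trans (normalizer_le_normalizer_centralizer B))
  set UA := U ⊓ NA with hUA
  set T' := T ⊓ UA with hT'
  have hT'i := not_dvd_relIndex_inf hTp inf_le_right hfn inf_le_right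
    (inf_le_normalizer hNAU le_normalizer : NA ≤ normalizer (UA : Set G))
  have hT'p : IsPGroup p T' := hTp.to_le inf_le_left
  have hT'K : ∀ t ∈ T', t ∈ K := fun t ht => ⟨ht.1.2, good_of_mem (hPW ht.1.1)⟩
  have hcoprime : ∀ c ∈ UA, Nat.Coprime (orderOf c) p → c ∈ K := by
    intro c hc hco
    refine ⟨hc.2, good_of_centralizes (mem_centralizer_iff'.2 fun a ha => ?_)⟩
    set w := c * a * c⁻¹ * a⁻¹ with hw
    have hwB : w ∈ B := by
      refine ⟨A.mul_mem ((mem_normalizer_iff.1 hc.2 a).1 ha) (A.inv_mem ha), ?_⟩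
      rw [hw, show c * a * c⁻¹ * a⁻¹ = c * (a * c⁻¹ * a⁻¹) by group]
      exact N.mul_mem hc.1.1 (Normal.conj_mem inferInstance _ (N.inv_mem hc.1.1) a)
    have hcw : c * w * c⁻¹ = w := mem_centralizer_iff'.1 hc.1.2 w hwB
    have hit : ∀ j : ℕ, c ^ j * a * (c ^ j)⁻¹ = w ^ j * a := by
      intro j
      induction j with
      | zero => simp
      | succ j ihj =>
        have hcj : c * w ^ j * c⁻¹ = w ^ j := by rw [← conj_pow, hcw]
        rw [pow_succ' c, show c * c ^ j * a * (c * c ^ j)⁻¹ = c * (c ^ j * a * (c ^ j)⁻¹) * c⁻¹ by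
          group, ihj, show c * (w ^ j * a) * c⁻¹ = c * w ^ j * c⁻¹ * (c * a * c⁻¹) by group, hcj,
          show c * a * c⁻¹ = w * a from (inv_mul_cancel_right _ a).symm, ← mul_assoc, ← pow_succ]
    have h1 := hit (orderOf c)
    rw [pow_orderOf_eq_one, one_mul, inv_one, mul_one, right_eq_mul] at h1
    obtain ⟨k, hk⟩ := P.2 ⟨w, hA hwB.1⟩
    have hk' : w ^ p ^ k = 1 := by simpa using congrArg Subtype.val hk
    have hw1 : w = 1 := orderOf_eq_one_iff.1 (Nat.eq_one_of_dvd_coprimes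
      (Nat.Coprime.pow_right k hco) (orderOf_dvd_of_pow_eq_one h1) (orderOf_dvd_of_pow_eq_one hk'))
    rwa [hw, mul_inv_eq_one] at hw1
  have hUAK : UA ≤ K := by
    intro c hc
    let S : Sylow p UA :=
      (hT'p.of_equiv (subgroupOfEquivOfLe (inf_le_right : T' ≤ UA)).symm).toSylow hT'i
    haveI := pResidual_normal (G := UA) (p := p)
    have hle : Cfsg.pResidual p UA ≤ K.subgroupOf UA := by
      refine (closure_le _).2 fun y hy => hcoprime y y.2 ?_
      rw [Subgroup.orderOf_coe]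
      exact hy
    have htop : (⊤ : Subgroup UA) ≤ K.subgroupOf UA := by
      rw [← pResidual_sup_sylow S]
      exact sup_le hle fun t ht => hT'K t ht
    exact htop (mem_top ⟨c, hc⟩)
  -- `M` is good
  have hMK : M ≤ K := by
    intro m hm
    by_cases hT'A : T' ≤ A
    · set L := U ⊔ A with hL
      have hAU : A ≤ normalizer (U : Set G) := le_normalizer.trans hNAU
      have hAB : B ≤ Q := inf_le_inf_right N hA
      have hmB : Fusion.conjBy m B ≤ Q := by
        rw [Fusion.conjBy_eq_iff.2 (hNAB hm.2)]; exact hAB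
      obtain ⟨h, hh, e⟩ := hin B hAB m hm.1 hmB
      have hcU : h⁻¹ * m ∈ U := by
        refine ⟨N.mul_mem (N.inv_mem hh.1) hm.1, mem_centralizer_iff'.2 fun b hb => ?_⟩
        rw [show h⁻¹ * m * b * (h⁻¹ * m)⁻¹ = h⁻¹ * (m * b * m⁻¹) * h by group, ← e b hb]
        group
      set L' := L ⊓ normalizer (W : Set G) with hL'
      have hAL' : A ≤ L' := le_inf le_sup_right (hA.trans hPW)
      have hhA : Fusion.conjBy h A ≤ L' := by
        refine Fusion.conjBy_le_iff.2 fun a ha => ⟨?_, ?_⟩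
        · set c := h⁻¹ * m with hc
          have h1 : c⁻¹ * (a * c * a⁻¹) ∈ U :=
            U.mul_mem (U.inv_mem hcU) ((mem_normalizer_iff.1 (hAU ha) c).1 hcU)
          have h2 : h * a * h⁻¹
              = m * (c⁻¹ * (a * c * a⁻¹)) * m⁻¹ * (m * a * m⁻¹) := by
            rw [hc]; group
          rw [h2]
          exact mul_mem_sup ((mem_normalizer_iff.1 (hNAU hm.2) _).1 h1)
            ((mem_normalizer_iff.1 hm.2 a).1 ha)
        · exact mul_mem (mul_mem hh.2 (hPW (hA ha))) ((normalizer (W : Set G)).inv_mem hh.2)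
      obtain ⟨S, hAS, hSL, hSp, hSi⟩ := exists_le_not_dvd_relIndex (P.2.to_le hA) hAL'
      have hSA : S = A := by
        refine le_antisymm ?_ hAS
        by_contra hne
        obtain ⟨y, hy, hyN, hyA⟩ := exists_normalizer_not_mem hSp hAS hne
        obtain ⟨u, hu, a, ha, rfl⟩ := mem_sup_exists hAU (hSL hy).1
        have huS : u ∈ S := by
          have := S.mul_mem hy (S.inv_mem (hAS ha))
          rwa [mul_inv_cancel_right] at this
        have huN : u ∈ NA := by
          have := mul_mem hyN (inv_mem (le_normalizer ha : a ∈ NA))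
          rwa [mul_inv_cancel_right] at this
        obtain ⟨c, hc, hc'⟩ := exists_conj_le_of_not_dvd_relIndex hT'p inf_le_right hT'i
          (hSp.to_le (zpowers_le.2 huS)) (zpowers_le.2 ⟨hu, huN⟩)
        have ht : c * u * c⁻¹ ∈ T' := hc' (Fusion.conj_mem_conjBy (mem_zpowers u))
        have htB : c * u * c⁻¹ ∈ B := ⟨hT'A ht, ht.2.1.1⟩
        have h3 : c⁻¹ * (c * u * c⁻¹) * c⁻¹⁻¹ = c * u * c⁻¹ :=
          mem_centralizer_iff'.1 (inv_mem hc.1.2) _ htB
        rw [show c⁻¹ * (c * u * c⁻¹) * c⁻¹⁻¹ = u by group] at h3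
        exact hyA (A.mul_mem (h3 ▸ hT'A ht) ha)
      subst hSA
      obtain ⟨k, hk, hk'⟩ := exists_conj_le_of_not_dvd_relIndex hSp hSL hSi
        (isPGroup_conjBy h hSp) hhA
      obtain ⟨u, hu, a, ha, rfl⟩ := mem_sup_exists hAU hk.1
      set u' := a⁻¹ * u * a with hu'
      have hu'U : u' ∈ U := by
        have := (mem_normalizer_iff.1 (inv_mem (hAU ha)) u).1 hu
        rwa [inv_inv] at this
      have hu'W : u' ∈ normalizer (W : Set G) := by
        rw [hu', show a⁻¹ * u * a = a⁻¹ * (u * a) by group]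
        exact mul_mem (inv_mem (hPW (hA ha))) hk.2
      have hu'h : u' * h ∈ NA := by
        rw [hNA, ← Fusion.conjBy_eq_iff]
        refine Fusion.conjBy_eq_of_le (Fusion.conjBy_le_iff.2 fun b hb => ?_)
        have h1 : u * a * (h * b * h⁻¹) * (u * a)⁻¹ ∈ S :=
          hk' (Fusion.conj_mem_conjBy (Fusion.conj_mem_conjBy hb))
        rw [hu', show a⁻¹ * u * a * h * b * (a⁻¹ * u * a * h)⁻¹
          = a⁻¹ * (u * a * (h * b * h⁻¹) * (u * a)⁻¹) * a by group]
        exact S.mul_mem (S.mul_mem (S.inv_mem ha) h1) ha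
      have h1 : (u' * h)⁻¹ * m ∈ UA := by
        refine ⟨?_, NA.mul_mem (NA.inv_mem hu'h) hm.2⟩
        have hmn : (h⁻¹ * m)⁻¹ ∈ U := U.inv_mem hcU
        rw [show (u' * h)⁻¹ * m = h⁻¹ * m * (m⁻¹ * u'⁻¹ * m) by group]
        refine U.mul_mem hcU ?_
        have := (mem_normalizer_iff''.1 (hNAU hm.2) u'⁻¹).1 (U.inv_mem hu'U)
        exact this
      rw [show m = u' * h * ((u' * h)⁻¹ * m) by group]
      exact K.mul_mem ⟨hu'h, good_of_mem (mul_mem hu'W hh.2)⟩ (hUAK h1)
    · obtain ⟨c, hc, hc'⟩ := exists_conj_le_of_not_dvd_relIndex hT'p inf_le_right hT'i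
        (isPGroup_conjBy m hT'p) (by
          refine (Fusion.conjBy_mono inf_le_right).trans (Fusion.conjBy_eq_iff.2 ?_).le
          exact (inf_le_normalizer hNAU le_normalizer : NA ≤ normalizer (UA : Set G)) hm.2)
      rw [Fusion.conjBy_conjBy] at hc'
      have h1 : c * m ∈ K := hbig T' inf_le_left hT'A (c * m) (mul_mem hc.2 hm.2)
        (Fusion.conjBy_eq_iff.1 (Fusion.conjBy_eq_of_le hc'))
      rw [show m = c⁻¹ * (c * m) by group]
      exact K.mul_mem (K.inv_mem (hUAK hc)) h1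
  obtain ⟨m, hm, hm'⟩ := exists_conj_le_of_not_dvd_relIndex (hTp.to_le inf_le_left) inf_le_right hRi
    (isPGroup_conjBy x (hTp.to_le (inf_le_left : R ≤ T))) (by
      exact (Fusion.conjBy_mono inf_le_right).trans (Fusion.conjBy_eq_iff.2 (hNAM hx)).le)
  rw [Fusion.conjBy_conjBy] at hm'
  have h1 : m * x ∈ K := hbig R inf_le_left hRA (m * x) (mul_mem hm.2 hx)
    (Fusion.conjBy_eq_iff.1 (Fusion.conjBy_eq_of_le hm'))
  have h2 := K.mul_mem (K.inv_mem (hMK hm)) h1
  rw [inv_mul_cancel_left] at h2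
  exact h2.2

/-- The main result. -/
theorem good_of_inner (P : Sylow p G) (N W : Subgroup G) [N.Normal]
    (hWn : normalizer (((P : Subgroup G) ⊓ N : Subgroup G) : Set G) ≤ normalizer (W : Set G))
    (hin : Inner P N W) : ∀ A : Subgroup G, A ≤ (P : Subgroup G) → ∀ g : G,
      Fusion.conjBy g A ≤ (P : Subgroup G) → Good W A g := by
  intro A
  induction hd : Nat.card G - Nat.card A using Nat.strong_induction_on generalizing A with
  | _ d ih =>
  subst hd
  intro hA g hg
  have ih' : ∀ A' : Subgroup G, A' ≤ P → Nat.card A < Nat.card A' →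
      ∀ y ∈ normalizer (A' : Set G), Good W A' y := fun A' hA' hlt y hy =>
    ih _ (by have := Subgroup.card_le_card_group A'; omega) A' rfl hA' y
      (by rw [Fusion.conjBy_eq_iff.2 hy]; exact hA')
  obtain ⟨D, hAD, hD⟩ := exists_tameChain P (A : Set G) g⁻¹ hA (by
    rintro _ ⟨a, ha, rfl⟩
    rw [SetLike.mem_coe]
    simp only [inv_inv]
    exact hg (Fusion.conj_mem_conjBy ha))
  suffices key : ∀ (A' : Subgroup G) (k : G), TameChain P A' k → Nat.card A ≤ Nat.card A' →
      Good W A' k⁻¹ by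
    simpa using key A g⁻¹ (hD.mono hAD) le_rfl
  intro A' k hk
  induction hk with
  | nil D => intro _; rw [inv_one]; exact good_of_mem (one_mem _)
  | @cons D k Q x hT hx hD' _ ihk =>
    intro hle
    rw [mul_inv_rev]
    refine Good.comp ?_ (ihk (by rw [Fusion.card_conjBy]; exact hle))
    set E := (P : Subgroup G) ⊓ (Q : Subgroup G) with hE
    have hAE : Nat.card A ≤ Nat.card E := hle.trans (Subgroup.card_le_of_le hD')
    rcases hAE.lt_or_eq with hlt | heq
    · exact (ih' E inf_le_left hlt _ (inv_mem hx)).mono hD'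
    · refine (good_of_fully_normalized P N W hWn hin inf_le_left hT.1 ?_ (inv_mem hx)).mono hD'
      intro A'' hA'' hlt
      exact ih' A'' hA'' (heq ▸ hlt)

/-- Control by the normalizer of `V` gives control by the normalizer of the closure of the
conjugates of `V` under the normalizer of `P ⊓ N`. -/
theorem inner_of_ctrl (P : Sylow p G) (N : Subgroup G) [N.Normal] (V : Subgroup G)
    (hV : V ≤ (P : Subgroup G) ⊓ N)
    (hctrl : ∀ A : Subgroup G, A ≤ (P : Subgroup G) ⊓ N → ∀ n ∈ N,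
      Fusion.conjBy n A ≤ (P : Subgroup G) ⊓ N →
      ∃ h ∈ N ⊓ normalizer (V : Set G), ∃ c ∈ N ⊓ centralizer (A : Set G), n = h * c)
    (W : Subgroup G)
    (hW : W = closure (⋃ x ∈ normalizer (((P : Subgroup G) ⊓ N : Subgroup G) : Set G),
      ((Fusion.conjBy x V : Subgroup G) : Set G))) :
    normalizer (((P : Subgroup G) ⊓ N : Subgroup G) : Set G) ≤ normalizer (W : Set G) ∧
      Inner P N W := by
  classical
  set Q := (P : Subgroup G) ⊓ N with hQ
  have hVQ : ∀ x ∈ normalizer (Q : Set G), Fusion.conjBy x V ≤ Q := fun x hx =>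
    (Fusion.conjBy_mono hV).trans (Fusion.conjBy_eq_iff.2 hx).le
  have hgen : ∀ x ∈ normalizer (Q : Set G), Fusion.conjBy x V ≤ W := fun x hx v hv => by
    rw [hW]; exact subset_closure (Set.mem_iUnion₂.2 ⟨x, hx, hv⟩)
  have hnorm : ∀ k : G, (∀ x ∈ normalizer (Q : Set G), Fusion.conjBy k (Fusion.conjBy x V) ≤ W) →
      k ∈ normalizer (W : Set G) := by
    intro k hk
    refine Fusion.conjBy_eq_iff.1 (Fusion.conjBy_eq_of_le ?_)
    conv_lhs => rw [hW]
    rw [Fusion.conjBy, MonoidHom.map_closure, closure_le]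
    rintro _ ⟨v, hv, rfl⟩
    obtain ⟨x, hx, hv'⟩ := Set.mem_iUnion₂.1 hv
    exact hk x hx (Subgroup.mem_map_of_mem _ hv')
  refine ⟨fun k hk => hnorm k fun x hx => ?_, ?_⟩
  · rw [Fusion.conjBy_conjBy]; exact hgen _ (mul_mem hk hx)
  intro A hA n hn hnA
  suffices key : ∀ s : Finset (normalizer (Q : Set G)), ∃ h ∈ N,
      (∀ a ∈ A, h * a * h⁻¹ = n * a * n⁻¹) ∧
        ∀ x ∈ s, Fusion.conjBy h (Fusion.conjBy (x : G) V) = Fusion.conjBy (x : G) V by
    haveI := Fintype.ofFinite (normalizer (Q : Set G))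
    obtain ⟨h, hhN, e, hfix⟩ := key Finset.univ
    exact ⟨h, ⟨hhN, hnorm h fun x hx => by
      rw [hfix ⟨x, hx⟩ (Finset.mem_univ _)]; exact hgen x hx⟩, e⟩
  intro s
  induction s using Finset.induction with
  | empty => exact ⟨n, hn, fun a _ => rfl, by simp⟩
  | @insert x s _ ihs =>
    obtain ⟨h0, hh0, e, hfix⟩ := ihs
    set A1 := A ⊔ ⨆ y ∈ s, Fusion.conjBy (y : G) V with hA1
    have hA1Q : A1 ≤ Q := sup_le hA (iSup₂_le fun y _ => hVQ y y.2)
    have hh0A1 : Fusion.conjBy h0 A1 ≤ Q := by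
      rw [Fusion.conjBy_le_iff]
      refine fun z hz => (?_ : A1 ≤ Q.comap (MulAut.conj h0).toMonoidHom) hz
      refine sup_le (fun a ha => ?_) (iSup₂_le fun y hy => ?_)
      · show h0 * a * h0⁻¹ ∈ Q
        rw [e a ha]; exact hnA (Fusion.conj_mem_conjBy ha)
      · rw [← Subgroup.map_le_iff_le_comap]
        exact (hfix y hy).le.trans (hVQ y y.2)
    have hxQ : ((x : G))⁻¹ ∈ normalizer (Q : Set G) := inv_mem x.2
    obtain ⟨h, hh, c, hc, hn'⟩ := hctrl (Fusion.conjBy (x : G)⁻¹ A1)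
      ((Fusion.conjBy_mono hA1Q).trans (Fusion.conjBy_eq_iff.2 hxQ).le) ((x : G)⁻¹ * h0 * x)
      (by simpa using Normal.conj_mem (inferInstance : N.Normal) h0 hh0 (x : G)⁻¹)
      (by
        rw [Fusion.conjBy_conjBy, mul_assoc, mul_inv_cancel, mul_one, ← Fusion.conjBy_conjBy]
        exact (Fusion.conjBy_mono hh0A1).trans (Fusion.conjBy_eq_iff.2 hxQ).le)
    set h' := (x : G) * h * (x : G)⁻¹ with hh'
    have hc' : ∀ a ∈ A1, h' * a * h'⁻¹ = h0 * a * h0⁻¹ := by
      intro a ha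
      have h1 := mem_centralizer_iff'.1 hc.2 _ (Fusion.conj_mem_conjBy (g := (x : G)⁻¹) ha)
      have h2 : h0 = (x : G) * (h * c) * (x : G)⁻¹ := by rw [← hn']; group
      rw [h2, show (x : G) * (h * c) * (x : G)⁻¹ * a * ((x : G) * (h * c) * (x : G)⁻¹)⁻¹
        = (x : G) * (h * (c * ((x : G)⁻¹ * a * (x : G)⁻¹⁻¹) * c⁻¹) * h⁻¹) * (x : G)⁻¹ by group, h1,
        hh']
      group
    refine ⟨h', Normal.conj_mem inferInstance h hh.1 _, fun a ha => ?_, fun y hy => ?_⟩
    · rw [hc' a (mem_sup_left ha), e a ha]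
    · rcases Finset.mem_insert.1 hy with rfl | hy
      · rw [hh', Fusion.conjBy_conjBy, inv_mul_cancel_right, ← Fusion.conjBy_conjBy,
          Fusion.conjBy_eq_iff.2 hh.2]
      · refine Fusion.conjBy_eq_of_le (Fusion.conjBy_le_iff.2 fun z hz => ?_)
        rw [hc' z (mem_sup_right (Subgroup.mem_iSup_of_mem y (Subgroup.mem_iSup_of_mem hy hz)))]
        exact (hfix y hy).le (Fusion.conj_mem_conjBy hz)

end CfsgLib.Coprime.ControlLift
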