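import Cfsg.Agent.Lib.Coprime.Action

/-!
# Invariant complements under a coprime action
-/

set_option autoImplicit false
set_option linter.style.haveILetI false

open Subgroup

namespace CfsgLib.Coprime

universe u

variable {G : Type u} [Group G] [Finite G]

/-- Maschke's averaging: an invariant subgroup with a complement has an invariant complement. -/
theorem exists_averaged_complement {V A U W : Subgroup G} (hVab : IsMulCommutative V)
    (hAV : A ≤ normalizer (V : Set G)) (hcop : (Nat.card A).Coprime (Nat.card V)) (hUV : U ≤ V)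
    (hAU : A ≤ normalizer (U : Set G)) (hWV : W ≤ V) (hUW : U ⊓ W = ⊥) (hUWV : U ⊔ W = V) :
    ∃ W' : Subgroup G, W' ≤ V ∧ A ≤ normalizer (W' : Set G) ∧ U ⊓ W' = ⊥ ∧ U ⊔ W' = V := by
  classical
  haveI := Fintype.ofFinite A
  letI : CommGroup V := { (inferInstance : Group V) with mul_comm := isMulCommutative_iff.1 hVab }
  set U' := U.subgroupOf V
  set W₀ := W.subgroupOf V
  have hdis : U' ⊓ W₀ = ⊥ := (Subgroup.eq_bot_iff_forall _).2 fun x hx =>
    Subtype.ext (mem_bot.1 (hUW ▸ mem_inf.2 ⟨hx.1, hx.2⟩))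
  have hdec : ∀ v : V, ∃ u ∈ U', u⁻¹ * v ∈ W₀ := fun v => by
    obtain ⟨u, hu, w, hw, e⟩ := mem_sup.1 (show v ∈ U' ⊔ W₀ by
      rw [show U' ⊔ W₀ = (U ⊔ W).subgroupOf V from (subgroupOf_sup hUV hWV).symm, hUWV,
        subgroupOf_self]
      exact mem_top v)
    exact ⟨u, hu, by rwa [← e, inv_mul_cancel_left]⟩
  choose π hπU hπW using hdec
  have huniq : ∀ v u, u ∈ U' → u⁻¹ * v ∈ W₀ → π v = u := fun v u hu hw => by
    have h1 : u⁻¹ * π v ∈ U' ⊓ W₀ := ⟨U'.mul_mem (U'.inv_mem hu) (hπU v), by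
      rw [show u⁻¹ * π v = u⁻¹ * v * ((π v)⁻¹ * v)⁻¹ by group]
      exact W₀.mul_mem hw (W₀.inv_mem (hπW v))⟩
    rw [hdis, mem_bot, inv_mul_eq_one] at h1
    exact h1.symm
  have hπm : ∀ v w, π (v * w) = π v * π w := fun v w => huniq _ _ (mul_mem (hπU v) (hπU w)) (by
    rw [mul_inv, mul_mul_mul_comm]
    exact mul_mem (hπW v) (hπW w))
  let cj : A → V → V := fun a v =>
    ⟨(a : G) * v * (a : G)⁻¹, (mem_normalizer_iff.1 (hAV a.2) v).1 v.2⟩
  have hcjm : ∀ a v w, cj a (v * w) = cj a v * cj a w := fun a v w => Subtype.ext (by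
    show (a : G) * (v * w : G) * (a : G)⁻¹ = (a : G) * v * (a : G)⁻¹ * ((a : G) * w * (a : G)⁻¹)
    group)
  have hcc : ∀ a b v, cj a (cj b v) = cj (a * b) v := fun a b v => Subtype.ext (by
    show (a : G) * ((b : G) * v * (b : G)⁻¹) * (a : G)⁻¹ = (a * b : G) * v * (a * b : G)⁻¹
    group)
  have hcU : ∀ a, ∀ v ∈ U', cj a v ∈ U' := fun a v hv => (mem_normalizer_iff.1 (hAU a.2) _).1 hv
  let φ : V →* V := MonoidHom.mk' (fun v => ∏ a : A, cj a (π (cj a⁻¹ v))) fun v w => by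
    rw [← Finset.prod_mul_distrib]
    exact Finset.prod_congr rfl fun a _ => by rw [hcjm, hπm, hcjm]
  have hφU : ∀ v, φ v ∈ U' := fun v => prod_mem fun a _ => hcU a _ (hπU _)
  have hone : ∀ v, cj 1 v = v := fun v => Subtype.ext (by
    show ((1 : A) : G) * v * ((1 : A) : G)⁻¹ = v
    simp)
  have hφid : ∀ u ∈ U', φ u = u ^ Nat.card A := fun u hu => by
    show (∏ a : A, cj a (π (cj a⁻¹ u))) = _
    rw [Finset.prod_eq_pow_card (b := u), Finset.card_univ, ← Nat.card_eq_fintype_card]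
    intro a _
    rw [huniq _ _ (hcU a⁻¹ u hu) (by rw [inv_mul_cancel]; exact one_mem _), hcc, mul_inv_cancel, hone]
  have heq : ∀ b v, φ (cj b v) = cj b (φ v) := fun b v => by
    show (∏ a : A, cj a (π (cj a⁻¹ (cj b v)))) = cj b (∏ a : A, cj a (π (cj a⁻¹ v)))
    rw [show cj b (∏ a : A, cj a (π (cj a⁻¹ v))) = ∏ a : A, cj b (cj a (π (cj a⁻¹ v))) from
      map_prod (MonoidHom.mk' (cj b) (hcjm b)) _ _]
    refine (Fintype.prod_equiv (Equiv.mulLeft b) _ _ fun a => ?_).symm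
    rw [hcc, hcc, Equiv.coe_mulLeft, mul_inv_rev, mul_assoc, inv_mul_cancel, mul_one]
  have hcop' : (Nat.card V).Coprime (Nat.card A) := hcop.symm
  refine ⟨φ.ker.map V.subtype, map_subtype_le _, fun b hb => ?_, ?_, ?_⟩
  · refine mem_normalizer_fintype ?_
    rintro _ ⟨v, hv, rfl⟩
    refine ⟨cj ⟨b, hb⟩ v, ?_, rfl⟩
    show φ _ = 1
    rw [heq, show φ v = 1 from hv]
    exact Subtype.ext (by show b * ((1 : V) : G) * b⁻¹ = ((1 : V) : G); simp)
  · refine (Subgroup.eq_bot_iff_forall _).2 ?_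
    rintro x ⟨hxU, v, hv, rfl⟩
    have h1 := hφid v hxU
    rw [show φ v = 1 from hv] at h1
    rw [show v = 1 from (powCoprime hcop').injective (by
      show v ^ Nat.card A = (1 : V) ^ Nat.card A
      rw [one_pow, ← h1])]
    rfl
  · refine le_antisymm (sup_le hUV (map_subtype_le _)) fun x hx => ?_
    obtain ⟨u₀, hu₀⟩ := (powCoprime ((Nat.Coprime.coprime_dvd_left (card_subgroup_dvd_card U')
      hcop'))).surjective ⟨φ ⟨x, hx⟩, hφU _⟩
    have h2 : φ (u₀ : V) = φ ⟨x, hx⟩ := by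
      rw [hφid _ u₀.2]
      exact congrArg Subtype.val hu₀
    rw [show x = ((u₀ : V) : G) * (((u₀ : V) : G)⁻¹ * x) by group]
    exact mul_mem_sup u₀.2 ⟨(u₀ : V)⁻¹ * ⟨x, hx⟩, by
      show φ _ = 1
      rw [map_mul, map_inv, h2, inv_mul_cancel], rfl⟩

end CfsgLib.Coprime
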