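import Cfsg.Prelude.Def_Solvable
import Cfsg.Agent.Lib.Coprime.Core

/-!
# The `p'`-core of the centraliser of an outer automorphism of prime order

If the fixed points contain a simple normal subgroup `N` whose centraliser among the automorphisms commuting with `x`
is `⟨x⟩`, the core is non-trivial exactly when `p` does not divide the number of fixed points.
-/

set_option autoImplicit false

namespace CfsgLib.BalanceCore

theorem core_ne_bot_iff {K : Type*} [Group K] [Finite K] (hinj : Function.Injective (MulAut.conj : K →* MulAut K))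
    (A : Subgroup (MulAut K)) (hinn : ∀ k : K, MulAut.conj k ∈ A) {p : ℕ} [Fact p.Prime] (x : MulAut K)
    (hx : orderOf x = p) (hout : ∀ k : K, MulAut.conj k ≠ x) (N : Subgroup K) [IsSimpleGroup N]
    (hfix : ∀ n ∈ N, x n = n) (hnorm : ∀ k : K, x k = k → ∀ n ∈ N, k * n * k⁻¹ ∈ N)
    (hcent : ∀ a : MulAut K, a * x = x * a → (∀ n ∈ N, a n = n) → a ∈ Subgroup.zpowers x)
    (hidx : p ∣ Nat.card ↥(MonoidHom.eqLocus x.toMonoidHom (MonoidHom.id K)) → p ∣ Nat.card N) :
    Cfsg.pPrimeCore p ↥(A ⊓ Subgroup.centralizer {x}) ≠ ⊥ ↔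
      Nat.Coprime p (Nat.card ↥(MonoidHom.eqLocus x.toMonoidHom (MonoidHom.id K))) := by
  classical
  have hp := (Fact.out : p.Prime)
  haveI : Finite (MulAut K) := Finite.of_injective (fun e => (e : K → K)) DFunLike.coe_injective
  set C := A ⊓ Subgroup.centralizer {x} with hC
  set H := MonoidHom.eqLocus x.toMonoidHom (MonoidHom.id K) with hH
  have hmem : ∀ k, k ∈ H ↔ x k = k := fun k => Iff.rfl
  have hcomm : ∀ c : MulAut K, c ∈ C → c * x = x * c := fun c hc =>
    (Subgroup.mem_centralizer_iff.1 hc.2 x rfl).symm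
  have hconj : ∀ (a : MulAut K) (k : K), a * MulAut.conj k * a⁻¹ = MulAut.conj (a k) := fun a k =>
    MulEquiv.ext fun y => by simp [MulAut.mul_apply, MulAut.conj_apply]
  have hHC : ∀ k ∈ H, MulAut.conj k ∈ C := fun k hk => ⟨hinn k, fun z hz => by
    rw [Set.mem_singleton_iff.1 hz]
    conv_rhs => rw [← (hmem k).1 hk, ← hconj]
    group⟩
  have hCH : ∀ c ∈ C, ∀ k ∈ H, c k ∈ H := fun c hc k hk => by
    rw [hmem, ← MulAut.mul_apply, ← hcomm c hc, MulAut.mul_apply, (hmem k).1 hk]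
  let f : ↥H →* ↥C :=
    { toFun := fun k => ⟨MulAut.conj k.1, hHC k.1 k.2⟩
      map_one' := Subtype.ext (map_one _)
      map_mul' := fun a b => Subtype.ext (map_mul MulAut.conj a.1 b.1) }
  have hf : Function.Injective f := fun a b h => Subtype.ext (hinj (congrArg Subtype.val h))
  have hfc : ∀ (c : ↥C) (k : ↥H), c * f k * c⁻¹ = f ⟨c.1 k.1, hCH c.1 c.2 k.1 k.2⟩ := fun c k =>
    Subtype.ext (hconj c.1 k.1)
  constructor
  swap
  · intro hco hbot
    haveI : f.range.Normal := ⟨by rintro _ ⟨k, rfl⟩ c; exact ⟨_, (hfc c k).symm⟩⟩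
    have h1 := CfsgLib.Coprime.le_pPrimeCore (p := p) (N := f.range)
      (Nat.Coprime.coprime_dvd_left (Subgroup.card_range_dvd f) hco.symm)
    rw [hbot, le_bot_iff, MonoidHom.range_eq_bot_iff] at h1
    obtain ⟨n, hn⟩ := exists_ne (1 : ↥N)
    have h2 : (⟨n.1, (hmem _).2 (hfix n.1 n.2)⟩ : ↥H) = 1 := hf (by rw [map_one, h1]; rfl)
    exact hn (Subtype.ext (congrArg (fun z : ↥H => (z : K)) h2))
  intro hX
  by_contra hco
  rw [hp.coprime_iff_not_dvd, not_not] at hco
  haveI : (Cfsg.pPrimeCore p ↥C).Normal := by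
    haveI := CfsgLib.Coprime.pPrimeCore_characteristic (G := ↥C) p
    infer_instance
  set X := Cfsg.pPrimeCore p ↥C
  have hXp : ¬ p ∣ Nat.card X := CfsgLib.Coprime.pPrimeCore_not_dvd hp
  -- the inner part of the core is trivial
  have hY : ∀ k : ↥H, f k ∈ X → k = 1 := by
    intro k hk
    obtain ⟨Z, hZ⟩ : ∃ Z : Subgroup ↥N, Z = (X.comap f).comap (Subgroup.inclusion
        (show N ≤ H from fun n hn => (hmem n).2 (hfix n hn))) := ⟨_, rfl⟩
    haveI : Z.Normal := hZ ▸ (Subgroup.Normal.comap (Subgroup.Normal.comap ‹X.Normal› f) _)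
    rcases IsSimpleGroup.eq_bot_or_eq_top_of_normal Z ‹_› with h | h
    · have hkN : ∀ n ∈ N, MulAut.conj (k : K) n = n := by
        intro n hn
        obtain ⟨n', hn'⟩ : ∃ n' : ↥H, n' = ⟨n, (hmem n).2 (hfix n hn)⟩ := ⟨_, rfl⟩
        have h1 : f (k * n' * k⁻¹ * n'⁻¹) ∈ X := by
          rw [show k * n' * k⁻¹ * n'⁻¹ = k * (n' * k⁻¹ * n'⁻¹) by group, map_mul, map_mul, map_mul, map_inv, map_inv]
          exact mul_mem hk (‹X.Normal›.conj_mem _ (inv_mem hk) _)
        have h2 : (k : K) * n * (k : K)⁻¹ * n⁻¹ ∈ N :=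
          mul_mem (hnorm _ ((hmem _).1 k.2) n hn) (inv_mem hn)
        have h3 : (⟨_, h2⟩ : ↥N) ∈ Z := by
          rw [hZ]
          refine (?_ : f _ ∈ X)
          convert h1 using 2
          rw [hn']; rfl
        rw [h, Subgroup.mem_bot] at h3
        simpa [MulAut.conj_apply, mul_inv_eq_one] using congrArg Subtype.val h3
      have h4 := hcent _ (hcomm _ (hHC k.1 k.2)) hkN
      by_contra hne
      have hne' : MulAut.conj (k : K) ≠ 1 := fun h5 => hne (Subtype.ext (hinj (h5.trans (map_one _).symm)))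
      haveI : Fact (Nat.card (Subgroup.zpowers x)).Prime := ⟨by rw [Nat.card_zpowers, hx]; exact hp⟩
      have h6 : x ∈ Subgroup.zpowers (MulAut.conj (k : K)) := by
        have := mem_zpowers_of_prime_card rfl (g := (⟨_, h4⟩ : Subgroup.zpowers x))
          (g' := ⟨x, Subgroup.mem_zpowers x⟩) (fun h7 => hne' (congrArg Subtype.val h7))
        obtain ⟨i, hi⟩ := this
        exact ⟨i, by simpa using congrArg Subtype.val hi⟩
      obtain ⟨i, hi⟩ := h6
      exact hout ((k : K) ^ i) (by rw [map_zpow]; exact hi)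
    · refine absurd ((hidx hco).trans ?_) hXp
      have h5 : ∀ n : ↥N, f (Subgroup.inclusion (fun n hn => (hmem n).2 (hfix n hn)) n) ∈ X := fun n => by
        have := Subgroup.mem_top n
        rw [← h, hZ] at this
        exact this
      exact Subgroup.card_dvd_of_injective ((f.comp (Subgroup.inclusion _)).codRestrict X h5)
        fun a b hab => Subgroup.inclusion_injective _ (hf (congrArg Subtype.val hab))
  refine hX ((Subgroup.eq_bot_iff_forall _).2 fun ξ hξ => ?_)
  have hfixN : ∀ n ∈ N, (ξ : MulAut K) n = n := by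
    intro n hn
    obtain ⟨n', hn'⟩ : ∃ n' : ↥H, n' = ⟨n, (hmem n).2 (hfix n hn)⟩ := ⟨_, rfl⟩
    have h1 : f (⟨_, hCH ξ.1 ξ.2 n'.1 n'.2⟩ * n'⁻¹) ∈ X := by
      rw [map_mul, map_inv, ← hfc]
      rw [show ξ * f n' * ξ⁻¹ * (f n')⁻¹ = ξ * (f n' * ξ⁻¹ * (f n')⁻¹) by group]
      exact mul_mem hξ (‹X.Normal›.conj_mem _ (inv_mem hξ) _)
    have h2 := congrArg Subtype.val (hY _ h1)
    simpa [hn', mul_inv_eq_one] using h2
  have h1 := hcent _ (hcomm _ ξ.2) hfixN
  have h2 : orderOf (ξ : MulAut K) ∣ p := hx ▸ orderOf_dvd_of_mem_zpowers h1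
  rcases (Nat.dvd_prime hp).1 h2 with h3 | h3
  · exact Subtype.ext (orderOf_eq_one_iff.1 h3)
  · exfalso
    refine hXp (h3 ▸ ?_)
    rw [Subgroup.orderOf_coe]
    exact (Subgroup.orderOf_mk ξ hξ) ▸ orderOf_dvd_natCard (⟨ξ, hξ⟩ : ↥X)

end CfsgLib.BalanceCore
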