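import Cfsg.Agent.Lib.Coprime.Hyperplanes
import Cfsg.Agent.Lib.Coprime.Core
import Mathlib.GroupTheory.Solvable
import Mathlib.Tactic.Group

/-!
# Balanced families of subgroups of a solvable group acted on coprimely

An elementary abelian `p`-group `A` of order at least `p ^ (k + 2)` normalizes each member of a family
`Φ D ≤ C(D)`, indexed by the subgroups `D ≤ A` of order `p ^ k`, with `Φ D ∩ C(D') ≤ Φ D'`. If all
members lie in one solvable `p'`-group and generate it, then they are its fixed points of the `D`.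
-/

set_option autoImplicit false
set_option linter.style.haveILetI false
set_option linter.unusedSectionVars false

namespace CfsgLib.Coprime.BalFam

open Subgroup
open scoped commutatorElement

variable {G : Type*} [Group G] [Finite G] {p k : ℕ} [Fact p.Prime] {A : Subgroup G}

theorem exists_sub (hA : Cfsg.IsElementaryAbelian p A) {H : Subgroup G} (hH : H ≤ A)
    (hc : p ^ k ≤ Nat.card H) :
    ∃ D : {D : Subgroup G // D ≤ A ∧ Nat.card ↥D = p ^ k}, (D : Subgroup G) ≤ H := by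
  obtain ⟨n, hn⟩ := IsPGroup.iff_card.1
    (fun x : H => ⟨1, Subtype.ext (by simpa using hA.2 x (hH x.2))⟩ : IsPGroup p H)
  obtain ⟨B₀, hB₀⟩ := Sylow.exists_subgroup_card_pow_prime p (G := H) (n := k) (by
    rw [hn] at hc ⊢
    exact pow_dvd_pow p ((Nat.pow_le_pow_iff_right (Fact.out : p.Prime).one_lt).1 hc))
  refine ⟨⟨B₀.map H.subtype, (map_subtype_le _).trans hH, ?_⟩, map_subtype_le _⟩
  rw [Subgroup.card_map_of_injective H.subtype_injective, hB₀]

theorem card_hyperplane (hAk : p ^ (k + 2) ≤ Nat.card A) {E : Subgroup G} (hE : E ≤ A)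
    (hi : E.relIndex A = p) : p ^ (k + 1) ≤ Nat.card E := by
  have h1 : Nat.card E * p = Nat.card A := by
    rw [← hi, ← Subgroup.relIndex_bot_left (H := E), ← Subgroup.relIndex_bot_left (H := A)]
    exact Subgroup.relIndex_mul_relIndex ⊥ E A bot_le hE
  refine Nat.le_of_mul_le_mul_right ?_ (Fact.out : p.Prime).pos
  rw [h1, ← pow_succ]
  exact hAk

theorem card_inf_hyperplanes (hAk : p ^ (k + 2) ≤ Nat.card A) {E E' : Subgroup G} (hE : E ≤ A)
    (hi : E.relIndex A = p) (hi' : E'.relIndex A = p) : p ^ k ≤ Nat.card ↥(E ⊓ E') := by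
  have h1 : Nat.card ↥(E ⊓ E') * (E ⊓ E').relIndex A = Nat.card A := by
    rw [← Subgroup.relIndex_bot_left (H := E ⊓ E'), ← Subgroup.relIndex_bot_left (H := A)]
    exact Subgroup.relIndex_mul_relIndex ⊥ (E ⊓ E') A bot_le (inf_le_left.trans hE)
  have h2 : (E ⊓ E').relIndex A ≤ p * p := by
    have := Subgroup.relIndex_inf_le (H := E) (K := E') (L := A)
    rwa [hi, hi'] at this
  refine Nat.le_of_mul_le_mul_right ?_
    (Nat.mul_pos (Fact.out : p.Prime).pos (Fact.out : p.Prime).pos)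
  calc p ^ k * (p * p) = p ^ (k + 2) := by ring
    _ ≤ Nat.card A := hAk
    _ = Nat.card ↥(E ⊓ E') * (E ⊓ E').relIndex A := h1.symm
    _ ≤ Nat.card ↥(E ⊓ E') * (p * p) := Nat.mul_le_mul_left _ h2

/-- The elements normalizing `N` that commute with `y` modulo `N`. -/
def commMod (N : Subgroup G) (y : G) : Subgroup G where
  carrier := {x | x ∈ normalizer (N : Set G) ∧ ⁅x, y⁆ ∈ N}
  one_mem' := ⟨one_mem _, by rw [commutatorElement_one_left]; exact N.one_mem⟩
  mul_mem' := by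
    rintro x z ⟨hx, hx'⟩ ⟨hz, hz'⟩
    refine ⟨mul_mem hx hz, ?_⟩
    rw [show ⁅x * z, y⁆ = x * ⁅z, y⁆ * x⁻¹ * ⁅x, y⁆ by simp only [commutatorElement_def]; group]
    exact N.mul_mem ((mem_normalizer_iff.1 hx _).1 hz') hx'
  inv_mem' := by
    rintro x ⟨hx, hx'⟩
    refine ⟨inv_mem hx, ?_⟩
    rw [show ⁅x⁻¹, y⁆ = x⁻¹ * ⁅x, y⁆⁻¹ * x by simp only [commutatorElement_def]; group]
    exact (mem_normalizer_iff''.1 hx _).1 (N.inv_mem hx')

theorem comm_mem_symm {N : Subgroup G} {x y : G} (h : ⁅x, y⁆ ∈ N) : ⁅y, x⁆ ∈ N := by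
  rw [← commutatorElement_inv]
  exact N.inv_mem h

theorem mem_normalizer_of_conj {T : Subgroup G} {x : G} (h : ∀ y ∈ T, x * y * x⁻¹ ∈ T) :
    x ∈ normalizer (T : Set G) := by
  rw [← conjBy_eq_self_iff]
  refine Subgroup.eq_of_le_of_card_ge ?_
    (Subgroup.card_map_of_injective (MulEquiv.injective (MulAut.conj x))).ge
  rintro _ ⟨y, hy, rfl⟩
  exact h y hy

variable (A)

/-- The generators of the part of `V` visible in the family `Ψ`, modulo `N`. -/
def gens (N V : Subgroup G) (Ψ : {D : Subgroup G // D ≤ A ∧ Nat.card ↥D = p ^ k} → Subgroup G) :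
    Set G :=
  {x | x ∈ N ∨ ∃ D, x ∈ V ⊓ Ψ D}

variable {A}
variable {W N : Subgroup G} {Ψ : {D : Subgroup G // D ≤ A ∧ Nat.card ↥D = p ^ k} → Subgroup G}

/-- The averaging step. -/
theorem inf_centralizer_le_of_comm (hA : Cfsg.IsElementaryAbelian p A) (hpW : ¬ p ∣ Nat.card W)
    {T V : Subgroup G} (hTW : T ≤ W) (hTN : T ≤ normalizer (N : Set G))
    (hAN : A ≤ normalizer (N : Set G)) (hAT : A ≤ normalizer (T : Set G))
    (hAV : A ≤ normalizer (V : Set G)) (hAΨ : ∀ D, A ≤ normalizer (Ψ D : Set G))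
    (hNΨ : ∀ D, N ≤ Ψ D) (hbal : ∀ D D' : {D : Subgroup G // D ≤ A ∧ Nat.card ↥D = p ^ k},
      Ψ D ⊓ centralizer ((D' : Subgroup G) : Set G) ≤ Ψ D')
    (hT : T = closure (gens A N V Ψ)) (hcomm : ∀ x ∈ T, ∀ y ∈ T, ⁅x, y⁆ ∈ N)
    (D : {D : Subgroup G // D ≤ A ∧ Nat.card ↥D = p ^ k}) :
    T ⊓ centralizer ((D : Subgroup G) : Set G) ≤ Ψ D := by
  classical
  have hp : p.Prime := Fact.out
  have hNT : N ≤ T := fun x hx => hT ▸ subset_closure (Or.inl hx)
  haveI hN' : (N.subgroupOf T).Normal := (normal_subgroupOf_iff_le_normalizer hNT).2 hTN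
  letI : CommGroup (T ⧸ N.subgroupOf T) :=
    { (inferInstance : Group (T ⧸ N.subgroupOf T)) with
      mul_comm := fun a b => by
        obtain ⟨x, rfl⟩ := QuotientGroup.mk'_surjective _ a
        obtain ⟨y, rfl⟩ := QuotientGroup.mk'_surjective _ b
        rw [← map_mul, ← map_mul]
        refine (QuotientGroup.eq_iff_div_mem.2 (mem_subgroupOf.2 ?_))
        have h := hcomm x x.2 y y.2
        rw [commutatorElement_def] at h
        simpa [div_eq_mul_inv, mul_assoc] using h }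
  haveI : Fintype (D : Subgroup G) := Fintype.ofFinite _
  set q := QuotientGroup.mk' (N.subgroupOf T) with hq
  let σ : ↥(D : Subgroup G) → (T →* T) := fun d =>
    ((MulAut.conj (d : G)).toMonoidHom.comp T.subtype).codRestrict T fun t =>
      (mem_normalizer_iff.1 (hAT (D.2.1 d.2)) _).1 t.2
  let ψ : ↥(D : Subgroup G) → (T →* T ⧸ N.subgroupOf T) := fun d => q.comp (σ d)
  have hker : ∀ d, N.subgroupOf T ≤ (ψ d).ker := fun d n hn =>
    MonoidHom.mem_ker.2 ((QuotientGroup.eq_one_iff _).2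
      (mem_subgroupOf.2 ((mem_normalizer_iff.1 (hAN (D.2.1 d.2)) _).1 (mem_subgroupOf.1 hn))))
  let P : T →* T ⧸ N.subgroupOf T := ∏ d, ψ d
  have hP : ∀ t, P t = ∏ d, ψ d t := fun t => MonoidHom.finsetProd_apply _ _ _
  have hσσ : ∀ d e t, σ e (σ d t) = σ (e * d) t := fun d e t => Subtype.ext (by
    show (e : G) * ((d : G) * t * (d : G)⁻¹) * (e : G)⁻¹ = ((e * d : (D : Subgroup G)) : G) * t *
      ((e * d : (D : Subgroup G)) : G)⁻¹
    rw [Subgroup.coe_mul]
    group)
  have hPfix : ∀ e t, QuotientGroup.lift _ (ψ e) (hker e) (P t) = P t := by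
    intro e t
    rw [hP, map_prod]
    refine Fintype.prod_equiv (Equiv.mulLeft e) _ _ fun d => ?_
    show q (σ e (σ d t)) = q (σ (e * d) t)
    rw [hσσ]
  set Img := ((Ψ D).subgroupOf T).map q with hImg
  have key : T ≤ (Img.comap P).map T.subtype := by
    conv_lhs => rw [hT]
    refine (closure_le _).2 ?_
    intro x hx
    have hxT : x ∈ T := hT ▸ subset_closure hx
    refine ⟨⟨x, hxT⟩, ?_, rfl⟩
    show P ⟨x, hxT⟩ ∈ Img
    rcases hx with hx | ⟨D', hx⟩
    · have h1 : P ⟨x, hxT⟩ = 1 := by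
        rw [hP]
        exact Finset.prod_eq_one fun d _ => hker d (mem_subgroupOf.2 hx)
      rw [h1]
      exact Img.one_mem
    · have hVT : V ⊓ Ψ D' ≤ T := fun y hy => hT ▸ subset_closure (Or.inr ⟨D', hy⟩)
      have hinv : A ≤ normalizer ((V ⊓ Ψ D' : Subgroup G) : Set G) :=
        CfsgLib.Coprime.inf_le_normalizer hAV (hAΨ D')
      have hM : P ⟨x, hxT⟩ ∈ ((V ⊓ Ψ D').subgroupOf T).map q := by
        rw [hP]
        exact Subgroup.prod_mem _ fun d _ => mem_map_of_mem q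
          (mem_subgroupOf.2 ((mem_normalizer_iff.1 (hinv (D.2.1 d.2)) x).1 hx))
      obtain ⟨w, hw, hwP⟩ := hM
      have hfix : ∀ e ∈ (D : Subgroup G), e * (w : G) * e⁻¹ * (w : G)⁻¹ ∈ N := by
        intro e he
        have h := hPfix ⟨e, he⟩ ⟨x, hxT⟩
        rw [← hwP] at h
        have h2 := mem_subgroupOf.1 (QuotientGroup.eq_iff_div_mem.1
          (show (σ ⟨e, he⟩ w : T ⧸ N.subgroupOf T) = (w : T ⧸ N.subgroupOf T) from h))
        rw [div_eq_mul_inv, Subgroup.coe_mul, Subgroup.coe_inv] at h2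
        exact h2
      have hcop : (Nat.card (D : Subgroup G)).Coprime (Nat.card N) := by
        rw [D.2.2]
        exact Nat.Coprime.pow_left _ (hp.coprime_iff_not_dvd.2 fun h =>
          hpW (h.trans (card_dvd_of_le (hNT.trans hTW))))
      haveI := hA.1
      have hsol : Group.IsSolvable (D : Subgroup G) :=
        CfsgLib.Coprime.isSolvable_of_le D.2.1 (CfsgLib.Coprime.isSolvable_of_isMulCommutative hA.1)
      obtain ⟨n, hn, hwn⟩ := CfsgLib.Coprime.exists_fixed_in_coset (D.2.1.trans hAN) hcop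
        (Or.inl hsol) (hTN w.2) hfix
      have hmem : (w : G) * n ∈ Ψ D :=
        hbal D' D ⟨(Ψ D').mul_mem (mem_subgroupOf.1 hw).2 (hNΨ D' hn), hwn⟩
      have hwΨ : (w : G) ∈ Ψ D := by
        have := (Ψ D).mul_mem hmem ((Ψ D).inv_mem (hNΨ D hn))
        rwa [mul_inv_cancel_right] at this
      rw [← hwP]
      exact mem_map_of_mem q (mem_subgroupOf.2 hwΨ)
  intro u hu
  obtain ⟨u', hu', rfl⟩ := key hu.1
  have hconst : ∀ d, ψ d u' = q u' := fun d => congrArg q (Subtype.ext (by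
    show (d : G) * u' * (d : G)⁻¹ = u'
    rw [mul_inv_eq_iff_eq_mul]
    exact mem_centralizer_iff.1 hu.2 d d.2))
  have hPu : P u' = q (u' ^ Nat.card (D : Subgroup G)) := by
    rw [hP, map_pow, Finset.prod_congr rfl fun d _ => hconst d, Finset.prod_const, Finset.card_univ,
      Nat.card_eq_fintype_card]
  obtain ⟨w, hw, hwe⟩ := (show P u' ∈ Img from hu')
  rw [hPu] at hwe
  have h2 := mem_subgroupOf.1 (QuotientGroup.eq_iff_div_mem.1
    (show ((u' ^ Nat.card (D : Subgroup G) : T) : T ⧸ N.subgroupOf T) = (w : T ⧸ N.subgroupOf T)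
      from hwe.symm))
  rw [div_eq_mul_inv, Subgroup.coe_mul, Subgroup.coe_inv, Subgroup.coe_pow] at h2
  have h3 : (u' : G) ^ Nat.card (D : Subgroup G) ∈ Ψ D := by
    have := (Ψ D).mul_mem (hNΨ D h2) (mem_subgroupOf.1 hw)
    rwa [inv_mul_cancel_right] at this
  obtain ⟨m, hm⟩ := exists_pow_eq_self_of_coprime (x := (u' : G))
    (n := Nat.card (D : Subgroup G)) (by
      rw [D.2.2]
      exact Nat.Coprime.pow_left _ (hp.coprime_iff_not_dvd.2 fun h =>
        hpW (h.trans (orderOf_dvd_natCard W (hTW u'.2)))))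
  show (u' : G) ∈ Ψ D
  rw [← hm]
  exact pow_mem h3 m

/-- The members of a balanced family generating a solvable `p'`-group are its fixed points. -/
theorem sup_inf_centralizer_le (hA : Cfsg.IsElementaryAbelian p A)
    (hAk : p ^ (k + 2) ≤ Nat.card A)
    (Φ : {D : Subgroup G // D ≤ A ∧ Nat.card ↥D = p ^ k} → Subgroup G)
    (hΦC : ∀ D : {D : Subgroup G // D ≤ A ∧ Nat.card ↥D = p ^ k},
      Φ D ≤ centralizer ((D : Subgroup G) : Set G))
    (hAΦ : ∀ D, A ≤ normalizer (Φ D : Set G))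
    (hbal : ∀ D D' : {D : Subgroup G // D ≤ A ∧ Nat.card ↥D = p ^ k},
      Φ D ⊓ centralizer ((D' : Subgroup G) : Set G) ≤ Φ D')
    (hW : W = ⨆ D, Φ D) (hsol : Group.IsSolvable W) (hpW : ¬ p ∣ Nat.card W)
    (D : {D : Subgroup G // D ≤ A ∧ Nat.card ↥D = p ^ k}) :
    W ⊓ centralizer ((D : Subgroup G) : Set G) ≤ Φ D := by
  classical
  have hp : p.Prime := Fact.out
  have hΦW : ∀ D, Φ D ≤ W := fun D => hW ▸ le_iSup Φ D
  have hAW : A ≤ normalizer (W : Set G) := by
    intro a ha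
    rw [← conjBy_eq_self_iff, hW, conjBy, Subgroup.map_iSup]
    exact iSup_congr fun D => conjBy_eq_self_iff.2 (hAΦ D ha)
  have hA2 : p ^ 2 ≤ Nat.card A := (Nat.pow_le_pow_right hp.pos (by omega)).trans hAk
  -- the derived series
  let d : ℕ → Subgroup G := fun i => (derivedSeries W i).map W.subtype
  have hd0 : d 0 = W := by
    show (derivedSeries W 0).map W.subtype = W
    rw [derivedSeries_zero, ← MonoidHom.range_eq_map, range_subtype]
  have hds : ∀ i, d (i + 1) = ⁅d i, d i⁆ := fun i => by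
    show (derivedSeries W (i + 1)).map W.subtype = _
    rw [derivedSeries_succ, map_commutator]
  have hdW : ∀ i, d i ≤ W := fun i => map_subtype_le _
  have hdn : ∀ i, ∀ g : G, g ∈ normalizer (W : Set G) → g ∈ normalizer (d i : Set G) := by
    intro i g hg
    induction i with
    | zero => rwa [hd0]
    | succ i ih =>
      rw [← conjBy_eq_self_iff, hds, conjBy, map_commutator]
      exact congrArg₂ _ (conjBy_eq_self_iff.2 ih) (conjBy_eq_self_iff.2 ih)
  obtain ⟨n₀, hn₀⟩ := (Group.isSolvable_def W).1 hsol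
  have hdbot : d n₀ = ⊥ := by
    show (derivedSeries W n₀).map W.subtype = ⊥
    rw [hn₀, Subgroup.map_bot]
  -- a normal subgroup above `N` that is abelian modulo `N`
  have hnext : ∀ N : Subgroup G, N < W → W ≤ normalizer (N : Set G) → A ≤ normalizer (N : Set G) →
      ∃ V : Subgroup G, N < V ∧ V ≤ W ∧ W ≤ normalizer (V : Set G) ∧ A ≤ normalizer (V : Set G) ∧
        ∀ x ∈ V, ∀ y ∈ V, ⁅x, y⁆ ∈ N := by
    intro N hN hWN hAN
    have hex : ∃ j, d j ≤ N := ⟨n₀, hdbot.le.trans bot_le⟩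
    obtain ⟨j, hj⟩ : ∃ j, Nat.find hex = j + 1 := by
      rcases h : Nat.find hex with _ | j
      · exact absurd (hd0 ▸ h ▸ Nat.find_spec hex) hN.not_ge
      · exact ⟨j, rfl⟩
    have hjnot : ¬ d j ≤ N := Nat.find_min hex (by omega)
    have hjs : ⁅d j, d j⁆ ≤ N := by
      rw [← hds]
      exact hj ▸ Nat.find_spec hex
    refine ⟨N ⊔ d j, left_lt_sup.2 hjnot, sup_le hN.le (hdW j),
      CfsgLib.Coprime.sup_le_normalizer hWN fun w hw => hdn j w (le_normalizer hw),
      CfsgLib.Coprime.sup_le_normalizer hAN fun a ha => hdn j a (hAW ha), ?_⟩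
    intro x hx y hy
    have hVN : N ⊔ d j ≤ normalizer (N : Set G) := sup_le le_normalizer ((hdW j).trans hWN)
    have hstep : ∀ y ∈ normalizer (N : Set G), (∀ z ∈ d j, ⁅z, y⁆ ∈ N) →
        N ⊔ d j ≤ commMod N y := by
      intro y hy h
      refine sup_le (fun z hz => ⟨le_normalizer hz, ?_⟩) fun z hz => ⟨hWN (hdW j hz), h z hz⟩
      rw [commutatorElement_def, show z * y * z⁻¹ * y⁻¹ = z * (y * z⁻¹ * y⁻¹) by group]
      exact N.mul_mem hz ((mem_normalizer_iff.1 hy _).1 (N.inv_mem hz))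
    have h1 : ∀ z ∈ d j, ⁅x, z⁆ ∈ N := fun z hz =>
      (hstep z (hWN (hdW j hz)) (fun z' hz' => hjs (commutator_mem_commutator hz' hz)) hx).2
    exact (hstep y (hVN hy) (fun z hz => comm_mem_symm
      ((hstep z (hWN (hdW j hz)) (fun z' hz' => hjs (commutator_mem_commutator hz' hz)) hy).2))
      hx).2
  suffices hmain : ∀ N : Subgroup G, N ≤ W → A ≤ normalizer (N : Set G) →
      W ≤ normalizer (N : Set G) → ∀ D : {D : Subgroup G // D ≤ A ∧ Nat.card ↥D = p ^ k},
        W ⊓ centralizer ((D : Subgroup G) : Set G) ≤ Φ D ⊔ N by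
    have h := hmain ⊥ bot_le (by rw [normalizer_eq_top]; exact le_top)
      (by rw [normalizer_eq_top]; exact le_top) D
    rwa [sup_bot_eq] at h
  clear D
  intro N
  induction N using WellFoundedGT.induction with
  | _ N ih =>
    intro hNW hAN hWN
    rcases eq_or_lt_of_le hNW with he | hlt
    · exact fun D => inf_le_left.trans (he.ge.trans le_sup_right)
    set Ψ : {D : Subgroup G // D ≤ A ∧ Nat.card ↥D = p ^ k} → Subgroup G := fun D => Φ D ⊔ N
      with hΨ
    have hΨW : ∀ D, Ψ D ≤ W := fun D => sup_le (hΦW D) hNW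
    have hAΨ : ∀ D, A ≤ normalizer (Ψ D : Set G) := fun D =>
      CfsgLib.Coprime.sup_le_normalizer (hAΦ D) hAN
    have hNΨ : ∀ D, N ≤ Ψ D := fun D => le_sup_right
    have hΨbal : ∀ D D' : {D : Subgroup G // D ≤ A ∧ Nat.card ↥D = p ^ k},
        Ψ D ⊓ centralizer ((D' : Subgroup G) : Set G) ≤ Ψ D' := by
      intro D D' x hx
      have hΦN : Φ D ≤ normalizer (N : Set G) := (hΦW D).trans hWN
      obtain ⟨n, hn, φ, hφ, rfl⟩ := CfsgLib.Coprime.mem_sup_exists hΦN
        ((sup_comm (Φ D) N).le hx.1)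
      have hD'A : (D' : Subgroup G) ≤ A := D'.2.1
      have hfix : ∀ a ∈ (D' : Subgroup G), a * φ * a⁻¹ * φ⁻¹ ∈ N ⊓ Φ D := by
        intro a ha
        refine ⟨?_, (Φ D).mul_mem ((mem_normalizer_iff.1 (hAΦ D (hD'A ha)) φ).1 hφ)
          ((Φ D).inv_mem hφ)⟩
        have hc : a * (n * φ) * a⁻¹ = n * φ := by
          rw [mul_inv_eq_iff_eq_mul]
          exact mem_centralizer_iff.1 hx.2 a ha
        have e : a * φ * a⁻¹ * φ⁻¹ = (a * n⁻¹ * a⁻¹) * n := by
          calc a * φ * a⁻¹ * φ⁻¹ = (a * n⁻¹ * a⁻¹) * (a * (n * φ) * a⁻¹) * φ⁻¹ := by group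
            _ = (a * n⁻¹ * a⁻¹) * n := by rw [hc]; group
        rw [e]
        exact N.mul_mem ((mem_normalizer_iff.1 (hAN (hD'A ha)) _).1 (N.inv_mem hn)) hn
      have hcop : (Nat.card (D' : Subgroup G)).Coprime (Nat.card ↥(N ⊓ Φ D)) := by
        rw [D'.2.2]
        exact Nat.Coprime.pow_left _ (hp.coprime_iff_not_dvd.2 fun h =>
          hpW (h.trans (card_dvd_of_le (inf_le_left.trans hNW))))
      have hsol' : Group.IsSolvable (D' : Subgroup G) :=
        CfsgLib.Coprime.isSolvable_of_le hD'A (CfsgLib.Coprime.isSolvable_of_isMulCommutative hA.1)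
      obtain ⟨m, hm, hfm⟩ := CfsgLib.Coprime.exists_fixed_in_coset
        (CfsgLib.Coprime.inf_le_normalizer (hD'A.trans hAN) (hD'A.trans (hAΦ D))) hcop
        (Or.inl hsol')
        (CfsgLib.Coprime.inf_le_normalizer (A := Φ D) hΦN le_normalizer hφ) hfix
      have h1 : φ * m ∈ Φ D' := hbal D D' ⟨(Φ D).mul_mem hφ hm.2, hfm⟩
      have h2 : φ ∈ Ψ D' := by
        have := (Ψ D').mul_mem (mem_sup_left h1) ((Ψ D').inv_mem (mem_sup_right hm.1))
        rwa [mul_inv_cancel_right] at this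
      exact (Ψ D').mul_mem (mem_sup_right hn) h2
    -- pieces of two members meet in a common member
    have hpair : ∀ {E E' : Subgroup G}, E ≤ A → E.relIndex A = p → E'.relIndex A = p →
        ∀ D₁ D₂, ∀ x ∈ Ψ D₁ ⊓ centralizer (E : Set G), ∀ y ∈ Ψ D₂ ⊓ centralizer (E' : Set G),
          ∃ D, x ∈ Ψ D ∧ y ∈ Ψ D := by
      intro E E' hE hi hi' D₁ D₂ x hx y hy
      obtain ⟨D, hD⟩ := exists_sub hA (inf_le_left.trans hE) (card_inf_hyperplanes hAk hE hi hi')
      exact ⟨D, hΨbal D₁ D ⟨hx.1, centralizer_le (hD.trans inf_le_left) hx.2⟩,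
        hΨbal D₂ D ⟨hy.1, centralizer_le (hD.trans inf_le_right) hy.2⟩⟩
    -- the closing step
    have close : ∀ V : Subgroup G, V ≤ W → W ≤ normalizer (V : Set G) → A ≤ normalizer (V : Set G) →
        (∀ D, ∀ x ∈ V ⊓ Ψ D, ∀ y ∈ V ⊓ Ψ D, ⁅x, y⁆ ∈ N) →
        (∃ D, ¬ V ⊓ Ψ D ≤ N) →
        ∀ D : {D : Subgroup G // D ≤ A ∧ Nat.card ↥D = p ^ k},
          W ⊓ centralizer ((D : Subgroup G) : Set G) ≤ Φ D ⊔ N := by
      intro V hVW hWV hAV hab hne
      set T := closure (gens A N V Ψ) with hT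
      have hgW : gens A N V Ψ ⊆ (W : Set G) := by
        rintro x (hx | ⟨D, hx⟩)
        · exact hNW hx
        · exact hVW hx.1
      have hTW : T ≤ W := (closure_le _).2 hgW
      have hpieceinv : ∀ D, A ≤ normalizer ((V ⊓ Ψ D : Subgroup G) : Set G) := fun D =>
        CfsgLib.Coprime.inf_le_normalizer hAV (hAΨ D)
      have hpiecep : ∀ D, ¬ p ∣ Nat.card ↥(V ⊓ Ψ D) := fun D h =>
        hpW (h.trans (card_dvd_of_le (inf_le_left.trans hVW)))
      have hgcomm : ∀ x ∈ gens A N V Ψ, ∀ y ∈ gens A N V Ψ, ⁅x, y⁆ ∈ N := by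
        have hNleft : ∀ x ∈ N, ∀ y ∈ W, ⁅x, y⁆ ∈ N := by
          intro x hx y hy
          rw [commutatorElement_def, show x * y * x⁻¹ * y⁻¹ = x * (y * x⁻¹ * y⁻¹) by group]
          exact N.mul_mem hx ((mem_normalizer_iff.1 (hWN hy) _).1 (N.inv_mem hx))
        rintro x (hx | ⟨D₁, hx⟩) y hy
        · exact hNleft x hx y (hgW hy)
        rcases hy with hy | ⟨D₂, hy⟩
        · exact comm_mem_symm (hNleft y hy x (hVW hx.1))
        have h1 : ∀ E' : Subgroup G, E' ≤ A → E'.relIndex A = p →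
            ∀ z ∈ (V ⊓ Ψ D₂) ⊓ centralizer (E' : Set G), V ⊓ Ψ D₁ ≤ commMod N z := by
          intro E' hE' hi' z hz
          refine le_of_hyperplanes hA hA2 (hpiecep D₁) (hpieceinv D₁) fun E hE hi w hw => ?_
          obtain ⟨D, hwD, hzD⟩ := hpair hE hi hi' D₁ D₂ w ⟨hw.1.2, hw.2⟩ z ⟨hz.1.2, hz.2⟩
          exact ⟨hWN (hVW hw.1.1), hab D w ⟨hw.1.1, hwD⟩ z ⟨hz.1.1, hzD⟩⟩
        have h2 : V ⊓ Ψ D₂ ≤ commMod N x :=
          le_of_hyperplanes hA hA2 (hpiecep D₂) (hpieceinv D₂) fun E' hE' hi' z hz =>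
            ⟨hWN (hVW hz.1.1), comm_mem_symm (h1 E' hE' hi' z hz hx).2⟩
        exact comm_mem_symm (h2 hy).2
      have hcomm : ∀ x ∈ T, ∀ y ∈ T, ⁅x, y⁆ ∈ N := by
        have h1 : ∀ y ∈ gens A N V Ψ, T ≤ commMod N y := fun y hy =>
          (closure_le _).2 fun x hx => ⟨hWN (hgW hx), hgcomm x hx y hy⟩
        intro x hx y hy
        have h2 : T ≤ commMod N y :=
          (closure_le _).2 fun z hz => ⟨hWN (hgW hz), comm_mem_symm (h1 z hz hy).2⟩
        exact (h2 hx).2
      have hgT : gens A N V Ψ ⊆ (T : Set G) := subset_closure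
      have hAT : A ≤ normalizer (T : Set G) := by
        intro a ha
        refine mem_normalizer_of_conj fun y hy => ?_
        have hle : T ≤ T.comap (MulAut.conj a).toMonoidHom := by
          refine (closure_le _).2 ?_
          rintro z (hz | ⟨D, hz⟩)
          · exact hgT (Or.inl ((mem_normalizer_iff.1 (hAN ha) z).1 hz))
          · exact hgT (Or.inr ⟨D, (mem_normalizer_iff.1 (hpieceinv D ha) z).1 hz⟩)
        exact hle hy
      have hΦT : ∀ D₁, Φ D₁ ≤ normalizer (T : Set G) := by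
        intro D₁
        refine le_of_hyperplanes hA hA2 (fun h => hpW (h.trans (card_dvd_of_le (hΦW D₁)))) (hAΦ D₁)
          fun E hE hi x hx => mem_normalizer_of_conj fun y hy => ?_
        have hle : T ≤ T.comap (MulAut.conj x).toMonoidHom := by
          refine (closure_le _).2 ?_
          rintro z (hz | ⟨D₂, hz⟩)
          · exact hgT (Or.inl ((mem_normalizer_iff.1 (hWN (hΦW D₁ hx.1)) z).1 hz))
          · revert z
            refine le_of_hyperplanes (W := T.comap (MulAut.conj x).toMonoidHom) hA hA2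
              (hpiecep D₂) (hpieceinv D₂) fun E' hE' hi' w hw => ?_
            obtain ⟨D, hxD, hwD⟩ :=
              hpair hE hi hi' D₁ D₂ x ⟨mem_sup_left hx.1, hx.2⟩ w ⟨hw.1.2, hw.2⟩
            exact hgT (Or.inr ⟨D, (mem_normalizer_iff.1 (hWV (hΦW D₁ hx.1)) w).1 hw.1.1,
              (Ψ D).mul_mem ((Ψ D).mul_mem hxD hwD) ((Ψ D).inv_mem hxD)⟩)
        exact hle hy
      have hWT : W ≤ normalizer (T : Set G) := hW.le.trans (iSup_le hΦT)
      have hlt : N < T := by
        refine lt_of_le_of_ne (fun x hx => hgT (Or.inl hx)) fun e => ?_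
        obtain ⟨D, hD⟩ := hne
        exact hD fun x hx => e ▸ hgT (Or.inr ⟨D, hx⟩)
      intro D x hx
      have h1 := ih T hlt hTW hAT hWT D hx
      obtain ⟨t, ht, φ, hφ, rfl⟩ := CfsgLib.Coprime.mem_sup_exists (hΦT D)
        ((sup_comm (Φ D) T).le h1)
      have htC : t ∈ centralizer ((D : Subgroup G) : Set G) := by
        have := (centralizer ((D : Subgroup G) : Set G)).mul_mem hx.2 ((centralizer ((D : Subgroup G) : Set G)).inv_mem (hΦC D hφ))
        rwa [mul_inv_cancel_right] at this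
      exact (Φ D ⊔ N).mul_mem (inf_centralizer_le_of_comm hA hpW hTW (hTW.trans hWN) hAN hAT hAV
        hAΨ hNΨ hΨbal hT hcomm D ⟨ht, htC⟩) (mem_sup_left hφ)
    obtain ⟨V, hNV, hVW, hWV, hAV, hVab⟩ := hnext N hlt hWN hAN
    by_cases h1 : ∃ D, ¬ V ⊓ Ψ D ≤ N
    · exact close V hVW hWV hAV (fun D x hx y hy => hVab x hx.1 y hy.1) h1
    push Not at h1
    -- `V` is invisible, so go one step further
    have hVlt : V < W := by
      refine lt_of_le_of_ne hVW fun e => hlt.not_ge ?_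
      refine hW.le.trans (iSup_le fun D => ?_)
      exact le_trans (le_inf (e.symm ▸ hΦW D) le_sup_left) (h1 D)
    obtain ⟨U, hVU, hUW, hWU, hAU, hUab⟩ := hnext V hVlt hWV hAV
    refine close U hUW hWU hAU (fun D x hx y hy => h1 D ⟨hUab x hx.1 y hy.1, ?_⟩) ?_
    · rw [commutatorElement_def]
      exact (Ψ D).mul_mem ((Ψ D).mul_mem ((Ψ D).mul_mem hx.2 hy.2) ((Ψ D).inv_mem hx.2))
        ((Ψ D).inv_mem hy.2)
    · by_contra hc
      push Not at hc
      refine hVU.not_ge ?_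
      refine le_of_hyperplanes hA hA2 (fun h => hpW (h.trans (card_dvd_of_le hUW))) hAU
        fun E hE hi x hx => ?_
      obtain ⟨D, hD⟩ := exists_sub (k := k) hA hE
        ((Nat.pow_le_pow_right hp.pos (Nat.le_succ k)).trans (card_hyperplane hAk hE hi))
      obtain ⟨v, hv, φ, hφ, rfl⟩ := CfsgLib.Coprime.mem_sup_exists ((hΦW D).trans hWV)
        ((sup_comm (Φ D) V).le (ih V hNV hVW hAV hWV D ⟨hUW hx.1, centralizer_le hD hx.2⟩))
      have hφU : φ ∈ U := by
        have := U.mul_mem (U.inv_mem (hVU.le hv)) hx.1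
        rwa [inv_mul_cancel_left] at this
      exact V.mul_mem hv (hNV.le (hc D ⟨hφU, mem_sup_left hφ⟩))

end CfsgLib.Coprime.BalFam
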