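import Cfsg.Agent.Lib.Coprime.BenderPair
import Cfsg.Prelude.Def_EvenTechniques

/-!
# Bender's uniqueness theorem for a pair of maximal subgroups, one leading to the other
-/

set_option autoImplicit false
set_option linter.style.haveILetI false
set_option linter.unusedSectionVars false

namespace CfsgLib.Coprime.BenderUniqueness

open Subgroup CfsgLib.Coprime CfsgLib.Coprime.Large CfsgLib.Coprime.BenderPair

variable {G : Type*} [Group G] [Finite G]

/-- `E(M)` inside `G`. -/
def lay (M : Subgroup G) : Subgroup G := (Cfsg.layer M).map M.subtype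

/-- `F(M)` inside `G`. -/
def fit (M : Subgroup G) : Subgroup G := (Cfsg.fittingSubgroup M).map M.subtype

/-- `Z(O_p(M))` inside `G`. -/
def ctr (p : ℕ) (M : Subgroup G) : Subgroup G := opc p M ⊓ centralizer (opc p M : Set G)

theorem norm_eq [IsSimpleGroup G] {A X : Subgroup G} (hX : IsCoatom X) (hA : A ≠ ⊥) (hle : A ≤ X)
    (hn : X ≤ normalizer (A : Set G)) : normalizer (A : Set G) = X := by
  rcases eq_or_lt_of_le hn with e | e
  · exact e.symm
  · exfalso
    haveI : A.Normal := Subgroup.normalizer_eq_top_iff.1 (hX.2 _ e)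
    rcases (inferInstance : A.Normal).eq_bot_or_eq_top with h | h
    · exact hA h
    · exact hX.1 (top_le_iff.1 (h ▸ hle))

theorem fit_le {M X : Subgroup G} (h : ∀ q : ℕ, q.Prime → opc q M ≤ X) : fit M ≤ X := by
  rw [fit, fitting_eq_iSup_pCore, Subgroup.map_iSup]
  exact iSup_le fun q => h q q.2

theorem fsc_le {M X : Subgroup G} (h1 : lay M ≤ X) (h2 : fit M ≤ X) : fsc M ≤ X := by
  rw [fsc, Cfsg.generalizedFittingSubgroup, Subgroup.map_sup]
  exact sup_le h1 h2

theorem commute_lay_fit {M : Subgroup G} {e f : G} (he : e ∈ lay M) (hf : f ∈ fit M) :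
    Commute e f := by
  obtain ⟨e, he, rfl⟩ := he
  obtain ⟨f, hf, rfl⟩ := hf
  exact (commute_layer_fitting he hf).map M.subtype

theorem opc_le_fit (p : ℕ) [Fact p.Prime] (M : Subgroup G) : opc p M ≤ fit M :=
  map_mono (pCore_le_fitting p)

theorem commute_opc {p q : ℕ} [Fact p.Prime] [Fact q.Prime] (hne : q ≠ p) {M : Subgroup G} {x y : G}
    (hx : x ∈ opc p M) (hy : y ∈ opc q M) : Commute x y := by
  obtain ⟨x, hx, rfl⟩ := hx
  obtain ⟨y, hy, rfl⟩ := hy
  exact (commute_core_fitPrime hx ⟨pCore_le_fitting q hy, pCore_le_pPrimeCore_of_ne hne hy⟩).map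
    M.subtype

theorem eq_one_of_mem_opc {p q : ℕ} [Fact p.Prime] [Fact q.Prime] (hne : p ≠ q) {M N : Subgroup G}
    {x : G} (hx : x ∈ opc p M) (hy : x ∈ opc q N) : x = 1 :=
  Subgroup.disjoint_def.1 (IsPGroup.disjoint_of_ne p q hne _ _ (isPGroup_opc p M) (isPGroup_opc q N))
    hx hy

theorem ctr_ne_bot {p : ℕ} [Fact p.Prime] {M : Subgroup G} (h : opc p M ≠ ⊥) : ctr p M ≠ ⊥ := by
  haveI : Nontrivial (opc p M) := (nontrivial_iff_ne_bot _).2 h
  haveI := (isPGroup_opc p M).center_nontrivial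
  obtain ⟨z, hz⟩ := exists_ne (1 : Subgroup.center (opc p M))
  intro e
  have hm : ((z : opc p M) : G) ∈ ctr p M := ⟨(z : opc p M).2, mem_centralizer_iff.2 fun y hy =>
    congrArg Subtype.val (mem_center_iff.1 z.2 ⟨y, hy⟩)⟩
  rw [e, mem_bot] at hm
  exact hz (Subtype.ext (Subtype.ext hm))

theorem le_normalizer_ctr (p : ℕ) (M : Subgroup G) : M ≤ normalizer (ctr p M : Set G) :=
  CfsgLib.Coprime.inf_le_normalizer (le_normalizer_opc p M)
    ((le_normalizer_opc p M).trans (normalizer_le_normalizer_centralizer _))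

theorem centralizer_ctr_le [IsSimpleGroup G] {p : ℕ} [Fact p.Prime] {M : Subgroup G}
    (hM : IsCoatom M) (h : opc p M ≠ ⊥) : centralizer (ctr p M : Set G) ≤ M :=
  (centralizer_le_normalizer _).trans
    (norm_eq hM (ctr_ne_bot h) (inf_le_left.trans (map_subtype_le _)) (le_normalizer_ctr p M)).le

theorem opc_ne_bot_of_dvd {q : ℕ} [Fact q.Prime] {M : Subgroup G}
    (h : q ∣ Nat.card (Cfsg.fittingSubgroup M)) : opc q M ≠ ⊥ := by
  intro e
  rw [opc, Subgroup.map_eq_bot_iff_of_injective _ M.subtype_injective] at e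
  obtain ⟨w, hw⟩ := exists_prime_orderOf_dvd_card' q h
  obtain ⟨o, ho, k, hk, hok⟩ := exists_decomp_fitting (p := q) w.2
  rw [e, mem_bot] at ho
  rw [ho, one_mul] at hok
  have := orderOf_coprime_fitPrime hk
  rw [hok, Subgroup.orderOf_coe, hw] at this
  exact (Fact.out : q.Prime).ne_one (Nat.eq_one_of_dvd_coprimes this dvd_rfl dvd_rfl)

theorem opc_eq_bot_of_not_dvd {q : ℕ} [Fact q.Prime] {M : Subgroup G}
    (h : ¬ q ∣ Nat.card (Cfsg.fittingSubgroup M)) : opc q M = ⊥ := by
  rw [opc, Subgroup.map_eq_bot_iff_of_injective _ M.subtype_injective]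
  obtain ⟨k, hk⟩ := IsPGroup.iff_card.1 (pCore_isPGroup (G := M) q)
  rcases Nat.eq_zero_or_pos k with hk0 | hk0
  · refine Subgroup.eq_bot_of_card_eq _ ?_
    rw [hk, hk0, pow_zero]
  · exact absurd (((dvd_pow_self q hk0.ne').trans hk.symm.dvd).trans
      (card_dvd_of_le (pCore_le_fitting q))) h

theorem sylow_le_opc {q : ℕ} [Fact q.Prime] {N : Subgroup G}
    (R : Sylow q (Cfsg.fittingSubgroup N)) :
    ((R : Subgroup (Cfsg.fittingSubgroup N)).map (Cfsg.fittingSubgroup N).subtype).map N.subtype ≤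
      opc q N := by
  refine map_mono fun x hx => ?_
  have hP : IsPGroup q ((R : Subgroup (Cfsg.fittingSubgroup N)).map
      (Cfsg.fittingSubgroup N).subtype) := R.2.map _
  obtain ⟨o, ho, k, hk, rfl⟩ := exists_decomp_fitting (p := q) (map_subtype_le _ hx)
  rw [eq_one_of_both hP (parts_mem ho hk hx).2 (orderOf_coprime_fitPrime hk), mul_one]
  exact ho

section LeadsTo

variable {M N Q : Subgroup G} (hQF : Q ≤ fit M) (hQN : fsc M ⊓ normalizer (Q : Set G) ≤ N)

include hQF hQN

theorem lay_le : lay M ≤ M ⊓ N := by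
  refine le_inf (map_subtype_le _) fun e he => hQN ⟨map_mono layer_le_generalizedFitting he, ?_⟩
  exact centralizer_le_normalizer _ (mem_centralizer_iff.2 fun q hq =>
    (commute_lay_fit he (hQF hq)).eq.symm)

theorem core_inf_le (p : ℕ) [Fact p.Prime] : opc p M ⊓ normalizer (Q : Set G) ≤ M ⊓ N :=
  le_inf (inf_le_left.trans (map_subtype_le _)) ((inf_le_inf_right _ (opc_le_fsc p M)).trans hQN)

theorem core_inf_centralizer_le (p : ℕ) [Fact p.Prime] :
    opc p M ⊓ centralizer ((opc p M ⊓ normalizer (Q : Set G) : Subgroup G) : Set G) ≤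
      opc p M ⊓ normalizer (Q : Set G) := by
  intro x hx
  refine ⟨hx.1, centralizer_le_normalizer _ (mem_centralizer_iff.2 fun q hq => ?_)⟩
  obtain ⟨q', hq', rfl⟩ := hQF hq
  obtain ⟨o, ho, k, hk, rfl⟩ := exists_decomp_fitting (p := p) hq'
  obtain ⟨hoQ, -⟩ := parts_mem (S := Q.subgroupOf M) ho hk (mem_subgroupOf.2 hq)
  have h1 : Commute x (M.subtype o) := (mem_centralizer_iff.1 hx.2 _
    ⟨mem_map_of_mem _ ho, le_normalizer (mem_subgroupOf.1 hoQ)⟩).symm
  have h2 : Commute x (M.subtype k) := by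
    obtain ⟨x', hx', rfl⟩ := hx.1
    exact (commute_core_fitPrime hx' hk).map M.subtype
  rw [map_mul]
  exact (h1.mul_right h2).eq.symm

theorem ctr_le (p : ℕ) [Fact p.Prime] : ctr p M ≤ opc p M ⊓ normalizer (Q : Set G) :=
  le_trans (le_inf inf_le_left (inf_le_right.trans (centralizer_le inf_le_left)))
    (core_inf_centralizer_le hQF hQN p)

/-- Part (ii) of the uniqueness theorem. -/
theorem outside {s : ℕ} [Fact s.Prime] (hs : opc s M = ⊥) : opc s N ⊓ M = ⊥ := by
  set S := opc s N ⊓ M with hS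
  have hSp : IsPGroup s S := (isPGroup_opc s N).to_le inf_le_left
  have hnS : M ⊓ N ≤ normalizer (S : Set G) :=
    CfsgLib.Coprime.inf_le_normalizer (inf_le_right.trans (le_normalizer_opc s N))
      (inf_le_left.trans le_normalizer)
  have hF : fit M ≤ centralizer (S : Set G) := fit_le fun r hr => by
    haveI := Fact.mk hr
    by_cases hrs : r = s
    · subst hrs
      rw [hs]
      exact bot_le
    · rw [le_centralizer_iff]
      have hT := core_inf_le hQF hQN r
      have hTS : opc r M ⊓ normalizer (Q : Set G) ≤ centralizer (S : Set G) := by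
        intro t ht
        refine mem_centralizer_iff.2 fun x hx => ?_
        have h1 : x * t * x⁻¹ * t⁻¹ ∈ S := by
          rw [show x * t * x⁻¹ * t⁻¹ = x * (t * x⁻¹ * t⁻¹) by group]
          exact S.mul_mem hx ((mem_normalizer_iff.1 (hnS (hT ht)) _).1 (S.inv_mem hx))
        have h2 : x * t * x⁻¹ * t⁻¹ ∈ opc r M :=
          (opc r M).mul_mem ((mem_normalizer_iff.1 (le_normalizer_opc r M hx.2) t).1 ht.1)
            ((opc r M).inv_mem ht.1)
        have h3 := eq_one_of_mem_opc hrs h2 h1.1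
        rwa [mul_inv_eq_one, mul_inv_eq_iff_eq_mul] at h3
      refine pq_lemma (P := opc r M ⊓ normalizer (Q : Set G))
        ((isPGroup_opc r M).to_le inf_le_left) ?_ (isPGroup_opc r M) hTS
        ((hT.trans inf_le_left).trans (le_normalizer_opc r M))
        (inf_le_right.trans (le_normalizer_opc r M))
        ((core_inf_centralizer_le hQF hQN r).trans hTS)
      obtain ⟨a, ha⟩ := IsPGroup.iff_card.1 hSp
      rw [ha]
      exact Nat.Coprime.pow_left _
        (((Nat.coprime_primes (Fact.out : r.Prime) (Fact.out : s.Prime)).2 hrs).symm)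
  have hE : lay M ≤ centralizer (S : Set G) := by
    haveI := hSp.isNilpotent
    have hsol : Group.IsSolvable (S.subgroupOf M) :=
      Group.isSolvable_of_isSolvable_injective
        (f := (subgroupOfEquivOfLe (inf_le_right : S ≤ M)).toMonoidHom) (MulEquiv.injective _)
    have h := layer_commutator_solvable_eq_bot hsol fun e he => by
      have hn := hnS (lay_le hQF hQN (mem_map_of_mem M.subtype he))
      exact mem_normalizer_iff.2 fun x => mem_normalizer_iff.1 hn (x : G)
    have h2 := congrArg (Subgroup.map M.subtype) h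
    rw [map_commutator, map_subgroupOf_eq_of_le (inf_le_right : S ≤ M), Subgroup.map_bot] at h2
    exact commutator_eq_bot_iff_le_centralizer.1 h2
  refine (eq_bot_iff_forall _).2 fun x hx => eq_one_of_both (isPGroup_opc s N) hx.1 ?_
  obtain ⟨x', hx', e⟩ := mem_fsc_of_commute hx.2 fun f hf =>
    (mem_centralizer_iff.1 (fsc_le hE hF hf) x hx).symm
  have h3 : x' ∈ Cfsg.fittingSubgroup M := by
    rw [← generalizedFitting_inf_centralizer_layer]
    refine ⟨hx', mem_centralizer_iff.2 fun l hl => Subtype.ext ?_⟩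
    have := (mem_centralizer_iff.1 (hE (mem_map_of_mem M.subtype hl)) x hx).symm
    rw [← e] at this
    exact this
  obtain ⟨o, ho, k, hk, hok⟩ := exists_decomp_fitting (p := s) h3
  rw [opc, Subgroup.map_eq_bot_iff_of_injective _ M.subtype_injective] at hs
  rw [hs, mem_bot] at ho
  rw [ho, one_mul] at hok
  exact orderOf_coprime_xpc ⟨k, hk, by rw [hok, e]⟩

/-- Part (i) of the uniqueness theorem. -/
theorem inside [IsSimpleGroup G] (hM : IsCoatom M) {q r : ℕ} [Fact q.Prime] [Fact r.Prime]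
    (hne : r ≠ q) (hq : opc q M ≠ ⊥) (hr : opc r M ≠ ⊥) : opc q N ≤ M := by
  refine le_trans ?_ (centralizer_ctr_le hM hr)
  have hT := core_inf_le hQF hQN q
  have hZ : ctr r M ≤ M ⊓ N := (ctr_le hQF hQN r).trans (core_inf_le hQF hQN r)
  rw [le_centralizer_iff]
  refine pq_lemma (p := q) (P := opc q M ⊓ normalizer (Q : Set G))
    ((isPGroup_opc q M).to_le inf_le_left) ?_ (isPGroup_opc q N) ?_
    ((hT.trans inf_le_right).trans (le_normalizer_opc q N))
    ((hZ.trans inf_le_right).trans (le_normalizer_opc q N)) ?_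
  · have hpz : IsPGroup r (ctr r M) := (isPGroup_opc r M).to_le inf_le_left
    obtain ⟨a, ha⟩ := IsPGroup.iff_card.1 hpz
    rw [ha]
    exact Nat.Coprime.pow_left _ ((Nat.coprime_primes (Fact.out : r.Prime) (Fact.out : q.Prime)).2 hne)
  · exact fun t ht => mem_centralizer_iff.2 fun z hz => (commute_opc hne ht.1 hz.1).eq.symm
  · intro x hx
    have hxM : x ∈ M := centralizer_ctr_le hM hq (centralizer_le (ctr_le hQF hQN q) hx.2)
    refine mem_centralizer_iff.2 fun z hz => ?_
    have h1 : z * x * z⁻¹ * x⁻¹ ∈ opc q N :=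
      (opc q N).mul_mem ((mem_normalizer_iff.1 (le_normalizer_opc q N (hZ hz).2) x).1 hx.1)
        ((opc q N).inv_mem hx.1)
    have h2 : z * x * z⁻¹ * x⁻¹ ∈ opc r M := by
      rw [show z * x * z⁻¹ * x⁻¹ = z * (x * z⁻¹ * x⁻¹) by group]
      exact (opc r M).mul_mem hz.1
        ((mem_normalizer_iff.1 (le_normalizer_opc r M hxM) _).1 ((opc r M).inv_mem hz.1))
    have h3 := eq_one_of_mem_opc hne h2 h1
    rwa [mul_inv_eq_one, mul_inv_eq_iff_eq_mul] at h3

end LeadsTo

theorem component_restrict {X H : Subgroup G} (hHX : H ≤ X) {K : Subgroup X}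
    (hK : Cfsg.IsComponent K) (hKH : K.map X.subtype ≤ H) :
    Cfsg.IsComponent ((K.map X.subtype).subgroupOf H) := by
  refine ⟨?_, isQuasisimple_congr ((subgroupOfEquivOfLe hKH).symm)
    (isQuasisimple_congr (K.equivMapOfInjective _ X.subtype_injective) hK.2)⟩
  have h := hK.1.comap (Subgroup.inclusion hHX)
  have e : K.comap (Subgroup.inclusion hHX) = (K.map X.subtype).subgroupOf H := by
    ext x
    constructor
    · intro hx; exact ⟨_, hx, rfl⟩
    · rintro ⟨k, hk, e⟩
      show Subgroup.inclusion hHX x ∈ K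
      rwa [show Subgroup.inclusion hHX x = k from Subtype.ext e.symm]
  rwa [e] at h

theorem lay_le_lay [IsSimpleGroup G] {M N Q Q' : Subgroup G} (hM : IsCoatom M)
    (hQF : Q ≤ fit M) (hQN : fsc M ⊓ normalizer (Q : Set G) ≤ N)
    (hQF' : Q' ≤ fit N) (hQM : fsc N ⊓ normalizer (Q' : Set G) ≤ M)
    {p : ℕ} [Fact p.Prime] (hp : opc p M ≠ ⊥) (hN1 : fit N ≤ opc p N) : lay M ≤ lay N := by
  refine map_le_iff_le_comap.2 (sSup_le fun K hK => ?_)
  rw [← map_le_iff_le_comap]
  set K' := K.map M.subtype with hK'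
  have hKl : K' ≤ lay M := map_mono (component_le_layer hK)
  have hKH : K' ≤ M ⊓ N := hKl.trans (lay_le hQF hQN)
  by_contra hnot
  have hperf : ⁅K', K'⁆ = K' := by rw [hK', ← map_commutator, commutator_self_of_isComponent hK]
  -- `K` centralizes `O_p(N)`
  have hR : K' ≤ centralizer (opc p N : Set G) := by
    set S := opc p N ⊓ M
    have hnS : M ⊓ N ≤ normalizer (S : Set G) :=
      CfsgLib.Coprime.inf_le_normalizer (inf_le_right.trans (le_normalizer_opc p N))
        (inf_le_left.trans le_normalizer)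
    have hKS : S ≤ centralizer (K' : Set G) := by
      haveI := ((isPGroup_opc p N).to_le (inf_le_left : S ≤ opc p N)).isNilpotent
      have hsol : Group.IsSolvable (S.subgroupOf M) :=
        Group.isSolvable_of_isSolvable_injective
          (f := (subgroupOfEquivOfLe (inf_le_right : S ≤ M)).toMonoidHom) (MulEquiv.injective _)
      have h := component_commutator_solvable_eq_bot hK hsol fun e he => by
        have hn := hnS (hKH (mem_map_of_mem M.subtype he))
        exact mem_normalizer_iff.2 fun x => mem_normalizer_iff.1 hn (x : G)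
      have h2 := congrArg (Subgroup.map M.subtype) h
      rw [map_commutator, map_subgroupOf_eq_of_le (inf_le_right : S ≤ M), Subgroup.map_bot,
        Subgroup.commutator_comm] at h2
      exact commutator_eq_bot_iff_le_centralizer.1 h2
    have hT := core_inf_le hQF hQN p
    refine perfect_le_centralizer_of_fixed (R := opc p M ⊓ normalizer (Q : Set G))
      ((isPGroup_opc p M).to_le inf_le_left) (isPGroup_opc p N) hperf
      ((hT.trans inf_le_right).trans (le_normalizer_opc p N))
      ((hKH.trans inf_le_right).trans (le_normalizer_opc p N)) ?_ ?_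
    · exact fun t ht => mem_centralizer_iff.2 fun k hk =>
        (commute_lay_fit (hKl hk) (opc_le_fit p M ht.1)).eq
    · exact fun x hx =>
        hKS ⟨hx.1, centralizer_ctr_le hM hp (centralizer_le (ctr_le hQF hQN p) hx.2)⟩
  -- `K` centralizes `E(N)`
  have hL : lay N ≤ centralizer (K' : Set G) := by
    refine map_le_iff_le_comap.2 (sSup_le fun L hL => ?_)
    rw [← map_le_iff_le_comap]
    have hLH : L.map N.subtype ≤ M ⊓ N :=
      ((map_mono (component_le_layer hL)).trans (lay_le hQF' hQM)).trans (inf_comm N M).le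
    have c1 := component_restrict inf_le_left hK hKH
    have c2 := component_restrict inf_le_right hL hLH
    by_cases hKL : K'.subgroupOf (M ⊓ N) = (L.map N.subtype).subgroupOf (M ⊓ N)
    · refine absurd ?_ hnot
      have h := congrArg (Subgroup.map (M ⊓ N).subtype) hKL
      rw [map_subgroupOf_eq_of_le hKH, map_subgroupOf_eq_of_le hLH] at h
      rw [h]
      exact map_mono (component_le_layer hL)
    · have h := congrArg (Subgroup.map (M ⊓ N).subtype) (components_commute c2 c1 (Ne.symm hKL))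
      rw [map_commutator, map_subgroupOf_eq_of_le hKH, map_subgroupOf_eq_of_le hLH,
        Subgroup.map_bot] at h
      exact commutator_eq_bot_iff_le_centralizer.1 h
  have hC : fsc N ≤ centralizer (K' : Set G) :=
    fsc_le hL (hN1.trans (le_centralizer_iff.1 hR))
  have hKF : K' ≤ fsc N := fun k hk =>
    mem_fsc_of_commute (hKH hk).2 fun f hf => ((mem_centralizer_iff.1 (hC hf) k hk)).symm
  have hbot : K' = ⊥ := by
    rw [← hperf]
    exact commutator_eq_bot_iff_le_centralizer.2 (hKF.trans hC)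
  rw [hK', Subgroup.map_eq_bot_iff_of_injective _ M.subtype_injective] at hbot
  haveI := nontrivial_of_isQuasisimple hK.2
  exact (Subgroup.nontrivial_iff_ne_bot K).1 inferInstance hbot

/-- The symmetric case. -/
theorem symmetric [IsSimpleGroup G] {M N : Subgroup G} (hM : IsCoatom M) (hN : IsCoatom N)
    (hMN : Cfsg.leadsTo M N) (hNM : Cfsg.leadsTo N M) :
    M = N ∨ ∃ p : ℕ, p.Prime ∧ IsPGroup p ↥(Cfsg.generalizedFittingSubgroup ↥M) ∧
      IsPGroup p ↥(Cfsg.generalizedFittingSubgroup ↥N) := by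
  by_cases hne : M = N
  · exact Or.inl hne
  obtain ⟨Q, hQ, hQF, hQN⟩ := hMN
  obtain ⟨Q', hQ', hQF', hQM⟩ := hNM
  change Q ≤ fit M at hQF
  change fsc M ⊓ _ ≤ N at hQN
  change Q' ≤ fit N at hQF'
  change fsc N ⊓ _ ≤ M at hQM
  have hpi : ∀ {A B R R' : Subgroup G}, R ≤ fit A → fsc A ⊓ normalizer (R : Set G) ≤ B →
      R' ≤ fit B → fsc B ⊓ normalizer (R' : Set G) ≤ A →
      ∀ (q : ℕ) [Fact q.Prime], opc q A = ⊥ → opc q B = ⊥ := by
    intro A B R R' h1 h2 h3 h4 q _ hq
    by_contra h
    refine ctr_ne_bot h (le_bot_iff.1 ?_)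
    rw [← outside h1 h2 hq]
    exact le_inf inf_le_left (((ctr_le h3 h4 q).trans (core_inf_le h3 h4 q)).trans inf_le_right)
  have hne1 : ∃ p : ℕ, p.Prime ∧ opc p M ≠ ⊥ := by
    by_contra hc
    push Not at hc
    exact hQ (le_bot_iff.1 (hQF.trans (fit_le fun q hq => (hc q hq).le)))
  obtain ⟨p, hp, hp1⟩ := hne1
  haveI := Fact.mk hp
  have hp2 : opc p N ≠ ⊥ := fun e => hp1 (hpi hQF' hQM hQF hQN p e)
  by_cases honly : ∀ q : ℕ, q.Prime → q ≠ p → opc q M = ⊥
  · have honly' : ∀ q : ℕ, q.Prime → q ≠ p → opc q N = ⊥ := fun q hq hqp => by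
      haveI := Fact.mk hq
      exact hpi hQF hQN hQF' hQM q (honly q hq hqp)
    have hF : ∀ {A : Subgroup G}, (∀ q : ℕ, q.Prime → q ≠ p → opc q A = ⊥) → fit A ≤ opc p A := by
      intro A h
      refine fit_le fun q hq => ?_
      by_cases e : q = p
      · rw [e]
      · rw [h q hq e]
        exact bot_le
    have e := le_antisymm (lay_le_lay hM hQF hQN hQF' hQM hp1 (hF honly'))
      (lay_le_lay hN hQF' hQM hQF hQN hp2 (hF honly))
    by_cases hE : lay M = ⊥
    · have hfin : ∀ {A : Subgroup G}, lay A = ⊥ → fit A ≤ opc p A →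
          IsPGroup p (Cfsg.generalizedFittingSubgroup A) := by
        intro A h1 h2
        refine (pCore_isPGroup p).to_le ?_
        rw [← Subgroup.map_le_map_iff_of_injective A.subtype_injective]
        exact fsc_le (h1.le.trans bot_le) h2
      exact Or.inr ⟨p, hp, hfin hE (hF honly), hfin (e ▸ hE) (hF honly')⟩
    · refine absurd ?_ hne
      haveI := layer_normal (G := M)
      haveI := layer_normal (G := N)
      have h1 : M ≤ normalizer (lay M : Set G) := le_normalizer_map_subtype M _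
      have h2 : N ≤ normalizer (lay N : Set G) := le_normalizer_map_subtype N _
      rw [← e] at h2
      rw [← norm_eq hM hE (map_subtype_le _) h1,
        norm_eq hN hE (e.le.trans (map_subtype_le _)) h2]
  push Not at honly
  obtain ⟨q₀, hq₀, hne₀, hq1⟩ := honly
  haveI := Fact.mk hq₀
  have hq2 : opc q₀ N ≠ ⊥ := fun e => hq1 (hpi hQF' hQM hQF hQN q₀ e)
  have hsub : ∀ {A B R R' : Subgroup G}, IsCoatom A → R ≤ fit A →
      fsc A ⊓ normalizer (R : Set G) ≤ B → R' ≤ fit B → fsc B ⊓ normalizer (R' : Set G) ≤ A →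
      opc p A ≠ ⊥ → opc q₀ A ≠ ⊥ → fsc B ≤ A := by
    intro A B R R' hA h1 h2 h3 h4 e1 e2
    refine fsc_le ((lay_le h3 h4).trans inf_le_right) (fit_le fun q hq => ?_)
    haveI := Fact.mk hq
    by_cases e : opc q A = ⊥
    · rw [hpi h1 h2 h3 h4 q e]
      exact bot_le
    · by_cases e' : q = p
      · exact inside h1 h2 hA (e' ▸ hne₀) e e2
      · exact inside h1 h2 hA (Ne.symm e') e e1
  have hP : Pair M N := fun A hA hle =>
    ⟨fun h => by rw [norm_eq hM hA (hle.trans inf_le_left) h, inf_comm],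
      fun h => by rw [norm_eq hN hA (hle.trans inf_le_right) h]⟩
  obtain ⟨t, ht, e₁, e₂⟩ := bender_pair hne hP
    (hsub hN hQF' hQM hQF hQN hp2 hq2) (hsub hM hQF hQN hQF' hQM hp1 hq1)
  haveI := Fact.mk ht
  exact Or.inr ⟨t, ht, e₁ ▸ pCore_isPGroup t, e₂ ▸ pCore_isPGroup t⟩

end CfsgLib.Coprime.BenderUniqueness
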