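import Mathlib.GroupTheory.Schreier
import Cfsg.Agent.Lib.Coprime.Hyperplanes

/-!
An elementary abelian group of order `q ^ 3` acts coprimely on `X` and the derived subgroup of the
centralizer in `X` of every non-identity element has order at most `m`: then the derived subgroup of
`X` is bounded in terms of `q` and `m`.
-/

set_option autoImplicit false
set_option linter.style.haveILetI false
set_option linter.unusedSectionVars false

namespace CfsgLib.Coprime

open Subgroup
open scoped commutatorElement Classical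

universe u

section Telescope

variable {P : Type u} [Group P] [Finite P]

/-- Above the derived subgroup the index is bounded by the product over a generating family. -/
theorem relIndex_sup_finset_le {ι : Type*} (C : ι → Subgroup P) (K : Subgroup P)
    (hK : _root_.commutator P ≤ K) (s : Finset ι) :
    K.relIndex (K ⊔ s.sup C) ≤ ∏ i ∈ s, K.relIndex (C i) := by
  induction s using Finset.induction with
  | empty => simp
  | insert i s his ih =>
    rw [Finset.prod_insert his, Finset.sup_insert,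
      show K ⊔ (C i ⊔ s.sup C) = (K ⊔ s.sup C) ⊔ C i by rw [sup_comm (C i), sup_assoc]]
    haveI : (K ⊔ s.sup C).Normal := Normal.of_commutator_le P (hK.trans le_sup_left)
    rw [← relIndex_mul_relIndex K (K ⊔ s.sup C) _ le_sup_left le_sup_left, relIndex_sup_left (H := C i) (K := K ⊔ s.sup C),
      mul_comm]
    exact Nat.mul_le_mul (relIndex_le_of_le_left le_sup_left (index_ne_zero_of_finite)) ih

/-- The one step of the telescoping bound. -/
theorem index_le_prod_of_derived {ι : Type*} [Fintype ι] (C : ι → Subgroup P)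
    (hgen : ⊤ ≤ Finset.univ.sup C) (Y : Subgroup P)
    (hM : Y.relIndex (_root_.commutator P) ≤ ∏ i, Y.relIndex (_root_.commutator P ⊓ C i)) :
    Y.index ≤ ∏ i, Y.relIndex (C i) := by
  set M := _root_.commutator P
  have h1 : Y.index = Y.relIndex M * (Y ⊔ M).index := by
    rw [← relIndex_mul_index (le_sup_left : Y ≤ Y ⊔ M)]
    congr 1
    have e1 := relIndex_sup_right (H := Y) (K := M)
    have e2 := card_mul_index (M.subgroupOf Y)
    have e3 := card_mul_index (Y.subgroupOf M)
    have e4 := card_mul_index (M.subgroupOf (Y ⊔ M))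
    have e5 := card_mul_index (Y.subgroupOf (Y ⊔ M))
    have f : ∀ U V : Subgroup P, Nat.card (U.subgroupOf V) = Nat.card ↥(U ⊓ V) := fun U V => by
      rw [← inf_subgroupOf_right]
      exact Nat.card_congr (subgroupOfEquivOfLe inf_le_right).toEquiv
    rw [f] at e2 e3 e4 e5
    rw [inf_eq_left.2 (le_sup_right : M ≤ Y ⊔ M)] at e4
    rw [inf_eq_left.2 (le_sup_left : Y ≤ Y ⊔ M)] at e5
    rw [inf_comm M Y] at e2
    change Nat.card ↥(Y ⊓ M) * M.relIndex Y = _ at e2
    change Nat.card ↥(Y ⊓ M) * Y.relIndex M = _ at e3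
    change Nat.card M * M.relIndex (Y ⊔ M) = _ at e4
    change Nat.card Y * Y.relIndex (Y ⊔ M) = _ at e5
    rw [e1] at e4
    refine Nat.eq_of_mul_eq_mul_left (Nat.card_pos (α := Y)) ?_
    rw [e5, ← e4, ← e3, ← e2]
    ring
  have h2 : (Y ⊔ M).index ≤ ∏ i, (Y ⊔ M).relIndex (C i) := by
    have := relIndex_sup_finset_le C (Y ⊔ M) le_sup_right Finset.univ
    rwa [show Y ⊔ M ⊔ Finset.univ.sup C = ⊤ from top_le_iff.1 (hgen.trans le_sup_right),
      relIndex_top_right] at this
  rw [h1]
  refine (Nat.mul_le_mul hM h2).trans ?_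
  rw [← Finset.prod_mul_distrib]
  refine Finset.prod_le_prod' fun i _ => ?_
  have hD : Y ⊓ C i ≤ (Y ⊔ M) ⊓ C i := inf_le_inf_right _ le_sup_left
  rw [← inf_relIndex_right Y (C i), ← relIndex_mul_relIndex _ _ _ hD inf_le_right,
    inf_relIndex_right (Y ⊔ M)]
  refine Nat.mul_le_mul_right _ ?_
  rw [← inf_relIndex_right Y (M ⊓ C i), show Y ⊓ (M ⊓ C i) = (Y ⊓ C i) ⊓ (M ⊓ C i) by
    rw [← inf_inf_distrib_right, inf_assoc], inf_relIndex_right]
  exact relIndex_le_of_le_right (inf_le_inf_right _ le_sup_right) index_ne_zero_of_finite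

end Telescope

section Main

variable {E : Type u} [Group E] [Finite E]

/-- The hyperplanes of `A` for the prime `q`. -/
abbrev hyps (q : ℕ) (A : Subgroup E) := {B : Subgroup E // B ≤ A ∧ B.relIndex A = q}

noncomputable instance hypsFintype (q : ℕ) (A : Subgroup E) :
    Fintype {B : Subgroup E // B ≤ A ∧ B.relIndex A = q} := Fintype.ofFinite _

theorem card_hyps_le (q : ℕ) (A : Subgroup E) :
    Fintype.card (hyps q A) ≤ 2 ^ Nat.card A := by
  rw [← Nat.card_eq_fintype_card]
  refine (Nat.card_le_card_of_injective (fun B : hyps q A => {a : A | (a : E) ∈ B.1}) ?_).trans ?_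
  · rintro ⟨B, hB, hB'⟩ ⟨C, hC, hC'⟩ h
    refine Subtype.ext (Subgroup.ext fun x => ?_)
    constructor <;> intro hx
    · exact (Set.ext_iff.1 h ⟨x, hB hx⟩).1 hx
    · exact (Set.ext_iff.1 h ⟨x, hC hx⟩).2 hx
  · haveI := Fintype.ofFinite A
    rw [Nat.card_eq_fintype_card, Nat.card_eq_fintype_card, Fintype.card_set]

variable {q : ℕ} [Fact q.Prime] {A X : Subgroup E}

/-- The telescoping bound for invariant `p`-subgroups. -/
theorem relIndex_le_prod_hyps (hAe : Cfsg.IsElementaryAbelian q A) (hA2 : q ^ 2 ≤ Nat.card A)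
    {p : ℕ} [Fact p.Prime] (hq : ¬ q ∣ Nat.card X) :
    ∀ P : Subgroup E, P ≤ X → IsPGroup p P → A ≤ normalizer (P : Set E) → ∀ Y : Subgroup E,
      Y.relIndex P ≤ ∏ B : hyps q A, Y.relIndex (P ⊓ centralizer (B.1 : Set E)) := by
  intro P
  induction P using WellFoundedLT.induction with
  | _ P ih =>
    intro hPX hPp hPA Y
    rcases eq_or_ne P ⊥ with rfl | hne
    · simp
    haveI : Nontrivial P := (nontrivial_iff_ne_bot P).2 hne
    haveI : Group.IsNilpotent P := hPp.isNilpotent
    have hlt : ⁅P, P⁆ < P := by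
      refine lt_of_lt_of_eq ?_ rfl
      have h := (map_subtype_lt_map_subtype (G' := P)).2
        (Group.IsSolvable.commutator_lt_top_of_nontrivial P)
      rwa [_root_.commutator_def, map_commutator, ← MonoidHom.range_eq_map, range_subtype] at h
    have hMA : A ≤ normalizer ((⁅P, P⁆ : Subgroup E) : Set E) := by
      intro a ha
      rw [← conjBy_eq_self_iff, conjBy, map_commutator]
      exact congrArg₂ _ (conjBy_eq_self_iff.2 (hPA ha)) (conjBy_eq_self_iff.2 (hPA ha))
    have ih' := ih _ hlt (hlt.le.trans hPX) (hPp.to_le hlt.le) hMA Y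
    let C : hyps q A → Subgroup P := fun B =>
      (P ⊓ centralizer (B.1 : Set E)).subgroupOf P
    have hgen : (⊤ : Subgroup P) ≤ Finset.univ.sup C := by
      rintro ⟨x, hx⟩ -
      have := le_of_hyperplanes hAe hA2 (fun h => hq (h.trans (card_dvd_of_le hPX))) hPA
        (W := (Finset.univ.sup C).map P.subtype) (fun B hB hB' y hy => ?_) hx
      · obtain ⟨z, hz, hzx⟩ := this
        exact (Subtype.ext hzx : z = ⟨x, hx⟩) ▸ hz
      · exact ⟨⟨y, hy.1⟩, Finset.le_sup (f := C) (Finset.mem_univ (⟨B, hB, hB'⟩ : hyps q A)) hy,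
          rfl⟩
    have hM : (⁅P, P⁆ : Subgroup E).subgroupOf P = _root_.commutator P := by
      have h : (_root_.commutator P).map P.subtype = ⁅P, P⁆ := by
        rw [_root_.commutator_def, map_commutator, ← MonoidHom.range_eq_map, range_subtype]
      rw [← comap_subtype, ← h, comap_map_eq_self_of_injective P.subtype_injective]
    have := index_le_prod_of_derived C hgen (Y.subgroupOf P) ?_
    · refine le_of_le_of_eq (show Y.relIndex P ≤ _ from this) (Finset.prod_congr rfl fun B _ => ?_)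
      exact relIndex_subgroupOf inf_le_left
    · rw [← hM]
      refine le_of_eq_of_le (relIndex_subgroupOf hlt.le) (ih'.trans (le_of_eq ?_))
      refine Finset.prod_congr rfl fun B _ => ?_
      rw [← relIndex_subgroupOf (H := Y) (inf_le_left.trans hlt.le :
        ⁅P, P⁆ ⊓ centralizer (B.1 : Set E) ≤ P)]
      congr 1
      simp only [C, ← comap_subtype, ← comap_inf]
      rw [← inf_assoc, inf_eq_left.2 hlt.le]

/-- The index of the centralizer of `x` is bounded by the order of a subgroup which contains all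
commutators `[c, x]`. -/
theorem relIndex_centralizer_le {C D : Subgroup E} {x : E} (h : ∀ c ∈ C, ⁅c, x⁆ ∈ D) :
    (centralizer ({x} : Set E)).relIndex C ≤ Nat.card D := by
  refine Nat.card_le_card_of_injective
    (fun Q : C ⧸ (centralizer ({x} : Set E)).subgroupOf C =>
      (⟨⁅(Q.out : E), x⁆, h _ Q.out.2⟩ : D)) fun Q Q' hQ => ?_
  rw [← Q.out_eq, ← Q'.out_eq]
  refine QuotientGroup.eq.2 ?_
  have e : ⁅(Q.out : E), x⁆ = ⁅(Q'.out : E), x⁆ := congrArg Subtype.val hQ
  simp only [commutatorElement_def, mul_left_inj] at e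
  rw [mem_subgroupOf, mem_centralizer_singleton_iff]
  push_cast
  calc (Q.out : E)⁻¹ * Q'.out * x
      = (Q.out : E)⁻¹ * (Q'.out * x * (Q'.out : E)⁻¹) * Q'.out := by group
    _ = x * ((Q.out : E)⁻¹ * Q'.out) := by rw [← e]; group

/-- If every prime power divisor of `n` is at most `L` then `n ≤ L!`. -/
theorem le_factorial_of_prime_pow {n L : ℕ}
    (h : ∀ r k : ℕ, r.Prime → r ^ k ∣ n → 0 < k → r ^ k ≤ L) : n ≤ L.factorial := by
  refine Nat.le_of_dvd (Nat.factorial_pos L) ((Nat.dvd_iff_prime_pow_dvd_dvd _ _).2 fun r k hr hk => ?_)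
  rcases Nat.eq_zero_or_pos k with rfl | hk0
  · simp
  · exact Nat.dvd_factorial (pow_pos hr.pos _) (h r k hr hk hk0)

/-- A prime power dividing the index of a centralizer is bounded by the index in a Sylow subgroup. -/
theorem prime_pow_le_relIndex {r k : ℕ} [Fact r.Prime] {P C : Subgroup E} (hP : IsSylowIn r P X)
    (hk : r ^ k ∣ C.relIndex X) : r ^ k ≤ C.relIndex P := by
  obtain ⟨b, hb⟩ := IsPGroup.iff_card.1 (hP.isPGroup.to_le (inf_le_right : C ⊓ P ≤ P))
  have e : ∀ V : Subgroup E, Nat.card ↥(C ⊓ V) * C.relIndex V = Nat.card V := fun V => by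
    rw [← card_mul_index ((C ⊓ V).subgroupOf V),
      Nat.card_congr (subgroupOfEquivOfLe (inf_le_right : C ⊓ V ≤ V)).toEquiv,
      inf_subgroupOf_right]
    rfl
  have hd : r ^ (b + k) ∣ Nat.card X := by
    rw [← e X, pow_add]
    exact mul_dvd_mul (hb ▸ card_dvd_of_le (inf_le_inf_left _ hP.1)) hk
  have h1 : r ^ (b + k) ≤ Nat.card P := by
    rw [hP.2]
    exact Nat.pow_le_pow_right (Fact.out : r.Prime).pos
      (((Fact.out : r.Prime).pow_dvd_iff_le_factorization Nat.card_pos.ne').1 hd)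
  rw [← e P, hb, pow_add] at h1
  exact Nat.le_of_mul_le_mul_left h1 (pow_pos (Fact.out : r.Prime).pos b)

variable (hAe : Cfsg.IsElementaryAbelian q A) (hA3 : Nat.card A = q ^ 3) (hq : ¬ q ∣ Nat.card X)
  (hAX : A ≤ normalizer (X : Set E)) {m : ℕ}
  (hm : ∀ a ∈ A, a ≠ 1 →
    Nat.card ↥⁅X ⊓ centralizer ({a} : Set E), X ⊓ centralizer ({a} : Set E)⁆ ≤ m)

include hA3 in
/-- Two hyperplanes share a non-identity element. -/
theorem exists_mem_inf_hyps (B B' : hyps q A) :
    ∃ a ∈ A, a ≠ 1 ∧ a ∈ B.1 ∧ a ∈ B'.1 := by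
  have hne : B.1 ⊓ B'.1 ≠ ⊥ := by
    intro h
    have h1 := relIndex_inf_le (H := B.1) (K := B'.1) (L := A)
    rw [h, relIndex_bot_left, hA3, B.2.2, B'.2.2, ← pow_two] at h1
    exact absurd h1 (not_le.2 (Nat.pow_lt_pow_right (Fact.out : q.Prime).one_lt (by norm_num)))
  obtain ⟨a, ha, ha1⟩ := (Subgroup.ne_bot_iff_exists_ne_one.1 hne)
    |> fun ⟨a, ha⟩ => (⟨(a : E), a.2, fun h => ha (Subtype.ext h)⟩ :
      ∃ a : E, a ∈ B.1 ⊓ B'.1 ∧ a ≠ 1)
  exact ⟨a, B.2.1 ha.1, ha1, ha.1, ha.2⟩

include hAe hA3 hq hAX hm in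
/-- An element centralized by a hyperplane has boundedly many conjugates. -/
theorem relIndex_centralizer_hyps_le (B : hyps q A) {x : E}
    (hx : x ∈ X ⊓ centralizer (B.1 : Set E)) :
    (centralizer ({x} : Set E)).relIndex X ≤ ((m + 1) ^ 2 ^ (q ^ 3)).factorial := by
  have hq' := (Fact.out : q.Prime)
  refine le_factorial_of_prime_pow fun r k hr hk _ => ?_
  haveI := Fact.mk hr
  have hcop : (Nat.card A).Coprime (Nat.card X) := by
    rw [hA3]; exact (hq'.coprime_iff_not_dvd.2 hq).pow_left 3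
  obtain ⟨P, hP, hPA⟩ := exists_invariant_sylow hAX hcop
    (Or.inl (isSolvable_of_isMulCommutative hAe.1)) r
  refine (prime_pow_le_relIndex hP hk).trans ?_
  have hA2 : q ^ 2 ≤ Nat.card A := hA3 ▸ Nat.pow_le_pow_right hq'.pos (by norm_num)
  refine (relIndex_le_prod_hyps hAe hA2 hq P hP.1 hP.isPGroup hPA _).trans ?_
  refine le_trans (Finset.prod_le_pow_card _ _ (m + 1) fun B' _ => ?_)
    (Nat.pow_le_pow_right (Nat.succ_pos m) ?_)
  · obtain ⟨a, haA, ha1, haB, haB'⟩ := exists_mem_inf_hyps hA3 B B'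
    refine le_trans ?_ ((hm a haA ha1).trans (Nat.le_succ m))
    refine relIndex_centralizer_le fun c hc => commutator_mem_commutator ⟨hP.1 hc.1, ?_⟩ ⟨hx.1, ?_⟩
    · exact centralizer_le (Set.singleton_subset_iff.2 haB') hc.2
    · exact centralizer_le (Set.singleton_subset_iff.2 haB) hx.2
  · rw [Finset.card_univ, ← hA3]; exact card_hyps_le q A

include hAe hA3 hq hAX hm in
/-- A normal subset of bounded size generating the derived subgroup, of elements of bounded order. -/
theorem exists_small_gen_commutator :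
    ∃ T : Finset E, T.card ≤ q ^ 3 * m * ((m + 1) ^ 2 ^ (q ^ 3)).factorial ^ 2 ∧
      (∀ t ∈ T, t ∈ X ∧ orderOf t ≤ m) ∧ (∀ g ∈ X, ∀ t ∈ T, g * t * g⁻¹ ∈ T) ∧
      ⁅X, X⁆ = closure (T : Set E) := by
  haveI := Fintype.ofFinite E
  set K := ((m + 1) ^ 2 ^ (q ^ 3)).factorial
  set Ca : E → Subgroup E := fun a => X ⊓ centralizer ({a} : Set E)
  set G0 : Set E := {x | ∃ B : hyps q A, x ∈ X ⊓ centralizer (B.1 : Set E)}
  set W : Finset E := (Finset.univ.filter fun w : E =>
    ∃ x ∈ G0, ∃ c ∈ G0, ⁅x, c⁆ = w)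
  set cls : E → Finset E := fun w => Finset.univ.filter fun t => ∃ g ∈ X, g * w * g⁻¹ = t
  refine ⟨W.biUnion cls, ?_, ?_, ?_, ?_⟩
  · have hW : W.card ≤ q ^ 3 * m := by
      have hsub : W ⊆ (Finset.univ.filter fun a : E => a ∈ A ∧ a ≠ 1).biUnion fun a =>
          Finset.univ.filter fun w : E => w ∈ ⁅Ca a, Ca a⁆ := by
        intro w hw
        obtain ⟨-, x, ⟨B, hx⟩, c, ⟨B', hc⟩, rfl⟩ := Finset.mem_filter.1 hw
        obtain ⟨a, haA, ha1, haB, haB'⟩ := exists_mem_inf_hyps hA3 B B'
        exact Finset.mem_biUnion.2 ⟨a, Finset.mem_filter.2 ⟨Finset.mem_univ _, haA, ha1⟩,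
          Finset.mem_filter.2 ⟨Finset.mem_univ _, commutator_mem_commutator
            ⟨hx.1, centralizer_le (Set.singleton_subset_iff.2 haB) hx.2⟩
            ⟨hc.1, centralizer_le (Set.singleton_subset_iff.2 haB') hc.2⟩⟩⟩
      refine (Finset.card_le_card hsub).trans ?_
      refine (Finset.card_biUnion_le_card_mul _ _ m fun a ha => ?_).trans
        (Nat.mul_le_mul_right m ?_)
      · obtain ⟨-, haA, ha1⟩ := Finset.mem_filter.1 ha
        refine le_of_eq_of_le ?_ (hm a haA ha1)
        rw [Nat.card_eq_fintype_card, Fintype.card_subtype]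
      · rw [← hA3, Nat.card_eq_fintype_card, Fintype.card_subtype]
        exact Finset.card_le_card fun a ha => by
          simp only [Finset.mem_filter] at ha ⊢; exact ⟨ha.1, ha.2.1⟩
    refine (Finset.card_biUnion_le_card_mul _ _ (K ^ 2) fun w hw => ?_).trans
      (Nat.mul_le_mul_right _ hW)
    obtain ⟨-, x, ⟨B, hx⟩, c, ⟨B', hc⟩, rfl⟩ := Finset.mem_filter.1 hw
    have hsub : cls ⁅x, c⁆ ⊆ (Finset.univ :
        Finset (X ⧸ (centralizer ({⁅x, c⁆} : Set E)).subgroupOf X)).image
          fun Q => (Q.out : E) * ⁅x, c⁆ * (Q.out : E)⁻¹ := by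
      intro t ht
      obtain ⟨-, g, hg, rfl⟩ := Finset.mem_filter.1 ht
      refine Finset.mem_image.2 ⟨QuotientGroup.mk (⟨g, hg⟩ : X), Finset.mem_univ _, ?_⟩
      set o := (QuotientGroup.mk (⟨g, hg⟩ : X) :
        X ⧸ (centralizer ({⁅x, c⁆} : Set E)).subgroupOf X).out with ho
      have h1 : o⁻¹ * (⟨g, hg⟩ : X) ∈ (centralizer ({⁅x, c⁆} : Set E)).subgroupOf X :=
        QuotientGroup.eq.1 (Quotient.out_eq _)
      rw [mem_subgroupOf, mem_centralizer_singleton_iff] at h1
      push_cast at h1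
      calc (o : E) * ⁅x, c⁆ * (o : E)⁻¹
          = (o : E) * (⁅x, c⁆ * ((o : E)⁻¹ * g)) * g⁻¹ := by group
        _ = g * ⁅x, c⁆ * g⁻¹ := by rw [← h1]; group
    refine (Finset.card_le_card hsub).trans (Finset.card_image_le.trans ?_)
    rw [Finset.card_univ, ← Nat.card_eq_fintype_card]
    change (centralizer ({⁅x, c⁆} : Set E)).relIndex X ≤ K ^ 2
    refine (relIndex_le_of_le_left (H := centralizer ({x} : Set E) ⊓ centralizer ({c} : Set E))
      (fun g hg => ?_) index_ne_zero_of_finite).trans ?_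
    · have h1 := mem_centralizer_singleton_iff.1 hg.1
      have h2 := mem_centralizer_singleton_iff.1 hg.2
      exact mem_centralizer_singleton_iff.2 (((Commute.mul_right h1 h2).mul_right
        (Commute.inv_right h1)).mul_right (Commute.inv_right h2)).eq
    · rw [pow_two]
      exact relIndex_inf_le.trans (Nat.mul_le_mul
        (relIndex_centralizer_hyps_le hAe hA3 hq hAX hm B hx)
        (relIndex_centralizer_hyps_le hAe hA3 hq hAX hm B' hc))
  · intro t ht
    obtain ⟨w, hw, htw⟩ := Finset.mem_biUnion.1 ht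
    obtain ⟨-, g, hg, rfl⟩ := Finset.mem_filter.1 htw
    obtain ⟨-, x, ⟨B, hx⟩, c, ⟨B', hc⟩, rfl⟩ := Finset.mem_filter.1 hw
    obtain ⟨a, haA, ha1, haB, haB'⟩ := exists_mem_inf_hyps hA3 B B'
    refine ⟨mul_mem (mul_mem hg ?_) (inv_mem hg), ?_⟩
    · rw [commutatorElement_def]
      exact mul_mem (mul_mem (mul_mem hx.1 hc.1) (inv_mem hx.1)) (inv_mem hc.1)
    · have hmem : ⁅x, c⁆ ∈ ⁅Ca a, Ca a⁆ := commutator_mem_commutator
        ⟨hx.1, centralizer_le (Set.singleton_subset_iff.2 haB) hx.2⟩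
        ⟨hc.1, centralizer_le (Set.singleton_subset_iff.2 haB') hc.2⟩
      rw [show orderOf (g * ⁅x, c⁆ * g⁻¹) = orderOf ⁅x, c⁆ from
        orderOf_injective (MulAut.conj g).toMonoidHom (MulAut.conj g).injective _]
      refine le_trans ?_ (hm a haA ha1)
      rw [← orderOf_mk (H := ⁅Ca a, Ca a⁆) ⁅x, c⁆ hmem]
      exact Nat.le_of_dvd Nat.card_pos (orderOf_dvd_natCard _)
  · intro g hg t ht
    obtain ⟨w, hw, htw⟩ := Finset.mem_biUnion.1 ht
    obtain ⟨-, g', hg', rfl⟩ := Finset.mem_filter.1 htw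
    exact Finset.mem_biUnion.2 ⟨w, hw, Finset.mem_filter.2
      ⟨Finset.mem_univ _, g * g', mul_mem hg hg', by group⟩⟩
  · set T := W.biUnion cls
    refine le_antisymm ?_ ((closure_le _).2 fun t ht => ?_)
    · have hTX : closure (T : Set E) ≤ X := (closure_le _).2 fun t ht => by
        obtain ⟨w, hw, htw⟩ := Finset.mem_biUnion.1 ht
        obtain ⟨-, g, hg, rfl⟩ := Finset.mem_filter.1 htw
        obtain ⟨-, x, ⟨B, hx⟩, c, ⟨B', hc⟩, rfl⟩ := Finset.mem_filter.1 hw
        rw [commutatorElement_def]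
        exact mul_mem (mul_mem hg (mul_mem (mul_mem (mul_mem hx.1 hc.1) (inv_mem hx.1))
          (inv_mem hc.1))) (inv_mem hg)
      set N := (closure (T : Set E)).subgroupOf X
      haveI : N.Normal := by
        refine (normal_subgroupOf_iff_le_normalizer hTX).2 fun g hg => ?_
        rw [← conjBy_eq_self_iff]
        have key : ∀ g ∈ X, conjBy g (closure (T : Set E)) ≤ closure (T : Set E) := fun g hg => by
          rw [conjBy, MonoidHom.map_closure, closure_le]
          rintro _ ⟨t, ht, rfl⟩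
          refine subset_closure ?_
          obtain ⟨w, hw, htw⟩ := Finset.mem_biUnion.1 ht
          obtain ⟨-, g', hg', rfl⟩ := Finset.mem_filter.1 htw
          exact Finset.mem_biUnion.2 ⟨w, hw, Finset.mem_filter.2
            ⟨Finset.mem_univ _, g * g', mul_mem hg hg', by simp [MulAut.conj_apply]; group⟩⟩
        refine le_antisymm (key g hg) ?_
        have h := key g⁻¹ (inv_mem hg)
        intro t ht
        rw [mem_conjBy]
        exact h (by rw [mem_conjBy]; simpa [mul_assoc] using ht)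
      let π := QuotientGroup.mk' N
      set gen : Set X := {x : X | (x : E) ∈ G0}
      have hgen : closure gen = ⊤ := by
        rw [eq_top_iff]
        rintro ⟨x, hx⟩ -
        have := le_of_hyperplanes hAe
          (hA3 ▸ Nat.pow_le_pow_right (Fact.out : q.Prime).pos (by norm_num)) hq hAX
          (W := (closure gen).map X.subtype) (fun B hB hB' y hy =>
            ⟨⟨y, hy.1⟩, subset_closure (show y ∈ G0 from ⟨⟨B, hB, hB'⟩, hy⟩), rfl⟩) hx
        obtain ⟨z, hz, hzx⟩ := this
        exact (Subtype.ext hzx : z = ⟨x, hx⟩) ▸ hz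
      have hcomm : ∀ x ∈ gen, ∀ c ∈ gen, π x * π c = π c * π x := fun x hx c hc => by
        rw [← commutatorElement_eq_one_iff_mul_comm, ← map_commutatorElement,
          QuotientGroup.mk'_apply, QuotientGroup.eq_one_iff, mem_subgroupOf]
        refine subset_closure (Finset.mem_biUnion.2 ⟨⁅(x : E), (c : E)⁆, Finset.mem_filter.2
          ⟨Finset.mem_univ _, x, hx, c, hc, rfl⟩, Finset.mem_filter.2
          ⟨Finset.mem_univ _, 1, X.one_mem, ?_⟩⟩)
        simp [commutatorElement_def]
      have h1 : ∀ x : X, ∀ c ∈ gen, π x * π c = π c * π x := fun x c hc => by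
        have hle : closure gen ≤ (centralizer ({π c} : Set (X ⧸ N))).comap π :=
          (closure_le _).2 fun y hy => mem_centralizer_singleton_iff.2 (hcomm y hy c hc)
        exact mem_centralizer_singleton_iff.1 (hle (hgen ▸ mem_top x))
      rw [commutator_le]
      intro x hx c hc
      have hle : closure gen ≤ (centralizer ({π ⟨x, hx⟩} : Set (X ⧸ N))).comap π :=
        (closure_le _).2 fun y hy => mem_centralizer_singleton_iff.2 (h1 ⟨x, hx⟩ y hy).symm
      have h2 := mem_centralizer_singleton_iff.1 (hle (hgen ▸ mem_top (⟨c, hc⟩ : X)))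
      rw [eq_comm, ← commutatorElement_eq_one_iff_mul_comm, ← map_commutatorElement,
        QuotientGroup.mk'_apply, QuotientGroup.eq_one_iff, mem_subgroupOf] at h2
      exact h2
    · obtain ⟨w, hw, htw⟩ := Finset.mem_biUnion.1 ht
      obtain ⟨-, g, hg, rfl⟩ := Finset.mem_filter.1 htw
      obtain ⟨-, x, ⟨B, hx⟩, c, ⟨B', hc⟩, rfl⟩ := Finset.mem_filter.1 hw
      rw [show g * ⁅x, c⁆ * g⁻¹ = ⁅g * x * g⁻¹, g * c * g⁻¹⁆ by
        simp only [commutatorElement_def]; group]
      exact commutator_mem_commutator (mul_mem (mul_mem hg hx.1) (inv_mem hg))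
        (mul_mem (mul_mem hg hc.1) (inv_mem hg))

end Main

section Schur

/-- A finite group generated by a normal subset of bounded size consisting of elements of bounded
order has bounded order. -/
theorem card_le_of_normal_gen {H : Type u} [Group H] [Finite H] (T : Finset H)
    (hgen : closure (T : Set H) = ⊤) (hconj : ∀ g : H, ∀ t ∈ T, g * t * g⁻¹ ∈ T) {S m : ℕ}
    (hS : T.card ≤ S) (hord : ∀ t ∈ T, orderOf t ≤ m) :
    Nat.card H ≤ (m + 1) ^ S *
      (Finset.range (((S + 1) ^ S) ^ 2 + 1)).sup cardCommutatorBound := by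
  set I := (S + 1) ^ S
  -- the centre has bounded index
  have hZ : (center H).index ≤ I := by
    have hle : (⨅ t : T, centralizer ({(t : H)} : Set H)) ≤ center H := by
      intro g hg
      have hc : closure (T : Set H) ≤ centralizer ({g} : Set H) :=
        (closure_le _).2 fun t ht => mem_centralizer_singleton_iff.2
          (mem_centralizer_singleton_iff.1 (mem_iInf.1 hg ⟨t, ht⟩)).symm
      exact mem_center_iff.2 fun y => mem_centralizer_singleton_iff.1 (hc (hgen ▸ mem_top y))
    refine (Nat.le_of_dvd (Nat.pos_of_ne_zero index_ne_zero_of_finite)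
      (index_dvd_of_le hle)).trans ?_
    refine (index_iInf_le _).trans ?_
    refine (Finset.prod_le_pow_card _ _ (S + 1) fun t _ => ?_).trans
      (Nat.pow_le_pow_right (Nat.succ_pos S) (by simpa using hS))
    refine le_trans ?_ (hS.trans (Nat.le_succ S))
    rw [← Nat.card_eq_finsetCard]
    refine Nat.card_le_card_of_injective
      (fun Q : H ⧸ centralizer ({(t : H)} : Set H) =>
        (⟨Q.out * t * Q.out⁻¹, hconj _ _ t.2⟩ : T)) fun Q Q' hQ => ?_
    rw [← Q.out_eq, ← Q'.out_eq]
    refine QuotientGroup.eq.2 (mem_centralizer_singleton_iff.2 ?_)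
    have e : Q.out * (t : H) * Q.out⁻¹ = Q'.out * t * Q'.out⁻¹ := congrArg Subtype.val hQ
    calc Q.out⁻¹ * Q'.out * (t : H) = Q.out⁻¹ * (Q'.out * t * Q'.out⁻¹) * Q'.out := by group
      _ = t * (Q.out⁻¹ * Q'.out) := by rw [← e]; group
  -- hence boundedly many commutators
  have hcs : Nat.card (commutatorSet H) ≤ I ^ 2 := by
    refine le_trans ?_ (Nat.pow_le_pow_left hZ 2)
    rw [index, pow_two, ← Nat.card_prod]
    refine Nat.card_le_card_of_surjective
      (fun p : (H ⧸ center H) × (H ⧸ center H) =>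
        (⟨⁅p.1.out, p.2.out⁆, ⟨_, _, rfl⟩⟩ : commutatorSet H)) ?_
    rintro ⟨_, x, y, rfl⟩
    refine ⟨(QuotientGroup.mk x, QuotientGroup.mk y), Subtype.ext ?_⟩
    have key : ∀ z : H, ∃ c ∈ center H,
        (QuotientGroup.mk z : H ⧸ center H).out = z * c := fun z => by
      obtain ⟨c, hc⟩ := QuotientGroup.mk_out_eq_mul (center H) z
      exact ⟨c, c.2, hc⟩
    obtain ⟨c, hc, ec⟩ := key x
    obtain ⟨d, hd, ed⟩ := key y
    show ⁅_, _⁆ = _
    rw [ec, ed]
    have hc' := mem_center_iff.1 hc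
    have hd' := mem_center_iff.1 hd
    simp only [commutatorElement_def, mul_inv_rev]
    calc x * c * (y * d) * (c⁻¹ * x⁻¹) * (d⁻¹ * y⁻¹)
        = x * (c * (y * d)) * (c⁻¹ * x⁻¹) * (d⁻¹ * y⁻¹) := by group
      _ = x * y * (d * x⁻¹) * (d⁻¹ * y⁻¹) := by rw [← hc' (y * d)]; group
      _ = x * y * x⁻¹ * y⁻¹ := by rw [← hd' x⁻¹]; group
  have h1 : Nat.card (_root_.commutator H) ≤ (Finset.range (I ^ 2 + 1)).sup cardCommutatorBound :=
    (card_commutator_le_of_finite_commutatorSet H).trans
      (Finset.le_sup (Finset.mem_range.2 (Nat.lt_succ_of_le hcs)))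
  -- the abelianization is generated by the images of `T`
  have h2 : Nat.card (Abelianization H) ≤ (m + 1) ^ S := by
    set ρ := (Abelianization.of : H →* Abelianization H)
    let φ : ((t : T) → zpowers (ρ t)) →* Abelianization H :=
      { toFun := fun f => ∏ t, (f t : Abelianization H)
        map_one' := by simp
        map_mul' := fun f g => by simp [Finset.prod_mul_distrib] }
    have hsurj : Function.Surjective φ := by
      rw [← MonoidHom.range_eq_top, eq_top_iff]
      intro y _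
      obtain ⟨h, rfl⟩ := QuotientGroup.mk_surjective y
      have hle : closure (T : Set H) ≤ φ.range.comap ρ := (closure_le _).2 fun t ht => by
        refine ⟨Pi.mulSingle (⟨t, ht⟩ : T) ⟨ρ t, mem_zpowers _⟩, ?_⟩
        show ∏ _, _ = _
        rw [Finset.prod_eq_single (⟨t, ht⟩ : T)] <;> simp +contextual [Pi.mulSingle_apply]
      exact hle (hgen ▸ mem_top h)
    refine (Nat.card_le_card_of_surjective φ hsurj).trans ?_
    rw [Nat.card_pi]
    refine (Finset.prod_le_pow_card _ _ (m + 1) fun t _ => ?_).trans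
      (Nat.pow_le_pow_right (Nat.succ_pos m) (by simpa using hS))
    rw [Nat.card_zpowers]
    exact (Nat.le_of_dvd (orderOf_pos _) (orderOf_map_dvd ρ _)).trans
      ((hord _ t.2).trans (Nat.le_succ m))
  rw [card_eq_card_quotient_mul_card_subgroup (_root_.commutator H)]
  exact Nat.mul_le_mul h2 h1

end Schur

/-- The bound. -/
noncomputable def derivedBound (q m : ℕ) : ℕ :=
  let S := q ^ 3 * m * ((m + 1) ^ 2 ^ (q ^ 3)).factorial ^ 2
  (m + 1) ^ S * (Finset.range (((S + 1) ^ S) ^ 2 + 1)).sup cardCommutatorBound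

theorem card_commutator_le_derivedBound {E : Type u} [Group E] [Finite E] {q : ℕ} [Fact q.Prime]
    {A X : Subgroup E} (hAe : Cfsg.IsElementaryAbelian q A) (hA3 : Nat.card A = q ^ 3)
    (hq : ¬ q ∣ Nat.card X) (hAX : A ≤ normalizer (X : Set E)) {m : ℕ}
    (hm : ∀ a ∈ A, a ≠ 1 →
      Nat.card ↥⁅X ⊓ centralizer ({a} : Set E), X ⊓ centralizer ({a} : Set E)⁆ ≤ m) :
    Nat.card ↥⁅X, X⁆ ≤ derivedBound q m := by
  obtain ⟨T, hT, hTo, hTc, hTe⟩ := exists_small_gen_commutator hAe hA3 hq hAX hm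
  rw [hTe]
  set H := Subgroup.closure (T : Set E)
  have hHX : H ≤ X := (closure_le _).2 fun t ht => (hTo t ht).1
  set T' : Finset H := T.subtype (fun t => t ∈ H)
  have hT' : T'.card = T.card := by
    rw [Finset.card_subtype, Finset.filter_true_of_mem]
    exact fun t ht => Subgroup.subset_closure ht
  refine card_le_of_normal_gen T' ?_ ?_ (hT'.trans_le hT) ?_
  · rw [show (T' : Set H) = H.subtype ⁻¹' (T : Set E) by ext; simp [T']]
    refine (Subgroup.map_injective H.subtype_injective) ?_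
    rw [MonoidHom.map_closure, ← MonoidHom.range_eq_map, range_subtype]
    refine congrArg Subgroup.closure (Set.image_preimage_eq_of_subset fun t ht => ?_)
    exact ⟨⟨t, Subgroup.subset_closure ht⟩, rfl⟩
  · intro g t ht
    simp only [T', Finset.mem_subtype] at ht ⊢
    push_cast
    exact hTc _ (hHX g.2) _ ht
  · intro t ht
    simp only [T', Finset.mem_subtype] at ht
    rw [← orderOf_submonoid t]
    exact (hTo _ ht).2

end CfsgLib.Coprime
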