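import Cfsg.Agent.Lib.Invol.StronglyEmbeddedOrbits
import Cfsg.Agent.Lib.Invol.ZStar
import Cfsg.Agent.Lib.Coprime.Core

/-!
# The fixed subgroup of a coprime automorphism is never strongly embedded

If a simple group `M` has an automorphism `a` of prime order prime to `|M|` whose fixed
subgroup `H` contains the centralizer of each of its involutions, then `H` would be strongly
embedded and every element inverted by an involution outside `H` and lying in `H` would be
inverted by an involution inside `H`; counting such pairs leaves a single involution in `H`,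
which is then isolated, against the Z*-theorem.
-/

namespace CfsgLib.Coprime.FixedEmbedded

open MulAction CfsgLib.Invol

variable {M : Type*} [Group M]

/-- The fixed subgroup of an automorphism. -/
def fix (a : MulAut M) : Subgroup M := MonoidHom.eqLocus a.toMonoidHom (MonoidHom.id M)

theorem mem_fix {a : MulAut M} {x : M} : x ∈ fix a ↔ a x = x := Iff.rfl

theorem pow_apply_of_fix {a : MulAut M} {g : M} (hc : g⁻¹ * a g ∈ fix a) (i : ℕ) :
    (a ^ i) g = g * (g⁻¹ * a g) ^ i := by
  induction i with
  | zero => simp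
  | succ i ih =>
    rw [pow_succ', MulAut.mul_apply, ih, map_mul, map_pow, mem_fix.1 hc, pow_succ']
    simp [mul_assoc]

theorem mem_fix_of_diff [Finite M] {p : ℕ} [Fact p.Prime] (hp : ¬ p ∣ Nat.card M) {a : MulAut M}
    (ha : a ^ p = 1) {g : M} (hc : g⁻¹ * a g ∈ fix a) : g ∈ fix a := by
  have h := pow_apply_of_fix hc p
  rw [ha, MulAut.one_apply, left_eq_mul] at h
  rcases (Nat.dvd_prime Fact.out).1 (orderOf_dvd_of_pow_eq_one h) with h1 | h1
  · rw [orderOf_eq_one_iff, inv_mul_eq_one] at h1
    exact h1.symm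
  · exact absurd (h1 ▸ orderOf_dvd_natCard _) hp

theorem stronglyEmbedded [Finite M] {p : ℕ} [Fact p.Prime] (hp : ¬ p ∣ Nat.card M) {a : MulAut M}
    (ha : a ^ p = 1) (hne : fix a ≠ ⊤) (heven : Even (Nat.card (fix a)))
    (hC : ∀ z ∈ fix a, orderOf z = 2 → Subgroup.centralizer ({z} : Set M) ≤ fix a) :
    Cfsg.IsStronglyEmbedded (fix a) := by
  refine (stronglyEmbedded_iff hne heven).2 fun z hz hzo g hg => mem_fix_of_diff hp ha (hC z hz hzo ?_)
  have h1 : a g * z * (a g)⁻¹ = g * z * g⁻¹ := by
    have h := mem_fix.1 hg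
    rwa [map_mul, map_mul, map_inv, mem_fix.1 hz] at h
  rw [Subgroup.mem_centralizer_singleton_iff]
  calc g⁻¹ * a g * z = g⁻¹ * (a g * z * (a g)⁻¹) * a g := by group
    _ = g⁻¹ * (g * z * g⁻¹) * a g := by rw [h1]
    _ = z * (g⁻¹ * a g) := by group

section Main

variable [Finite M] {p : ℕ} [Fact p.Prime] (hp : ¬ p ∣ Nat.card M) {a : MulAut M} (ha : a ^ p = 1)
  (hSE : Cfsg.IsStronglyEmbedded (fix a))

include hp ha hSE in
/-- An element of `H` inverted by an involution `u` outside `H` is inverted by an involution of `H`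
conjugate to `u` under its centralizer. -/
theorem exists_inner_inverter {u j : M} (hu : orderOf u = 2) (huH : u ∉ fix a) (hj : j ∈ fix a)
    (hinv : u * j * u⁻¹ = j⁻¹) :
    ∃ z y : M, orderOf z = 2 ∧ z ∈ fix a ∧ y * j = j * y ∧ y * z * y⁻¹ = u := by
  classical
  have hau : orderOf (a u) = 2 := (MulEquiv.orderOf_eq a u).trans hu
  have hinv' : a u * j * (a u)⁻¹ = j⁻¹ := by
    have h := congrArg a hinv
    rwa [map_mul, map_mul, map_inv, map_inv, mem_fix.1 hj] at h
  have hxj : Commute (u * a u) j := by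
    have h2 : u * a u * j * (u * a u)⁻¹ = j := by
      calc u * a u * j * (u * a u)⁻¹ = u * (a u * j * (a u)⁻¹) * u⁻¹ := by group
        _ = (u * j * u⁻¹)⁻¹ := by rw [hinv']; group
        _ = j := by rw [hinv, inv_inv]
    exact mul_inv_eq_iff_eq_mul.1 h2
  -- the two inverting involutions are conjugate
  have hodd : Odd (orderOf (u * a u)) := by
    by_contra hev
    rw [Nat.not_odd_iff_even] at hev
    set v := (u * a u) ^ (orderOf (u * a u) / 2)
    have hv : orderOf v = 2 := orderOf_pow_half hev
    have hvu : Commute v u := commute_pow_half (invol_conj_mul hu hau) hev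
    have hvau : Commute v (a u) := commute_pow_half (invol_conj_mul' hu hau) hev
    obtain ⟨t, htH, ht⟩ := exists_invol_mem hSE.2.1
    obtain ⟨g, hg⟩ := isConj_iff.1 (exists_conj_fixing hSE ht hu)
    have hg' : a g * t * (a g)⁻¹ = a u := by
      have h := congrArg a hg
      rwa [map_mul, map_mul, map_inv, mem_fix.1 htH] at h
    have hP : u • (g • ((1 : M) : M ⧸ fix a)) = g • ((1 : M) : M ⧸ fix a) := by
      rw [← hg, conj_fixes, fixed_one_iff]; exact htH
    have hQ : a u • (a g • ((1 : M) : M ⧸ fix a)) = a g • ((1 : M) : M ⧸ fix a) := by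
      rw [← hg', conj_fixes, fixed_one_iff]; exact htH
    have hvP : v • (g • ((1 : M) : M ⧸ fix a)) = g • ((1 : M) : M ⧸ fix a) := by
      refine fixed_unique hSE hu ?_ hP
      rw [smul_smul, ← hvu.eq, mul_smul, hP]
    have hvQ : v • (a g • ((1 : M) : M ⧸ fix a)) = a g • ((1 : M) : M ⧸ fix a) := by
      refine fixed_unique hSE hau ?_ hQ
      rw [smul_smul, ← hvau.eq, mul_smul, hQ]
    have hPQ := fixed_unique hSE hv hvP hvQ
    rw [MulAction.Quotient.smul_mk, MulAction.Quotient.smul_mk, QuotientGroup.eq, smul_eq_mul,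
      smul_eq_mul, mul_one, mul_one] at hPQ
    have hgH := mem_fix_of_diff hp ha hPQ
    exact huH (hg ▸ mul_mem (mul_mem hgH htH) (inv_mem hgH))
  obtain ⟨d, hd, hdu⟩ := exists_conj_eq_of_odd hu hau hodd
  let C : Subgroup M := Subgroup.centralizer ({j} : Set M)
  have hdC : d ∈ C := by
    obtain ⟨k, rfl⟩ := Subgroup.mem_zpowers_iff.1 hd
    exact Subgroup.mem_centralizer_singleton_iff.2 (hxj.zpow_left k).eq
  have haC : ∀ c ∈ C, a c ∈ C := fun c hc => by
    rw [Subgroup.mem_centralizer_singleton_iff] at hc ⊢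
    have h := congrArg a hc
    rwa [map_mul, map_mul, mem_fix.1 hj] at h
  let f : C →* ConjAct M := (ConjAct.toConjAct (G := M)).toMonoidHom.comp C.subtype
  letI : MulAction C M := MulAction.compHom M f
  have hsm : ∀ (c : C) (x : M), c • x = (c : M) * x * (c : M)⁻¹ :=
    fun c x => ConjAct.toConjAct_smul (c : M) x
  let O : Set M := MulAction.orbit C u
  have hOa : Set.MapsTo a O O := by
    rintro _ ⟨c, rfl⟩
    refine ⟨⟨a c * d, mul_mem (haC _ c.2) hdC⟩, ?_⟩
    simp only [hsm, map_mul, map_inv, ← hdu]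
    group
  let σ : Equiv.Perm O := Equiv.ofBijective (hOa.restrict a O O)
    (Finite.injective_iff_bijective.1 fun x y h => Subtype.ext (a.injective (congrArg Subtype.val h)))
  have hσ : σ ^ p ^ 1 = 1 := by
    have key : ∀ (i : ℕ) (x : O), ((σ ^ i) x : M) = (a ^ i) (x : M) := by
      intro i
      induction i with
      | zero => intro x; simp
      | succ i ih =>
        intro x
        rw [pow_succ', Equiv.Perm.mul_apply, pow_succ', MulAut.mul_apply, ← ih x]
        rfl
    ext x
    rw [key, pow_one, ha]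
    rfl
  have hcard : ¬ p ∣ Nat.card O := fun h => hp <| h.trans <| by
    have h1 : Nat.card O = (MulAction.stabilizer C u).index := by
      rw [MulAction.index_stabilizer, Nat.card_coe_set_eq]
    rw [h1]
    exact (Subgroup.index_dvd_card _).trans (Subgroup.card_subgroup_dvd_card C)
  have := Fintype.ofFinite O
  rw [Nat.card_eq_fintype_card] at hcard
  obtain ⟨⟨w, c, rfl⟩, hw⟩ := Equiv.Perm.exists_fixed_point_of_prime hcard hσ
  refine ⟨c • u, (c : M)⁻¹, ?_, congrArg Subtype.val hw, ?_, ?_⟩
  · rw [hsm]; exact invol_conj hu _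
  · exact Subgroup.mem_centralizer_singleton_iff.1 (inv_mem c.2)
  · rw [hsm]; group

open scoped Classical in
include hp ha hSE in
/-- The fixed subgroup, if strongly embedded with trivial core, has just one involution. -/
theorem subsingleton_invol (hcore : (fix a).normalCore = ⊥)
    (hC : ∀ z ∈ fix a, orderOf z = 2 → Subgroup.centralizer ({z} : Set M) ≤ fix a) :
    ∀ z w : M, z ∈ fix a → orderOf z = 2 → w ∈ fix a → orderOf w = 2 → z = w := by
  classical
  have := Fintype.ofFinite M
  have := Fintype.ofFinite (M ⧸ fix a)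
  let o : M ⧸ fix a := ((1 : M) : M ⧸ fix a)
  let J : Finset M := Finset.univ.filter fun t => orderOf t = 2 ∧ t ∈ fix a
  let U : Finset M := Finset.univ.filter fun t => orderOf t = 2 ∧ t ∉ fix a
  have hmemU : ∀ {t : M}, t ∈ U ↔ orderOf t = 2 ∧ t ∉ fix a := by simp [U]
  have hmemJ : ∀ {t : M}, t ∈ J ↔ orderOf t = 2 ∧ t ∈ fix a := by simp [J]
  set n := Fintype.card (M ⧸ fix a)
  have hne : ∀ u ∈ U, u • o ≠ o := fun u hu h => (hmemU.1 hu).2 (fixed_one_iff.1 h)
  have hfib : ∀ x : M ⧸ fix a, x ≠ o → (U.filter fun i => i • o = x).card = J.card := by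
    intro x hx
    have h := card_swap_eq hSE o x hx.symm
    rw [Nat.card_eq_fintype_card, Nat.card_eq_fintype_card, Fintype.card_subtype,
      Fintype.card_subtype] at h
    refine Eq.trans ?_ h
    congr 1
    ext i
    simp only [Finset.mem_filter, hmemU, Finset.mem_univ, true_and]
    exact ⟨fun h => ⟨h.1.1, h.2⟩, fun h => ⟨⟨h.1, fun hi => hx (h.2.symm.trans (fixed_one_iff.2 hi))⟩, h.2⟩⟩
  have hUcard : U.card = (n - 1) * J.card := by
    rw [Finset.card_eq_sum_card_fiberwise (f := fun i => i • o) (t := Finset.univ.erase o)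
      (fun u hu => Finset.mem_erase.2 ⟨hne u hu, Finset.mem_univ _⟩),
      Finset.sum_congr rfl (fun x hx => hfib x (Finset.mem_erase.1 hx).1), Finset.sum_const,
      smul_eq_mul, Finset.card_erase_of_mem (Finset.mem_univ _), Finset.card_univ]
  let A : Finset (M × M) := (U ×ˢ U).filter fun q => q.2 • o = q.1 • o ∧ q.1 ≠ q.2
  let B : Finset (M × M) := J.offDiag
  have hA : A.card = U.card * (J.card - 1) := by
    rw [Finset.card_eq_sum_card_fiberwise (f := Prod.fst) (t := U)
      (fun q hq => (Finset.mem_product.1 (Finset.mem_filter.1 hq).1).1)]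
    rw [← smul_eq_mul, ← Finset.sum_const]
    refine Finset.sum_congr rfl fun u hu => ?_
    have huF : u ∈ U.filter fun i => i • o = u • o := Finset.mem_filter.2 ⟨hu, rfl⟩
    rw [← hfib _ (hne u hu), ← Finset.card_erase_of_mem huF]
    refine Finset.card_bij (fun q _ => q.2) ?_ ?_ ?_
    · intro q hq
      simp only [A, Finset.mem_filter, Finset.mem_product] at hq
      rw [Finset.mem_erase, Finset.mem_filter, ← hq.2]
      exact ⟨hq.1.2.2.symm, hq.1.1.2, hq.1.2.1⟩
    · intro q hq r hr h
      exact Prod.ext ((Finset.mem_filter.1 hq).2.trans (Finset.mem_filter.1 hr).2.symm) h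
    · intro i hi
      rw [Finset.mem_erase, Finset.mem_filter] at hi
      exact ⟨(u, i), by simp [A, hu, hi.2.1, hi.2.2, Ne.symm hi.1], rfl⟩
  let K : Finset M := A.image fun q => q.1 * q.2
  have key : ∀ j ∈ K, (A.filter fun q => q.1 * q.2 = j).card ≤
      (n - 2) * (B.filter fun q => q.1 * q.2 = j).card := by
    intro j hj
    obtain ⟨⟨u₀, i₀⟩, hq, rfl⟩ := Finset.mem_image.1 hj
    simp only [A, Finset.mem_filter, Finset.mem_product, hmemU] at hq
    obtain ⟨⟨⟨hu₀, hu₀H⟩, hi₀, -⟩, hio, hne₀⟩ := hq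
    set j := u₀ * i₀ with hjdef
    have hjH : j ∈ fix a := by
      simp only [o, MulAction.Quotient.smul_mk, QuotientGroup.eq, smul_eq_mul, mul_one] at hio
      have h := inv_mem hio
      rwa [mul_inv_rev, inv_inv, invol_inv hu₀] at h
    have hj1 : j ≠ 1 := fun h => hne₀ (by
      have := eq_inv_of_mul_eq_one_left (hjdef.symm.trans h); rwa [invol_inv hi₀] at this)
    have hinv₀ : u₀ * j * u₀⁻¹ = j⁻¹ := invol_conj_mul hu₀ hi₀
    have hj2 : orderOf j ≠ 2 := fun h => hu₀H <| hC j hjH h <| by
      rw [Subgroup.mem_centralizer_singleton_iff]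
      have h' := hinv₀
      rw [invol_inv h, mul_inv_eq_iff_eq_mul] at h'
      exact h'
    let Uj := U.filter fun u => u * j * u⁻¹ = j⁻¹
    let Jj := J.filter fun u => u * j * u⁻¹ = j⁻¹
    have h1 : (A.filter fun q => q.1 * q.2 = j).card ≤ Uj.card := by
      refine Finset.card_le_card_of_injOn Prod.fst ?_ ?_
      · intro q hq
        simp only [A, Finset.coe_filter, Finset.mem_filter, Finset.mem_product, Set.mem_setOf_eq] at hq
        simp only [Uj, Finset.coe_filter, Set.mem_setOf_eq]
        refine ⟨hq.1.1.1, ?_⟩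
        rw [← hq.2]
        exact invol_conj_mul (hmemU.1 hq.1.1.1).1 (hmemU.1 hq.1.1.2).1
      · intro q hq r hr h
        simp only [Finset.coe_filter, Set.mem_setOf_eq] at hq hr
        refine Prod.ext h (mul_left_cancel (a := q.1) ?_)
        rw [hq.2, h, hr.2]
    have h2 : Jj.card ≤ (B.filter fun q => q.1 * q.2 = j).card := by
      refine Finset.card_le_card_of_injOn (fun z => (z, z * j)) ?_ ?_
      · intro z hz
        simp only [Jj, Finset.coe_filter, Set.mem_setOf_eq, hmemJ] at hz
        obtain ⟨⟨hzo, hzH⟩, hzi⟩ := hz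
        simp only [B, Finset.coe_filter, Set.mem_setOf_eq, Finset.mem_offDiag, hmemJ]
        have hzj : z * j * (z * j) = 1 := by
          rw [invol_inv hzo] at hzi
          calc z * j * (z * j) = z * j * z * j := by group
            _ = 1 := by rw [hzi]; group
        refine ⟨⟨⟨hzo, hzH⟩, ⟨invol_iff.2 ⟨hzj, fun h => hj2 ?_⟩, mul_mem hzH hjH⟩,
          fun h => hj1 (left_eq_mul.1 h)⟩, ?_⟩
        · rw [← (inv_eq_of_mul_eq_one_right h), invol_inv hzo]; exact hzo
        · rw [← mul_assoc, invol_mul_self hzo, one_mul]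
      · exact fun z _ w _ h => (Prod.ext_iff.1 h).1
    let F := Finset.univ.filter fun x : M ⧸ fix a => x ≠ o ∧ j • x = x
    have hF : F.card ≤ n - 2 := by
      obtain ⟨x, hx⟩ : ∃ x : M ⧸ fix a, j • x ≠ x := by
        by_contra h
        push Not at h
        refine hj1 ?_
        rw [← Subgroup.mem_bot, ← hcore]
        intro b
        have hb := h ((b⁻¹ : M) : M ⧸ fix a)
        rw [MulAction.Quotient.smul_mk, QuotientGroup.eq, smul_eq_mul] at hb
        simpa [mul_assoc] using inv_mem hb
      have hxo : x ≠ o := fun h => hx (h ▸ fixed_one_iff.2 hjH)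
      refine le_trans (Finset.card_le_card (t := (Finset.univ.erase o).erase x) ?_) ?_
      · intro y hy
        simp only [F, Finset.mem_filter] at hy
        simp only [Finset.mem_erase, Finset.mem_univ, and_true]
        exact ⟨fun h => hx (h ▸ hy.2.2), hy.2.1⟩
      · rw [Finset.card_erase_of_mem (by simp [hxo]), Finset.card_erase_of_mem (Finset.mem_univ _),
          Finset.card_univ]
        exact le_of_eq (Nat.sub_sub _ _ _)
    have hP : ∀ u ∈ Uj, ∃ y : M, y * j = j * y ∧ u • (y • o) = y • o := by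
      intro u hu
      simp only [Uj, Finset.mem_filter, hmemU] at hu
      obtain ⟨z, y, -, hzH, hy, rfl⟩ := exists_inner_inverter hp ha hSE hu.1.1 hu.1.2 hjH hu.2
      exact ⟨y, hy, conj_fixes.2 (fixed_one_iff.2 hzH)⟩
    choose! y hyc hyf using hP
    have hmaps : ∀ u ∈ Uj, y u • o ∈ F := by
      intro u hu
      simp only [F, Finset.mem_filter, Finset.mem_univ, true_and]
      refine ⟨fun h => ?_, ?_⟩
      · have h' := hyf u hu
        rw [h] at h'
        exact hne u (Finset.mem_filter.1 hu).1 h'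
      · rw [smul_smul, ← hyc u hu, mul_smul]
        exact congrArg (y u • ·) (fixed_one_iff.2 hjH)
    have h3 : Uj.card ≤ F.card * Jj.card := by
      rw [mul_comm]
      refine Finset.card_le_mul_card_image_of_maps_to hmaps _ fun x hx => ?_
      rcases (Uj.filter fun u => y u • o = x).eq_empty_or_nonempty with h0 | ⟨u₁, hu₁⟩
      · rw [h0]; simp
      rw [Finset.mem_filter] at hu₁
      set c := y u₁
      have hcj : c * j = j * c := hyc u₁ hu₁.1
      refine Finset.card_le_card_of_injOn (fun u => c⁻¹ * u * c) ?_ ?_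
      · intro u hu
        simp only [Finset.coe_filter, Set.mem_setOf_eq] at hu
        simp only [Jj, Finset.coe_filter, Set.mem_setOf_eq, hmemJ]
        have hu' := Finset.mem_filter.1 hu.1
        refine ⟨⟨?_, ?_⟩, ?_⟩
        · simpa using invol_conj (hmemU.1 hu'.1).1 c⁻¹
        · rw [← fixed_one_iff (H := fix a)]
          have h' := hyf u hu.1
          rw [hu.2, ← hu₁.2] at h'
          rw [mul_smul, mul_smul, h', inv_smul_smul]
        · have e1 : c * j * c⁻¹ = j := by rw [hcj, mul_inv_cancel_right]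
          have e2 : c⁻¹ * j⁻¹ * c = j⁻¹ := by
            rw [mul_assoc, ← (Commute.inv_right (show Commute c j from hcj)).eq, inv_mul_cancel_left]
          calc c⁻¹ * u * c * j * (c⁻¹ * u * c)⁻¹ = c⁻¹ * (u * (c * j * c⁻¹) * u⁻¹) * c := by group
            _ = j⁻¹ := by rw [e1, hu'.2, e2]
      · exact fun u _ v _ h => mul_left_cancel (mul_right_cancel h)
    calc _ ≤ Uj.card := h1
      _ ≤ F.card * Jj.card := h3
      _ ≤ _ := Nat.mul_le_mul hF h2
  have htot : A.card ≤ (n - 2) * B.card := by
    rw [Finset.card_eq_sum_card_fiberwise (f := fun q : M × M => q.1 * q.2) (t := K)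
      (fun q hq => Finset.mem_image_of_mem _ hq)]
    refine (Finset.sum_le_sum key).trans ?_
    rw [← Finset.mul_sum]
    refine Nat.mul_le_mul_left _ ?_
    rw [← Finset.card_biUnion]
    · exact Finset.card_le_card fun q hq => by
        obtain ⟨j, -, hq⟩ := Finset.mem_biUnion.1 hq
        exact (Finset.mem_filter.1 hq).1
    · intro j _ k _ hjk
      exact Finset.disjoint_left.2 fun q h h' =>
        hjk ((Finset.mem_filter.1 h).2.symm.trans (Finset.mem_filter.1 h').2)
  have hJ : J.card ≤ 1 := by
    rw [hA, hUcard, show B.card = J.card * J.card - J.card from Finset.offDiag_card J] at htot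
    by_contra hJ
    obtain ⟨k, hk⟩ : ∃ k, J.card = k + 2 := ⟨J.card - 2, by omega⟩
    have hn : 2 ≤ n := by
      have : Nonempty (M ⧸ fix a) := ⟨o⟩
      have h1 : (fix a).index ≠ 1 := fun h => hSE.1 (Subgroup.index_eq_one.1 h)
      rw [Subgroup.index, Nat.card_eq_fintype_card] at h1
      have := Fintype.card_pos (α := M ⧸ fix a)
      omega
    obtain ⟨l, hl⟩ : ∃ l, n = l + 2 := ⟨n - 2, by omega⟩
    rw [hk, hl, show l + 2 - 1 = l + 1 by omega, show k + 2 - 1 = k + 1 by omega,
      show l + 2 - 2 = l by omega,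
      show (k + 2) * (k + 2) - (k + 2) = (k + 2) * (k + 1) by
        rw [Nat.mul_succ (k + 2) (k + 1)]; omega] at htot
    nlinarith
  intro z w hz hzo hw hwo
  exact Finset.card_le_one.1 hJ z (hmemJ.2 ⟨hzo, hz⟩) w (hmemJ.2 ⟨hwo, hw⟩)

end Main

/-- The fixed subgroup of a coprime automorphism of a simple group cannot contain the centralizer
of each of its involutions, unless it is everything or has odd order. -/
theorem false_of_centralizers_le [Finite M] [IsSimpleGroup M] (hM : ¬ IsMulCommutative M) {p : ℕ}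
    [Fact p.Prime] (hp : ¬ p ∣ Nat.card M) {a : MulAut M} (ha : a ^ p = 1) (hne : fix a ≠ ⊤)
    (heven : Even (Nat.card (fix a)))
    (hC : ∀ z ∈ fix a, orderOf z = 2 → Subgroup.centralizer ({z} : Set M) ≤ fix a) : False := by
  have hSE := stronglyEmbedded hp ha hne heven hC
  have hcore : (fix a).normalCore = ⊥ :=
    ((Subgroup.normalCore_normal (fix a)).eq_bot_or_eq_top).resolve_right
      fun h => hne (eq_top_iff.2 (h ▸ Subgroup.normalCore_le _))
  have hsub := subsingleton_invol hp ha hSE hcore hC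
  obtain ⟨z, hz, hzo⟩ := exists_invol_mem heven
  have hiso : Cfsg.IsIsolatedInvolution z := by
    refine ⟨hzo, fun g hg => hsub _ _ (hC z hz hzo ?_) (invol_conj hzo g) hz hzo⟩
    exact Subgroup.mem_centralizer_singleton_iff.2 hg.eq.symm
  have hO : Cfsg.pPrimeCore 2 M = ⊥ := by
    have : (Cfsg.pPrimeCore 2 M).Normal := Subgroup.sSup_normal _ fun N hN => hN.1
    refine (Subgroup.Normal.eq_bot_or_eq_top inferInstance).resolve_right fun h => ?_
    have h2 := CfsgLib.Coprime.pPrimeCore_not_dvd (G := M) Nat.prime_two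
    rw [h, Subgroup.card_top] at h2
    exact h2 (hzo ▸ orderOf_dvd_natCard z)
  have hzc : z ∈ Subgroup.center M := by
    rw [Subgroup.mem_center_iff]
    intro g
    have h := CfsgLib.Invol.zstar hiso g
    rw [hO, Subgroup.mem_bot, mul_inv_eq_one, mul_inv_eq_iff_eq_mul] at h
    exact h.symm
  have hcen : Subgroup.center M = ⊥ :=
    (Subgroup.Normal.eq_bot_or_eq_top inferInstance).resolve_right fun h => hM
      ⟨⟨fun x y => ((Subgroup.mem_center_iff.1 (h ▸ Subgroup.mem_top x)) y).symm⟩⟩
  rw [hcen, Subgroup.mem_bot] at hzc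
  exact invol_ne_one hzo hzc

end CfsgLib.Coprime.FixedEmbedded
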