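import Cfsg.Agent.Lib.Coprime.SupersolvableCriteria
import Cfsg.Agent.Lib.Coprime.GeneralizedFittingQuotient
import Cfsg.Agent.Lib.Coprime.AveragedComplement
import Cfsg.Agent.Lib.PGroup.SylowTowerCount
import Cfsg.Agent.Lib.Coprime.PGroupFrattini
import Mathlib.FieldTheory.Finite.Basic
import Mathlib.Algebra.Module.LinearMap.End
import Mathlib.Algebra.Module.ZMod

/-!
# Huppert's theorem: all maximal subgroups of prime index gives supersolvable
-/

set_option autoImplicit false
set_option linter.unusedSectionVars false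

namespace CfsgLib.Coprime

open Subgroup Polynomial
open scoped commutatorElement IsMulCommutative

universe u

/-- An endomorphism `f` with `f ^ q = f` of a vector space over `𝔽_q` has an eigenvector. -/
theorem exists_eigen_of_pow_card {q : ℕ} [Fact q.Prime] {V : Type*} [AddCommGroup V]
    [Module (ZMod q) V] (f : Module.End (ZMod q) V) (hf : f ^ q = f) {x : V} (hx : x ≠ 0) :
    ∃ (c : ZMod q) (y : V), y ≠ 0 ∧ f y = c • y := by
  classical
  have key : ∀ (m : Multiset (ZMod q)) (x : V), x ≠ 0 →
      Polynomial.aeval f ((m.map fun a => X - C a).prod) x = 0 →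
      ∃ (c : ZMod q) (y : V), y ≠ 0 ∧ f y = c • y := by
    intro m
    induction m using Multiset.induction with
    | empty => intro x hx h; exact absurd (by simpa using h) hx
    | cons a m ih =>
      intro x hx h
      rw [Multiset.map_cons, Multiset.prod_cons, map_mul, Module.End.mul_apply] at h
      by_cases h0 : Polynomial.aeval f ((m.map fun a => X - C a).prod) x = 0
      · exact ih x hx h0
      · refine ⟨a, _, h0, ?_⟩
        rw [map_sub, aeval_X, aeval_C, LinearMap.sub_apply, sub_eq_zero] at h
        rw [h, Module.algebraMap_end_apply]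
  have hq : 1 < q := (Fact.out : q.Prime).one_lt
  have hprod : ((Finset.univ : Finset (ZMod q)).val.map fun a => X - C a).prod
      = (X ^ q - X : (ZMod q)[X]) := by
    have hr : (X ^ q - X : (ZMod q)[X]).roots = (Finset.univ : Finset (ZMod q)).val := by
      have := FiniteField.roots_X_pow_card_sub_X (ZMod q)
      rwa [ZMod.card] at this
    rw [← hr]
    refine prod_multiset_X_sub_C_of_monic_of_roots_card_eq ?_ ?_
    · exact monic_X_pow_sub (by rw [degree_X]; exact_mod_cast hq)
    · rw [hr, FiniteField.X_pow_card_sub_X_natDegree_eq (ZMod q) hq]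
      simp [ZMod.card]
  refine key (Finset.univ : Finset (ZMod q)).val x hx ?_
  rw [hprod, map_sub, map_pow, aeval_X, hf, sub_self, LinearMap.zero_apply]

theorem exists_eigen_of_iterate_eq_aux {q : ℕ} [Fact q.Prime] {V : Type u} [AddCommGroup V]
    [Module (ZMod q) V] (f : V →+ V) (hf : ∀ v, f^[q] v = f v) {x : V} (hx : x ≠ 0) :
    ∃ (c : ℕ) (y : V), y ≠ 0 ∧ f y = c • y := by
  have hpow : (f.toZModLinearMap q : Module.End (ZMod q) V) ^ q = f.toZModLinearMap q := by
    refine LinearMap.ext fun v => ?_
    rw [Module.End.coe_pow]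
    exact hf v
  obtain ⟨c, y, hy, hyc⟩ := exists_eigen_of_pow_card _ hpow hx
  refine ⟨c.val, y, hy, ?_⟩
  calc f y = c • y := hyc
    _ = c.val • y := by rw [← Nat.cast_smul_eq_nsmul (ZMod q), ZMod.natCast_zmod_val]

/-- The same for an additive endomorphism of a group of exponent `q`. -/
theorem exists_eigen_of_iterate_eq {q : ℕ} [Fact q.Prime] {V : Type u} [AddCommGroup V]
    (h : ∀ v : V, q • v = 0) (f : V →+ V) (hf : ∀ v, f^[q] v = f v) {x : V} (hx : x ≠ 0) :
    ∃ (c : ℕ) (y : V), y ≠ 0 ∧ f y = c • y :=
  @exists_eigen_of_iterate_eq_aux q _ V _ (AddCommGroup.zmodModule h) f hf x hx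

variable {G : Type u} [Group G]

/-- An element of order prime to `q` of a supersolvable group has its `(q-1)`-st power trivial on
every normal `q`-subgroup. -/
theorem pow_sub_one_centralizes [Finite G] {q : ℕ} [hqf : Fact q.Prime]
    (hG : Cfsg.IsSupersolvable G) {V : Subgroup G} [V.Normal] (hV : IsPGroup q V) {y : G}
    (hy : (orderOf y).Coprime q) : y ^ (q - 1) ∈ centralizer (V : Set G) := by
  induction hk : Nat.card G using Nat.strong_induction_on generalizing G with
  | _ k ih =>
  subst hk
  have hq : q.Prime := hqf.out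
  by_cases hV0 : V = ⊥
  · subst hV0
    exact mem_centralizer_iff.2 fun x hx => by rw [mem_bot.1 hx]; simp
  obtain ⟨Y, hYV, hYn, hYp⟩ := exists_normal_prime_order_le hG V hV0
  haveI := hYn
  have hYq : Nat.card Y = q := by
    obtain ⟨j, hj⟩ := IsPGroup.iff_card.1 (hV.to_le hYV)
    have := hj ▸ hYp
    obtain ⟨rfl, -⟩ : j = 1 ∧ True := ⟨(Nat.Prime.pow_eq_iff this).1 rfl |>.2, trivial⟩
    rw [hj, pow_one]
  set w := y ^ (q - 1) with hw
  have hwY : ∀ z ∈ Y, w * z * w⁻¹ = z := by
    intro z hz
    by_cases hz1 : z = 1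
    · simp [hz1]
    have hgen : zpowers (⟨z, hz⟩ : Y) = ⊤ :=
      zpowers_eq_top_of_prime_card hYq (fun e => hz1 (congrArg Subtype.val e))
    obtain ⟨i, hi⟩ := mem_zpowers_iff.1 (hgen.ge (mem_top ⟨y * z * y⁻¹, hYn.conj_mem z hz y⟩))
    have hi' : y * z * y⁻¹ = z ^ i := by simpa using (congrArg Subtype.val hi).symm
    have hit : ∀ j : ℕ, y ^ j * z * (y ^ j)⁻¹ = z ^ (i ^ j) := by
      intro j
      induction j with
      | zero => simp
      | succ j ihj =>
        rw [pow_succ' y, show y * y ^ j * z * (y * y ^ j)⁻¹ = y * (y ^ j * z * (y ^ j)⁻¹) * y⁻¹ by group,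
          ihj, ← conj_zpow, hi', ← zpow_mul, ← pow_succ']
    have hord : orderOf z = q :=
      orderOf_eq_prime (by simpa [hYq] using congrArg Subtype.val (pow_card_eq_one' (x := (⟨z, hz⟩ : Y))))
        hz1
    have hcop : IsCoprime i (q : ℤ) := by
      rw [Int.isCoprime_iff_gcd_eq_one, Int.gcd_comm]
      rcases (Nat.dvd_prime hq).1 (Int.gcd_dvd_natAbs_left (q : ℤ) i) with h | h
      · exact h
      · exfalso
        have hd : (q : ℤ) ∣ i := by rw [← h]; exact Int.gcd_dvd_right _ _
        rw [orderOf_dvd_iff_zpow_eq_one.1 (hord ▸ hd), mul_inv_eq_one] at hi'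
        exact hz1 (mul_left_cancel (hi'.trans (mul_one y).symm))
    have hfer : (i ^ (q - 1)) ≡ 1 [ZMOD q] := Int.ModEq.pow_card_sub_one_eq_one hq hcop
    rw [hw, hit]
    conv_rhs => rw [← zpow_one z]
    rw [zpow_eq_zpow_iff_modEq, hord]
    exact hfer
  -- the quotient
  set f := QuotientGroup.mk' Y with hf
  haveI : (V.map f).Normal := Normal.map inferInstance f (QuotientGroup.mk'_surjective Y)
  have h1 := ih _ (card_quotient_lt_of_ne_bot (N := Y) (fun e => hYp.ne_one (by rw [e, card_bot])))
    (CfsgLib.PGroup.isSupersolvable_quotient hG Y) (V := V.map f) (hV.map f) (y := f y)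
    (hy.coprime_dvd_left (orderOf_map_dvd f y)) rfl
  refine mem_centralizer_iff.2 fun v hv => ?_
  set u := w * v * w⁻¹ * v⁻¹ with hu
  have huY : u ∈ Y := by
    rw [← QuotientGroup.eq_one_iff (N := Y), ← QuotientGroup.mk'_apply, ← hf, hu, map_mul, map_mul,
      map_mul, map_inv, map_inv, hw, map_pow]
    rw [← mem_centralizer_iff.1 h1 (f v) (mem_map_of_mem f hv)]
    group
  have hu1 : u = 1 := by
    have h0 := hwY u huY
    have hit : ∀ j : ℕ, w ^ j * v * (w ^ j)⁻¹ = u ^ j * v := by
      intro j
      induction j with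
      | zero => simp
      | succ j ihj =>
        have hcj : w * u ^ j * w⁻¹ = u ^ j := by rw [← conj_pow, h0]
        rw [pow_succ' w, show w * w ^ j * v * (w * w ^ j)⁻¹ = w * (w ^ j * v * (w ^ j)⁻¹) * w⁻¹ by group,
          ihj, show w * (u ^ j * v) * w⁻¹ = w * u ^ j * w⁻¹ * (w * v * w⁻¹) by group, hcj,
          show w * v * w⁻¹ = u * v from (inv_mul_cancel_right _ v).symm, ← mul_assoc, ← pow_succ]
    have h2 := hit (orderOf w)
    rw [pow_orderOf_eq_one, one_mul, inv_one, mul_one, right_eq_mul] at h2
    obtain ⟨j, hj⟩ := hV ⟨u, hYV huY⟩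
    exact orderOf_eq_one_iff.1 (Nat.eq_one_of_dvd_coprimes
      (((hy.coprime_dvd_left (orderOf_pow_dvd (q - 1))).pow_right j))
      (orderOf_dvd_of_pow_eq_one h2) (orderOf_dvd_of_pow_eq_one (by simpa using congrArg Subtype.val hj)))
  rw [hu, mul_inv_eq_one, mul_inv_eq_iff_eq_mul] at hu1
  exact hu1.symm

/-- Huppert: if every maximal subgroup has prime index the group is supersolvable. -/
theorem isSupersolvable_of_maximal_index_prime [Finite G]
    (h : ∀ M : Subgroup G, IsCoatom M → M.index.Prime) : Cfsg.IsSupersolvable G := by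
  induction hk : Nat.card G using Nat.strong_induction_on generalizing G with
  | _ k ih =>
  subst hk
  rcases subsingleton_or_nontrivial G with hs | hs
  · exact isSupersolvable_of_subsingleton
  have hquot : ∀ (M : Subgroup G) [M.Normal], M ≠ ⊥ → Cfsg.IsSupersolvable (G ⧸ M) := by
    intro M _ hM
    refine ih _ (card_quotient_lt_of_ne_bot hM) (fun K hK => ?_) rfl
    rw [← index_comap_of_surjective K (QuotientGroup.mk'_surjective M)]
    exact h _ (isCoatom_comap_of_surjective (QuotientGroup.mk'_surjective M) hK)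
  haveI hsol : Group.IsSolvable G := isSolvable_of_maximal_index_prime h
  obtain ⟨N, hNn, hN0, -, hNmin⟩ := exists_minimal_normal_le (N := (⊤ : Subgroup G)) top_ne_bot
  haveI := hNn
  haveI : Group.IsSolvable N := inferInstance
  obtain ⟨hNc, q, hq, hNq⟩ := minimal_normal_solvable hN0 hNmin
  haveI := Fact.mk hq
  have hNqq : IsPGroup q N := fun x => ⟨1, Subtype.ext (by simpa using hNq x x.2)⟩
  by_cases hother : ∃ M : Subgroup G, M.Normal ∧ M ≠ ⊥ ∧ N ⊓ M = ⊥
  · obtain ⟨M, hMn, hM0, hNM⟩ := hother
    refine isSupersolvable_of_injective (isSupersolvable_prod (hquot N hN0) (hquot M hM0))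
      ((QuotientGroup.mk' N).prod (QuotientGroup.mk' M)) ?_
    refine (injective_iff_map_eq_one _).2 fun x hx => ?_
    have h1 := Prod.mk.inj (hx : (QuotientGroup.mk' N x, QuotientGroup.mk' M x) = (1, 1))
    rw [QuotientGroup.mk'_apply, QuotientGroup.eq_one_iff, QuotientGroup.mk'_apply,
      QuotientGroup.eq_one_iff] at h1
    exact mem_bot.1 (hNM ▸ mem_inf.2 h1)
  push Not at hother
  have huniq : ∀ M : Subgroup G, M.Normal → M ≠ ⊥ → N ≤ M := fun M hM hM0 =>
    inf_eq_left.1 ((hNmin (N ⊓ M) inferInstance inf_le_left).resolve_left (hother M hM hM0))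
  by_cases hΦ : ∃ M : Subgroup G, IsCoatom M ∧ ¬ N ≤ M
  · obtain ⟨M, hM, hle⟩ := hΦ
    have htop : N ⊔ M = ⊤ :=
      hM.2 _ (lt_of_le_of_ne le_sup_right fun e => hle (le_sup_left.trans e.ge))
    haveI hMN : (N ⊓ M).Normal := by
      rw [← normalizer_eq_top_iff, eq_top_iff, ← htop]
      refine sup_le (fun a ha => mem_normalizer_iff.2 fun x => ?_) ?_
      · constructor
        · intro hx; rwa [show a * x * a⁻¹ = x by rw [hNc a ha x hx.1, mul_inv_cancel_right]]
        · intro hx
          have hxN : x ∈ N := by simpa [mul_assoc] using hNn.conj_mem _ hx.1 a⁻¹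
          rwa [show a * x * a⁻¹ = x by rw [hNc a ha x hxN, mul_inv_cancel_right]] at hx
      · exact inf_le_normalizer (by rw [normalizer_eq_top (H := N)]; exact le_top) le_normalizer
    have hbot : N ⊓ M = ⊥ :=
      (hNmin _ hMN inf_le_left).resolve_right fun e => hle (inf_eq_left.1 e)
    have hprime : (Nat.card N).Prime := by
      have hc : IsComplement' N M := isComplement'_of_disjoint_and_mul_eq_univ
        (disjoint_iff.2 hbot) (by rw [← Subgroup.normal_mul, htop]; rfl)
      rw [← hc.index_eq_card]
      exact h M hM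
    haveI := Fact.mk hprime
    haveI : IsCyclic N := isCyclic_of_prime_card rfl
    exact isSupersolvable_of_cyclic_normal N (hquot N hN0)
  push Not at hΦ
  have hNΦ : N ≤ frattini G := le_frattini_of_forall_coatom hΦ
  -- the derived group is nilpotent
  set F := Cfsg.fittingSubgroup G with hF
  haveI hFn : F.Normal := fitting_normal
  haveI hFnil : Group.IsNilpotent F := fitting_isNilpotent
  have hG'F : commutator G ≤ F := by
    refine le_trans le_sup_left (le_fitting (N := commutator G ⊔ N)
      (isNilpotent_of_map_of_le_frattini le_sup_right hNΦ ?_))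
    have hmap : (commutator G ⊔ N).map (QuotientGroup.mk' N) = commutator (G ⧸ N) := by
      rw [Subgroup.map_sup, QuotientGroup.map_mk'_self, sup_bot_eq, _root_.commutator_def,
        _root_.commutator_def, map_commutator,
        Subgroup.map_top_of_surjective _ (QuotientGroup.mk'_surjective N)]
    rw [hmap]
    exact commutator_isNilpotent (hquot N hN0)
  have hFq : IsPGroup q F := by
    refine IsPGroup.to_le (pCore_isPGroup q) ?_
    rw [hF, fitting_eq_iSup_pCore]
    refine iSup_le fun r => ?_
    by_cases hr : (r : ℕ) = q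
    · rw [hr]
    · have : Cfsg.pCore (r : ℕ) G = ⊥ := by
        by_contra hne
        haveI : Fact (r : ℕ).Prime := ⟨r.2⟩
        have h1 := huniq _ (pCore_normal' _) hne
        haveI : Nontrivial N := (nontrivial_iff_ne_bot N).2 hN0
        obtain ⟨j, hj0, hj⟩ := hNqq.nontrivial_iff_card.1 inferInstance
        obtain ⟨i, hi0, hi⟩ := ((pCore_isPGroup (r : ℕ)).to_le h1).nontrivial_iff_card.1
          (inferInstance : Nontrivial N)
        exact hr ((Nat.prime_dvd_prime_iff_eq r.2 hq).1
          (r.2.dvd_of_dvd_pow ((dvd_pow_self _ hi0.ne').trans (dvd_of_eq (hi.symm.trans hj)))))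
      rw [this]; exact bot_le
  have hNF : N ≤ F := by
    haveI : Group.IsNilpotent N := hNqq.isNilpotent
    exact le_fitting inferInstance
  -- `F` is the Sylow subgroup
  obtain ⟨P, hFP⟩ := hFq.exists_le_sylow
  have hPn : (P : Subgroup G).Normal := ⟨fun x hx g => by
    have : g * x * g⁻¹ * x⁻¹ ∈ (P : Subgroup G) :=
      hFP (hG'F (by
        rw [_root_.commutator_def]
        exact commutator_mem_commutator (mem_top g) (mem_top x)))
    have h2 := (P : Subgroup G).mul_mem this hx
    rwa [inv_mul_cancel_right] at h2⟩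
  haveI := hPn
  have hPF : (P : Subgroup G) = F := by
    refine le_antisymm ?_ hFP
    haveI : Group.IsNilpotent (P : Subgroup G) := P.2.isNilpotent
    exact le_fitting inferInstance
  have hFcop : (Nat.card F).Coprime F.index := hPF ▸ P.card_coprime_index
  obtain ⟨H, hH⟩ := Subgroup.exists_right_complement'_of_coprime hFcop
  have hHq : ∀ h ∈ H, (orderOf h).Coprime q := by
    intro x hx
    refine Nat.Coprime.coprime_dvd_left (Subgroup.orderOf_dvd_natCard _ hx) ?_
    rw [← hH.symm.index_eq_card, ← hPF]
    exact ((hq.coprime_iff_not_dvd).2 P.not_dvd_index).symm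
  have hFH : F ⊔ H = ⊤ := hH.sup_eq_top
  -- `h ^ (q-1)` centralizes `N`
  have hcent : ∀ x ∈ H, x ^ (q - 1) ∈ centralizer (N : Set G) := by
    intro x hx
    set Φ := (frattini F).map F.subtype with hΦdef
    haveI hΦn : Φ.Normal := map_subtype_normal_of_characteristic F _
    by_cases hΦ0 : Φ = ⊥
    · -- then `N` would be complemented
      exfalso
      have hfr : frattini F = ⊥ := by rwa [hΦdef, Subgroup.map_eq_bot_iff, ker_subtype, le_bot_iff] at hΦ0
      have hFab : IsMulCommutative F := ⟨⟨fun a b => by
        have h1 : ⁅a, b⁆ ∈ commutator F := by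
          rw [_root_.commutator_def]; exact commutator_mem_commutator (mem_top a) (mem_top b)
        have h2 := commutator_le_frattini hFq h1
        rwa [hfr, mem_bot, commutatorElement_eq_one_iff_mul_comm] at h2⟩⟩
      have hFe : ∀ y ∈ F, y ^ q = 1 := fun y hy => by
        have := pow_mem_frattini hFq ⟨y, hy⟩
        rw [hfr, mem_bot] at this
        simpa using congrArg Subtype.val this
      obtain ⟨W, -, hW⟩ := exists_maximal_ge_of_wellFoundedGT
        (fun W : Subgroup G => W ≤ F ∧ N ⊓ W = ⊥) ⊥ ⟨bot_le, inf_bot_eq N⟩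
      obtain ⟨hWF, hNW⟩ := hW.prop
      have hsup : N ⊔ W = F := by
        refine le_antisymm (sup_le hNF hWF) fun y hy => ?_
        by_contra hyN
        have hWy : W ⊔ zpowers y ≤ F := sup_le hWF (zpowers_le.2 hy)
        have hmeet : N ⊓ (W ⊔ zpowers y) = ⊥ := by
          refine le_bot_iff.1 fun e he => ?_
          obtain ⟨w, hw, z, hz, rfl⟩ := mem_sup_exists (N := W) (H := zpowers y) (fun a ha =>
            mem_normalizer_iff.2 fun b => by
              have haF : a ∈ F := zpowers_le.2 hy ha
              constructor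
              · intro hb
                rwa [show a * b = b * a from congrArg Subtype.val
                  (hFab.is_comm.comm (⟨a, haF⟩ : F) ⟨b, hWF hb⟩), mul_inv_cancel_right]
              · intro hb
                have hbF : b ∈ F := by
                  have := F.mul_mem (F.mul_mem (F.inv_mem haF) (hWF hb)) haF
                  rwa [show a⁻¹ * (a * b * a⁻¹) * a = b by group] at this
                rwa [show a * b = b * a from congrArg Subtype.val
                  (hFab.is_comm.comm (⟨a, haF⟩ : F) ⟨b, hbF⟩), mul_inv_cancel_right] at hb) he.2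
          by_cases hz1 : z = 1
          · rw [hz1, mul_one] at he ⊢
            exact hNW.le ⟨he.1, hw⟩
          · exfalso
            have hzNW : z ∈ N ⊔ W := by
              have := (N ⊔ W).mul_mem (mem_sup_right (W.inv_mem hw)) (mem_sup_left he.1)
              rwa [inv_mul_cancel_left] at this
            have hyq : orderOf y = q := orderOf_eq_prime (hFe y hy) (fun e => hz1 (by
              rw [e, zpowers_one_eq_bot, mem_bot] at hz; exact hz))
            have h5 : zpowers z = zpowers y := eq_of_le_of_card_ge (zpowers_le.2 hz) (by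
              rw [Nat.card_zpowers, Nat.card_zpowers, hyq,
                orderOf_eq_prime (hFe z (zpowers_le.2 hy hz)) hz1])
            exact hyN (zpowers_le.2 hzNW (h5 ▸ mem_zpowers y))
        exact hyN (mem_sup_right (hW.le_of_ge ⟨hWy, hmeet⟩ le_sup_left (mem_sup_right (mem_zpowers y))))
      obtain ⟨W', hW'F, hHW', hNW', hNW'sup⟩ := exists_averaged_complement (A := H) hFab
        (by rw [normalizer_eq_top (H := F)]; exact le_top)
        (by rw [← hH.symm.index_eq_card]; exact hFcop.symm) hNF
        (by rw [normalizer_eq_top (H := N)]; exact le_top) hWF hNW hsup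
      have hW'n : W'.Normal := by
        rw [← normalizer_eq_top_iff, eq_top_iff, ← hFH]
        refine sup_le (fun a ha => mem_normalizer_iff.2 fun b => ?_) hHW'
        constructor
        · intro hb
          rwa [show a * b = b * a from congrArg Subtype.val
            (hFab.is_comm.comm (⟨a, ha⟩ : F) ⟨b, hW'F hb⟩), mul_inv_cancel_right]
        · intro hb
          have hbF : b ∈ F := by
            have := F.mul_mem (F.mul_mem (F.inv_mem ha) (hW'F hb)) ha
            rwa [show a⁻¹ * (a * b * a⁻¹) * a = b by group] at this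
          rwa [show a * b = b * a from congrArg Subtype.val
            (hFab.is_comm.comm (⟨a, ha⟩ : F) ⟨b, hbF⟩), mul_inv_cancel_right] at hb
      have hW0 : W' = ⊥ := by
        by_contra hne
        exact hN0 (by rw [← hNW']; exact (inf_eq_left.2 (huniq W' hW'n hne)).symm)
      rw [hW0, sup_bot_eq] at hNW'sup
      have h1 : H ⊔ frattini G = ⊤ := by
        rw [eq_top_iff, ← hFH]
        exact sup_le ((hNW'sup.ge.trans hNΦ).trans le_sup_right) le_sup_left
      have h2 := frattini_nongenerating h1
      refine hN0 (le_bot_iff.1 ?_)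
      have h3 := hH.disjoint
      rw [h2, disjoint_top] at h3
      exact hNF.trans (le_of_eq h3)
    · refine Subgroup.centralizer_le (SetLike.coe_subset_coe.2 hNF) ?_
      refine zpowers_le.1 (le_centralizer_of_trivial_on_frattini_quotient (A := zpowers (x ^ (q - 1)))
        (K := F) (by rw [normalizer_eq_top (H := F)]; exact le_top) ?_ ?_)
      · obtain ⟨j, hj⟩ := IsPGroup.iff_card.1 hFq
        refine Nat.Coprime.coprime_dvd_right (card_subgroup_dvd_card _) ?_
        rw [hj, Nat.card_zpowers]
        exact ((hHq x hx).coprime_dvd_left (orderOf_pow_dvd _)).pow_right j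
      · intro a ha y hy
        set f := QuotientGroup.mk' Φ with hf
        haveI : (F.map f).Normal := Normal.map inferInstance f (QuotientGroup.mk'_surjective Φ)
        have h1 := pow_sub_one_centralizes (hquot Φ hΦ0) (V := F.map f) (hFq.map f)
          (y := f x) ((hHq x hx).coprime_dvd_left (orderOf_map_dvd f x))
        obtain ⟨i, rfl⟩ := mem_zpowers_iff.1 ha
        have h2 : f ((x ^ (q - 1)) ^ i) ∈ centralizer ((F.map f : Subgroup _) : Set _) := by
          rw [map_zpow, map_pow]; exact zpow_mem h1 i
        rw [← QuotientGroup.eq_one_iff (N := Φ), ← QuotientGroup.mk'_apply, ← hf]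
        rw [map_mul, map_mul, map_mul, map_inv, map_inv,
          ← mem_centralizer_iff.1 h2 (f y) (mem_map_of_mem f hy)]
        group
  -- `F` centralizes `N`
  have hFN : F ≤ centralizer (N : Set G) := by
    haveI : (N ⊓ centralizer (F : Set G)).Normal := inferInstance
    rcases hNmin (N ⊓ centralizer (F : Set G)) inferInstance inf_le_left with h1 | h1
    · exfalso
      have h2 : N.subgroupOf F ≠ ⊥ := fun e => hN0 (by
        rw [← map_subgroupOf_eq_of_le hNF, e, Subgroup.map_bot])
      have h3 := nilpotent_inf_center_ne_bot (N.subgroupOf F) h2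
      refine h3 ((eq_bot_iff_forall _).2 fun z hz => Subtype.ext ?_)
      have h4 : (z : G) ∈ N ⊓ centralizer (F : Set G) := ⟨hz.1, mem_centralizer_iff.2 fun y hy =>
        congrArg Subtype.val (mem_center_iff.1 hz.2 ⟨y, hy⟩)⟩
      rw [h1, mem_bot] at h4
      exact h4
    · rw [le_centralizer_iff]; exact inf_eq_left.1 h1
  -- every element of `H` acts on `N` as a power map
  have hpow : ∀ x ∈ H, ∃ c : ℤ, ∀ y ∈ N, x * y * x⁻¹ = y ^ c := by
    intro x hx
    haveI : IsMulCommutative N := ⟨⟨fun a b => Subtype.ext (hNc a a.2 b b.2)⟩⟩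
    let cj : N →* N :=
      { toFun := fun y => ⟨x * y * x⁻¹, hNn.conj_mem y y.2 x⟩
        map_one' := Subtype.ext (by simp)
        map_mul' := fun a b => Subtype.ext (by simp [mul_assoc]) }
    have hit : ∀ (j : ℕ) (v : Additive N),
        ((Additive.toMul ((MonoidHom.toAdditive cj)^[j] v) : N) : G)
          = x ^ j * (Additive.toMul v : N) * (x ^ j)⁻¹ := by
      intro j
      induction j with
      | zero => intro v; simp
      | succ j ihj =>
        intro v
        rw [Function.iterate_succ_apply', pow_succ',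
          show x * x ^ j * ((Additive.toMul v : N) : G) * (x * x ^ j)⁻¹
            = x * (x ^ j * ((Additive.toMul v : N) : G) * (x ^ j)⁻¹) * x⁻¹ by group, ← ihj]
        rfl
    haveI : Nontrivial N := (nontrivial_iff_ne_bot N).2 hN0
    obtain ⟨v, hv⟩ := exists_ne (0 : Additive N)
    obtain ⟨c, y, hy, hyc⟩ := exists_eigen_of_iterate_eq (q := q)
      (fun w => Additive.toMul.injective (by
        rw [toMul_nsmul, toMul_zero]
        exact Subtype.ext (by simpa using hNq _ (Additive.toMul w).2)))
      (MonoidHom.toAdditive cj) (fun w => by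
        apply Additive.toMul.injective
        apply Subtype.ext
        rw [hit, show q = (q - 1) + 1 by have := hq.two_le; omega, pow_succ']
        have hc := mem_centralizer_iff.1 (hcent x hx) _ (Additive.toMul w : N).2
        rw [show x * x ^ (q - 1) * ((Additive.toMul w : N) : G) * (x * x ^ (q - 1))⁻¹
          = x * (x ^ (q - 1) * ((Additive.toMul w : N) : G) * (x ^ (q - 1))⁻¹) * x⁻¹ by group, ← hc,
          mul_inv_cancel_right]
        rfl) hv
    refine ⟨c, ?_⟩
    set y₀ : N := Additive.toMul y with hy₀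
    have hy' : x * (y₀ : G) * x⁻¹ = (y₀ : G) ^ (c : ℤ) := by
      have h1 := congrArg (fun w => ((Additive.toMul w : N) : G)) hyc
      simp only [toMul_nsmul, SubmonoidClass.coe_pow] at h1
      rw [zpow_natCast]
      exact h1
    let E : Subgroup G :=
      { carrier := {z | z ∈ N ∧ x * z * x⁻¹ = z ^ (c : ℤ)}
        one_mem' := ⟨N.one_mem, by simp⟩
        mul_mem' := fun {a b} ha hb => ⟨N.mul_mem ha.1 hb.1, by
          rw [Commute.mul_zpow (hNc a ha.1 b hb.1), ← ha.2, ← hb.2]; group⟩
        inv_mem' := fun {a} ha => ⟨N.inv_mem ha.1, by rw [inv_zpow, ← ha.2]; group⟩ }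
    have hEn : E.Normal := ⟨fun z hz g => by
      refine ⟨hNn.conj_mem z hz.1 g, ?_⟩
      set k := g⁻¹ * x * g * x⁻¹ with hk
      have hkC : k ∈ centralizer (N : Set G) := hFN (hG'F (by
        rw [_root_.commutator_def, hk, show g⁻¹ * x * g * x⁻¹ = ⁅g⁻¹, x⁆ by
          rw [commutatorElement_def, inv_inv]]
        exact commutator_mem_commutator (mem_top g⁻¹) (mem_top x)))
      have hxz : x * z * x⁻¹ ∈ N := hNn.conj_mem z hz.1 x
      have hkz := (mem_centralizer_iff.1 hkC _ hxz)
      rw [conj_zpow, ← hz.2, show x * (g * z * g⁻¹) * x⁻¹ = g * (k * (x * z * x⁻¹) * k⁻¹) * g⁻¹ by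
        rw [hk]; group, ← hkz, mul_inv_cancel_right]⟩
    have hyE : (y₀ : G) ∈ E := ⟨y₀.2, hy'⟩
    have hE : E = N := (hNmin E hEn fun z hz => hz.1).resolve_left fun e => hy (by
      rw [e, mem_bot] at hyE
      apply Additive.toMul.injective
      rw [toMul_zero]
      exact Subtype.ext hyE)
    intro z hz
    rw [← hE] at hz
    exact hz.2
  -- hence `N` is cyclic
  obtain ⟨z, hzN, hz1⟩ : ∃ z ∈ N, z ≠ 1 := by
    by_contra hc
    push Not at hc
    exact hN0 ((eq_bot_iff_forall N).2 hc)
  have hzn : (zpowers z).Normal := by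
    rw [← normalizer_eq_top_iff, eq_top_iff, ← hFH]
    refine sup_le (fun a ha => ?_) (fun a ha => ?_)
    · exact centralizer_le_normalizer _ (centralizer_le (SetLike.coe_subset_coe.2 (zpowers_le.2 hzN)) (hFN ha))
    · rw [← conjBy_eq_self_iff, conjBy]
      refine eq_of_le_of_card_ge ?_ (card_map_of_injective (MulEquiv.injective _)).ge
      rw [MonoidHom.map_zpowers, zpowers_le]
      obtain ⟨c, hc⟩ := hpow a ha
      exact mem_zpowers_iff.2 ⟨c, (hc z hzN).symm⟩
  have hzN' : zpowers z = N := (hNmin _ hzn (zpowers_le.2 hzN)).resolve_left fun e =>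
    hz1 (mem_bot.1 (e ▸ mem_zpowers z))
  haveI : IsCyclic N := hzN' ▸ inferInstance
  exact isSupersolvable_of_cyclic_normal N (hquot N hN0)

end CfsgLib.Coprime
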