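import Cfsg.Agent.Lib.Coprime.ItoProduct
import Cfsg.Agent.Lib.Coprime.Action
import Cfsg.Agent.Lib.Coprime.Core
import Cfsg.Agent.Lib.Fusion.System.ZJControl

/-!
# A normal subgroup inside one factor of a product of two abelian groups
-/

set_option autoImplicit false
set_option linter.style.haveILetI false
set_option linter.unusedSectionVars false

namespace CfsgLib.Coprime

open Subgroup
open scoped commutatorElement

variable {G : Type*} [Group G] [Finite G] {A B : Subgroup G}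

private theorem comm_of_mem {X : Subgroup G} [IsMulCommutative X] {x y : G} (hx : x ∈ X) (hy : y ∈ X) :
    x * y = y * x :=
  congrArg Subtype.val (mul_comm' (⟨x, hx⟩ : X) ⟨y, hy⟩)

/-- The fixed points on a normal subgroup centralized by `K ⊇ G'` of any subgroup are normal. -/
theorem normal_inf_centralizer_of_commutator_le {K D : Subgroup G} [D.Normal]
    (hK : commutator G ≤ K) (hKD : K ≤ centralizer (D : Set G)) (S : Subgroup G) :
    (D ⊓ centralizer (S : Set G)).Normal := by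
  refine ⟨fun d hd g => ?_⟩
  obtain ⟨hdD, hdS⟩ := mem_inf.1 hd
  refine mem_inf.2 ⟨(inferInstance : D.Normal).conj_mem d hdD g, mem_centralizer_iff.2 fun s hs => ?_⟩
  have hk : ⁅g⁻¹, s⁆ ∈ K := hK (by
    rw [_root_.commutator_def]; exact commutator_mem_commutator (mem_top _) (mem_top _))
  have hkd : d * ⁅g⁻¹, s⁆ = ⁅g⁻¹, s⁆ * d := mem_centralizer_iff.1 (hKD hk) d hdD
  have hsd : s * d = d * s := mem_centralizer_iff.1 hdS s hs
  have h1 : g⁻¹ * s * g * d = d * (g⁻¹ * s * g) := by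
    rw [show g⁻¹ * s * g = ⁅g⁻¹, s⁆ * s by rw [commutatorElement_def]; group, mul_assoc, hsd,
      ← mul_assoc, ← hkd, mul_assoc]
  calc s * (g * d * g⁻¹) = g * (g⁻¹ * s * g * d) * g⁻¹ := by group
    _ = g * (d * (g⁻¹ * s * g)) * g⁻¹ := by rw [h1]
    _ = g * d * g⁻¹ * s := by group

/-- If a factor centralizes a minimal normal subgroup. -/
theorem exists_normal_in_factor_of_centralized [IsMulCommutative A] [IsMulCommutative B]
    (hAB : ∀ g : G, ∃ a ∈ A, ∃ b ∈ B, g = a * b) {M : Subgroup G} [M.Normal] (hM0 : M ≠ ⊥)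
    (hMab : IsMulCommutative M) (hB : M ≤ centralizer (B : Set G)) :
    ∃ N : Subgroup G, N.Normal ∧ N ≠ ⊥ ∧ (N ≤ A ∨ N ≤ B) := by
  by_cases hz : ∃ a ∈ A, a ≠ 1 ∧ ∀ b ∈ B, b * a = a * b
  · obtain ⟨a, ha, ha1, hab⟩ := hz
    refine ⟨zpowers a, ?_, fun e => ha1 (zpowers_eq_bot.1 e), Or.inl (zpowers_le.2 ha)⟩
    refine ⟨fun n hn g => ?_⟩
    obtain ⟨a', ha', b', hb', rfl⟩ := hAB g
    obtain ⟨i, rfl⟩ := mem_zpowers_iff.1 hn
    have h1 : Commute (a' * b') a :=
      (show Commute a' a from comm_of_mem ha' ha).mul_left (hab b' hb')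
    rw [(h1.zpow_right i).eq, mul_inv_cancel_right]
    exact zpow_mem (mem_zpowers a) i
  push Not at hz
  refine ⟨M, inferInstance, hM0, Or.inr fun m hm => ?_⟩
  obtain ⟨a, ha, b, hb, rfl⟩ := hAB m
  suffices a = 1 by rw [this, one_mul]; exact hb
  by_contra ha1
  obtain ⟨c, hc, hne⟩ := hz a ha ha1
  refine hne ?_
  have h1 : c * (a * b) = a * b * c := mem_centralizer_iff.1 (hB hm) c hc
  have h2 : c * b = b * c := comm_of_mem hc hb
  calc c * a = c * (a * b) * b⁻¹ := by group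
    _ = a * (b * c) * b⁻¹ := by rw [h1, mul_assoc a b c]
    _ = a * c := by rw [← h2]; group

/-- A product of two abelian groups has a nontrivial normal subgroup inside one of the factors. -/
theorem exists_normal_in_factor [Nontrivial G] [IsMulCommutative A] [IsMulCommutative B]
    (hAB : ∀ g : G, ∃ a ∈ A, ∃ b ∈ B, g = a * b) :
    ∃ N : Subgroup G, N.Normal ∧ N ≠ ⊥ ∧ (N ≤ A ∨ N ≤ B) := by
  classical
  by_cases hAB' : A ⊓ B = ⊥
  swap
  · refine ⟨A ⊓ B, ⟨fun n hn g => ?_⟩, hAB', Or.inl inf_le_left⟩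
    obtain ⟨a, ha, b, hb, rfl⟩ := hAB g
    rw [show a * b * n * (a * b)⁻¹ = a * (b * n * b⁻¹) * a⁻¹ by group,
      comm_of_mem hb (mem_inf.1 hn).2, mul_inv_cancel_right, comm_of_mem ha (mem_inf.1 hn).1,
      mul_inv_cancel_right]
    exact hn
  obtain ⟨K, hKn, hKab, hK⟩ := exists_abelian_commutator_le A B hAB
  by_cases hK0 : K = ⊥
  · have hcent : ∀ g h : G, g * h = h * g := fun g h => by
      have h1 : ⁅g, h⁆ ∈ K := hK (by
        rw [_root_.commutator_def]; exact commutator_mem_commutator (mem_top _) (mem_top _))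
      rw [hK0, mem_bot] at h1
      exact commutatorElement_eq_one_iff_mul_comm.1 h1
    have hn : ∀ X : Subgroup G, X.Normal := fun X =>
      ⟨fun n hn g => by rw [hcent g n, mul_inv_cancel_right]; exact hn⟩
    by_cases hA : A = ⊥
    · refine ⟨B, hn B, fun hB => ?_, Or.inr le_rfl⟩
      obtain ⟨g, hg⟩ := exists_ne (1 : G)
      obtain ⟨a, ha, b, hb, rfl⟩ := hAB g
      rw [hA, mem_bot] at ha
      rw [hB, mem_bot] at hb
      exact hg (by rw [ha, hb, mul_one])
    · exact ⟨A, hn A, hA, Or.inl le_rfl⟩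
  -- a minimal normal subgroup inside `K`
  obtain ⟨M, ⟨hMn, hM0, hMK⟩, hMmin⟩ := exists_minimal_of_wellFoundedLT
    (fun M : Subgroup G => M.Normal ∧ M ≠ ⊥ ∧ M ≤ K) ⟨K, hKn, hK0, le_rfl⟩
  have hmin : ∀ X : Subgroup G, X.Normal → X ≤ M → X = ⊥ ∨ X = M := fun X hX hle =>
    (em (X = ⊥)).imp_right fun h0 => le_antisymm hle (hMmin ⟨hX, h0, hle.trans hMK⟩ hle)
  haveI hMab : IsMulCommutative M := ⟨⟨fun a b => Subtype.ext
    (congrArg Subtype.val (hKab.is_comm.comm (⟨a, hMK a.2⟩ : K) ⟨b, hMK b.2⟩) :)⟩⟩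
  have hKM : K ≤ centralizer (M : Set G) := fun k hk => mem_centralizer_iff.2 fun m hm =>
    comm_of_mem (hMK hm) hk
  have hfix : ∀ S : Subgroup G, M ⊓ centralizer (S : Set G) = ⊥ ∨ M ⊓ centralizer (S : Set G) = M :=
    fun S => hmin _ (normal_inf_centralizer_of_commutator_le hK hKM S) inf_le_left
  rcases hfix B with hMB | hMB
  swap
  · exact exists_normal_in_factor_of_centralized hAB hM0 hMab (inf_eq_left.1 hMB)
  rcases hfix A with hMA | hMA
  swap
  · have hBA : ∀ g : G, ∃ b ∈ B, ∃ a ∈ A, g = b * a := fun g => by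
      obtain ⟨a, ha, b, hb, e⟩ := hAB g⁻¹
      exact ⟨b⁻¹, inv_mem hb, a⁻¹, inv_mem ha, by rw [← mul_inv_rev, ← e, inv_inv]⟩
    obtain ⟨N, hN, hN0, hN'⟩ :=
      exists_normal_in_factor_of_centralized (A := B) (B := A) hBA hM0 hMab (inf_eq_left.1 hMA)
    exact ⟨N, hN, hN0, hN'.symm⟩
  -- `M` is a `p`-group
  obtain ⟨p, hp, hpd⟩ := Nat.exists_prime_and_dvd
    (fun h : Nat.card M = 1 => hM0 (card_eq_one.1 h))
  haveI : Fact p.Prime := ⟨hp⟩
  have hMp : IsPGroup p M := by
    have hPn : ((Cfsg.pCore p M).map M.subtype).Normal := by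
      haveI := CfsgLib.Coprime.pCore_characteristic (G := M) p
      infer_instance
    rcases hmin _ hPn (map_subtype_le _) with e | e
    · exfalso
      obtain ⟨g, hg⟩ := exists_prime_orderOf_dvd_card' p hpd
      haveI : (zpowers g).Normal := ⟨fun n hn h => by
        rw [mul_comm' h n, mul_inv_cancel_right]; exact hn⟩
      have h1 : g ∈ Cfsg.pCore p M := le_pCore
        (IsPGroup.of_card (n := 1) (by rw [pow_one, Nat.card_zpowers, hg])) (mem_zpowers g)
      rw [map_eq_bot_iff_of_injective _ M.subtype_injective] at e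
      rw [e, mem_bot] at h1
      rw [h1, orderOf_one] at hg
      exact hp.one_lt.ne hg
    · exact e ▸ (pCore_isPGroup p).map _
  -- `p`-subgroups of the factors centralize `M`
  have hpA : ∀ {S X : Subgroup G} [IsMulCommutative X], S ≤ X → IsPGroup p S →
      M ≤ centralizer (S : Set G) := by
    intro S X _ hSX hS
    rcases hfix S with e | e
    · exfalso
      have hn : S ⊔ M ≤ normalizer (M : Set G) := by rw [normalizer_eq_top]; exact le_top
      have hSM : IsPGroup p ↥(S ⊔ M) := hS.to_sup_of_normal_right hMp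
      refine CfsgLib.Fusion.inf_centralizer_ne_bot hSM le_sup_right hM0 hn (le_bot_iff.1 ?_)
      exact (inf_le_inf_left M ((inf_le_right : Cfsg.FusionSystem.centralizerIn (S ⊔ M) (S ⊔ M) ≤
        centralizer (((S ⊔ M : Subgroup G)) : Set G)).trans (centralizer_le
          (show (S : Set G) ⊆ (S ⊔ M : Subgroup G) from
            SetLike.coe_subset_coe.2 le_sup_left)))).trans e.le
    · exact inf_eq_left.1 e
  -- `A₀ = A ∩ BM`
  set A₀ : Subgroup G := A ⊓ (M ⊔ B)
  have hBM : B ≤ normalizer (M : Set G) := by rw [normalizer_eq_top]; exact le_top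
  have hdec : ∀ a ∈ A₀, ∃ m ∈ M, ∃ b ∈ B, a = m * b := fun a ha => by
    obtain ⟨m, hm, b, hb, e⟩ := mem_sup_exists hBM (mem_inf.1 ha).2
    exact ⟨m, hm, b, hb, e.symm⟩
  have hA₀p : IsPGroup p A₀ := by
    choose m hm b hb e using hdec
    obtain ⟨k, hk⟩ := IsPGroup.iff_card.1 hMp
    have hinj : Function.Injective fun a : A₀ => (⟨m a a.2, hm a a.2⟩ : M) := by
      intro x y hxy
      have hxy' : m x x.2 = m y y.2 := congrArg Subtype.val hxy
      refine Subtype.ext (inv_mul_eq_one.1 ?_)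
      rw [← mem_bot, ← hAB']
      refine mem_inf.2 ⟨mul_mem (inv_mem (mem_inf.1 x.2).1) (mem_inf.1 y.2).1, ?_⟩
      rw [show (x : G)⁻¹ * y = (b x x.2)⁻¹ * b y y.2 by
        conv_lhs => rw [e x x.2, e y y.2, hxy']
        group]
      exact mul_mem (inv_mem (hb _ _)) (hb _ _)
    have hsurj : Function.Surjective fun a : A₀ => (⟨m a a.2, hm a a.2⟩ : M) := by
      rintro ⟨μ, hμ⟩
      obtain ⟨a, ha, b', hb', rfl⟩ := hAB μ
      have ha0 : a ∈ A₀ := mem_inf.2 ⟨ha, by
        rw [show a = (a * b') * b'⁻¹ by group]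
        exact mul_mem (mem_sup_left hμ) (mem_sup_right (inv_mem hb'))⟩
      refine ⟨⟨a, ha0⟩, Subtype.ext ?_⟩
      have h1 : (a * b')⁻¹ * m a ha0 ∈ M := mul_mem (inv_mem hμ) (hm a ha0)
      have h2 : (a * b')⁻¹ * m a ha0 ∈ B := by
        rw [show m a ha0 = a * (b a ha0)⁻¹ by rw [eq_mul_inv_iff_mul_eq]; exact (e a ha0).symm]
        rw [show (a * b')⁻¹ * (a * (b a ha0)⁻¹) = b'⁻¹ * (b a ha0)⁻¹ by group]
        exact mul_mem (inv_mem hb') (inv_mem (hb _ _))
      have h3 : (a * b')⁻¹ * m a ha0 ∈ M ⊓ centralizer (B : Set G) :=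
        mem_inf.2 ⟨h1, mem_centralizer_iff.2 fun c hc => comm_of_mem hc h2⟩
      rw [hMB, mem_bot] at h3
      exact (inv_mul_eq_one.1 h3).symm
    exact IsPGroup.of_card ((Nat.card_congr (Equiv.ofBijective _ ⟨hinj, hsurj⟩)).trans hk)
  have hA₀0 : A₀ ≠ ⊥ := by
    intro e
    obtain ⟨⟨μ, hμ⟩, hμ1⟩ := (Subgroup.ne_bot_iff_exists_ne_one).1 hM0
    obtain ⟨a, ha, b, hb, rfl⟩ := hAB μ
    have ha0 : a ∈ A₀ := mem_inf.2 ⟨ha, by
      rw [show a = (a * b) * b⁻¹ by group]
      exact mul_mem (mem_sup_left hμ) (mem_sup_right (inv_mem hb))⟩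
    rw [e, mem_bot] at ha0
    subst ha0
    rw [one_mul] at hμ
    have h3 : b ∈ M ⊓ centralizer (B : Set G) :=
      mem_inf.2 ⟨hμ, mem_centralizer_iff.2 fun c hc => comm_of_mem hc hb⟩
    rw [hMB, mem_bot] at h3
    exact hμ1 (Subtype.ext (by simp [h3]))
  -- `D = M A₀` is normal
  set D : Subgroup G := M ⊔ A₀
  have hA₀M : M ≤ centralizer (A₀ : Set G) := hpA (inf_le_left) hA₀p
  have hA₀n : A₀ ≤ normalizer (M : Set G) := by rw [normalizer_eq_top]; exact le_top
  have hDmem : ∀ d ∈ D, ∃ m ∈ M, ∃ a ∈ A₀, m * a = d := fun d hd => mem_sup_exists hA₀n hd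
  have hconj : ∀ g : G, ∀ a ∈ A₀, g * a * g⁻¹ * a⁻¹ ∈ M := by
    intro g a ha
    obtain ⟨a', ha', b', hb', rfl⟩ := hAB g
    obtain ⟨μ, hμ, c, hc, e⟩ := hdec a ha
    have h1 : a' * b' * a * (a' * b')⁻¹ * a⁻¹ =
        a' * ((b' * μ * b'⁻¹) * μ⁻¹) * a'⁻¹ := by
      have h2 : a' * a = a * a' := comm_of_mem ha' (mem_inf.1 ha).1
      calc a' * b' * a * (a' * b')⁻¹ * a⁻¹ = a' * (b' * a * b'⁻¹) * (a * a')⁻¹ := by group
        _ = a' * ((b' * μ * b'⁻¹) * (b' * c * b'⁻¹)) * (a' * a)⁻¹ := by rw [h2]; rw [e]; group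
        _ = a' * ((b' * μ * b'⁻¹) * c) * (a' * (μ * c))⁻¹ := by
            rw [comm_of_mem hb' hc, mul_inv_cancel_right, ← e]
        _ = _ := by group
    rw [h1]
    exact hMn.conj_mem _ (mul_mem (hMn.conj_mem μ hμ b') (inv_mem hμ)) a'
  haveI hDn : D.Normal := by
    refine ⟨fun d hd g => ?_⟩
    obtain ⟨m, hm, a, ha, rfl⟩ := hDmem d hd
    rw [show g * (m * a) * g⁻¹ = (g * m * g⁻¹) * ((g * a * g⁻¹ * a⁻¹) * a) by group]
    exact mul_mem (mem_sup_left (hMn.conj_mem m hm g))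
      (mul_mem (mem_sup_left (hconj g a ha)) (mem_sup_right ha))
  -- `p`-subgroups of the factors centralize `D`
  have hpD : ∀ {S : Subgroup G}, (S ≤ A ∨ S ≤ B) → IsPGroup p S → S ≤ centralizer (D : Set G) := by
    intro S hSX hS
    have hSM : M ≤ centralizer (S : Set G) := hSX.elim (fun h => hpA h hS) (fun h => hpA h hS)
    refine le_centralizer_iff.1 (sup_le hSM fun a ha => mem_centralizer_iff.2 fun s hs => ?_)
    rcases hSX with h | h
    · exact comm_of_mem (h hs) (mem_inf.1 ha).1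
    · obtain ⟨μ, hμ, c, hc, rfl⟩ := hdec a ha
      have h1 : s * μ = μ * s := mem_centralizer_iff.1 (hSM hμ) s hs
      rw [← mul_assoc, h1, mul_assoc, comm_of_mem (h hs) hc, mul_assoc]
  set C := centralizer (D : Set G)
  haveI : C.Normal := normalizer_eq_top_iff.1 (eq_top_iff.2 (le_trans (by rw [normalizer_eq_top])
    (normalizer_le_normalizer_centralizer D)))
  set π := QuotientGroup.mk' C
  have hquot : ∀ X : Subgroup G, (∀ S : Subgroup G, S ≤ X → IsPGroup p S → S ≤ C) →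
      ¬ p ∣ Nat.card (X.map π) := by
    intro X hX hd
    obtain ⟨P⟩ := (inferInstance : Nonempty (Sylow p X))
    have hP : (P : Subgroup X).map X.subtype ≤ C := hX _ (map_subtype_le _) (P.2.map _)
    refine P.not_dvd_index (hd.trans ?_)
    have e : Nat.card (X.map π) = (C.subgroupOf X).index := by
      rw [show X.map π = (π.comp X.subtype).range by
        rw [MonoidHom.range_eq_map, ← Subgroup.map_map, ← MonoidHom.range_eq_map, range_subtype]]
      rw [← index_ker, ← MonoidHom.comap_ker, QuotientGroup.ker_mk']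
      rfl
    rw [e]
    exact index_dvd_of_le fun y hy => hP ⟨y, hy, rfl⟩
  have hpq : ¬ p ∣ Nat.card (G ⧸ C) := by
    have h1 : (A.map π).index ∣ Nat.card (B.map π) := by
      haveI : MulAction.IsPretransitive (B.map π) ((G ⧸ C) ⧸ A.map π) := by
        suffices hb : ∀ x : (G ⧸ C) ⧸ A.map π, ∃ u : B.map π,
            u • (QuotientGroup.mk 1 : (G ⧸ C) ⧸ A.map π) = x by
          refine ⟨fun x y => ?_⟩
          obtain ⟨u, rfl⟩ := hb x
          obtain ⟨v, rfl⟩ := hb y
          exact ⟨v * u⁻¹, by rw [← mul_smul, inv_mul_cancel_right]⟩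
        intro x
        induction x using Quotient.inductionOn' with
        | h y =>
          obtain ⟨g, rfl⟩ := QuotientGroup.mk'_surjective C y
          obtain ⟨a, ha, b, hb, e⟩ := hAB g⁻¹
          refine ⟨⟨π b⁻¹, mem_map_of_mem π (inv_mem hb)⟩, ?_⟩
          show QuotientGroup.mk (π b⁻¹ * 1) = QuotientGroup.mk (π g)
          rw [QuotientGroup.eq, mul_one, ← map_inv, ← map_mul, inv_inv]
          exact mem_map_of_mem π (by
            rw [show g = (a * b)⁻¹ by rw [← e, inv_inv], mul_inv_rev, ← mul_assoc, mul_inv_cancel,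
              one_mul]
            exact inv_mem ha)
      rw [index_eq_card, ← MulAction.index_stabilizer_of_transitive (B.map π) (QuotientGroup.mk 1 : (G ⧸ C) ⧸ A.map π)]
      exact index_dvd_card _
    intro hd
    rw [← card_mul_index (A.map π)] at hd
    rcases hp.dvd_mul.1 hd with h | h
    · exact hquot A (fun S h' hS => hpD (Or.inl h') hS) h
    · exact hquot B (fun S h' hS => hpD (Or.inr h') hS) (h.trans h1)
  -- hence `K` centralizes `D`
  have hMC : M ≤ C := le_centralizer_iff.1 (sup_le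
    (fun x hx => mem_centralizer_iff.2 fun y hy => comm_of_mem hy hx) (le_centralizer_iff.1 hA₀M))
  have hKD : K ≤ C := by
    intro k hk
    rw [mem_centralizer_iff]
    intro d hd
    obtain ⟨μ, hμ, a, ha, rfl⟩ := hDmem d hd
    have hkμ : μ * k = k * μ := mem_centralizer_iff.1 (hKM hk) μ hμ
    suffices hka : a * k = k * a by rw [mul_assoc, hka, ← mul_assoc, hkμ, mul_assoc]
    -- `m = [k, a]` is fixed by `k`
    obtain ⟨m₁, hm₁def⟩ : ∃ m, m = k * a * k⁻¹ * a⁻¹ := ⟨_, rfl⟩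
    have hm₁ : m₁ ∈ M := hm₁def ▸ hconj k a ha
    have e : m₁ * a = k * a * k⁻¹ := by rw [hm₁def, inv_mul_cancel_right]
    have hkm : Commute k m₁ := (mem_centralizer_iff.1 (hKM hk) m₁ hm₁).symm
    have hpow : ∀ i : ℕ, k ^ i * a * (k ^ i)⁻¹ = m₁ ^ i * a := by
      intro i
      induction i with
      | zero => simp
      | succ i ih =>
        calc k ^ (i + 1) * a * (k ^ (i + 1))⁻¹ = k * (k ^ i * a * (k ^ i)⁻¹) * k⁻¹ := by
              rw [pow_succ']; group
          _ = (k * m₁ ^ i * k⁻¹) * (k * a * k⁻¹) := by rw [ih]; group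
          _ = m₁ ^ i * (m₁ * a) := by rw [(hkm.pow_right i).eq, mul_inv_cancel_right, ← e]
          _ = m₁ ^ (i + 1) * a := by rw [pow_succ, mul_assoc]
    set n := Nat.card (G ⧸ C)
    have hn : k ^ n ∈ C := (QuotientGroup.eq_one_iff (N := C) _).1 (by
      rw [QuotientGroup.mk_pow]; exact pow_card_eq_one')
    have h2 := hpow n
    rw [show k ^ n * a = a * k ^ n from
      (mem_centralizer_iff.1 hn a (mem_sup_right ha)).symm, mul_inv_cancel_right, right_eq_mul] at h2
    obtain ⟨j, hj⟩ := hMp ⟨m₁, hm₁⟩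
    have hm1 : m₁ = 1 := orderOf_eq_one_iff.1 (Nat.eq_one_of_dvd_coprimes
      ((hp.coprime_iff_not_dvd.2 hpq).pow_left j)
      (orderOf_dvd_of_pow_eq_one (congrArg Subtype.val hj)) (orderOf_dvd_of_pow_eq_one h2))
    rw [hm1, one_mul] at e
    calc a * k = k * a * k⁻¹ * k := by rw [← e]
      _ = k * a := by group
  refine ⟨D ⊓ centralizer (A : Set G), normal_inf_centralizer_of_commutator_le hK hKD A, ?_,
    Or.inl fun d hd => ?_⟩
  · refine ne_bot_of_le_ne_bot hA₀0 (le_inf le_sup_right fun a ha => ?_)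
    exact mem_centralizer_iff.2 fun x hx => comm_of_mem hx (mem_inf.1 ha).1
  · obtain ⟨μ, hμ, a, ha, rfl⟩ := hDmem d (mem_inf.1 hd).1
    have h4 : μ ∈ M ⊓ centralizer (A : Set G) := mem_inf.2 ⟨hμ, by
      have h1 : a ∈ centralizer (A : Set G) :=
        mem_centralizer_iff.2 fun x hx => comm_of_mem hx (mem_inf.1 ha).1
      simpa using mul_mem (mem_inf.1 hd).2 (inv_mem h1)⟩
    rw [hMA, mem_bot] at h4
    rw [h4, one_mul]; exact (mem_inf.1 ha).1

end CfsgLib.Coprime
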