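import Mathlib

/-!
# Commuting pairs in a coprime semidirect product with abelian kernel
-/

set_option autoImplicit false
set_option linter.unusedSectionVars false
set_option linter.style.haveILetI false

namespace CfsgLib.Coprime.SemidirectClasses

variable {A V : Type*} [Group A] [CommGroup V] [MulDistribMulAction A V] [Finite A] [Finite V]

/-- The twisted commutation map of a pair. -/
def pairMap (g h : A) : V × V →* V where
  toFun p := p.1 / (h • p.1) * ((g • p.2) / p.2)
  map_one' := by simp
  map_mul' p q := by
    simp only [Prod.fst_mul, Prod.snd_mul, smul_mul']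
    rw [mul_div_mul_comm, mul_div_mul_comm]
    exact mul_mul_mul_comm _ _ _ _

/-- The elements moving every point inside a given subgroup. -/
def movers (I : Subgroup V) : Subgroup A where
  carrier := {a | ∀ x : V, (a • x) / x ∈ I}
  one_mem' x := by simp
  mul_mem' := fun {a b} ha hb x => by
    have := I.mul_mem (ha (b • x)) (hb x)
    rwa [div_mul_div_cancel, smul_smul] at this
  inv_mem' := fun {a} ha x => by
    have := I.inv_mem (ha (a⁻¹ • x))
    rwa [inv_div, smul_inv_smul] at this

theorem card_pairs (hcop : (Nat.card A).Coprime (Nat.card V)) {g h : A} (hgh : Commute g h) :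
    Nat.card {p : V × V // p.1 * (g • p.2) = p.2 * (h • p.1)} =
      Nat.card V * Nat.card {v : V // g • v = v ∧ h • v = v} := by
  classical
  set B : Subgroup A := Subgroup.closure {g, h} with hB
  have := Fintype.ofFinite B
  have hgB : g ∈ B := Subgroup.subset_closure (by simp)
  have hhB : h ∈ B := Subgroup.subset_closure (by simp)
  set f : V × V →* V := pairMap g h with hf
  set I : Subgroup V := f.range with hI
  have hsol : Nat.card {p : V × V // p.1 * (g • p.2) = p.2 * (h • p.1)} = Nat.card f.ker := by
    refine Nat.card_congr (Equiv.subtypeEquivRight fun p => ?_)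
    rw [MonoidHom.mem_ker]
    show _ ↔ p.1 / (h • p.1) * ((g • p.2) / p.2) = 1
    rw [div_mul_div_comm, div_eq_one, mul_comm (h • p.1)]
  have hBI : B ≤ movers I := by
    rw [hB, Subgroup.closure_le]
    rintro a (rfl | rfl) x
    · exact ⟨(1, x), by simp [hf, pairMap]⟩
    · refine ⟨(x⁻¹, 1), ?_⟩
      simp [hf, pairMap, smul_inv', div_eq_mul_inv, mul_comm]
  let T : V →* V :=
    { toFun := fun x => ∏ b : B, (b : A) • x
      map_one' := by simp
      map_mul' := fun x y => by simp [smul_mul', Finset.prod_mul_distrib] }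
  have hTinv : ∀ (b : A), b ∈ B → ∀ x : V, T (b • x) = T x := fun b hb x => by
    refine Fintype.prod_equiv (Equiv.mulRight (⟨b, hb⟩ : B)) _ _ fun a => ?_
    rw [smul_smul]; rfl
  have hIker : I ≤ T.ker := by
    rintro _ ⟨⟨x, y⟩, rfl⟩
    rw [MonoidHom.mem_ker]
    show T (x / (h • x) * ((g • y) / y)) = 1
    rw [map_mul, map_div, map_div, hTinv h hhB, hTinv g hgB, div_self', div_self', one_mul]
  have hBn : (Nat.card B).Coprime (Nat.card V) :=
    Nat.Coprime.coprime_dvd_left B.card_subgroup_dvd_card hcop
  have hkerI : T.ker ≤ I := by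
    intro x hx
    have h1 : x ^ Nat.card B ∈ I := by
      have h2 : ∏ b : B, ((b : A) • x) / x ∈ I := Subgroup.prod_mem I fun b _ => hBI b.2 x
      rw [Finset.prod_div_distrib, Finset.prod_const, Finset.card_univ,
        ← Nat.card_eq_fintype_card] at h2
      rw [show ∏ b : B, (b : A) • x = 1 from hx, one_div] at h2
      exact inv_mem_iff.mp h2
    obtain ⟨r, hr⟩ := exists_pow_eq_self_of_coprime (Nat.Coprime.coprime_dvd_right (orderOf_dvd_natCard x) hBn)
    rw [← hr]
    exact I.pow_mem h1 r
  have hfix : Nat.card T.range = Nat.card {v : V // g • v = v ∧ h • v = v} := by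
    refine Nat.card_congr (Equiv.subtypeEquivRight fun v => ?_)
    have hfixB : g • v = v ∧ h • v = v → ∀ b ∈ B, b • v = v := fun hv b hb => by
      have : B ≤ MulAction.stabilizer A v := by
        rw [hB, Subgroup.closure_le]
        rintro a (rfl | rfl)
        · exact hv.1
        · exact hv.2
      exact this hb
    refine ⟨?_, fun hv => ?_⟩
    · rintro ⟨x, rfl⟩
      haveI := Subgroup.isMulCommutative_closure (k := ({g, h} : Set A)) (by
        rintro a (rfl | rfl) b (rfl | rfl)
        · rfl
        · exact hgh
        · exact hgh.symm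
        · rfl)
      have key : ∀ c : A, c ∈ B → c • T x = T x := fun c hc => by
        show c • (∏ b : B, (b : A) • x) = ∏ b : B, (b : A) • x
        rw [Finset.smul_prod']
        refine Fintype.prod_equiv (Equiv.mulLeft (⟨c, hc⟩ : B)) _ _ fun a => ?_
        rw [smul_smul]; rfl
      exact ⟨key g hgB, key h hhB⟩
    · obtain ⟨r, hr⟩ := exists_pow_eq_self_of_coprime (Nat.Coprime.coprime_dvd_right (orderOf_dvd_natCard v) hBn)
      refine ⟨v ^ r, ?_⟩
      show ∏ b : B, (b : A) • (v ^ r) = v
      rw [Finset.prod_congr rfl fun (b : B) _ => show (b : A) • (v ^ r) = v ^ r by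
        rw [smul_pow', hfixB hv b b.2]]
      rw [Finset.prod_const, Finset.card_univ, ← Nat.card_eq_fintype_card, ← pow_mul, mul_comm,
        pow_mul]
      exact hr
  have hIeq : Nat.card I = Nat.card T.ker := by rw [le_antisymm hIker hkerI]
  have h1 := f.ker.card_mul_index
  rw [Subgroup.index_ker, ← hI, hIeq, Nat.card_prod] at h1
  have h2 := T.ker.card_mul_index
  rw [Subgroup.index_ker, hfix] at h2
  rw [hsol]
  refine Nat.eq_of_mul_eq_mul_right (Nat.card_pos (α := T.ker)) (h1.trans ?_)
  conv_lhs => arg 2; rw [← h2]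
  ring

/-- Commuting pairs in the stabilizers, summed over all points. -/
theorem sum_pairs (S : Finset V) (hrep : ∀ v : V, ∃! s, s ∈ S ∧ ∃ g : A, g • v = s) [Fintype V] :
    ∑ v : V, Nat.card {p : MulAction.stabilizer A v × MulAction.stabilizer A v // Commute p.1 p.2} =
      Nat.card A * ∑ s ∈ S, Nat.card (ConjClasses (MulAction.stabilizer A s)) := by
  classical
  choose r hr hu using hrep
  have hmaps : ∀ v ∈ (Finset.univ : Finset V), r v ∈ S := fun v _ => (hr v).1
  rw [← Finset.sum_fiberwise_of_maps_to hmaps, Finset.mul_sum]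
  refine Finset.sum_congr rfl fun s hs => ?_
  have horb : ∀ v : V, r v = s ↔ v ∈ MulAction.orbit A s := by
    intro v
    constructor
    · rintro rfl
      obtain ⟨g, hg⟩ := (hr v).2
      exact ⟨g⁻¹, by show g⁻¹ • r v = v; rw [← hg, inv_smul_smul]⟩
    · rintro ⟨g, rfl⟩
      exact (hu _ s ⟨hs, g⁻¹, by simp⟩).symm
  have hconst : ∀ v ∈ Finset.univ.filter (fun v => r v = s),
      Nat.card {p : MulAction.stabilizer A v × MulAction.stabilizer A v // Commute p.1 p.2} =
        Nat.card (ConjClasses (MulAction.stabilizer A s)) * Nat.card (MulAction.stabilizer A s) := by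
    intro v hv
    obtain ⟨g, rfl⟩ := (horb v).mp (Finset.mem_filter.mp hv).2
    rw [card_comm_eq_card_conjClasses_mul_card]
    have e : MulAction.stabilizer A s ≃* MulAction.stabilizer A (g • s) :=
      ((MulAut.conj g).subgroupMap (MulAction.stabilizer A s)).trans
        (MulEquiv.subgroupCongr (MulAction.stabilizer_smul_eq_stabilizer_map_conj g s).symm)
    rw [Nat.card_congr e.toEquiv]
    congr 1
    exact (Nat.card_congr
      (Equiv.ofBijective (ConjClasses.map e.toMonoidHom) ⟨fun a b hab => by
        obtain ⟨a, rfl⟩ := ConjClasses.exists_rep a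
        obtain ⟨b, rfl⟩ := ConjClasses.exists_rep b
        have h1 := ConjClasses.mk_eq_mk_iff_isConj.mp hab
        obtain ⟨c, hc⟩ := isConj_iff.mp h1
        refine ConjClasses.mk_eq_mk_iff_isConj.mpr (isConj_iff.mpr ⟨e.symm c, e.injective ?_⟩)
        simpa [map_mul, map_inv] using hc,
        ConjClasses.map_surjective e.surjective⟩)).symm
  rw [Finset.sum_congr rfl hconst, Finset.sum_const, smul_eq_mul]
  have hcard : (Finset.univ.filter (fun v => r v = s)).card = Nat.card (MulAction.orbit A s) := by
    rw [Nat.card_eq_fintype_card, ← Set.toFinset_card]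
    congr 1
    ext v
    simp [horb]
  have := Fintype.ofFinite A
  rw [hcard, mul_left_comm, mul_comm (Nat.card A)]
  congr 1
  rw [Nat.card_eq_fintype_card, Nat.card_eq_fintype_card, Nat.card_eq_fintype_card (α := A)]
  exact MulAction.card_orbit_mul_card_stabilizer_eq_card_group A s

end CfsgLib.Coprime.SemidirectClasses
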