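import Cfsg.Agent.Lib.Coprime.Component

/-!
# The layer of a group with trivial Fitting subgroup as a direct product of its components
-/

set_option autoImplicit false
set_option linter.style.haveILetI false

open Subgroup

namespace CfsgLib.Coprime.LayerProj

variable {G : Type*} [Group G] [Finite G]

/-- The join of the components other than `K`. -/
def others (K : Subgroup G) : Subgroup G := sSup {L : Subgroup G | Cfsg.IsComponent L ∧ L ≠ K}

variable (hF : Cfsg.fittingSubgroup G = ⊥)
include hF

theorem center_bot {K : Subgroup G} (hK : Cfsg.IsComponent K) : center K = ⊥ := by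
  apply Subgroup.map_injective K.subtype_injective
  rw [Subgroup.map_bot, ← le_bot_iff, ← hF]
  refine le_fitting_of_isSubnormal ((inferInstance : (center K).Normal).isSubnormal.trans' hK.1) ?_
  have hab : ∀ u v : ↥((center K).map K.subtype), u * v = v * u := fun u v => by
    obtain ⟨_, u, hu, rfl⟩ := u
    obtain ⟨_, v, hv, rfl⟩ := v
    exact Subtype.ext (congrArg Subtype.val (mem_center_iff.1 hv u) :)
  letI : CommGroup ↥((center K).map K.subtype) :=
    { (inferInstance : Group ↥((center K).map K.subtype)) with mul_comm := hab }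
  exact CommGroup.isNilpotent

theorem isSimple {K : Subgroup G} (hK : Cfsg.IsComponent K) : IsSimpleGroup K := by
  haveI := hK.2.2
  exact ((QuotientGroup.quotientMulEquivOfEq (center_bot hF hK)).trans
    (QuotientGroup.quotientBot (G := ↥K))).isSimpleGroup_congr.1 inferInstance

theorem not_comm {K : Subgroup G} (hK : Cfsg.IsComponent K) : ¬ IsMulCommutative ↥K := fun h =>
  not_isSolvable_of_isComponent hK (Group.isSolvable_of_comm fun a b => h.is_comm.comm a b)

/-- An element of the layer centralizing every component is trivial. -/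
theorem eq_one_of_forall {x : G} (hx : x ∈ Cfsg.layer G)
    (h : ∀ K, Cfsg.IsComponent K → ∀ a ∈ K, a * x = x * a) : x = 1 := by
  have hle : Cfsg.layer G ≤ centralizer ({x} : Set G) := sSup_le fun K hK a ha =>
    mem_centralizer_singleton_iff.2 (h K hK a ha)
  have h1 : x ∈ Cfsg.layer G ⊓ centralizer (Cfsg.layer G : Set G) :=
    mem_inf.2 ⟨hx, mem_centralizer_iff.2 fun y hy => mem_centralizer_singleton_iff.1 (hle hy)⟩
  have h2 := layer_inf_centralizer_layer_le_fitting h1
  rwa [hF, mem_bot] at h2

omit hF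

theorem others_comm {K : Subgroup G} (hK : Cfsg.IsComponent K) : ∀ a ∈ K, ∀ w ∈ others K, a * w = w * a := by
  intro a ha w hw
  have hle : others K ≤ centralizer ({a} : Set G) := sSup_le fun L hL b hb =>
    mem_centralizer_singleton_iff.2 (commutator_eq_bot_iff_forall.1 (components_commute hL.1 hK hL.2) b hb a ha)
  exact (mem_centralizer_singleton_iff.1 (hle hw)).symm

include hF

theorem inf_others {K : Subgroup G} (hK : Cfsg.IsComponent K) {x : G} (hxK : x ∈ K) (hx : x ∈ others K) :
    x = 1 := by
  have h1 : (⟨x, hxK⟩ : ↥K) ∈ center K :=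
    mem_center_iff.2 fun a => Subtype.ext (others_comm hK a a.2 x hx)
  rw [center_bot hF hK, mem_bot] at h1
  exact congrArg Subtype.val h1

omit hF

theorem exists_decomp {K : Subgroup G} (hK : Cfsg.IsComponent K) {e : G} (he : e ∈ Cfsg.layer G) :
    ∃ a ∈ K, a⁻¹ * e ∈ others K := by
  have hle : Cfsg.layer G ≤ K ⊔ others K := sSup_le fun L hL => by
    by_cases h : L = K
    · exact h ▸ le_sup_left
    · exact (le_sSup (show L ∈ {L : Subgroup G | Cfsg.IsComponent L ∧ L ≠ K} from ⟨hL, h⟩)).trans le_sup_right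
  have hn : K ≤ normalizer (others K : Set G) := by
    refine le_trans ?_ (Subgroup.centralizer_le_normalizer _)
    exact fun a ha => mem_centralizer_iff.2 fun w hw => (others_comm hK a ha w hw).symm
  have h1 := hle he
  rw [← SetLike.mem_coe, coe_mul_of_left_le_normalizer_right _ _ hn] at h1
  obtain ⟨a, ha, w, hw, rfl⟩ := h1
  exact ⟨a, ha, by rwa [inv_mul_cancel_left]⟩

open Classical in
/-- The projection to a component. -/
noncomputable def proj (K : Subgroup G) (e : G) : G :=
  if h : ∃ a ∈ K, a⁻¹ * e ∈ others K then h.choose else 1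

theorem proj_mem (K : Subgroup G) (e : G) : proj K e ∈ K := by
  classical
  rw [proj]
  split
  · next h => exact h.choose_spec.1
  · exact one_mem _

theorem proj_spec {K : Subgroup G} (hK : Cfsg.IsComponent K) {e : G} (he : e ∈ Cfsg.layer G) :
    (proj K e)⁻¹ * e ∈ others K := by
  classical
  have h := exists_decomp hK he
  rw [proj, dif_pos h]
  exact h.choose_spec.2

include hF

theorem proj_eq {K : Subgroup G} (hK : Cfsg.IsComponent K) {e a : G} (he : e ∈ Cfsg.layer G) (ha : a ∈ K)
    (h : a⁻¹ * e ∈ others K) : proj K e = a := by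
  have h1 := inf_others hF hK (x := a⁻¹ * proj K e) (mul_mem (inv_mem ha) (proj_mem K e))
    (by
      rw [show a⁻¹ * proj K e = a⁻¹ * e * ((proj K e)⁻¹ * e)⁻¹ by group]
      exact mul_mem h (inv_mem (proj_spec hK he)))
  exact (inv_mul_eq_one.1 h1).symm

theorem proj_self {K : Subgroup G} (hK : Cfsg.IsComponent K) {a : G} (ha : a ∈ K) : proj K a = a :=
  proj_eq hF hK (component_le_layer hK ha) ha (by rw [inv_mul_cancel]; exact one_mem _)

theorem proj_other {K L : Subgroup G} (hK : Cfsg.IsComponent K) (hL : Cfsg.IsComponent L) (hne : L ≠ K)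
    {a : G} (ha : a ∈ L) : proj K a = 1 :=
  proj_eq hF hK (component_le_layer hL ha) (one_mem _)
    (by rw [inv_one, one_mul]; exact le_sSup (show L ∈ {L : Subgroup G | Cfsg.IsComponent L ∧ L ≠ K} from ⟨hL, hne⟩) ha)

theorem proj_mul {K : Subgroup G} (hK : Cfsg.IsComponent K) {e f : G} (he : e ∈ Cfsg.layer G)
    (hf : f ∈ Cfsg.layer G) : proj K (e * f) = proj K e * proj K f := by
  refine proj_eq hF hK (mul_mem he hf) (mul_mem (proj_mem K e) (proj_mem K f)) ?_
  have h1 := proj_spec hK he
  have h2 := proj_spec hK hf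
  rw [show (proj K e * proj K f)⁻¹ * (e * f) = (proj K f)⁻¹ * ((proj K e)⁻¹ * e) * f by group,
    others_comm hK _ (inv_mem (proj_mem K f)) _ h1, mul_assoc]
  exact mul_mem h1 h2

theorem proj_one {K : Subgroup G} (hK : Cfsg.IsComponent K) : proj K (1 : G) = 1 :=
  proj_self hF hK (one_mem _)

theorem proj_inv {K : Subgroup G} (hK : Cfsg.IsComponent K) {e : G} (he : e ∈ Cfsg.layer G) :
    proj K e⁻¹ = (proj K e)⁻¹ := by
  refine eq_inv_of_mul_eq_one_left ?_
  rw [← proj_mul hF hK (inv_mem he) he, inv_mul_cancel, proj_one hF hK]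

theorem eq_one_of_proj {e : G} (he : e ∈ Cfsg.layer G)
    (h : ∀ K, Cfsg.IsComponent K → proj K e = 1) : e = 1 := by
  refine eq_one_of_forall hF he fun K hK a ha => ?_
  have h1 := proj_spec hK he
  rw [h K hK, inv_one, one_mul] at h1
  exact others_comm hK a ha e h1

theorem proj_conj {K : Subgroup G} (hK : Cfsg.IsComponent K) {e : G} (he : e ∈ Cfsg.layer G) (q : G) :
    proj (K.map (MulAut.conj q).toMonoidHom) (q * e * q⁻¹) = q * proj K e * q⁻¹ := by
  haveI := layer_normal (G := G)
  refine proj_eq hF (isComponent_map_equiv _ hK) ((inferInstance : (Cfsg.layer G).Normal).conj_mem e he q)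
    ⟨_, proj_mem K e, rfl⟩ ?_
  have hle : (others K).map (MulAut.conj q).toMonoidHom ≤ others (K.map (MulAut.conj q).toMonoidHom) := by
    rw [others, map_le_iff_le_comap]
    refine sSup_le fun L hL => map_le_iff_le_comap.1 (le_sSup ⟨isComponent_map_equiv _ hL.1, fun e1 => hL.2 ?_⟩)
    exact Subgroup.map_injective (MulAut.conj q).injective e1
  refine hle ⟨(proj K e)⁻¹ * e, proj_spec hK he, ?_⟩
  show q * ((proj K e)⁻¹ * e) * q⁻¹ = _
  group

end CfsgLib.Coprime.LayerProj
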