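import Cfsg.Agent.Lib.Coprime.Primitive
import Cfsg.Agent.Lib.PGroup.AbelianMaximal

/-!
# Maximal subgroups: Hall maximal subgroups, abelian maximal subgroups, the p-core
-/

set_option autoImplicit false
set_option linter.style.haveILetI false
set_option linter.unusedSectionVars false

namespace CfsgLib.Coprime

open Subgroup

universe u

theorem exists_normal_sylow_of_hall_maximal {G : Type u} [Group G] [Finite G] [Group.IsSolvable G]
    [Nontrivial G] (h : ∀ M : Subgroup G, IsCoatom M → (Nat.card M).Coprime M.index) :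
    ∃ p : ℕ, p.Prime ∧ p ∣ Nat.card G ∧ ∀ P : Sylow p G, (P : Subgroup G).Normal := by
  induction hk : Nat.card G using Nat.strongRecOn generalizing G with
  | ind k ih =>
    subst hk
    obtain ⟨N, hNn, hN, -, hmin⟩ := exists_minimal_normal_le (N := (⊤ : Subgroup G)) top_ne_bot
    haveI := hNn
    obtain ⟨p, d, hp, hd, hcard, hNp, hNc⟩ := exists_minimal_abelian N hN hmin
    haveI := Fact.mk hp
    have hpG : p ∣ Nat.card G := (dvd_pow_self p hd.ne').trans (hcard ▸ card_subgroup_dvd_card N)
    have hN_sylow : ¬ p ∣ N.index → ∀ P : Sylow p G, (P : Subgroup G).Normal := by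
      intro hi P
      have e : (hNp.toSylow hi : Subgroup G) = N := rfl
      haveI := Sylow.unique_of_normal (hNp.toSylow hi) (e.symm ▸ hNn)
      exact Subsingleton.elim (hNp.toSylow hi) P ▸ hNn
    by_cases hNtop : N = ⊤
    · exact ⟨p, hp, hpG, hN_sylow (by rw [hNtop, index_top]; exact hp.not_dvd_one)⟩
    haveI : Nontrivial (G ⧸ N) := QuotientGroup.nontrivial_iff.2 hNtop
    have hsur := QuotientGroup.mk'_surjective N
    obtain ⟨q, hq, hqd, hQ⟩ := ih _ (card_quotient_lt hN) (G := G ⧸ N) (fun M hM => by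
      have h1 := h _ (isCoatom_comap_of_surjective hsur hM)
      rw [index_comap_of_surjective M hsur] at h1
      refine h1.coprime_dvd_left ?_
      have h3 := (M.comap (QuotientGroup.mk' N)).card_map_dvd (QuotientGroup.mk' N)
      rwa [map_comap_eq_self_of_surjective hsur M] at h3) rfl
    haveI := Fact.mk hq
    have hqG : q ∣ Nat.card G := hqd.trans (card_quotient_dvd_card N)
    by_cases hall : ∀ P : Sylow q G, (P : Subgroup G).Normal
    · exact ⟨q, hq, hqG, hall⟩
    push Not at hall
    obtain ⟨S, hS⟩ := hall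
    haveI hWn : ((S : Subgroup G) ⊔ N).Normal := by
      have := (hQ (S.mapSurjective hsur)).comap (QuotientGroup.mk' N)
      rwa [Sylow.coe_mapSurjective, comap_map_eq, QuotientGroup.ker_mk'] at this
    have hSW : (S : Subgroup G) ≤ (S : Subgroup G) ⊔ N := le_sup_left
    have hfr := Sylow.normalizer_sup_eq_top (S.subtype hSW)
    rw [show ((S.subtype hSW : Sylow q ((S : Subgroup G) ⊔ N : Subgroup G)) : Subgroup _).map
      ((S : Subgroup G) ⊔ N).subtype = (S : Subgroup G) from map_subgroupOf_eq_of_le hSW] at hfr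
    obtain ⟨M, hM, hle⟩ := (eq_top_or_exists_le_coatom _).resolve_left
      (fun e => hS (normalizer_eq_top_iff.1 e))
    have hsup : M ⊔ N = ⊤ := by
      rw [eq_top_iff, ← hfr]
      exact sup_le (hle.trans le_sup_left)
        (sup_le ((le_normalizer.trans hle).trans le_sup_left) le_sup_right)
    haveI : (N ⊓ M).Normal := by
      rw [← normalizer_eq_top_iff, eq_top_iff, ← hsup]
      refine sup_le (inf_le_normalizer (by rw [normalizer_eq_top]; exact le_top) le_normalizer) ?_
      refine le_trans ?_ (centralizer_le_normalizer _)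
      exact hNc.trans (centralizer_le inf_le_left)
    have hbot : N ⊓ M = ⊥ := by
      rcases hmin (N ⊓ M) inferInstance inf_le_left with h1 | h1
      · exact h1
      · exact absurd (sup_eq_left.2 (inf_eq_left.1 h1) ▸ hsup) hM.1
    have hc : IsComplement' N M := isComplement'_of_disjoint_and_mul_eq_univ (disjoint_iff.2 hbot)
      (by rw [← normal_mul, sup_comm, hsup, coe_top])
    refine ⟨p, hp, hpG, hN_sylow fun hd' => ?_⟩
    rw [hc.symm.index_eq_card] at hd'
    have h2 := h M hM
    rw [hc.index_eq_card, hcard] at h2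
    exact hp.ne_one (Nat.eq_one_of_dvd_coprimes h2 hd' (dvd_pow_self p hd.ne'))

theorem derivedSeries_three_of_abelian_coatom {G : Type u} [Group G] [Finite G] (A : Subgroup G)
    (hA : IsCoatom A) [IsMulCommutative A] : derivedSeries G 3 = ⊥ := by
  haveI : Group.IsSolvable G := by
    by_cases hn : A.Normal
    · exact CfsgLib.PGroup.isSolvable_of_normal_abelian_coatom A hA
    · exact CfsgLib.PGroup.isSolvable_of_abelian_coatom A hA
  set C := A.normalCore
  have hCA : C ≤ A := normalCore_le A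
  set π := QuotientGroup.mk' C
  have hsur : Function.Surjective π := QuotientGroup.mk'_surjective C
  have hker : π.ker ≤ A := by rwa [QuotientGroup.ker_mk']
  set Ab := A.map π
  haveI : IsMulCommutative Ab := Subgroup.map_isMulCommutative _ _
  have hc : Ab.comap π = A := comap_map_eq_self hker
  have hAb : IsCoatom Ab := by
    refine ⟨fun e => hA.1 (hc.symm.trans (by rw [e, comap_top])), fun T hT => ?_⟩
    have hlt : A < T.comap π := hc.symm.trans_lt ((comap_lt_comap_of_surjective hsur).2 hT)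
    rw [← map_comap_eq_self_of_surjective hsur T, hA.2 _ hlt, map_top_of_surjective _ hsur]
  have hcore : Ab.normalCore = ⊥ := by
    have h1 : Ab.normalCore.comap π ≤ C :=
      normal_le_normalCore.2 ((comap_mono (normalCore_le Ab)).trans hc.le)
    rw [← map_comap_eq_self_of_surjective hsur Ab.normalCore, ← le_bot_iff]
    refine (map_mono h1).trans (le_of_eq ?_)
    exact QuotientGroup.map_mk'_self C
  haveI : Nontrivial (G ⧸ C) := QuotientGroup.nontrivial_iff.2 fun e => hA.1 (top_le_iff.1 (e ▸ hCA))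
  obtain ⟨M, hMn, hM, -, hmin⟩ := exists_minimal_normal_le (N := (⊤ : Subgroup (G ⧸ C))) top_ne_bot
  haveI := hMn
  obtain ⟨p, d, hp, hd, -, -, hMc⟩ := exists_minimal_abelian M hM hmin
  have hsup := sup_eq_top_of_normal hAb hcore M hM
  have h1 : commutator (G ⧸ C) ≤ M := by
    rw [_root_.commutator_def, commutator_le]
    intro x _ y _
    obtain ⟨m, hm, a, ha, rfl⟩ := mem_sup_of_normal_left.1 (hsup ▸ mem_top x : x ∈ M ⊔ Ab)
    obtain ⟨n, hn, b, hb, rfl⟩ := mem_sup_of_normal_left.1 (hsup ▸ mem_top y : y ∈ M ⊔ Ab)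
    rw [← QuotientGroup.eq_one_iff, ← QuotientGroup.mk'_apply, map_commutatorElement,
      commutatorElement_eq_one_iff_mul_comm]
    simp only [map_mul, QuotientGroup.mk'_apply, (QuotientGroup.eq_one_iff m).2 hm,
      (QuotientGroup.eq_one_iff n).2 hn, one_mul]
    rw [← QuotientGroup.mk_mul, ← QuotientGroup.mk_mul]
    exact congrArg _ (congrArg Subtype.val (mul_comm' (⟨a, ha⟩ : Ab) ⟨b, hb⟩))
  have h2 : derivedSeries G 2 ≤ C := by
    intro x hx
    have hx' : π x ∈ derivedSeries (G ⧸ C) 2 :=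
      map_derivedSeries_le_derivedSeries π 2 (mem_map_of_mem π hx)
    have h3 : derivedSeries (G ⧸ C) 2 = ⊥ := by
      refine le_bot_iff.1 ?_
      rw [derivedSeries_succ, derivedSeries_one]
      refine (commutator_mono h1 h1).trans ?_
      exact le_of_eq (commutator_eq_bot_iff_le_centralizer.2 hMc)
    rw [h3, mem_bot] at hx'
    exact (QuotientGroup.eq_one_iff x).1 hx'
  refine le_bot_iff.1 ?_
  rw [derivedSeries_succ]
  refine (commutator_mono (h2.trans hCA) (h2.trans hCA)).trans (le_of_eq ?_)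
  rw [commutator_eq_bot_iff_le_centralizer]
  exact fun a ha => mem_centralizer_iff.2 fun b hb =>
    congrArg Subtype.val (mul_comm' (⟨b, hb⟩ : A) ⟨a, ha⟩)

theorem pCore_structure_of_corefree {G : Type u} [Group G] [Finite G] {p : ℕ} [Fact p.Prime]
    (hL : Cfsg.pCore p G ≠ ⊥) {M : Subgroup G} (hM : IsCoatom M) (hcore : M.normalCore = ⊥) :
    (IsMulCommutative (Cfsg.pCore p G) ∧ ∀ a ∈ Cfsg.pCore p G, a ^ p = 1) ∧
    IsComplement' (Cfsg.pCore p G) M ∧
    (∀ K : Subgroup G, K.Normal → K ≤ Cfsg.pCore p G → K = ⊥ ∨ K = Cfsg.pCore p G) ∧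
    centralizer ((Cfsg.pCore p G : Subgroup G) : Set G) = Cfsg.pCore p G ∧
    ∀ (q : ℕ) [Fact q.Prime], Cfsg.pCore q ↥M ≠ ⊥ →
      Nat.card (Cfsg.pCore p G) % q = 1 % q ∧ q ≠ p := by
  set L := Cfsg.pCore p G with hLdef
  haveI hLn : L.Normal := pCore_normal' p
  haveI := (pCore_isPGroup (G := G) p).isNilpotent
  have hne : L ⊓ centralizer (L : Set G) ≠ ⊥ := nilpotent_inf_center_ne_bot' le_rfl hL
  haveI : (centralizer (L : Set G)).Normal := Subgroup.normal_centralizer
  obtain ⟨A, hAn, hA, hAle, hmin⟩ := exists_minimal_normal_le hne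
  haveI := hAn
  have hAc : A ≤ centralizer (A : Set G) :=
    (hAle.trans inf_le_right).trans (centralizer_le (hAle.trans inf_le_left))
  have h1 := centralizer_inf_eq_bot hM hcore A hA
  have h2 := sup_eq_top_of_normal hM hcore A hA
  have hCA : centralizer (A : Set G) = A := by
    refine le_antisymm (fun c hc => ?_) hAc
    obtain ⟨m, hm, w, hw, rfl⟩ := mem_sup_of_normal_left.1 (h2 ▸ mem_top c : c ∈ A ⊔ M)
    have : w ∈ centralizer (A : Set G) ⊓ M := ⟨by
      have := mul_mem (inv_mem (hAc hm)) hc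
      rwa [inv_mul_cancel_left] at this, hw⟩
    rw [h1, mem_bot] at this
    rwa [this, mul_one]
  have hLA : L = A := le_antisymm
    ((le_centralizer_iff.1 (hAle.trans inf_le_right)).trans hCA.le) (hAle.trans inf_le_left)
  haveI hab : IsMulCommutative A := ⟨⟨fun a b => Subtype.ext (mem_centralizer_iff.1 (hAc b.2) a a.2)⟩⟩
  haveI : Group.IsSolvable A := Group.isSolvable_of_comm fun a b => mul_comm' a b
  obtain ⟨-, r, hr, hpow⟩ := minimal_normal_solvable hA hmin
  have hexp : ∀ a ∈ A, a ^ p = 1 := by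
    intro a ha
    by_cases ha1 : a = 1
    · rw [ha1, one_pow]
    obtain ⟨j, hj⟩ := IsPGroup.iff_orderOf.1 (pCore_isPGroup (G := G) p) ⟨a, hLA.ge ha⟩
    rw [← Subgroup.orderOf_coe] at hj
    haveI := Fact.mk hr
    have hor : orderOf a = r := orderOf_eq_prime (hpow a ha) ha1
    have : r = p := (Nat.prime_dvd_prime_iff_eq hr (Fact.out : p.Prime)).1
      (hr.dvd_of_dvd_pow (dvd_of_eq (hor.symm.trans hj)))
    exact this ▸ hpow a ha
  have hdisj : A ⊓ M = ⊥ := le_bot_iff.1 ((inf_le_inf_right M hAc).trans h1.le)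
  rw [hLA]
  refine ⟨⟨hab, hexp⟩, isComplement'_of_disjoint_and_mul_eq_univ (disjoint_iff.2 hdisj)
    (by rw [← normal_mul, h2, coe_top]), hmin, hCA, fun q hq hQ => ?_⟩
  set Q := (Cfsg.pCore q M).map M.subtype
  have hQM : Q ≤ M := map_subtype_le _
  have hQp : IsPGroup q Q := (pCore_isPGroup (G := M) q).map _
  have hQne : Q ≠ ⊥ := fun e => hQ ((map_eq_bot_iff_of_injective _ M.subtype_injective).1 e)
  have hMQ : M ≤ normalizer (Q : Set G) := by
    refine (normal_subgroupOf_iff_le_normalizer hQM).1 ?_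
    rw [subgroupOf, comap_map_eq_self_of_injective M.subtype_injective]
    exact pCore_normal' q
  haveI hFn : (A ⊓ centralizer (Q : Set G)).Normal := by
    rw [← normalizer_eq_top_iff, eq_top_iff, ← h2]
    refine sup_le ?_ ?_
    · exact (hAc.trans (centralizer_le inf_le_left)).trans (centralizer_le_normalizer _)
    · exact inf_le_normalizer (by rw [normalizer_eq_top]; exact le_top)
        (hMQ.trans (normalizer_le_normalizer_centralizer Q))
  have hfix : A ⊓ centralizer (Q : Set G) = ⊥ := by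
    rcases hmin _ hFn inf_le_left with h | h
    · exact h
    · refine absurd (le_bot_iff.1 ?_) hQne
      rw [← h1]
      exact le_inf (le_centralizer_iff.1 (inf_eq_left.1 h)) hQM
  letI act : MulAction Q A :=
    { smul := fun g a => ⟨(g : G) * a * (g : G)⁻¹, hAn.conj_mem a a.2 g⟩
      one_smul := fun a => Subtype.ext (by show ((1 : Q) : G) * a * ((1 : Q) : G)⁻¹ = a; simp)
      mul_smul := fun g h a => Subtype.ext (by
        show ((g * h : Q) : G) * a * ((g * h : Q) : G)⁻¹ =
          (g : G) * ((h : G) * a * (h : G)⁻¹) * (g : G)⁻¹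
        simp [mul_assoc]) }
  have hfp : Nat.card (MulAction.fixedPoints Q A) = 1 := by
    refine Nat.card_eq_one_iff_unique.2 ⟨⟨fun a b => Subtype.ext ?_⟩, ⟨⟨1, fun g => Subtype.ext ?_⟩⟩⟩
    · have key : ∀ a : MulAction.fixedPoints Q A, (a : A) = 1 := by
        intro a
        refine Subtype.ext (mem_bot.1 (hfix ▸ ⟨(a : A).2, mem_centralizer_iff.2 fun g hg => ?_⟩))
        exact mul_inv_eq_iff_eq_mul.1 (congrArg (fun x : A => (x : G)) (a.2 ⟨g, hg⟩))
      rw [key a, key b]
    · show (g : G) * ((1 : A) : G) * (g : G)⁻¹ = ((1 : A) : G)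
      simp
  have hmod : Nat.card A % q = 1 % q := by
    have := hQp.card_modEq_card_fixedPoints A
    rwa [hfp] at this
  refine ⟨hmod, ?_⟩
  rintro rfl
  have hd : q ∣ Nat.card A := by
    obtain ⟨⟨a, ha⟩, ha1⟩ := A.ne_bot_iff_exists_ne_one.1 hA
    have : orderOf a = q := orderOf_eq_prime (hexp a ha) fun e => ha1 (Subtype.ext e)
    exact (dvd_of_eq this.symm).trans ((dvd_of_eq (Subgroup.orderOf_coe (⟨a, ha⟩ : A))).trans
      (orderOf_dvd_natCard _))
  rw [Nat.mod_eq_zero_of_dvd hd, Nat.one_mod_eq_one.2 (Fact.out : q.Prime).ne_one] at hmod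
  exact zero_ne_one hmod

end CfsgLib.Coprime
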