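/-
Frobenius groups are recognised by the number of elements of each order.
-/
import Cfsg.Agent.Lib.Coprime.Frobenius
import Cfsg.Agent.Lib.Coprime.Hall
import Cfsg.Agent.Lib.Coprime.FpfAction
import Cfsg.Agent.Lib.Char.Zassenhaus.Complement
import Cfsg.Agent.Lib.Invol.SL25Facts

set_option autoImplicit false

namespace CfsgLib.Coprime.OrderType

open Subgroup

section SL

open CfsgLib.Invol.SL25

theorem centU_order {g : T} (hg : g * U = U * g) (h3 : g ^ 3 = 1) : g = 1 := by
  obtain ⟨a, b, c, d, h, rfl⟩ := exists_mk g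
  rw [U_mk, mk_mul, mk_mul, mk_eq_mk] at hg
  rw [show mk a b c d h ^ 3 = mk a b c d h * mk a b c d h * mk a b c d h by simp [pow_succ],
    mk_mul, mk_mul, one_mk, mk_eq_mk] at h3
  rw [one_mk, mk_eq_mk]
  revert h hg h3; revert a b c d; decide

/-- `SL(2, 5)` has no elements of order 15. -/
theorem no_fifteen (g : T) (h : g ^ 15 = 1) : g ^ 5 = 1 ∨ g ^ 3 = 1 := by
  by_cases h5 : g ^ 3 = 1
  · exact Or.inr h5
  left
  obtain ⟨σ, m, hσ⟩ := conj_U (g ^ 3) (by rw [← pow_mul]; exact h)
  have hm : m.val ≠ 0 := fun e => h5 (by simpa [e] using hσ)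
  have hU : U ^ m.val = σ * g ^ 3 * σ⁻¹ := by rw [hσ, mul_inv_cancel_right]
  have hc : Commute (σ * g ^ 5 * σ⁻¹) (U ^ m.val) := by
    rw [hU, Commute.conj_iff]
    exact Commute.pow_pow_self g 5 3
  have hgen : ∀ k : Fin 5, k.val ≠ 0 → ∃ j : Fin 5, (U ^ k.val) ^ j.val = U := by decide
  obtain ⟨j, hj⟩ := hgen m hm
  have h1 := centU_order (hj ▸ hc.pow_right j.val).eq
    (by rw [conj_pow, ← pow_mul, h, mul_one, mul_inv_cancel])
  simpa using h1

end SL

section Complement

variable {F : Type*} [Group F] [Finite F] {H : Subgroup F}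

theorem mem_zpowers_of_commute (hH : Cfsg.IsFrobeniusComplement H) {r : ℕ} (hr : r.Prime) {a b : F}
    (ha : a ∈ H) (hb : b ∈ H) (oa : orderOf a = r) (ob : orderOf b = r) (hab : Commute a b) :
    b ∈ zpowers a := by
  classical
  obtain ⟨N, hN, hn, hc⟩ := frob_kernel_subgroup hH
  haveI := hn
  have hNne : N ≠ ⊥ := fun e0 => hH.2.1 (by
    have h1 := hc.sup_eq_top; rwa [e0, bot_sup_eq] at h1)
  let A : Subgroup F := closure {a, b}
  haveI : IsMulCommutative A := by
    refine isMulCommutative_closure fun x hx y hy => ?_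
    rcases hx with rfl | rfl <;> rcases hy with rfl | rfl
    exacts [rfl, hab.eq, hab.symm.eq, rfl]
  have hAH : A ≤ H := (closure_le _).2 (by rintro x (rfl | rfl) <;> assumption)
  have hAN : A ≤ normalizer (N : Set F) := by rw [normalizer_eq_top]; exact le_top
  have hfpf : IsFpfOn A N := fun x hx hx1 =>
    ((frob_iff_fixed_point_free hc hNne hH.1).1 hH) x (hAH hx) hx1
  haveI := hfpf.isCyclic hAN hNne
  let x : A := ⟨a, subset_closure (Or.inl rfl)⟩
  let y : A := ⟨b, subset_closure (Or.inr rfl)⟩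
  have hx : orderOf x = r := by rw [← Subgroup.orderOf_coe]; exact oa
  have hy : orderOf y = r := by rw [← Subgroup.orderOf_coe]; exact ob
  obtain ⟨g, hg⟩ := IsCyclic.exists_generator (α := A)
  have key : ∀ z : A, orderOf z = r → zpowers z = zpowers (g ^ (orderOf g / r)) := by
    intro z hz
    have hrg : r ∣ orderOf g := hz ▸ (orderOf_eq_card_of_forall_mem_zpowers hg) ▸ orderOf_dvd_natCard z
    have hk : orderOf g / r ≠ 0 :=
      (Nat.div_pos (Nat.le_of_dvd (orderOf_pos g) hrg) hr.pos).ne'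
    have ho : orderOf (g ^ (orderOf g / r)) = r := by
      rw [orderOf_pow_of_dvd hk (Nat.div_dvd_of_dvd hrg), Nat.div_div_self hrg (orderOf_pos g).ne']
    refine eq_of_le_of_card_ge (zpowers_le.2 ?_) (by rw [Nat.card_zpowers, Nat.card_zpowers, hz, ho])
    obtain ⟨i, rfl⟩ := mem_powers_iff_mem_zpowers.2 (hg z)
    have h1 : g ^ (i * r) = 1 := by rw [pow_mul, ← hz]; exact pow_orderOf_eq_one _
    obtain ⟨t, ht⟩ : orderOf g / r ∣ i := by
      have h2 := orderOf_dvd_of_pow_eq_one h1
      obtain ⟨s, hs⟩ := hrg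
      rw [hs, Nat.mul_div_cancel_left _ hr.pos]
      rw [hs, mul_comm i r] at h2
      exact (Nat.mul_dvd_mul_iff_left hr.pos).1 h2
    show g ^ i ∈ _
    rw [ht, pow_mul]
    exact pow_mem (mem_zpowers _) _
  have hyx : y ∈ zpowers x := by rw [key x hx, ← key y hy]; exact mem_zpowers y
  obtain ⟨j, hj⟩ := mem_zpowers_iff.1 hyx
  exact mem_zpowers_iff.2 ⟨j, by simpa [x, y] using congrArg Subtype.val hj⟩

theorem isSolvable_iff_complement (hH : Cfsg.IsFrobeniusComplement H) :
    Group.IsSolvable F ↔ Group.IsSolvable H := by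
  obtain ⟨N, -, hn, hc, hnil⟩ := frob_kernel_data hH
  haveI := hn
  refine ⟨fun h => inferInstance, fun h => ?_⟩
  let f : H →* F ⧸ N := (QuotientGroup.mk' N).comp H.subtype
  have hf : Function.Surjective f := by
    intro q
    obtain ⟨x, rfl⟩ := QuotientGroup.mk'_surjective N q
    obtain ⟨⟨k, y⟩, hky⟩ := hc.2 x
    refine ⟨y, ?_⟩
    rw [← hky]
    simp [f, (QuotientGroup.eq_one_iff (k : F)).2 k.2]
  haveI := Group.isSolvable_of_surjective hf
  haveI : Group.IsSolvable N := inferInstance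
  exact Group.isSolvable_of_ker_le_range N.subtype (QuotientGroup.mk' N) (by simp)

/-- Solvability of a Frobenius complement is decided by the elements of order 15. -/
theorem not_isSolvable_complement_iff (hH : Cfsg.IsFrobeniusComplement H) :
    ¬ Group.IsSolvable H ↔ 3 ∣ Nat.card H ∧ 5 ∣ Nat.card H ∧ ∀ g : H, orderOf g ≠ 15 := by
  constructor
  · intro hns
    obtain ⟨ψ⟩ := CfsgLib.Char.Zassenhaus.exists_zrep_of_complement hH
    obtain ⟨G₀, hG₀, hidx, S, M, hsup, hinf, hcomm, ⟨e⟩, -, hcop⟩ :=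
      CfsgLib.Char.Zassenhaus.nonsolvable_structure ψ hns
    let eT : S ≃* CfsgLib.Invol.SL25.T := e
    have o3 : orderOf (CfsgLib.Invol.SL25.J * CfsgLib.Invol.SL25.U) = 3 :=
      orderOf_eq_prime CfsgLib.Invol.SL25.JU_cube CfsgLib.Invol.SL25.JU_ne
    have o5 : orderOf CfsgLib.Invol.SL25.U = 5 := by
      haveI : Fact (Nat.Prime 5) := ⟨by norm_num⟩
      exact orderOf_eq_prime CfsgLib.Invol.SL25.U_pow_five CfsgLib.Invol.SL25.U_ne_one
    have hd : ∀ t : CfsgLib.Invol.SL25.T, orderOf t ∣ Nat.card H := fun t => by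
      rw [← MulEquiv.orderOf_eq eT.symm t, ← Subgroup.orderOf_coe]
      exact orderOf_dvd_natCard _
    refine ⟨o3 ▸ hd _, o5 ▸ hd _, fun g hg => ?_⟩
    haveI := hG₀
    have hg0 : g ∈ G₀ := by
      have h1 : g ^ G₀.index ∈ G₀ := G₀.pow_index_mem g
      rcases hidx with h | h <;> rw [h] at h1
      · simpa using h1
      · have h2 : g = (g ^ 2) ^ 8 := by
          rw [← pow_mul, show 2 * 8 = 15 + 1 from rfl, pow_succ, ← hg, pow_orderOf_eq_one, one_mul]
        rw [h2]; exact pow_mem h1 8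
    have hM : M ≤ centralizer (S : Set H) := fun x hx => mem_centralizer_iff.2 fun s hs => hcomm s hs x hx
    rw [← hsup, ← SetLike.mem_coe] at hg0
    have hSn : M ≤ normalizer (S : Set H) := hM.trans (centralizer_le_normalizer _)
    rw [Subgroup.coe_mul_of_right_le_normalizer_left S M hSn] at hg0
    obtain ⟨s, hs, x, hx, rfl⟩ := hg0
    replace hg : orderOf (s * x) = 15 := hg
    have hcsx : Commute s x := hcomm s hs x hx
    have h15 : s ^ 15 * x ^ 15 = 1 := by rw [← hcsx.mul_pow, ← hg, pow_orderOf_eq_one]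
    have hx15 : x ^ 15 = 1 := by
      have : x ^ 15 ∈ S ⊓ M := ⟨by
        rw [eq_inv_of_mul_eq_one_right h15]; exact S.inv_mem (pow_mem hs 15), pow_mem hx 15⟩
      rwa [hinf, mem_bot] at this
    have hx1 : x = 1 := by
      have h1 : orderOf x ∣ Nat.card M := Subgroup.orderOf_dvd_natCard M hx
      have h2 : orderOf x ∣ 30 := (orderOf_dvd_of_pow_eq_one hx15).trans (by norm_num)
      exact orderOf_eq_one_iff.1 (Nat.eq_one_of_dvd_coprimes hcop h1 h2)
    subst hx1
    rw [mul_one] at hg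
    rw [one_pow, mul_one] at h15
    have ho : orderOf (eT ⟨s, hs⟩) = 15 := by rw [MulEquiv.orderOf_eq, ← Subgroup.orderOf_coe]; exact hg
    rcases no_fifteen (eT ⟨s, hs⟩) (ho ▸ pow_orderOf_eq_one _) with h | h <;>
    · have := orderOf_dvd_of_pow_eq_one h
      rw [ho] at this
      norm_num at this
  · rintro ⟨h3, h5, h15⟩ hsol
    haveI := hsol
    haveI : Fact (Nat.Prime 3) := ⟨by norm_num⟩
    haveI : Fact (Nat.Prime 5) := ⟨by norm_num⟩
    set m := 3 ^ (Nat.card H).factorization 3 * 5 ^ (Nat.card H).factorization 5 with hm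
    have hne : Nat.card H ≠ 0 := Nat.card_pos.ne'
    have hdm : m ∣ Nat.card H := Nat.Coprime.mul_dvd_of_dvd_of_dvd
      (Nat.Coprime.pow _ _ (by norm_num)) (Nat.ordProj_dvd _ 3) (Nat.ordProj_dvd _ 5)
    have hcop : m.Coprime (Nat.card H / m) := by
      have key : ∀ p, p.Prime → p ∣ m → ¬ p ∣ Nat.card H / m := by
        intro p hp hpm hpd
        have hmdvd : p ^ ((Nat.card H).factorization p) ∣ m := by
          rcases (hp.dvd_mul).1 hpm with h | h
          · rw [(Nat.prime_dvd_prime_iff_eq hp (by norm_num)).1 (hp.dvd_of_dvd_pow h)]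
            exact dvd_mul_right _ _
          · rw [(Nat.prime_dvd_prime_iff_eq hp (by norm_num)).1 (hp.dvd_of_dvd_pow h)]
            exact dvd_mul_left _ _
        refine Nat.pow_succ_factorization_not_dvd hne hp ?_
        have := Nat.mul_dvd_mul hmdvd hpd
        rwa [Nat.mul_div_cancel' hdm, ← pow_succ] at this
      exact Nat.coprime_of_dvd key
    obtain ⟨K, hK⟩ := CfsgLib.Coprime.exists_hall (G := H) (Nat.mul_div_cancel' hdm).symm hcop
    have hK3 : 3 ∣ Nat.card K := hK ▸ dvd_mul_of_dvd_left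
      (dvd_pow_self 3 ((Nat.Prime.factorization_pos_of_dvd (by norm_num) hne h3).ne')) _
    have hK5 : 5 ∣ Nat.card K := hK ▸ dvd_mul_of_dvd_right
      (dvd_pow_self 5 ((Nat.Prime.factorization_pos_of_dvd (by norm_num) hne h5).ne')) _
    -- a normal subgroup of prime order
    have hKnt : Nontrivial K := Finite.one_lt_card_iff_nontrivial.1
      (lt_of_lt_of_le (by norm_num) (Nat.le_of_dvd Nat.card_pos hK3))
    obtain ⟨k, hk⟩ := Group.IsSolvable.solvable (G := K)
    obtain ⟨A, hAn, hAne, hAc⟩ : ∃ A : Subgroup K, A.Normal ∧ A ≠ ⊥ ∧ ⁅A, A⁆ = ⊥ := by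
      induction k with
      | zero =>
        rw [derivedSeries_zero] at hk
        exact absurd hk.symm bot_ne_top
      | succ k ih =>
        by_cases h : derivedSeries K k = ⊥
        · exact ih h
        · exact ⟨_, derivedSeries_normal K k, h, hk⟩
    haveI := hAn
    obtain ⟨r, hr, hrA⟩ := Nat.exists_prime_and_dvd (fun h => hAne (card_eq_one.1 h) : Nat.card A ≠ 1)
    haveI := Fact.mk hr
    obtain ⟨x, hx⟩ := exists_prime_orderOf_dvd_card' r hrA
    set v : K := (x : K) with hv
    have hov : orderOf v = r := by rw [hv, Subgroup.orderOf_coe, hx]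
    have hr35 : r = 3 ∨ r = 5 := by
      have h1 : r ∣ m := hK ▸ hrA.trans (card_subgroup_dvd_card A)
      rcases (hr.dvd_mul).1 h1 with h | h
      · exact Or.inl ((Nat.prime_dvd_prime_iff_eq hr (by norm_num)).1 (hr.dvd_of_dvd_pow h))
      · exact Or.inr ((Nat.prime_dvd_prime_iff_eq hr (by norm_num)).1 (hr.dvd_of_dvd_pow h))
    have hoF : ∀ t : K, orderOf ((t : H) : F) = orderOf t := fun t => by
      rw [Subgroup.orderOf_coe, Subgroup.orderOf_coe]
    have hconj : ∀ g : K, g * v * g⁻¹ ∈ zpowers v := by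
      intro g
      have hgA : g * v * g⁻¹ ∈ A := hAn.conj_mem v x.2 g
      have hc1 : Commute v (g * v * g⁻¹) := by
        have := commutator_eq_bot_iff_le_centralizer.1 hAc x.2
        exact (mem_centralizer_iff.1 this _ hgA).symm
      have ho : orderOf (g * v * g⁻¹) = r := by rw [← hov]; exact MulEquiv.orderOf_eq (MulAut.conj g) v
      obtain ⟨j, hj⟩ := mem_zpowers_iff.1 (mem_zpowers_of_commute hH hr (a := ((v : H) : F))
        (b := (((g * v * g⁻¹ : K) : H) : F)) (v : H).2 ((g * v * g⁻¹ : K) : H).2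
        (by rw [hoF, hov]) (by rw [hoF, ho]) ((hc1.map K.subtype).map H.subtype))
      exact mem_zpowers_iff.2 ⟨j, Subtype.ext (Subtype.ext (by simpa using hj))⟩
    haveI hVn : (zpowers v).Normal := ⟨fun y hy g => by
      obtain ⟨j, rfl⟩ := mem_zpowers_iff.1 hy
      rw [← conj_zpow]
      exact zpow_mem (hconj g) j⟩
    -- the other prime
    obtain ⟨s, hs, hsK, hcs⟩ : ∃ s, s.Prime ∧ s ∣ Nat.card K ∧ Nat.Coprime s (r - 1) ∧ r * s = 15 := by
      rcases hr35 with rfl | rfl
      · exact ⟨5, by norm_num, hK5, by norm_num⟩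
      · exact ⟨3, by norm_num, hK3, by norm_num⟩
    haveI := Fact.mk hs
    obtain ⟨w, hw⟩ := exists_prime_orderOf_dvd_card' s hsK
    let φ : K →* MulAut (zpowers v) := MulAut.conjNormal
    have hφ : φ w = 1 := by
      rw [← orderOf_eq_one_iff]
      refine Nat.eq_one_of_dvd_coprimes hcs.1 (hw ▸ orderOf_map_dvd φ w) ?_
      refine (orderOf_dvd_natCard (φ w)).trans (dvd_of_eq ?_)
      rw [IsCyclic.card_mulAut, Nat.card_zpowers, hov, Nat.totient_prime hr]
    have hcomm : Commute w v := by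
      have h := congrArg (fun a : MulAut (zpowers v) => ((a ⟨v, mem_zpowers v⟩ : zpowers v) : K)) hφ
      simp only [φ, MulAut.conjNormal_apply, MulAut.one_apply] at h
      exact mul_inv_eq_iff_eq_mul.1 h
    refine h15 ((w * v : K) : H) ?_
    rw [Subgroup.orderOf_coe, hcomm.orderOf_mul_eq_mul_orderOf_of_coprime ?_, hw, hov, mul_comm, hcs.2]
    rw [hw, hov, Nat.coprime_primes hs hr]
    rintro rfl
    rcases hr35 with h | h <;> subst h <;> norm_num at hcs

end Complement

section Recognition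

variable {G : Type*} [Group G] [Finite G]

theorem orderOf_dvd_or {H N : Subgroup G} (hN : (N : Set G) = Cfsg.frobeniusKernel H) (x : G) :
    orderOf x ∣ Nat.card N ∨ ∃ y : H, orderOf x = orderOf y := by
  by_cases hx : x ∈ N
  · exact Or.inl (Subgroup.orderOf_dvd_natCard N hx)
  · right
    have hx' : x ∉ Cfsg.frobeniusKernel H := hN ▸ hx
    simp only [Cfsg.frobeniusKernel, Set.mem_setOf_eq, not_or, not_forall, not_not] at hx'
    obtain ⟨-, g, hg⟩ := hx'
    rw [Subgroup.mem_pointwise_smul_iff_inv_smul_mem] at hg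
    refine ⟨⟨_, hg⟩, ?_⟩
    rw [← Subgroup.orderOf_coe]
    show orderOf x = orderOf ((MulAut.conj g)⁻¹ x)
    exact (MulEquiv.orderOf_eq _ x).symm

theorem mem_of_orderOf_dvd {N : Subgroup G} [N.Normal] (hcop : (Nat.card N).Coprime N.index) {x : G}
    (hx : orderOf x ∣ Nat.card N) : x ∈ N := by
  rw [← QuotientGroup.eq_one_iff, ← orderOf_eq_one_iff]
  refine Nat.eq_one_of_dvd_coprimes hcop ((orderOf_map_dvd (QuotientGroup.mk' N) x).trans hx) ?_
  rw [Subgroup.index_eq_card]
  exact orderOf_dvd_natCard _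

theorem orderOf_fifteen_iff {H N : Subgroup G} (hH : Cfsg.IsFrobeniusComplement H)
    (hN : (N : Set G) = Cfsg.frobeniusKernel H) (hc : IsComplement' N H) (h3 : 3 ∣ Nat.card H) :
    (∀ g : H, orderOf g ≠ 15) ↔ ∀ x : G, orderOf x ≠ 15 := by
  refine ⟨fun h x hx => ?_, fun h g hg => h g (by rw [Subgroup.orderOf_coe]; exact hg)⟩
  rcases orderOf_dvd_or hN x with h1 | ⟨y, hy⟩
  · have hcop := frob_coprime_card_index hH
    rw [hc.index_eq_card] at hcop
    have := Nat.eq_one_of_dvd_coprimes hcop h3 ((show 3 ∣ orderOf x by rw [hx]; norm_num).trans h1)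
    norm_num at this
  · exact h y (hy ▸ hx)

/-- If `G` has as many elements of each order as the Frobenius group `F`, it is Frobenius, with the
same solvability. -/
theorem frobenius_of_same_orders {F : Type*} [Group F] [Finite F] {C : Subgroup F}
    (hC : Cfsg.IsFrobeniusComplement C) (e : F ≃ G) (he : ∀ x, orderOf (e x) = orderOf x) :
    ∃ D : Subgroup G, Cfsg.IsFrobeniusComplement D ∧ Nat.card D = Nat.card C := by
  classical
  obtain ⟨N, hN, hn, hc, hnil⟩ := frob_kernel_data hC
  haveI := hn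
  haveI := hnil
  have hcop : (Nat.card N).Coprime (Nat.card C) := by
    have := frob_coprime_card_index hC
    rw [hc.index_eq_card] at this
    exact this.symm
  have hidx : N.index = Nat.card C := hc.symm.index_eq_card
  have hcard : Nat.card G = Nat.card N * Nat.card C := by rw [← Nat.card_congr e, hc.card_mul]
  have hsyl : ∀ p ∈ (Nat.card N).primeFactors, ∃ P : Subgroup G, P.Normal ∧
      Nat.card P = p ^ (Nat.card N).factorization p ∧
      ∀ y : G, orderOf y ∣ p ^ (Nat.card N).factorization p → y ∈ P := by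
    intro p hp
    have hpp := Nat.prime_of_mem_primeFactors hp
    have hpN := Nat.dvd_of_mem_primeFactors hp
    haveI := Fact.mk hpp
    obtain ⟨Q⟩ : Nonempty (Sylow p N) := inferInstance
    haveI hQn : (Q : Subgroup N).Normal :=
      ((Group.isNilpotent_of_finite_tfae (G := N)).out 0 3 (rfl) (rfl)).1 hnil p inferInstance Q
    set k := (Nat.card N).factorization p with hk
    have hQ : Nat.card Q = p ^ k := Q.card_eq_multiplicity
    have hsub : ∀ x : F, orderOf x ∣ p ^ k → ∃ h : x ∈ N, (⟨x, h⟩ : N) ∈ Q := by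
      intro x hx
      have hxN : x ∈ N := mem_of_orderOf_dvd (hidx ▸ hcop) (hx.trans (Nat.ordProj_dvd _ p))
      refine ⟨hxN, ?_⟩
      obtain ⟨j, -, hj⟩ := (Nat.dvd_prime_pow hpp).1 hx
      have hZ : IsPGroup p (zpowers (⟨x, hxN⟩ : N)) := IsPGroup.of_card (n := j) (by
        rw [Nat.card_zpowers, ← hj, ← Subgroup.orderOf_coe])
      obtain ⟨R, hR⟩ := hZ.exists_le_sylow
      letI := Sylow.unique_of_normal Q hQn
      rw [Subsingleton.elim Q R]
      exact hR (mem_zpowers _)
    obtain ⟨P⟩ : Nonempty (Sylow p G) := inferInstance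
    have hP : Nat.card P = p ^ k := by
      rw [P.card_eq_multiplicity, hcard, Nat.factorization_mul Nat.card_pos.ne' Nat.card_pos.ne',
        Finsupp.add_apply, Nat.factorization_eq_zero_of_not_dvd (n := Nat.card C)
          (fun h => hpp.ne_one (Nat.eq_one_of_dvd_coprimes hcop hpN h)), add_zero, hk]
    have hset : Set.ncard {y : G | orderOf y ∣ p ^ k} ≤ p ^ k := by
      rw [← Set.ncard_preimage_of_injective_subset_range e.injective (by simp)]
      calc Set.ncard (e ⁻¹' {y : G | orderOf y ∣ p ^ k})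
          ≤ Set.ncard ((fun q : Q => ((q : N) : F)) '' Set.univ) := by
            refine Set.ncard_le_ncard (fun x hx => ?_) (Set.toFinite _)
            simp only [Set.mem_preimage, Set.mem_setOf_eq, he] at hx
            obtain ⟨h, h'⟩ := hsub x hx
            exact ⟨⟨⟨x, h⟩, h'⟩, trivial, rfl⟩
        _ ≤ Set.ncard (Set.univ : Set Q) := Set.ncard_image_le (Set.toFinite _)
        _ = _ := (Set.ncard_univ _).trans hQ
    have hle : (P : Set G) ⊆ {y : G | orderOf y ∣ p ^ k} := fun y hy =>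
      hP ▸ Subgroup.orderOf_dvd_natCard (P : Subgroup G) hy
    have heq : (P : Set G) = {y : G | orderOf y ∣ p ^ k} := by
      refine Set.eq_of_subset_of_ncard_le hle (hset.trans (le_of_eq ?_)) (Set.toFinite _)
      rw [← hP, ← Nat.card_coe_set_eq]; rfl
    refine ⟨P, ⟨fun y hy g => ?_⟩, hP, fun y hy => (heq.symm ▸ hy : y ∈ (P : Set G))⟩
    have hy' : orderOf y ∣ p ^ k := hle hy
    refine (heq.symm ▸ ?_ : g * y * g⁻¹ ∈ (P : Set G))
    show orderOf (g * y * g⁻¹) ∣ p ^ k
    rw [show orderOf (g * y * g⁻¹) = orderOf y from MulEquiv.orderOf_eq (MulAut.conj g) y]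
    exact hy'
  choose P hPn hPc hPm using hsyl
  obtain ⟨M, hMn, hMc⟩ : ∃ M : Subgroup G, M.Normal ∧ Nat.card M = Nat.card N := by
    suffices H : ∀ s ⊆ (Nat.card N).primeFactors, ∃ M : Subgroup G, M.Normal ∧
        Nat.card M = ∏ p ∈ s, p ^ (Nat.card N).factorization p by
      obtain ⟨M, h1, h2⟩ := H _ subset_rfl
      refine ⟨M, h1, h2.trans ?_⟩
      exact Nat.prod_factorization_pow_eq_self Nat.card_pos.ne'
    intro s hs
    induction s using Finset.induction_on with
    | empty => exact ⟨⊥, inferInstance, by simp⟩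
    | @insert p s hp ih =>
      obtain ⟨M, hMn, hMc⟩ := ih fun q hq => hs (Finset.mem_insert_of_mem hq)
      have hpm := hs (Finset.mem_insert_self p s)
      haveI := hMn
      haveI := hPn p hpm
      have hco : (Nat.card (P p hpm)).Coprime (Nat.card M) := by
        rw [hPc, hMc]
        refine Nat.Coprime.prod_right fun q hq => Nat.Coprime.pow _ _ ?_
        exact (Nat.coprime_primes (Nat.prime_of_mem_primeFactors hpm)
          (Nat.prime_of_mem_primeFactors (hs (Finset.mem_insert_of_mem hq)))).2 fun h => hp (h ▸ hq)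
      refine ⟨P p hpm ⊔ M, inferInstance, ?_⟩
      rw [Finset.prod_insert hp, ← hPc p hpm, ← hMc]
      have hd : Disjoint (P p hpm) M := disjoint_iff.2 (disjoint_of_coprime_card hco)
      rw [← Nat.card_prod]
      refine (Nat.card_congr (Equiv.ofBijective (fun z : P p hpm × M =>
        (⟨z.1 * z.2, mul_mem (mem_sup_left z.1.2) (mem_sup_right z.2.2)⟩ :
          ↥(P p hpm ⊔ M))) ⟨fun a b hab => mul_injective_of_disjoint hd (congrArg Subtype.val hab),
        fun z => ?_⟩)).symm
      have hz : (z : G) ∈ ((P p hpm ⊔ M : Subgroup G) : Set G) := z.2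
      rw [normal_mul] at hz
      obtain ⟨a, ha, b, hb, hab⟩ := hz
      exact ⟨(⟨a, ha⟩, ⟨b, hb⟩), Subtype.ext hab⟩
  haveI := hMn
  have hMidx : M.index = Nat.card C := by
    have := card_mul_index M
    rw [hMc, hcard] at this
    exact Nat.eq_of_mul_eq_mul_left Nat.card_pos this
  obtain ⟨D, hD⟩ := exists_right_complement'_of_coprime (N := M) (by rw [hMc, hMidx]; exact hcop)
  have hDc : Nat.card D = Nat.card C := by rw [← hMidx]; exact hD.symm.index_eq_card.symm
  refine ⟨D, (frob_iff_fixed_point_free hD ?_ ?_).2 fun d hd hd1 => ?_, hDc⟩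
  · intro h
    rw [h, card_bot] at hMc
    have hN1 : N = ⊥ := card_eq_one.1 hMc.symm
    refine hC.2.1 ?_
    have h2 := hc.sup_eq_top
    rwa [hN1, bot_sup_eq] at h2
  · intro h
    rw [h, card_bot] at hDc
    exact hC.1 (card_eq_one.1 hDc.symm)
  · refine (eq_bot_iff_forall _).2 fun k ⟨hk, hkd⟩ => ?_
    by_contra hk1
    have hck : Commute k d := (mem_centralizer_singleton_iff.1 hkd)
    have ho1 : orderOf k ∣ Nat.card N := hMc ▸ Subgroup.orderOf_dvd_natCard M hk
    have ho2 : orderOf d ∣ Nat.card C := hDc ▸ Subgroup.orderOf_dvd_natCard D hd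
    have hmul : orderOf (k * d) = orderOf k * orderOf d := hck.orderOf_mul_eq_mul_orderOf_of_coprime
      ((hcop.coprime_dvd_left ho1).coprime_dvd_right ho2)
    obtain ⟨x, hx⟩ := e.surjective (k * d)
    rw [← hx, he] at hmul
    rcases orderOf_dvd_or hN x with h | ⟨y, hy⟩
    · rw [hmul] at h
      exact hd1 (orderOf_eq_one_iff.1 (Nat.eq_one_of_dvd_coprimes hcop ((dvd_mul_left _ _).trans h) ho2))
    · have h : orderOf x ∣ Nat.card C := hy ▸ orderOf_dvd_natCard y
      rw [hmul] at h
      exact hk1 (orderOf_eq_one_iff.1 (Nat.eq_one_of_dvd_coprimes hcop ho1 ((dvd_mul_right _ _).trans h)))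

theorem not_isSolvable_iff {H : Subgroup G} (hH : Cfsg.IsFrobeniusComplement H) :
    ¬ Group.IsSolvable G ↔ 3 ∣ Nat.card H ∧ 5 ∣ Nat.card H ∧ ∀ x : G, orderOf x ≠ 15 := by
  rw [isSolvable_iff_complement hH, not_isSolvable_complement_iff hH]
  obtain ⟨N, hN, -, hc⟩ := frob_kernel_subgroup hH
  constructor <;> rintro ⟨h3, h5, h⟩
  · exact ⟨h3, h5, (orderOf_fifteen_iff hH hN hc h3).1 h⟩
  · exact ⟨h3, h5, (orderOf_fifteen_iff hH hN hc h3).2 h⟩

theorem frobenius_and_solvable {F : Type*} [Group F] [Finite F] {C : Subgroup F}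
    (hC : Cfsg.IsFrobeniusComplement C) (e : F ≃ G) (he : ∀ x, orderOf (e x) = orderOf x) :
    (∃ D : Subgroup G, Cfsg.IsFrobeniusComplement D) ∧
      (Group.IsSolvable G ↔ Group.IsSolvable F) := by
  obtain ⟨D, hD, hcard⟩ := frobenius_of_same_orders hC e he
  refine ⟨⟨D, hD⟩, not_iff_not.1 ?_⟩
  rw [not_isSolvable_iff hD, not_isSolvable_iff hC, hcard]
  refine and_congr Iff.rfl (and_congr Iff.rfl ⟨fun h x hx => h (e x) (by rw [he, hx]), fun h y hy => ?_⟩)
  exact h (e.symm y) (by rw [← he, Equiv.apply_symm_apply, hy])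

end Recognition

end CfsgLib.Coprime.OrderType
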