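import Cfsg.Agent.Lib.Coprime.Core

/-!
# The subgroup generated by the `p`-elements of a subgroup (`O^{p'}`)
-/

set_option autoImplicit false
set_option linter.style.haveILetI false
set_option linter.unusedSectionVars false

namespace CfsgLib.Coprime

open Subgroup

variable {G : Type*} [Group G] {p : ℕ}

/-- `O^{p'}(H)`: the subgroup generated by the `p`-elements of `H`. -/
def pClosure (p : ℕ) (H : Subgroup G) : Subgroup G :=
  closure {x | x ∈ H ∧ ∃ k : ℕ, x ^ p ^ k = 1}

theorem pClosure_le (p : ℕ) (H : Subgroup G) : pClosure p H ≤ H :=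
  (closure_le _).2 fun _ h => h.1

theorem mem_pClosure {H : Subgroup G} {x : G} (hx : x ∈ H) {k : ℕ} (hk : x ^ p ^ k = 1) :
    x ∈ pClosure p H :=
  subset_closure ⟨hx, k, hk⟩

theorem pClosure_mono {H K : Subgroup G} (h : H ≤ K) : pClosure p H ≤ pClosure p K :=
  closure_mono fun _ hx => ⟨h hx.1, hx.2⟩

theorem le_pClosure {H P : Subgroup G} (hPH : P ≤ H) (hP : IsPGroup p P) : P ≤ pClosure p H :=
  fun x hx => by
    obtain ⟨k, hk⟩ := hP ⟨x, hx⟩
    exact mem_pClosure (hPH hx) (k := k) (by simpa using congrArg Subtype.val hk)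

theorem pClosure_conj_mem {H : Subgroup G} {g x : G} (hg : g ∈ normalizer (H : Set G))
    (hx : x ∈ pClosure p H) : g * x * g⁻¹ ∈ pClosure p H := by
  induction hx using closure_induction with
  | mem y hy =>
    obtain ⟨hy1, k, hk⟩ := hy
    exact mem_pClosure ((Subgroup.mem_normalizer_iff.1 hg y).1 hy1) (k := k)
      (by rw [conj_pow, hk, mul_one, mul_inv_cancel])
  | one => simp
  | mul a b _ _ ha hb =>
    rw [show g * (a * b) * g⁻¹ = (g * a * g⁻¹) * (g * b * g⁻¹) by group]
    exact mul_mem ha hb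
  | inv a _ ha =>
    rw [show g * a⁻¹ * g⁻¹ = (g * a * g⁻¹)⁻¹ by group]
    exact inv_mem ha

theorem normalizer_le_normalizer_pClosure (H : Subgroup G) :
    normalizer (H : Set G) ≤ normalizer ((pClosure p H : Subgroup G) : Set G) := by
  intro g hg
  refine Subgroup.mem_normalizer_iff.2 fun x => ⟨pClosure_conj_mem hg, fun hx => ?_⟩
  have := pClosure_conj_mem (inv_mem hg) hx
  rwa [show g⁻¹ * (g * x * g⁻¹) * g⁻¹⁻¹ = x by group] at this

theorem pClosure_normal (H : Subgroup G) [H.Normal] : (pClosure p H).Normal :=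
  normalizer_eq_top_iff.1 (top_unique (le_of_eq_of_le (Subgroup.normalizer_eq_top H).symm
    (normalizer_le_normalizer_pClosure H)))

variable [Finite G]

theorem not_dvd_relIndex_pClosure [Fact p.Prime] (H : Subgroup G) :
    ¬ p ∣ (pClosure p H).relIndex H := by
  obtain ⟨P⟩ : Nonempty (Sylow p H) := inferInstance
  intro hd
  refine P.not_dvd_index (hd.trans ?_)
  refine index_dvd_of_le (fun x hx => ?_)
  rw [mem_subgroupOf]
  exact le_pClosure (map_subtype_le (P : Subgroup H))
    (P.2.map H.subtype) (mem_map_of_mem H.subtype hx)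

theorem mem_of_isSubnormal_of_not_dvd_index [hp : Fact p.Prime] {H : Subgroup G}
    (hH : H.IsSubnormal) (hd : ¬ p ∣ H.index) {x : G} {k : ℕ} (hx : x ^ p ^ k = 1) : x ∈ H := by
  induction hH with
  | top => exact mem_top x
  | step H K hle _ hN ih =>
    haveI := hN
    have hd' : ¬ p ∣ K.index := fun h => hd (h.trans (index_dvd_of_le hle))
    have hxK := ih hd'
    have hd2 : ¬ p ∣ (H.subgroupOf K).index := fun h => hd (by
      rw [← relIndex_mul_index hle]; exact dvd_mul_of_dvd_left h _)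
    have h1 : (QuotientGroup.mk' (H.subgroupOf K) ⟨x, hxK⟩) ^ p ^ k = 1 := by
      rw [← map_pow, show (⟨x, hxK⟩ : K) ^ p ^ k = 1 from Subtype.ext (by simpa using hx), map_one]
    have h2 : (p ^ k).Coprime (Nat.card (K ⧸ H.subgroupOf K)) := by
      rw [← index_eq_card]
      exact (hp.out.coprime_iff_not_dvd.2 hd2).pow_left k
    have h3 : QuotientGroup.mk' (H.subgroupOf K) ⟨x, hxK⟩ = 1 :=
      orderOf_eq_one_iff.1 (Nat.eq_one_of_dvd_coprimes h2 (orderOf_dvd_of_pow_eq_one h1)
        (orderOf_dvd_natCard _))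
    rw [QuotientGroup.mk'_apply, QuotientGroup.eq_one_iff, mem_subgroupOf] at h3
    exact h3

/-- A subnormal subgroup of index prime to `p` contains `O^{p'}`. -/
theorem pClosure_le_of_isSubnormal [Fact p.Prime] {H Y : Subgroup G} (hH : H.IsSubnormal)
    (hd : ¬ p ∣ H.relIndex Y) : pClosure p Y ≤ H := by
  refine (closure_le _).2 ?_
  rintro x ⟨hxY, k, hk⟩
  exact mem_of_isSubnormal_of_not_dvd_index (hH.subgroupOf (K := Y)) hd (k := k)
    (x := ⟨x, hxY⟩) (Subtype.ext (by simpa using hk))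

theorem pClosure_eq_self_iff [Fact p.Prime] {H : Subgroup G} :
    pClosure p H = H ↔ H ≤ pClosure p H :=
  ⟨fun h => h.ge, fun h => le_antisymm (pClosure_le p H) h⟩

/-- Homomorphisms carry `O^{p'}` onto `O^{p'}`. -/
theorem map_pClosure [hp : Fact p.Prime] {G' : Type*} [Group G'] (f : G →* G') (H : Subgroup G) :
    (pClosure p H).map f = pClosure p (H.map f) := by
  refine le_antisymm ?_ ((closure_le _).2 ?_)
  · rw [pClosure, MonoidHom.map_closure, closure_le]
    rintro _ ⟨x, ⟨hx, k, hk⟩, rfl⟩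
    exact mem_pClosure (mem_map_of_mem f hx) (k := k) (by rw [← map_pow, hk, map_one])
  · rintro _ ⟨⟨x, hx, rfl⟩, k, hk⟩
    obtain ⟨a, m, hm, ha⟩ := Nat.exists_eq_pow_mul_and_not_dvd (orderOf_pos x).ne' p hp.out.ne_one
    have hy : (x ^ m) ^ p ^ a = 1 := by
      rw [← pow_mul, mul_comm, ← ha, pow_orderOf_eq_one]
    have hxm : f x ^ m ∈ (pClosure p H).map f :=
      ⟨x ^ m, mem_pClosure (pow_mem hx m) (k := a) hy, map_pow f x m⟩
    have hcop : Nat.Coprime m (orderOf (f x)) := by
      obtain ⟨j, _, hj⟩ := (Nat.dvd_prime_pow hp.out).1 (orderOf_dvd_of_pow_eq_one hk)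
      rw [hj]
      exact ((hp.out.coprime_iff_not_dvd.2 hm).symm).pow_right j
    obtain ⟨n, hn⟩ := exists_pow_eq_self_of_coprime hcop
    rw [← hn]
    exact pow_mem hxm n

theorem pClosure_pClosure (H : Subgroup G) : pClosure p (pClosure p H) = pClosure p H := by
  refine le_antisymm (pClosure_le _ _) ((closure_le _).2 ?_)
  rintro x ⟨hx, k, hk⟩
  exact mem_pClosure (mem_pClosure hx hk) hk

end CfsgLib.Coprime
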