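import Mathlib.Algebra.Group.Subgroup.Pointwise
import Mathlib.GroupTheory.Index
import Mathlib.Tactic.Group

/-!
# Permutable subgroups
-/

set_option autoImplicit false

namespace CfsgLib.Coprime

open scoped Pointwise

variable {G : Type*} [Group G]

/-- If `AB = BA` then the product set is the join. -/
theorem coe_sup_of_permutes {A B : Subgroup G} (h : (A : Set G) * B = (B : Set G) * A) :
    ((A ⊔ B : Subgroup G) : Set G) = (A : Set G) * B := by
  let P : Subgroup G :=
    { carrier := (A : Set G) * B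
      one_mem' := ⟨1, A.one_mem, 1, B.one_mem, one_mul 1⟩
      mul_mem' := by
        rintro _ _ ⟨a, ha, b, hb, rfl⟩ ⟨a', ha', b', hb', rfl⟩
        obtain ⟨a'', ha'', b'', hb'', e⟩ : b * a' ∈ (A : Set G) * B := h ▸ ⟨b, hb, a', ha', rfl⟩
        refine ⟨a * a'', A.mul_mem ha ha'', b'' * b', B.mul_mem hb'' hb', ?_⟩
        show a * a'' * (b'' * b') = a * b * (a' * b')
        have e' : a'' * b'' = b * a' := e
        calc a * a'' * (b'' * b') = a * (a'' * b'') * b' := by group
          _ = _ := by rw [e']; group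
      inv_mem' := by
        rintro _ ⟨a, ha, b, hb, rfl⟩
        show (a * b)⁻¹ ∈ (A : Set G) * B
        rw [h, mul_inv_rev]
        exact ⟨b⁻¹, B.inv_mem hb, a⁻¹, A.inv_mem ha, rfl⟩ }
  refine Set.Subset.antisymm ?_ ?_
  · exact (sup_le (fun a ha => ⟨a, ha, 1, B.one_mem, mul_one a⟩)
      (fun b hb => ⟨1, A.one_mem, b, hb, one_mul b⟩) : A ⊔ B ≤ P)
  · rintro _ ⟨a, ha, b, hb, rfl⟩
    exact (A ⊔ B).mul_mem (Subgroup.mem_sup_left ha) (Subgroup.mem_sup_right hb)

theorem card_sup_of_permutes {A B : Subgroup G} (h : (A : Set G) * B = (B : Set G) * A)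
    (hd : Disjoint A B) : Nat.card (A ⊔ B : Subgroup G) = Nat.card A * Nat.card B := by
  rw [← Nat.card_prod]
  refine (Nat.card_eq_of_bijective
    (fun x : A × B => (⟨(x.1 : G) * x.2, Subgroup.mul_mem _ (Subgroup.mem_sup_left x.1.2)
      (Subgroup.mem_sup_right x.2.2)⟩ : (A ⊔ B : Subgroup G))) ⟨?_, ?_⟩).symm
  · intro x y e
    exact Subgroup.mul_injective_of_disjoint hd (congrArg Subtype.val e)
  · rintro ⟨g, hg⟩
    obtain ⟨a, ha, b, hb, rfl⟩ : g ∈ (A : Set G) * B := coe_sup_of_permutes h ▸ hg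
    exact ⟨(⟨a, ha⟩, ⟨b, hb⟩), rfl⟩

/-- A subgroup permuting with `A` and with `B` permutes with their product. -/
theorem permutes_sup {A B C : Subgroup G} (h : (A : Set G) * B = (B : Set G) * A)
    (hA : (A : Set G) * C = (C : Set G) * A) (hB : (B : Set G) * C = (C : Set G) * B) :
    ((A ⊔ B : Subgroup G) : Set G) * C = (C : Set G) * ((A ⊔ B : Subgroup G) : Set G) := by
  rw [coe_sup_of_permutes h, mul_assoc, hB, ← mul_assoc, hA, mul_assoc]

/-- Two subgroups of coprime orders inside one of the product of their orders permute. -/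
theorem permutes_of_card [Finite G] {A B L : Subgroup G} (hA : A ≤ L) (hB : B ≤ L)
    (hcop : (Nat.card A).Coprime (Nat.card B)) (hL : Nat.card L = Nat.card A * Nat.card B) :
    (A : Set G) * B = (B : Set G) * A := by
  have key : ∀ {A B : Subgroup G}, A ≤ L → B ≤ L → (Nat.card A).Coprime (Nat.card B) →
      Nat.card L = Nat.card A * Nat.card B → (A : Set G) * B = (L : Set G) := by
    intro A B hA hB hcop hL
    have hd : Disjoint A B := disjoint_iff.2 (Subgroup.inf_eq_bot_of_coprime hcop)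
    refine Set.eq_of_subset_of_ncard_le ?_ ?_ (Set.toFinite _)
    · rintro _ ⟨a, ha, b, hb, rfl⟩
      exact L.mul_mem (hA ha) (hB hb)
    · have himg : (A : Set G) * B = Set.range (fun x : A × B => (x.1 : G) * x.2) := by
        ext g
        constructor
        · rintro ⟨a, ha, b, hb, rfl⟩; exact ⟨(⟨a, ha⟩, ⟨b, hb⟩), rfl⟩
        · rintro ⟨⟨a, b⟩, rfl⟩; exact ⟨a, a.2, b, b.2, rfl⟩
      rw [← Nat.card_coe_set_eq, ← Nat.card_coe_set_eq, himg,
        Nat.card_range_of_injective (Subgroup.mul_injective_of_disjoint hd), Nat.card_prod]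
      exact hL.le
  rw [key hA hB hcop hL, key hB hA hcop.symm (by rw [hL, mul_comm])]

end CfsgLib.Coprime
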