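import Cfsg.Agent.Lib.PGroup.SmallElementsIndex
import Cfsg.Agent.Lib.Coprime.Action

/-!
# Coprime elements and chains through the small elements

An element of order prime to `p` normalizing a `p`-group `D` centralizes it as soon as it moves the
small elements of `D` (order dividing `p`, or 4 for `p = 2`) downwards along a chain ending at `1`.
-/

set_option autoImplicit false

namespace CfsgLib.Coprime

open Subgroup

universe u

variable {G : Type u} [Group G]

theorem centralizes_of_small_chain [Finite G] {p : ℕ} [hp : Fact p.Prime] {D : Subgroup G}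
    (hD : IsPGroup p D) {g : G} (hg : g ∈ normalizer (D : Set G)) (hgp : ¬ p ∣ orderOf g)
    (Z : ℕ → Subgroup G) (hZ0 : Z 0 = ⊥) (hmono : ∀ i, Z i ≤ Z (i + 1))
    (hn : ∀ i, D ≤ normalizer (Z i : Set G)) {n : ℕ}
    (htop : ∀ a ∈ D, a ^ PGroup.smallExp p = 1 → a ∈ Z n)
    (hmove : ∀ i, ∀ a ∈ D, a ^ PGroup.smallExp p = 1 → a ∈ Z (i + 1) →
      g * a * g⁻¹ * a⁻¹ ∈ Z i) :
    g ∈ centralizer (D : Set G) := by
  set e := PGroup.smallExp p with he
  have hgD : ∀ {x}, x ∈ D → g * x * g⁻¹ ∈ D := fun hx => (mem_normalizer_iff.1 hg _).1 hx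
  suffices key : ∀ i, ∀ a ∈ D, a ^ e = 1 → a ∈ Z i → Commute g a from
    PGroup.commute_of_fix_smallExp hD hg hgp fun a ha h => key n a ha h (htop a ha h)
  intro i
  induction i with
  | zero => intro a _ _ ha; rw [hZ0, mem_bot] at ha; subst ha; exact Commute.one_right g
  | succ i ih =>
    set T : Set G := {a | a ∈ D ∧ a ^ e = 1 ∧ a ∈ Z (i + 1)} with hTdef
    set S : Subgroup G := closure T with hS
    have hSD : S ≤ D := (closure_le _).2 fun a ha => ha.1
    have hSn : S ≤ normalizer (Z i : Set G) := hSD.trans (hn i)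
    have hgS : ∀ y ∈ S, g * y * g⁻¹ ∈ S ∧ g * y * g⁻¹ * y⁻¹ ∈ Z i := by
      intro y hy
      induction hy using closure_induction with
      | mem a ha =>
        obtain ⟨haD, hae, haZ⟩ := ha
        have h1 := hmove i a haD hae haZ
        refine ⟨subset_closure ⟨hgD haD, ?_, ?_⟩, h1⟩
        · rw [conj_pow, hae, mul_one, mul_inv_cancel]
        · rw [show g * a * g⁻¹ = g * a * g⁻¹ * a⁻¹ * a by group]
          exact mul_mem (hmono i h1) haZ
      | one => simp
      | mul a b ha hb iha ihb =>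
        refine ⟨?_, ?_⟩
        · rw [show g * (a * b) * g⁻¹ = g * a * g⁻¹ * (g * b * g⁻¹) by group]
          exact mul_mem iha.1 ihb.1
        · rw [show g * (a * b) * g⁻¹ * (a * b)⁻¹
            = g * a * g⁻¹ * a⁻¹ * (a * (g * b * g⁻¹ * b⁻¹) * a⁻¹) by group]
          exact mul_mem iha.2 ((mem_normalizer_iff.1 (hSn ha) _).1 ihb.2)
      | inv a ha iha =>
        refine ⟨?_, ?_⟩
        · rw [show g * a⁻¹ * g⁻¹ = (g * a * g⁻¹)⁻¹ by group]
          exact inv_mem iha.1
        · rw [show g * a⁻¹ * g⁻¹ * a⁻¹⁻¹ = a⁻¹ * (g * a * g⁻¹ * a⁻¹)⁻¹ * a⁻¹⁻¹ by group]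
          exact (mem_normalizer_iff.1 (inv_mem (hSn ha)) _).1 (inv_mem iha.2)
    have hgS' : g ∈ normalizer (S : Set G) := by
      rw [← conjBy_eq_self_iff]
      refine le_antisymm ?_ ?_
      · rintro _ ⟨y, hy, rfl⟩; exact (hgS y hy).1
      · intro y hy
        obtain ⟨k, hk⟩ := Nat.exists_eq_succ_of_ne_zero (orderOf_pos g).ne'
        have hrep : ∀ j : ℕ, g ^ j * y * (g ^ j)⁻¹ ∈ S := by
          intro j
          induction j with
          | zero => simpa using hy
          | succ j ihj =>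
            rw [pow_succ', show g * g ^ j * y * (g * g ^ j)⁻¹ = g * (g ^ j * y * (g ^ j)⁻¹) * g⁻¹ by
              group]
            exact (hgS _ ihj).1
        have hinv : g⁻¹ = g ^ k := inv_eq_of_mul_eq_one_right (by
          rw [← pow_succ', ← Nat.succ_eq_add_one, ← hk, pow_orderOf_eq_one])
        refine ⟨g⁻¹ * y * g, ?_, by simp [mul_assoc]⟩
        have := hrep k
        rwa [← hinv, inv_inv] at this
    set M : Subgroup G := S ⊓ Z i with hM
    have hgM : g ∈ normalizer (M : Set G) := by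
      have hfin : ∀ {z}, z ∈ M → g * z * g⁻¹ ∈ M := fun {z} hz => by
        refine ⟨(hgS z hz.1).1, ?_⟩
        rw [show g * z * g⁻¹ = g * z * g⁻¹ * z⁻¹ * z by group]
        exact mul_mem (hgS z hz.1).2 hz.2
      rw [← conjBy_eq_self_iff]
      refine Subgroup.eq_of_le_of_card_ge (fun _ ⟨z, hz, h⟩ => h ▸ hfin hz) (le_of_eq ?_)
      exact (Subgroup.card_map_of_injective (MulEquiv.injective _)).symm
    have hgMc : g ∈ centralizer (M : Set G) :=
      PGroup.commute_of_fix_smallExp (hD.to_le (inf_le_left.trans hSD)) hgM hgp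
        fun a ha hae => ih a (hSD ha.1) hae ha.2
    intro a haD hae haZ
    have haS : a ∈ S := subset_closure ⟨haD, hae, haZ⟩
    set w := g * a * g⁻¹ * a⁻¹ with hw
    have hwM : w ∈ M := ⟨S.mul_mem (hgS a haS).1 (S.inv_mem haS), (hgS a haS).2⟩
    have hcw : g * w * g⁻¹ = w := by
      rw [mul_inv_eq_iff_eq_mul]; exact (mem_centralizer_iff.1 hgMc w hwM).symm
    have hit : ∀ j : ℕ, g ^ j * a * (g ^ j)⁻¹ = w ^ j * a := by
      intro j
      induction j with
      | zero => simp
      | succ j ihj =>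
        have hcj : g * w ^ j * g⁻¹ = w ^ j := by rw [← conj_pow, hcw]
        rw [pow_succ' g, show g * g ^ j * a * (g * g ^ j)⁻¹ = g * (g ^ j * a * (g ^ j)⁻¹) * g⁻¹ by
          group, ihj, show g * (w ^ j * a) * g⁻¹ = g * w ^ j * g⁻¹ * (g * a * g⁻¹) by group, hcj,
          show g * a * g⁻¹ = w * a from (inv_mul_cancel_right _ a).symm, ← mul_assoc, ← pow_succ]
    have h1 := hit (orderOf g)
    rw [pow_orderOf_eq_one, one_mul, inv_one, mul_one, right_eq_mul] at h1
    have hw1 : w = 1 := by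
      obtain ⟨k, hk⟩ := hD ⟨w, hSD hwM.1⟩
      have hk' : w ^ p ^ k = 1 := by simpa using congrArg Subtype.val hk
      exact orderOf_eq_one_iff.1 (Nat.eq_one_of_dvd_coprimes
        ((hp.out.coprime_iff_not_dvd.2 hgp).pow_left k) (orderOf_dvd_of_pow_eq_one hk')
        (orderOf_dvd_of_pow_eq_one h1))
    rw [hw, mul_inv_eq_one, mul_inv_eq_iff_eq_mul] at hw1
    exact hw1

end CfsgLib.Coprime
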