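import Cfsg.Agent.Lib.Coprime.Action

/-!
Thompson's criterion: a coprime operator group whose fixed points in a nilpotent group are
self-centralizing acts trivially.
-/

set_option autoImplicit false

namespace CfsgLib.Coprime

open Subgroup

variable {G : Type*} [Group G] [Finite G]

theorem le_centralizer_of_fixed_selfCentralizing {H A : Subgroup G} (hH : Group.IsNilpotent H)
    (hA : A ≤ normalizer (H : Set G)) (hcop : (Nat.card A).Coprime (Nat.card H))
    (hC : H ⊓ centralizer ((H ⊓ centralizer (A : Set G) : Subgroup G) : Set G) ≤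
      H ⊓ centralizer (A : Set G)) :
    A ≤ centralizer (H : Set G) := by
  set C := H ⊓ centralizer (A : Set G) with hCdef
  have hfixC : ∀ a ∈ A, ∀ c ∈ C, a * c * a⁻¹ = c := fun a ha c hc => by
    rw [mem_centralizer_iff.1 hc.2 a ha, mul_inv_cancel_right]
  suffices hN : H ≤ C from fun a ha =>
    mem_centralizer_iff.2 fun h hh => (mem_centralizer_iff.1 (hN hh).2 a ha).symm
  have hnc : ∀ x ∈ H, x ∈ normalizer (C : Set G) → x ∈ C := by
    intro x hx hxn
    refine ⟨hx, mem_centralizer_iff.2 fun a ha => ?_⟩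
    set k := a * x * a⁻¹ * x⁻¹ with hk
    have hkH : k ∈ H := mul_mem ((mem_normalizer_iff.1 (hA ha) x).1 hx) (inv_mem hx)
    have hkC : k ∈ C := hC ⟨hkH, mem_centralizer_iff.2 fun c hc => by
      have h1 : x⁻¹ * c * x ∈ C := by
        simpa using (mem_normalizer_iff.1 (inv_mem hxn) c).1 hc
      have h2 := hfixC a ha _ h1
      have h3 := hfixC a ha _ hc
      calc c * k = c * (a * x * a⁻¹) * x⁻¹ := by rw [hk]; group
        _ = (a * c * a⁻¹) * (a * x * a⁻¹) * x⁻¹ := by rw [h3]
        _ = (a * x * a⁻¹) * (a * (x⁻¹ * c * x) * a⁻¹) * x⁻¹ := by group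
        _ = (a * x * a⁻¹) * (x⁻¹ * c * x) * x⁻¹ := by rw [h2]
        _ = k * c := by rw [hk]; group⟩
    have h1 := eq_one_of_conj_eq_mul (a := a) (x := x) (u := k) (by rw [hk]; group)
      (hfixC a ha k hkC)
      (Nat.Coprime.coprime_dvd_left (Subgroup.orderOf_dvd_natCard (s := A) ha)
        (Nat.Coprime.coprime_dvd_right (Subgroup.orderOf_dvd_natCard (s := H) hkH) hcop))
    rw [hk, mul_inv_eq_one, mul_inv_eq_iff_eq_mul] at h1
    exact h1
  by_contra hN
  have hlt : C.subgroupOf H < ⊤ :=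
    lt_top_iff_ne_top.2 fun h => hN (subgroupOf_eq_top.1 h)
  haveI := hH
  obtain ⟨y, hyn, hyC⟩ := SetLike.exists_of_lt
    (Group.normalizerCondition_of_isNilpotent (G := H) _ hlt)
  refine hyC (mem_subgroupOf.2 (hnc _ y.2 (mem_normalizer_iff.2 fun z => ?_)))
  constructor
  · intro hz
    exact (mem_normalizer_iff.1 hyn ⟨z, hz.1⟩).1 hz
  · intro hz
    have hzH : z ∈ H := by
      have := H.mul_mem (H.mul_mem (H.inv_mem y.2) hz.1) y.2
      rwa [← mul_assoc, ← mul_assoc, inv_mul_cancel, one_mul, inv_mul_cancel_right] at this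
    exact (mem_normalizer_iff.1 hyn ⟨z, hzH⟩).2 hz

end CfsgLib.Coprime
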