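import Cfsg.Prelude.Def_SolvableStructure
import Cfsg.Agent.Lib.PGroup.SylowTowerCount
import Cfsg.Agent.Lib.Coprime.Solvable
import Mathlib.GroupTheory.SchurZassenhaus

/-!
# Supersolvable groups
-/

set_option autoImplicit false
set_option linter.style.haveILetI false
set_option linter.unusedSectionVars false

namespace CfsgLib.Coprime

open Subgroup Cfsg
open CfsgLib.PGroup (isSupersolvable_quotient exists_normal_prime_order)

universe u v

variable {G : Type u} [Group G]

theorem isSupersolvable_of_subsingleton [Subsingleton G] : IsSupersolvable G :=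
  ⟨0, fun _ => ⊥, rfl, Subsingleton.elim _ _, fun _ => inferInstance, fun i => i.elim0⟩

theorem isSupersolvable_of_cyclic_normal (N : Subgroup G) [N.Normal] [hc : IsCyclic N]
    (h : IsSupersolvable (G ⧸ N)) : IsSupersolvable G := by
  obtain ⟨n, H, h0, h1, hn, hs⟩ := h
  obtain ⟨z, hz⟩ := (Subgroup.isCyclic_iff_exists_zpowers_eq_top N).1 hc
  refine ⟨n + 1, Fin.cons ⊥ fun i => (H i).comap (QuotientGroup.mk' N), rfl, ?_, ?_, ?_⟩
  · show (Fin.cons ⊥ _ : Fin (n + 2) → Subgroup G) (Fin.last n).succ = ⊤
    rw [Fin.cons_succ, h1, comap_top]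
  · intro i
    induction i using Fin.cases with
    | zero => exact (inferInstance : (⊥ : Subgroup G).Normal)
    | succ i =>
      rw [Fin.cons_succ]
      exact (hn i).comap _
  · intro i
    induction i using Fin.cases with
    | zero =>
      refine ⟨z, ?_⟩
      show (Fin.cons ⊥ _ : Fin (n + 2) → Subgroup G) (0 : Fin (n + 1)).succ = _
      rw [Fin.cons_succ, Fin.castSucc_zero, Fin.cons_zero, h0, bot_sup_eq, hz,
        MonoidHom.comap_bot, QuotientGroup.ker_mk']
    | succ i =>
      obtain ⟨g, hg⟩ := hs i
      obtain ⟨g, rfl⟩ := QuotientGroup.mk_surjective g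
      refine ⟨g, ?_⟩
      rw [Fin.castSucc_succ, Fin.cons_succ, Fin.cons_succ]
      have hN : N ≤ (H i.castSucc).comap (QuotientGroup.mk' N) := QuotientGroup.le_comap_mk' N _
      have e : ((H i.castSucc).comap (QuotientGroup.mk' N) ⊔ zpowers g).map (QuotientGroup.mk' N)
          = H i.succ := by
        rw [Subgroup.map_sup, map_comap_eq_self_of_surjective (QuotientGroup.mk'_surjective N),
          MonoidHom.map_zpowers, QuotientGroup.mk'_apply, hg]
      rw [← e, comap_map_eq, QuotientGroup.ker_mk', sup_eq_left]
      exact hN.trans le_sup_left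

/-- A homomorphism with cyclic kernel into a supersolvable group has supersolvable source. -/
theorem isSupersolvable_of_ker_cyclic_aux : ∀ (k : ℕ) {G : Type u} [Group G] [Finite G],
    Nat.card G = k → IsSupersolvable G → ∀ (H : Type v) [Group H] [Finite H] (f : H →* G),
      Function.Injective f → IsSupersolvable H := by
  intro k
  induction k using Nat.strongRecOn with
  | ind k ih =>
    intro G _ _ hk hG H _ _ f hf
    rcases subsingleton_or_nontrivial G with hs | hs
    · haveI : Subsingleton H := hf.subsingleton
      exact isSupersolvable_of_subsingleton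
    obtain ⟨N, hN, hp⟩ := exists_normal_prime_order hG
    haveI := hN
    haveI := Fact.mk hp
    haveI : IsCyclic N := isCyclic_of_prime_card rfl
    set g := (QuotientGroup.mk' N).comp f
    have hker : g.ker = N.comap f := by
      rw [← MonoidHom.comap_ker, QuotientGroup.ker_mk']
    haveI : IsCyclic g.ker := by
      rw [hker]
      refine isCyclic_of_injective (f := ((f.comp (N.comap f).subtype).codRestrict N fun x => x.2)) ?_
      exact fun a b e => Subtype.ext (hf (congrArg Subtype.val e))
    refine isSupersolvable_of_cyclic_normal g.ker ?_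
    refine ih (Nat.card (G ⧸ N)) ?_ rfl (isSupersolvable_quotient hG N) _
      (QuotientGroup.kerLift g) (QuotientGroup.kerLift_injective g)
    rw [← hk, N.card_eq_card_quotient_mul_card_subgroup]
    exact lt_mul_of_one_lt_right Nat.card_pos hp.one_lt

variable [Finite G]

theorem isSupersolvable_of_injective (hG : IsSupersolvable G) {H : Type v} [Group H] (f : H →* G)
    (hf : Function.Injective f) : IsSupersolvable H :=
  haveI : Finite H := Finite.of_injective f hf
  isSupersolvable_of_ker_cyclic_aux (Nat.card G) rfl hG H f hf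

theorem isSupersolvable_congr {H : Type v} [Group H] (e : G ≃* H) (hG : IsSupersolvable G) :
    IsSupersolvable H := isSupersolvable_of_injective hG e.symm.toMonoidHom e.symm.injective

theorem isSupersolvable_subgroup (hG : IsSupersolvable G) (H : Subgroup G) : IsSupersolvable H :=
  isSupersolvable_of_injective hG H.subtype H.subtype_injective

theorem isSupersolvable_of_hom {H : Type v} [Group H] [Finite H] (f : H →* G) [IsCyclic f.ker]
    (hG : IsSupersolvable G) : IsSupersolvable H :=
  isSupersolvable_of_cyclic_normal f.ker (isSupersolvable_of_injective hG _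
    (QuotientGroup.kerLift_injective f))

theorem isSupersolvable_prod_aux : ∀ (k : ℕ) {G : Type u} [Group G] [Finite G], Nat.card G = k →
    IsSupersolvable G → ∀ (H : Type v) [Group H] [Finite H], IsSupersolvable H →
      IsSupersolvable (G × H) := by
  intro k
  induction k using Nat.strongRecOn with
  | ind k ih =>
    intro G _ _ hk hG H _ _ hH
    rcases subsingleton_or_nontrivial G with hs | hs
    · exact isSupersolvable_of_injective hH (MonoidHom.snd G H)
        fun a b e => Prod.ext (Subsingleton.elim _ _) e
    obtain ⟨N, hN, hp⟩ := exists_normal_prime_order hG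
    haveI := hN
    haveI := Fact.mk hp
    haveI : IsCyclic N := isCyclic_of_prime_card rfl
    let f : G × H →* (G ⧸ N) × H := (QuotientGroup.mk' N).prodMap (MonoidHom.id H)
    have hmem : ∀ x ∈ f.ker, x.1 ∈ N ∧ x.2 = 1 := by
      intro x hx
      have := Prod.ext_iff.1 (MonoidHom.mem_ker.1 hx)
      exact ⟨(QuotientGroup.eq_one_iff _).1 this.1, this.2⟩
    haveI : IsCyclic f.ker := isCyclic_of_injective
      (f := (((MonoidHom.fst G H).comp f.ker.subtype).codRestrict N fun x => (hmem x x.2).1))
      fun a b e => Subtype.ext (Prod.ext (congrArg Subtype.val e)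
        ((hmem a a.2).2.trans (hmem b b.2).2.symm))
    refine isSupersolvable_of_hom f (ih (Nat.card (G ⧸ N)) ?_ rfl (isSupersolvable_quotient hG N) H hH)
    rw [← hk, N.card_eq_card_quotient_mul_card_subgroup]
    exact lt_mul_of_one_lt_right Nat.card_pos hp.one_lt

theorem isSupersolvable_prod {H : Type v} [Group H] [Finite H] (hG : IsSupersolvable G)
    (hH : IsSupersolvable H) : IsSupersolvable (G × H) :=
  isSupersolvable_prod_aux (Nat.card G) rfl hG H hH

omit [Finite G] in
theorem exists_central_prime_order {G : Type u} [Group G] [Finite G] [Group.IsNilpotent G]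
    [Nontrivial G] : ∃ x : G, (orderOf x).Prime ∧ x ∈ center G := by
  haveI : Nontrivial (center G) := (nontrivial_iff_ne_bot _).2 fun e => by
    have := nilpotent_inf_center_ne_bot (⊤ : Subgroup G) top_ne_bot
    exact this (by rw [top_inf_eq, e])
  obtain ⟨q, hq, hd⟩ := Nat.exists_prime_and_dvd (Finite.one_lt_card (α := center G)).ne'
  haveI := Fact.mk hq
  obtain ⟨⟨x, hx⟩, hxo⟩ := exists_prime_orderOf_dvd_card' q hd
  exact ⟨x, ((Subgroup.orderOf_coe (⟨x, hx⟩ : center G)).trans hxo) ▸ hq, hx⟩

theorem isSupersolvable_of_isNilpotent [Group.IsNilpotent G] : IsSupersolvable G := by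
  induction hk : Nat.card G using Nat.strongRecOn generalizing G with
  | ind k ih =>
    subst hk
    rcases subsingleton_or_nontrivial G with hs | hs
    · exact isSupersolvable_of_subsingleton
    obtain ⟨x, hx, hxc⟩ := exists_central_prime_order (G := G)
    haveI : (zpowers x).Normal := ⟨fun n hn g => by
      rwa [Subgroup.mem_center_iff.1 ((zpowers_le.2 hxc) hn) g, mul_inv_cancel_right]⟩
    refine isSupersolvable_of_cyclic_normal (zpowers x) (ih _ ?_ rfl)
    rw [(zpowers x).card_eq_card_quotient_mul_card_subgroup]
    exact lt_mul_of_one_lt_right Nat.card_pos (by rw [Nat.card_zpowers]; exact hx.one_lt)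

omit [Finite G] in
/-- A nontrivial normal subgroup of a supersolvable group contains a normal one of prime order. -/
theorem exists_normal_prime_order_le [Finite G] (hG : IsSupersolvable G) (M : Subgroup G)
    [M.Normal] (hM : M ≠ ⊥) : ∃ Y ≤ M, Y.Normal ∧ (Nat.card Y).Prime := by
  obtain ⟨n, H, h0, h1, hn, hs⟩ := hG
  have key : ∃ i : Fin n, H i.castSucc ⊓ M = ⊥ ∧ H i.succ ⊓ M ≠ ⊥ := by
    by_contra hc
    push Not at hc
    have : ∀ i, H i ⊓ M = ⊥ := by
      intro i
      induction i using Fin.induction with
      | zero => rw [h0, bot_inf_eq]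
      | succ i ih => exact hc i ih
    exact hM (by rw [← this (Fin.last n), h1, top_inf_eq])
  obtain ⟨i, hi, hne⟩ := key
  obtain ⟨g, hg⟩ := hs i
  haveI := hn i.castSucc
  haveI := hn i.succ
  set T := H i.succ ⊓ M
  haveI : IsCyclic T := by
    haveI : IsCyclic (zpowers (g : G ⧸ H i.castSucc)) := inferInstance
    refine isCyclic_of_injective (f := (((QuotientGroup.mk' (H i.castSucc)).comp T.subtype).codRestrict
      (zpowers (g : G ⧸ H i.castSucc)) fun x => ?_)) ?_
    · have hx : (x : G) ∈ H i.castSucc ⊔ zpowers g := hg ▸ x.2.1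
      have h2 := mem_map_of_mem (QuotientGroup.mk' (H i.castSucc)) hx
      rwa [Subgroup.map_sup, QuotientGroup.map_mk'_self, bot_sup_eq, MonoidHom.map_zpowers] at h2
    · intro a b e
      have e2 : QuotientGroup.mk' (H i.castSucc) (a : G) = QuotientGroup.mk' (H i.castSucc) (b : G) :=
        congrArg Subtype.val e
      rw [QuotientGroup.mk'_apply, QuotientGroup.mk'_apply, QuotientGroup.eq] at e2
      have : (a : G)⁻¹ * b = 1 := by
        rw [← mem_bot, ← hi]; exact ⟨e2, M.mul_mem (M.inv_mem a.2.2) b.2.2⟩
      exact Subtype.ext (inv_mul_eq_one.1 this)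
  haveI : T.Normal := normal_inf_normal _ _
  obtain ⟨q, hq, hd⟩ := Nat.exists_prime_and_dvd (fun e => hne (card_eq_one.1 e) : Nat.card T ≠ 1)
  haveI := Fact.mk hq
  obtain ⟨y, hy⟩ := exists_prime_orderOf_dvd_card' q hd
  haveI : (zpowers y).Characteristic := characteristic_iff_map_le.2 fun φ => by
    obtain ⟨m, hm⟩ := MonoidHom.map_cyclic φ.toMonoidHom
    rintro _ ⟨x, hx, rfl⟩
    exact (hm x).symm ▸ zpow_mem hx m
  refine ⟨(zpowers y).map T.subtype, (map_subtype_le _).trans inf_le_right,
    ConjAct.normal_of_characteristic_of_normal, ?_⟩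
  rw [card_map_of_injective T.subtype_injective, Nat.card_zpowers, hy]
  exact hq

theorem isSolvable_of_isSupersolvable (hG : IsSupersolvable G) : Group.IsSolvable G := by
  induction hk : Nat.card G using Nat.strongRecOn generalizing G with
  | ind k ih =>
    subst hk
    rcases subsingleton_or_nontrivial G with hs | hs
    · exact Group.isSolvable_of_comm fun a b => Subsingleton.elim _ _
    obtain ⟨N, hN, hp⟩ := exists_normal_prime_order hG
    haveI := hN
    haveI := Fact.mk hp
    haveI : IsCyclic N := isCyclic_of_prime_card rfl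
    haveI : Group.IsSolvable N := Group.isSolvable_of_comm IsCyclic.commGroup.mul_comm
    haveI : Group.IsSolvable (G ⧸ N) := by
      refine ih _ ?_ (isSupersolvable_quotient hG N) rfl
      rw [N.card_eq_card_quotient_mul_card_subgroup]
      exact lt_mul_of_one_lt_right Nat.card_pos hp.one_lt
    exact Group.isSolvable_of_ker_le_range N.subtype (QuotientGroup.mk' N)
      (by rw [QuotientGroup.ker_mk', Subgroup.range_subtype])

theorem isCoatom_index_prime (hG : IsSupersolvable G) {M : Subgroup G} (hM : IsCoatom M) :
    M.index.Prime := by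
  induction hk : Nat.card G using Nat.strongRecOn generalizing G with
  | ind k ih =>
    subst hk
    rcases subsingleton_or_nontrivial G with hs | hs
    · exact absurd (Subsingleton.elim M ⊤) hM.1
    obtain ⟨N, hN, hp⟩ := exists_normal_prime_order hG
    haveI := hN
    have hsur := QuotientGroup.mk'_surjective N
    by_cases hNM : N ≤ M
    · have hker : (QuotientGroup.mk' N).ker ≤ M := by rwa [QuotientGroup.ker_mk']
      have hMc : (M.map (QuotientGroup.mk' N)).comap (QuotientGroup.mk' N) = M :=
        comap_map_eq_self hker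
      have hne : M.map (QuotientGroup.mk' N) ≠ ⊤ := fun e => hM.1 (by rw [← hMc, e, comap_top])
      have hco : IsCoatom (M.map (QuotientGroup.mk' N)) := by
        refine ⟨hne, fun T hT => ?_⟩
        have hlt : M < T.comap (QuotientGroup.mk' N) := by
          rw [← hMc]; exact (comap_lt_comap_of_surjective hsur).2 hT
        rw [← map_comap_eq_self_of_surjective hsur T, hM.2 _ hlt, map_top_of_surjective _ hsur]
      rw [← index_map_eq M hsur hker]
      refine ih _ ?_ (isSupersolvable_quotient hG N) hco rfl
      rw [N.card_eq_card_quotient_mul_card_subgroup]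
      exact lt_mul_of_one_lt_right Nat.card_pos hp.one_lt
    · have hinf : M ⊓ N = ⊥ := by
        rcases hp.eq_one_or_self_of_dvd _ (card_dvd_of_le (inf_le_right : M ⊓ N ≤ N)) with h | h
        · exact card_eq_one.1 h
        · exact absurd (inf_eq_right.1 (eq_of_le_of_card_ge inf_le_right h.ge)) hNM
      have hsup : M ⊔ N = ⊤ := hM.2 _ (lt_of_le_of_ne le_sup_left fun e => hNM (e ▸ le_sup_right))
      have hc : IsComplement' N M := isComplement'_of_disjoint_and_mul_eq_univ
        (by rw [disjoint_iff, inf_comm, hinf])
        (by rw [← normal_mul, sup_comm, hsup, coe_top])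
      rw [hc.index_eq_card]
      exact hp

theorem hasSubgroupOfEveryOrder (hG : IsSupersolvable G) : HasSubgroupOfEveryOrder G := by
  induction hk : Nat.card G using Nat.strongRecOn generalizing G with
  | ind k ih =>
    subst hk
    intro d hd
    rcases subsingleton_or_nontrivial G with hs | hs
    · exact ⟨⊥, by rw [card_bot]; exact (Nat.eq_one_of_dvd_one (Nat.card_of_subsingleton (1 : G) ▸ hd)).symm⟩
    obtain ⟨N, hN, hp⟩ := exists_normal_prime_order hG
    haveI := hN
    have hmul := N.card_eq_card_quotient_mul_card_subgroup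
    have hlt : Nat.card (G ⧸ N) < Nat.card G := by
      rw [hmul]; exact lt_mul_of_one_lt_right Nat.card_pos hp.one_lt
    have hq := ih _ hlt (isSupersolvable_quotient hG N) rfl
    have hsur := QuotientGroup.mk'_surjective N
    have hcard : ∀ T : Subgroup (G ⧸ N),
        Nat.card (T.comap (QuotientGroup.mk' N)) = Nat.card T * Nat.card N := by
      intro T
      have := QuotientGroup.card_preimage_mk N (T : Set (G ⧸ N))
      rw [mul_comm]
      exact this
    by_cases hpd : Nat.card N ∣ d
    · obtain ⟨e, rfl⟩ := hpd
      obtain ⟨T, hT⟩ := hq e (by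
        refine Nat.dvd_of_mul_dvd_mul_right hp.pos ?_
        rw [← hmul, mul_comm]; exact hd)
      exact ⟨T.comap (QuotientGroup.mk' N), by rw [hcard, hT, mul_comm]⟩
    · have hcop : d.Coprime (Nat.card N) := ((hp.coprime_iff_not_dvd).2 hpd).symm
      obtain ⟨T, hT⟩ := hq d (hcop.dvd_of_dvd_mul_right (hmul ▸ hd))
      set L := T.comap (QuotientGroup.mk' N)
      have hNL : N ≤ L := QuotientGroup.le_comap_mk' N T
      have hNc : Nat.card (N.subgroupOf L) = Nat.card N :=
        Nat.card_congr (subgroupOfEquivOfLe hNL).toEquiv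
      have hi : (N.subgroupOf L).index = d := by
        have h1 := (N.subgroupOf L).card_mul_index
        rw [hNc, hcard, hT, mul_comm d] at h1
        exact Nat.eq_of_mul_eq_mul_left hp.pos h1
      obtain ⟨B, hB⟩ := exists_right_complement'_of_coprime (N := N.subgroupOf L)
        (by rw [hNc, hi]; exact hcop.symm)
      exact ⟨B.map L.subtype, by rw [card_map_of_injective L.subtype_injective, ← hB.symm.index_eq_card, hi]⟩

theorem commutator_isNilpotent (hG : IsSupersolvable G) : Group.IsNilpotent (commutator G) := by
  induction hk : Nat.card G using Nat.strongRecOn generalizing G with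
  | ind k ih =>
    subst hk
    rcases subsingleton_or_nontrivial G with hs | hs
    · haveI : Subsingleton (commutator G) := inferInstance
      infer_instance
    obtain ⟨N, hN, hp⟩ := exists_normal_prime_order hG
    haveI := hN
    haveI := Fact.mk hp
    haveI : IsCyclic N := isCyclic_of_prime_card rfl
    have hnil := ih (Nat.card (G ⧸ N)) (by
      rw [N.card_eq_card_quotient_mul_card_subgroup]
      exact lt_mul_of_one_lt_right Nat.card_pos hp.one_lt) (isSupersolvable_quotient hG N) rfl
    have hmap : (commutator G).map (QuotientGroup.mk' N) = commutator (G ⧸ N) := by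
      rw [commutator_def, commutator_def, map_commutator, map_top_of_surjective _ (QuotientGroup.mk'_surjective N)]
    let f : commutator G →* commutator (G ⧸ N) :=
      ((QuotientGroup.mk' N).comp (commutator G).subtype).codRestrict _
        fun x => hmap ▸ mem_map_of_mem _ x.2
    haveI := hnil
    refine Subgroup.isNilpotent_of_ker_le_center f ?_
    intro x hx
    have hxN : (x : G) ∈ N := (QuotientGroup.eq_one_iff _).1 (congrArg Subtype.val (MonoidHom.mem_ker.1 hx))
    rw [Subgroup.mem_center_iff]
    intro c
    have hc : (c : G) ∈ (MulAut.conjNormal (H := N)).ker := by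
      refine (?_ : commutator G ≤ _) c.2
      rw [commutator_def, commutator_le]
      intro a _ b _
      rw [MonoidHom.mem_ker, map_commutatorElement, commutatorElement_eq_one_iff_mul_comm]
      refine MulEquiv.ext fun n => ?_
      obtain ⟨i, hi⟩ := MonoidHom.map_cyclic (MulAut.conjNormal a : MulAut N).toMonoidHom
      obtain ⟨j, hj⟩ := MonoidHom.map_cyclic (MulAut.conjNormal b : MulAut N).toMonoidHom
      simp only [MulEquiv.toMonoidHom_eq_coe, MonoidHom.coe_coe] at hi hj
      rw [MulAut.mul_apply, MulAut.mul_apply, hi, hj, hj, hi, zpow_comm]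
    have := congrArg (fun φ : MulAut N => ((φ ⟨x, hxN⟩ : N) : G)) (MonoidHom.mem_ker.1 hc)
    simp only [MulAut.conjNormal_apply, MulAut.one_apply] at this
    exact Subtype.ext (mul_inv_eq_iff_eq_mul.1 this)

end CfsgLib.Coprime
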