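import Cfsg.Agent.Lib.Coprime.Supersolvable
import Cfsg.Agent.Lib.Coprime.Action

/-!
# Criteria for supersolvability
-/

set_option autoImplicit false
set_option linter.style.haveILetI false
set_option linter.unusedSectionVars false

namespace CfsgLib.Coprime

open Subgroup Cfsg
open CfsgLib.PGroup (isSupersolvable_quotient exists_normal_prime_order)

universe u

theorem card_quotient_lt_of_ne_bot {G : Type u} [Group G] [Finite G] {N : Subgroup G}
    (hN : N ≠ ⊥) : Nat.card (G ⧸ N) < Nat.card G := by
  rw [N.card_eq_card_quotient_mul_card_subgroup]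
  refine lt_mul_of_one_lt_right Nat.card_pos ?_
  have h1 : Nat.card N ≠ 1 := fun e => hN (card_eq_one.1 e)
  have h2 := Nat.card_pos (α := N)
  omega

/-- A normal `p`-subgroup `P` with a supersolvable supplement meeting it in index at most `p`. -/
theorem isSupersolvable_of_supplement {G : Type u} [Group G] [Finite G] {p : ℕ} [Fact p.Prime]
    (P L : Subgroup G) [P.Normal] (hP : IsPGroup p P) (hsup : P ⊔ L = ⊤)
    (hL : IsSupersolvable L) (hq : IsSupersolvable (G ⧸ P)) (hi : L.relIndex P ≤ p) :
    IsSupersolvable G := by
  induction hk : Nat.card G using Nat.strongRecOn generalizing G with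
  | ind k ih =>
    subst hk
    have hp : p.Prime := Fact.out
    by_cases h0 : L ⊓ P = ⊥
    · haveI : IsCyclic P := by
        rw [← inf_relIndex_right, h0, relIndex_bot_left] at hi
        obtain ⟨j, hj⟩ := IsPGroup.iff_card.1 hP
        match j, hj with
        | 0, hj => haveI : Subsingleton P := (Nat.card_eq_one_iff_unique.1 (by simpa using hj)).1
                   infer_instance
        | 1, hj => exact isCyclic_of_prime_card (p := p) (by simpa using hj)
        | j + 2, hj =>
          exact absurd (hj ▸ hi) (not_le.2 (lt_self_pow₀ hp.one_lt (by omega)))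
      exact isSupersolvable_of_cyclic_normal P hq
    set P0 := L ⊓ P with hP0
    have hnP : P ≤ normalizer (P0 : Set G) := by
      obtain ⟨j, hj⟩ := hP.index (P0.subgroupOf P)
      have hj' : P0.relIndex P = p ^ j := hj
      rw [hP0, inf_relIndex_right] at hj'
      match j, hj' with
      | 0, hj' =>
        rw [pow_zero, relIndex_eq_one] at hj'
        rw [hP0, inf_eq_right.2 hj']
        exact le_normalizer
      | 1, hj' =>
        refine (normal_subgroupOf_iff_le_normalizer inf_le_right).1
          (normal_of_index_eq_minFac_card ?_)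
        obtain ⟨n, hn⟩ := IsPGroup.iff_card.1 hP
        have hn0 : n ≠ 0 := by
          rintro rfl
          exact h0 (le_bot_iff.1 ((card_eq_one.1 (by simpa using hn)) ▸ inf_le_right))
        rw [hn, hp.pow_minFac hn0]
        show P0.relIndex P = p
        rw [hP0, inf_relIndex_right, hj', pow_one]
      | j + 2, hj' =>
        exact absurd (hj' ▸ hi) (not_le.2 (lt_self_pow₀ hp.one_lt (by omega)))
    haveI hn0 : P0.Normal := by
      rw [← normalizer_eq_top_iff, eq_top_iff, ← hsup]
      exact sup_le hnP (inf_le_normalizer le_normalizer (by rw [normalizer_eq_top]; exact le_top))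
    haveI hPn : Group.IsNilpotent P := hP.isNilpotent
    set Z := P0 ⊓ centralizer (P : Set G) with hZ
    haveI : (centralizer (P : Set G)).Normal := Subgroup.normal_centralizer
    haveI : Z.Normal := normal_inf_normal _ _
    have hZne : Z ≠ ⊥ := by
      intro e
      refine nilpotent_inf_center_ne_bot (P0.subgroupOf P) (fun e2 => h0 ?_) (eq_bot_iff_forall _ |>.2
        fun x hx => ?_)
      · have hle : P0 ≤ P := inf_le_right
        rw [← map_subgroupOf_eq_of_le hle, e2, Subgroup.map_bot]
      · have hxZ : (x : G) ∈ Z := ⟨mem_subgroupOf.1 hx.1, mem_centralizer_iff.2 fun y hy =>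
          congrArg Subtype.val (Subgroup.mem_center_iff.1 hx.2 ⟨y, hy⟩)⟩
        rw [e, mem_bot] at hxZ
        exact Subtype.ext hxZ
    have hZL : Z ≤ L := inf_le_left.trans inf_le_left
    haveI : (Z.subgroupOf L).Normal := inferInstance
    obtain ⟨Y', hY'Z, hY'n, hY'p⟩ := exists_normal_prime_order_le hL (Z.subgroupOf L) (fun e => hZne (by
      rw [← map_subgroupOf_eq_of_le hZL, e, Subgroup.map_bot]))
    set Y := Y'.map L.subtype with hY
    have hYc : Nat.card Y = Nat.card Y' := card_map_of_injective L.subtype_injective
    have hYZ : Y ≤ Z := (map_mono hY'Z).trans (le_of_eq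
      (map_subgroupOf_eq_of_le hZL))
    haveI hYn : Y.Normal := by
      rw [← normalizer_eq_top_iff, eq_top_iff, ← hsup]
      refine sup_le ?_ ?_
      · intro x hx
        rw [mem_normalizer_iff]
        intro y
        constructor
        · intro hy
          rw [mem_centralizer_iff.1 (hYZ hy).2 x hx, mul_inv_cancel_right]
          exact hy
        · intro hy
          have h := mem_centralizer_iff.1 (hYZ hy).2 x hx
          have e : x * y * x⁻¹ = y := by
            have h2 : x * (x * y * x⁻¹) = x * y := by rw [h]; group
            exact mul_left_cancel h2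
          rwa [← e]
      · refine (normal_subgroupOf_iff_le_normalizer (map_subtype_le Y')).1 ?_
        rw [subgroupOf, comap_map_eq_self_of_injective L.subtype_injective]
        exact hY'n
    haveI := Fact.mk (hYc ▸ hY'p : (Nat.card Y).Prime)
    haveI : IsCyclic Y := isCyclic_of_prime_card rfl
    have hYP : Y ≤ P := hYZ.trans (inf_le_left.trans inf_le_right)
    refine isSupersolvable_of_cyclic_normal Y ?_
    have hsur := QuotientGroup.mk'_surjective Y
    haveI : (P.map (QuotientGroup.mk' Y)).Normal := Subgroup.Normal.map ‹_› _ hsur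
    refine ih (Nat.card (G ⧸ Y)) (card_quotient_lt_of_ne_bot fun e => ?_)
      (P.map (QuotientGroup.mk' Y)) (L.map (QuotientGroup.mk' Y)) (hP.map _)
      (by rw [← Subgroup.map_sup, hsup, map_top_of_surjective _ hsur]) ?_ ?_ ?_ rfl
    · exact (Fact.out : (Nat.card Y).Prime).ne_one (by rw [e, card_bot])
    · refine isSupersolvable_congr (QuotientGroup.quotientKerEquivOfSurjective _
        ((QuotientGroup.mk' Y).subgroupMap_surjective L)) (isSupersolvable_quotient hL _)
    · exact isSupersolvable_congr (QuotientGroup.quotientQuotientEquivQuotient Y P hYP).symm hq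
    · rw [relIndex_map_map, QuotientGroup.ker_mk',
        sup_eq_left.2 (hYZ.trans (inf_le_left.trans inf_le_left) : Y ≤ L), sup_eq_left.2 hYP]
      exact hi

/-- If every subgroup has subgroups of every order then the Sylow subgroup for the largest prime
is normal. -/
theorem normal_sylow_of_hereditary_clt {G : Type u} [Group G] [Finite G]
    (h : ∀ H : Subgroup G, HasSubgroupOfEveryOrder H) {p : ℕ} [Fact p.Prime]
    (hmax : ∀ q : ℕ, q.Prime → q ∣ Nat.card G → q ≤ p) (P : Sylow p G) :
    (P : Subgroup G).Normal := by
  induction hk : Nat.card G using Nat.strongRecOn generalizing G with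
  | ind k ih =>
    subst hk
    have hp : p.Prime := Fact.out
    rcases subsingleton_or_nontrivial G with hs | hs
    · exact ⟨fun n hn g => by simpa [Subsingleton.elim g 1] using hn⟩
    set q := (Nat.card G).minFac with hqdef
    have hq : q.Prime := Nat.minFac_prime Finite.one_lt_card.ne'
    by_cases hqp : q = p
    · have hG : IsPGroup p G := by
        refine IsPGroup.of_card (n := (Nat.card G).primeFactorsList.length) ?_
        refine Nat.eq_prime_pow_of_unique_prime_dvd Nat.card_pos.ne' fun {d} hd hdd => ?_
        exact le_antisymm (hmax d hd hdd) (hqp ▸ Nat.minFac_le_of_dvd hd.two_le hdd)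
      rw [(P.is_maximal' (hG.to_subgroup ⊤) le_top).symm]
      infer_instance
    obtain ⟨c, hc⟩ : q ∣ Nat.card G := Nat.minFac_dvd _
    obtain ⟨H', hH'⟩ := h ⊤ c (by rw [card_top]; exact Dvd.intro_left q hc.symm)
    set H := H'.map (⊤ : Subgroup G).subtype with hH
    have hHc : Nat.card H = c := by rw [hH, card_map_of_injective (subtype_injective _), hH']
    have hHi : H.index = q := by
      have h1 := H.card_mul_index
      rw [hHc, hc, mul_comm q] at h1
      exact Nat.eq_of_mul_eq_mul_left (hHc ▸ Nat.card_pos) h1
    haveI hHn : H.Normal := normal_of_index_eq_minFac_card (hHi.trans hqdef)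
    have hlt : Nat.card H < Nat.card G := by
      rw [hHc, hc]; exact lt_mul_of_one_lt_left (hHc ▸ Nat.card_pos) hq.one_lt
    haveI hQn : ((default : Sylow p H) : Subgroup H).Normal := by
      refine ih _ hlt (fun K d hd => ?_) (fun r hr hrd => hmax r hr (hrd.trans (card_subgroup_dvd_card H)))
        _ rfl
      obtain ⟨T, hT⟩ := h (K.map H.subtype) d (by rwa [card_map_of_injective H.subtype_injective])
      exact ⟨T.map (K.equivMapOfInjective _ H.subtype_injective).symm.toMonoidHom,
        (card_map_of_injective (MulEquiv.injective _)).trans hT⟩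
    set Q := (default : Sylow p H)
    haveI := Sylow.characteristic_of_normal Q hQn
    haveI hn : ((Q : Subgroup H).map H.subtype).Normal := ConjAct.normal_of_characteristic_of_normal
    have hcard : Nat.card ((Q : Subgroup H).map H.subtype) = Nat.card P := by
      rw [card_map_of_injective H.subtype_injective, Q.card_eq_multiplicity, P.card_eq_multiplicity,
        ← H.card_mul_index, hHi, Nat.factorization_mul Nat.card_pos.ne' hq.ne_zero]
      simp [hq.factorization, hqp]
    obtain ⟨g, hg⟩ := (Q.2.map H.subtype).exists_le_sylow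
    obtain ⟨x, hx⟩ := MulAction.exists_smul_eq G g P
    have e : (g : Subgroup G) = (Q : Subgroup H).map H.subtype :=
      (eq_of_le_of_card_ge hg (by rw [hcard, P.card_eq_multiplicity, g.card_eq_multiplicity])).symm
    rw [← hx, Sylow.coe_subgroup_smul, e]
    exact (Subgroup.Normal.conjAct hn (ConjAct.toConjAct x)).symm ▸ hn

theorem isSupersolvable_of_hereditary_clt {G : Type u} [Group G] [Finite G]
    (h : ∀ H : Subgroup G, HasSubgroupOfEveryOrder H) : IsSupersolvable G := by
  induction hk : Nat.card G using Nat.strongRecOn generalizing G with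
  | ind k ih =>
    subst hk
    rcases subsingleton_or_nontrivial G with hs | hs
    · exact isSupersolvable_of_subsingleton
    have hsub : ∀ H : Subgroup G, H ≠ ⊤ → IsSupersolvable H := by
      intro H hH
      refine ih (Nat.card H) ((card_le_card_group H).lt_of_ne fun e => hH (eq_top_of_card_eq H e))
        (fun K d hd => ?_) rfl
      obtain ⟨T, hT⟩ := h (K.map H.subtype) d (by rwa [card_map_of_injective H.subtype_injective])
      exact ⟨T.map (K.equivMapOfInjective _ H.subtype_injective).symm.toMonoidHom,
        (card_map_of_injective (MulEquiv.injective _)).trans hT⟩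
    have hne : (Nat.card G).primeFactors.Nonempty :=
      Nat.nonempty_primeFactors.2 Finite.one_lt_card
    set p := (Nat.card G).primeFactors.max' hne with hpdef
    have hpm := (Nat.card G).primeFactors.max'_mem hne
    have hp : p.Prime := Nat.prime_of_mem_primeFactors hpm
    haveI := Fact.mk hp
    have hpd : p ∣ Nat.card G := Nat.dvd_of_mem_primeFactors hpm
    let P : Sylow p G := default
    haveI hPn : (P : Subgroup G).Normal := normal_sylow_of_hereditary_clt h
      (fun q hq hqd => Finset.le_max' _ q (Nat.mem_primeFactors.2 ⟨hq, hqd, Nat.card_pos.ne'⟩)) P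
    -- a subgroup of index `p`
    obtain ⟨c, hc⟩ := hpd
    obtain ⟨L', hL'⟩ := h ⊤ c (by rw [card_top]; exact Dvd.intro_left p hc.symm)
    set L := L'.map (⊤ : Subgroup G).subtype with hL
    have hLc : Nat.card L = c := by rw [hL, card_map_of_injective (subtype_injective _), hL']
    have hLi : L.index = p := by
      have h1 := L.card_mul_index
      rw [hLc, hc, mul_comm p] at h1
      exact Nat.eq_of_mul_eq_mul_left (hLc ▸ Nat.card_pos) h1
    have hLne : L ≠ ⊤ := fun e => hp.ne_one (by rw [← hLi, e, index_top])
    have hPL : ¬ (P : Subgroup G) ≤ L := by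
      intro hle
      have := (index_dvd_of_le hle)
      rw [hLi] at this
      exact P.not_dvd_index this
    have hsup : (P : Subgroup G) ⊔ L = ⊤ := by
      have h1 := index_dvd_of_le (le_sup_right : L ≤ (P : Subgroup G) ⊔ L)
      rw [hLi] at h1
      rcases hp.eq_one_or_self_of_dvd _ h1 with h2 | h2
      · exact index_eq_one.1 h2
      · refine absurd (le_sup_left.trans (le_of_eq (eq_of_le_of_card_ge le_sup_right ?_).symm)) hPL
        refine le_of_eq (Nat.eq_of_mul_eq_mul_right
          (Nat.pos_of_ne_zero index_ne_zero_of_finite : 0 < L.index) ?_)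
        rw [congrArg (Nat.card ((P : Subgroup G) ⊔ L : Subgroup G) * ·) (hLi.trans h2.symm),
          card_mul_index, card_mul_index]
    have hquot : IsSupersolvable (G ⧸ (P : Subgroup G)) := by
      obtain ⟨K, hK⟩ := exists_left_complement'_of_coprime (N := (P : Subgroup G)) P.card_coprime_index
      refine isSupersolvable_congr hK.QuotientMulEquiv.symm (hsub K fun e => ?_)
      have hPbot : (P : Subgroup G) = ⊥ := by
        have := hK.disjoint
        rwa [e, top_disjoint] at this
      exact hPL (hPbot ▸ bot_le)
    refine isSupersolvable_of_supplement (P : Subgroup G) L P.2 hsup (hsub L hLne) hquot ?_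
    have h1 : L.relIndex (P : Subgroup G) ≤ L.relIndex ⊤ := relIndex_le_of_le_right le_top
      (by rw [relIndex_top_right, hLi]; exact hp.ne_zero)
    rwa [relIndex_top_right, hLi] at h1

theorem exists_hall_complement_of_prime_power_index {G : Type u} [Group G] [Finite G]
    (h : ∀ H : Subgroup G, H ≠ ⊥ → ∀ p : ℕ, p.Prime → p ∣ Nat.card H →
      ∃ K : Subgroup H, K ≠ ⊤ ∧ ∃ k : ℕ, K.index = p ^ k)
    {p : ℕ} (hp : p.Prime) : ∀ (n : ℕ) (H : Subgroup G), Nat.card H = n → (∃ j, H.index = p ^ j) →
      ∃ K : Subgroup G, K.index = p ^ (Nat.card G).factorization p := by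
  intro n
  induction n using Nat.strongRecOn with
  | ind n ih =>
    rintro H hn ⟨j, hj⟩
    by_cases hd : p ∣ Nat.card H
    · have hne : H ≠ ⊥ := fun e => hp.ne_one (Nat.dvd_one.1 (by rwa [e, card_bot] at hd))
      obtain ⟨K, hK, i, hi⟩ := h H hne p hp hd
      refine ih (Nat.card (K.map H.subtype)) ?_ _ rfl ⟨i + j, ?_⟩
      · rw [card_map_of_injective H.subtype_injective, ← hn]
        exact (card_le_card_group K).lt_of_ne fun e => hK (eq_top_of_card_eq K e)
      · rw [index_map_subtype, hi, hj, pow_add]
    · refine ⟨H, ?_⟩
      rw [hj]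
      congr 1
      have := H.card_mul_index
      rw [hj] at this
      rw [← this, Nat.factorization_mul Nat.card_pos.ne' (pow_ne_zero _ hp.ne_zero)]
      simp [Nat.factorization_eq_zero_of_not_dvd hd, hp.factorization]

theorem isSupersolvable_of_index_two {G : Type u} [Group G] [Finite G] {p : ℕ} [Fact p.Prime]
    (P : Subgroup G) [P.Normal] (hP : IsPGroup p P) (hi : P.index = 2) {t : G}
    (ht : orderOf t = 2) (hp2 : p ≠ 2) : IsSupersolvable G := by
  induction hk : Nat.card G using Nat.strongRecOn generalizing G with
  | ind k ih =>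
    subst hk
    by_cases h0 : P = ⊥
    · haveI : IsCyclic P := by
        rw [h0]; exact ⟨⟨1, fun x => by rw [Subsingleton.elim x 1]; exact mem_zpowers _⟩⟩
      haveI : Fact (Nat.Prime 2) := ⟨Nat.prime_two⟩
      haveI : IsCyclic (G ⧸ P) := isCyclic_of_prime_card (p := 2) hi
      letI : CommGroup (G ⧸ P) := IsCyclic.commGroup
      haveI : Group.IsNilpotent (G ⧸ P) := inferInstance
      exact isSupersolvable_of_cyclic_normal P isSupersolvable_of_isNilpotent
    haveI := hP.isNilpotent
    haveI : Nontrivial P := (nontrivial_iff_ne_bot P).2 h0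
    obtain ⟨⟨z, hzP⟩, hz, hzc⟩ := exists_central_prime_order (G := P)
    have hz' : (orderOf z).Prime := by rwa [← Subgroup.orderOf_coe] at hz
    have hzcomm : ∀ x ∈ P, x * z = z * x := fun x hx =>
      congrArg Subtype.val (Subgroup.mem_center_iff.1 hzc ⟨x, hx⟩)
    have htt : t * t = 1 := by rw [← sq, ← ht, pow_orderOf_eq_one]
    have hti : t⁻¹ = t := inv_eq_of_mul_eq_one_right htt
    have hzt : t * z * t⁻¹ ∈ P := (inferInstance : P.Normal).conj_mem z hzP t
    -- an element of prime order of `Z(P)` that `t` centralizes or inverts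
    obtain ⟨w, hw, hwP, hwc, hwt⟩ : ∃ w : G, (orderOf w).Prime ∧ w ∈ P ∧
        (∀ x ∈ P, x * w = w * x) ∧ t * w * t⁻¹ ∈ zpowers w := by
      by_cases e : z * (t * z * t⁻¹) = 1
      · refine ⟨z, hz', hzP, hzcomm, ?_⟩
        rw [← inv_eq_of_mul_eq_one_right e]
        exact inv_mem (mem_zpowers z)
      · have hcz : ∀ x ∈ P, x * (t * z * t⁻¹) = (t * z * t⁻¹) * x := by
          intro x hx
          have h1 := hzcomm _ (by simpa using (inferInstance : P.Normal).conj_mem x hx t⁻¹ : t⁻¹ * x * t ∈ P)
          calc x * (t * z * t⁻¹) = t * (t⁻¹ * x * t * z) * t⁻¹ := by group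
            _ = t * (z * (t⁻¹ * x * t)) * t⁻¹ := by rw [h1]
            _ = _ := by group
        refine ⟨z * (t * z * t⁻¹), ?_, P.mul_mem hzP hzt, fun x hx => ?_, ?_⟩
        · haveI := Fact.mk hz'
          have hpow : (z * (t * z * t⁻¹)) ^ orderOf z = 1 := by
            rw [(show Commute z (t * z * t⁻¹) from hcz z hzP).mul_pow, conj_pow, pow_orderOf_eq_one]
            simp
          rw [orderOf_eq_prime hpow e]
          exact hz'
        · rw [← mul_assoc, hzcomm x hx, mul_assoc z x, hcz x hx, ← mul_assoc]
        · have : t * (z * (t * z * t⁻¹)) * t⁻¹ = z * (t * z * t⁻¹) := by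
            calc t * (z * (t * z * t⁻¹)) * t⁻¹ = (t * z * t⁻¹) * ((t * t) * z * (t⁻¹ * t⁻¹)) := by group
              _ = (t * z * t⁻¹) * z := by rw [htt, hti, htt, one_mul, mul_one]
              _ = _ := (hcz z hzP).symm
          rw [this]
          exact mem_zpowers _
    have htP : t ∉ P := by
      intro h
      obtain ⟨j, hj⟩ := IsPGroup.iff_orderOf.1 hP ⟨t, h⟩
      rw [← Subgroup.orderOf_coe, ht] at hj
      have h2 : 2 ∣ p := Nat.prime_two.dvd_of_dvd_pow (dvd_of_eq hj)
      exact hp2 ((Nat.prime_dvd_prime_iff_eq Nat.prime_two (Fact.out : p.Prime)).1 h2).symm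
    haveI hY : (zpowers w).Normal := by
      rw [← normalizer_eq_top_iff, eq_top_iff]
      have htop : P ⊔ zpowers t = ⊤ := by
        have h1 := index_dvd_of_le (le_sup_left : P ≤ P ⊔ zpowers t)
        rw [hi] at h1
        rcases Nat.prime_two.eq_one_or_self_of_dvd _ h1 with h2 | h2
        · exact index_eq_one.1 h2
        · refine absurd ?_ htP
          have e : P = P ⊔ zpowers t := eq_of_le_of_card_ge le_sup_left (le_of_eq
            (Nat.eq_of_mul_eq_mul_right two_pos (by
              conv_lhs => rw [← h2]
              conv_rhs => rw [← hi]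
              rw [card_mul_index, card_mul_index])))
          rw [e]
          exact mem_sup_right (mem_zpowers t)
      rw [← htop]
      refine sup_le ?_ (zpowers_le.2 ?_)
      · intro x hx
        rw [← conjBy_eq_self_iff, conjBy, MonoidHom.map_zpowers]
        congr 1
        show x * w * x⁻¹ = w
        rw [hwc x hx, mul_inv_cancel_right]
      · rw [← conjBy_eq_self_iff]
        refine eq_of_le_of_card_ge ?_ (by rw [card_conjBy])
        rw [conjBy, MonoidHom.map_zpowers, zpowers_le]
        exact hwt
    haveI : (P.map (QuotientGroup.mk' (zpowers w))).Normal :=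
      Subgroup.Normal.map ‹_› _ (QuotientGroup.mk'_surjective _)
    refine isSupersolvable_of_cyclic_normal (zpowers w) (ih _ (card_quotient_lt_of_ne_bot fun e => ?_)
      (P.map (QuotientGroup.mk' (zpowers w))) (hP.map _) ?_ (t := (t : G ⧸ zpowers w)) ?_ rfl)
    · rw [zpowers_eq_bot] at e
      exact hw.ne_one (by rw [e, orderOf_one])
    · rw [index_map_eq P (QuotientGroup.mk'_surjective _) (by
        rw [QuotientGroup.ker_mk']; exact zpowers_le.2 hwP), hi]
    · haveI : Fact (Nat.Prime 2) := ⟨Nat.prime_two⟩
      refine orderOf_eq_prime ?_ ?_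
      · rw [← QuotientGroup.mk_pow, sq, htt, QuotientGroup.mk_one]
      · rw [Ne, QuotientGroup.eq_one_iff]
        exact fun h => htP (zpowers_le.2 hwP h)

/-- If all maximal subgroups have prime index then the group is solvable. -/
theorem isSolvable_of_maximal_index_prime {G : Type u} [Group G] [Finite G]
    (h : ∀ M : Subgroup G, IsCoatom M → M.index.Prime) : Group.IsSolvable G := by
  induction hk : Nat.card G using Nat.strongRecOn generalizing G with
  | ind k ih =>
    subst hk
    rcases subsingleton_or_nontrivial G with hs | hs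
    · exact Group.isSolvable_of_comm fun a b => Subsingleton.elim _ _
    have hne : (Nat.card G).primeFactors.Nonempty :=
      Nat.nonempty_primeFactors.2 Finite.one_lt_card
    set p := (Nat.card G).primeFactors.max' hne with hpdef
    have hpm := (Nat.card G).primeFactors.max'_mem hne
    have hp : p.Prime := Nat.prime_of_mem_primeFactors hpm
    haveI := Fact.mk hp
    let P : Sylow p G := default
    haveI hPn : (P : Subgroup G).Normal := by
      rw [← normalizer_eq_top_iff]
      by_contra hne'
      obtain ⟨M, hM, hle⟩ := (eq_top_or_exists_le_coatom _).resolve_left hne'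
      have hq := h M hM
      have hqle : M.index ≤ p := Finset.le_max' _ _
        (Nat.mem_primeFactors.2 ⟨hq, index_dvd_card M, Nat.card_pos.ne'⟩)
      have hPM : (P : Subgroup G) ≤ M := le_normalizer.trans hle
      have h1 := card_sylow_modEq_one p M
      have h2 := card_sylow_modEq_one p G
      have hS : Nat.card (Sylow p M) * M.index = Nat.card (Sylow p G) := by
        rw [Sylow.card_eq_index_normalizer (P.subtype hPM), P.card_eq_index_normalizer]
        show _ = (normalizer ((P : Subgroup G) : Set G)).index
        rw [← relIndex_mul_index hle]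
        congr 1
        show _ = ((normalizer ((P : Subgroup G) : Set G)).subgroupOf M).index
        rw [subgroupOf, comap_normalizer_eq_of_le_range]
        · rfl
        · rwa [range_subtype]
      have h3 : M.index ≡ 1 [MOD p] := by
        have := (h1.mul_right M.index).symm
        rw [one_mul, hS] at this
        exact this.trans h2
      rcases hqle.lt_or_eq with hlt | heq
      · have := Nat.ModEq.eq_of_lt_of_lt h3 hlt hp.one_lt
        exact hq.ne_one this
      · have hd : p ∣ (P : Subgroup G).index := (dvd_of_eq heq.symm).trans (index_dvd_of_le hPM)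
        exact P.not_dvd_index hd
    have hP1 : (P : Subgroup G) ≠ ⊥ := P.ne_bot_of_dvd_card (Nat.dvd_of_mem_primeFactors hpm)
    haveI : Group.IsSolvable (P : Subgroup G) := by
      haveI : Group.IsNilpotent (P : Subgroup G) := P.2.isNilpotent
      infer_instance
    haveI : Group.IsSolvable (G ⧸ (P : Subgroup G)) := by
      refine ih _ (card_quotient_lt_of_ne_bot hP1) (fun M hM => ?_) rfl
      have hsur := QuotientGroup.mk'_surjective (P : Subgroup G)
      rw [← index_comap_of_surjective M hsur]
      exact h _ (isCoatom_comap_of_surjective hsur hM)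
    exact Group.isSolvable_of_ker_le_range (P : Subgroup G).subtype (QuotientGroup.mk' (P : Subgroup G))
      (by rw [QuotientGroup.ker_mk', Subgroup.range_subtype])

end CfsgLib.Coprime
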