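import Cfsg.Agent.Lib.Coprime.SupersolvableCriteria

/-!
# A chief series of a supersolvable group with decreasing primes
-/

set_option autoImplicit false
set_option linter.style.haveILetI false
set_option linter.unusedSectionVars false

namespace CfsgLib.Coprime

open Subgroup Cfsg

universe u

theorem exists_decreasing_chief_series {G : Type u} [Group G] [Finite G] (hG : IsSupersolvable G) :
    ∃ (n : ℕ) (H : Fin (n + 1) → Subgroup G), H 0 = ⊥ ∧ H (Fin.last n) = ⊤ ∧ (∀ i, (H i).Normal) ∧
      (∀ i : Fin n, H i.castSucc ≤ H i.succ ∧ ((H i.castSucc).relIndex (H i.succ)).Prime) ∧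
      ∀ i j : Fin n, i ≤ j →
        (H j.castSucc).relIndex (H j.succ) ≤ (H i.castSucc).relIndex (H i.succ) := by
  induction hk : Nat.card G using Nat.strongRecOn generalizing G with
  | ind k ih =>
    subst hk
    rcases subsingleton_or_nontrivial G with hs | hs
    · exact ⟨0, fun _ => ⊥, rfl, Subsingleton.elim _ _, fun _ => inferInstance, fun i => i.elim0,
        fun i => i.elim0⟩
    have hne : (Nat.card G).primeFactors.Nonempty := Nat.nonempty_primeFactors.2 Finite.one_lt_card
    set p := (Nat.card G).primeFactors.max' hne with hpdef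
    have hpm := (Nat.card G).primeFactors.max'_mem hne
    have hp : p.Prime := Nat.prime_of_mem_primeFactors hpm
    haveI := Fact.mk hp
    have hmax : ∀ q : ℕ, q.Prime → q ∣ Nat.card G → q ≤ p := fun q hq hqd =>
      Finset.le_max' _ q (Nat.mem_primeFactors.2 ⟨hq, hqd, Nat.card_pos.ne'⟩)
    let P : Sylow p G := default
    haveI : (P : Subgroup G).Normal := normal_sylow_of_hereditary_clt
      (fun H => hasSubgroupOfEveryOrder (isSupersolvable_subgroup hG H)) hmax P
    obtain ⟨Y, hYP, hYn, hYp⟩ := exists_normal_prime_order_le hG (P : Subgroup G)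
      (P.ne_bot_of_dvd_card (Nat.dvd_of_mem_primeFactors hpm))
    haveI := hYn
    have hYc : Nat.card Y = p := by
      obtain ⟨j, hj⟩ := IsPGroup.iff_card.1 (P.2.to_le hYP)
      exact (Nat.prime_dvd_prime_iff_eq hYp hp).1 (hYp.dvd_of_dvd_pow (dvd_of_eq hj))
    have hYne : Y ≠ ⊥ := fun e => hYp.ne_one (by rw [e, card_bot])
    have hsur := QuotientGroup.mk'_surjective Y
    obtain ⟨n, H, h0, h1, hn, hs', hord⟩ :=
      ih _ (card_quotient_lt_of_ne_bot hYne) (CfsgLib.PGroup.isSupersolvable_quotient hG Y) rfl
    set H' : Fin (n + 2) → Subgroup G := Fin.cons ⊥ fun i => (H i).comap (QuotientGroup.mk' Y)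
    have hc0 : H' 0 = ⊥ := rfl
    have hcs : ∀ i, H' (Fin.succ i) = (H i).comap (QuotientGroup.mk' Y) := fun i =>
      Fin.cons_succ (α := fun _ => Subgroup G) ⊥ _ i
    have hfirst : (H' (0 : Fin (n + 1)).castSucc).relIndex (H' (0 : Fin (n + 1)).succ) = p := by
      rw [Fin.castSucc_zero, hc0, hcs, relIndex_bot_left, h0, MonoidHom.comap_bot,
        QuotientGroup.ker_mk', hYc]
    have hstep : ∀ i : Fin n, (H' i.succ.castSucc).relIndex (H' i.succ.succ) =
        (H i.castSucc).relIndex (H i.succ) := by
      intro i
      rw [Fin.castSucc_succ, hcs, hcs, relIndex_comap, map_comap_eq_self_of_surjective hsur]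
    refine ⟨n + 1, H', hc0, ?_, ?_, ?_, ?_⟩
    · show H' (Fin.last n).succ = ⊤
      rw [hcs, h1, comap_top]
    · intro i
      induction i using Fin.cases with
      | zero => rw [hc0]; infer_instance
      | succ i => rw [hcs]; exact (hn i).comap _
    · intro i
      induction i using Fin.cases with
      | zero => exact ⟨by rw [Fin.castSucc_zero, hc0]; exact bot_le, hfirst.symm ▸ hp⟩
      | succ i =>
        refine ⟨?_, (hstep i).symm ▸ (hs' i).2⟩
        rw [Fin.castSucc_succ, hcs, hcs]
        exact comap_mono (hs' i).1
    · intro i j hij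
      induction i using Fin.cases with
      | zero =>
        rw [hfirst]
        induction j using Fin.cases with
        | zero => rw [hfirst]
        | succ j =>
          rw [hstep]
          refine hmax _ (hs' j).2 ?_
          refine Dvd.dvd.trans ?_ (card_quotient_dvd_card Y)
          exact (relIndex_dvd_card _ _).trans (card_subgroup_dvd_card _)
      | succ i =>
        induction j using Fin.cases with
        | zero => exact absurd hij (by simp)
        | succ j =>
          rw [hstep, hstep]
          exact hord i j (Fin.succ_le_succ_iff.1 hij)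

end CfsgLib.Coprime
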