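import Mathlib.GroupTheory.Focal
import Mathlib.Algebra.BigOperators.Fin
import Cfsg.Agent.Lib.Coprime.Fitting
import Cfsg.Agent.Lib.Coprime.Hall
import Cfsg.Agent.Lib.Coprime.Factorization
import Cfsg.Agent.Lib.Fusion.Transfer

/-!
# Products of Sylow subgroups, derived series, focal series
-/

set_option autoImplicit false
set_option linter.style.haveILetI false
set_option linter.unusedSectionVars false

namespace CfsgLib.Coprime

open Subgroup
open scoped Pointwise commutatorElement

universe u

/-- An element of a normal subgroup can be absorbed into any factor of a product. -/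
theorem exists_absorb {G : Type*} [Group G] (N : Subgroup G) [N.Normal] :
    ∀ (t : ℕ) (s : Fin t → G) (i : Fin t) (n : G), n ∈ N →
      ∃ m ∈ N, (List.ofFn (Function.update s i (s i * m))).prod = (List.ofFn s).prod * n := by
  intro t
  induction t with
  | zero => exact fun s i => i.elim0
  | succ t ih =>
    intro s i n hn
    induction i using Fin.cases with
    | zero =>
      set R := (List.ofFn fun j : Fin t => s j.succ).prod with hR
      refine ⟨R * n * R⁻¹, (inferInstance : N.Normal).conj_mem n hn R, ?_⟩
      rw [List.ofFn_succ, List.ofFn_succ, List.prod_cons, List.prod_cons, Function.update_self]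
      simp only [Function.update_of_ne (Fin.succ_ne_zero _)]
      rw [← hR]
      group
    | succ j =>
      obtain ⟨m, hm, e⟩ := ih (fun j => s j.succ) j n hn
      refine ⟨m, hm, ?_⟩
      rw [List.ofFn_succ, List.ofFn_succ, List.prod_cons, List.prod_cons,
        Function.update_of_ne (Fin.succ_ne_zero j).symm, mul_assoc, ← e]
      congr 3
      funext k
      by_cases hk : k = j
      · subst hk; rw [Function.update_self, Function.update_self]
      · rw [Function.update_of_ne hk, Function.update_of_ne fun h => hk (Fin.succ_injective _ h)]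

theorem sylow_product_any_order {G : Type u} [Group G] [Finite G] [Group.IsSolvable G] (t : ℕ)
    (p : Fin t → ℕ) (hp : ∀ i, (p i).Prime) (hinj : Function.Injective p)
    (hall : ∀ q : ℕ, q.Prime → q ∣ Nat.card G → ∃ i, p i = q) (S : (i : Fin t) → Sylow (p i) G) :
    ∀ g : G, ∃ s : (i : Fin t) → G, (∀ i, s i ∈ (S i : Subgroup G)) ∧ g = (List.ofFn s).prod := by
  induction hk : Nat.card G using Nat.strongRecOn generalizing G with
  | ind k ih =>
    subst hk
    intro g
    rcases subsingleton_or_nontrivial G with hs | hs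
    · exact ⟨fun _ => 1, fun i => one_mem _, Subsingleton.elim _ _⟩
    obtain ⟨N, hNn, hN, -, hmin⟩ := exists_minimal_normal_le (N := (⊤ : Subgroup G)) top_ne_bot
    haveI := hNn
    obtain ⟨hc, r, hr, hpow⟩ := minimal_normal_solvable hN hmin
    haveI := Fact.mk hr
    have hNp : IsPGroup r N := fun x => ⟨1, Subtype.ext (by simpa using hpow x x.2)⟩
    obtain ⟨d, hd⟩ := IsPGroup.iff_card.1 hNp
    have hd0 : d ≠ 0 := by
      rintro rfl
      exact hN (card_eq_one.1 (by simpa using hd))
    obtain ⟨i, rfl⟩ := hall r hr ((dvd_pow_self r hd0).trans (hd ▸ card_subgroup_dvd_card N))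
    have hNS : N ≤ (S i : Subgroup G) := by
      obtain ⟨R, hR⟩ := hNp.exists_le_sylow
      obtain ⟨x, hx⟩ := MulAction.exists_smul_eq G R (S i)
      rw [← hx]
      intro n hn
      exact ⟨x⁻¹ * n * x, hR (by simpa using hNn.conj_mem n hn x⁻¹), by simp [mul_assoc]⟩
    have hsur := QuotientGroup.mk'_surjective N
    have hlt : Nat.card (G ⧸ N) < Nat.card G := card_quotient_lt hN
    obtain ⟨s', hs', e'⟩ := ih _ hlt (fun q hq hqd => hall q hq (hqd.trans (card_quotient_dvd_card N)))
      (fun j => haveI := Fact.mk (hp j); (S j).mapSurjective hsur) rfl (g : G ⧸ N)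
    have hlift : ∀ j, ∃ x ∈ (S j : Subgroup G), (x : G ⧸ N) = s' j := fun j => by
      haveI := Fact.mk (hp j)
      exact hs' j
    choose s hsS hsq using hlift
    have hn : (List.ofFn s).prod⁻¹ * g ∈ N := by
      rw [← QuotientGroup.eq_one_iff, QuotientGroup.mk_mul, QuotientGroup.mk_inv, e',
        show (((List.ofFn s).prod : G) : G ⧸ N) = (List.ofFn s').prod by
          rw [← QuotientGroup.mk'_apply, map_list_prod, List.map_ofFn]
          congr 2
          funext j
          exact hsq j, inv_mul_cancel]
    obtain ⟨m, hm, e⟩ := exists_absorb N t s i _ hn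
    refine ⟨Function.update s i (s i * m), fun j => ?_, by rw [e, mul_inv_cancel_left]⟩
    by_cases hj : j = i
    · subst hj
      rw [Function.update_self]
      exact mul_mem (hsS j) (hNS hm)
    · rw [Function.update_of_ne hj]
      exact hsS j

theorem derivedSeries_succ_eq_of_cyclic {G : Type u} [Group G] (i : ℕ) (hi : 1 ≤ i)
    (h₁ : IsCyclic (↥(derivedSeries G i) ⧸ (derivedSeries G (i + 1)).subgroupOf (derivedSeries G i)))
    (h₂ : IsCyclic (↥(derivedSeries G (i + 1)) ⧸
      (derivedSeries G (i + 2)).subgroupOf (derivedSeries G (i + 1)))) :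
    derivedSeries G (i + 1) = derivedSeries G (i + 2) := by
  set D := derivedSeries G with hD
  refine le_antisymm ?_ (derivedSeries_antitone G (Nat.le_succ _))
  haveI : (D (i + 2)).Normal := derivedSeries_normal G _
  haveI : (D (i + 1)).Normal := derivedSeries_normal G _
  haveI : (D i).Normal := derivedSeries_normal G _
  set π := QuotientGroup.mk' (D (i + 2)) with hπ
  set B := (D (i + 1)).map π
  haveI : B.Normal := Subgroup.Normal.map inferInstance π (QuotientGroup.mk'_surjective _)
  -- `B` is cyclic
  haveI hB : IsCyclic B := by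
    let f : (↥(D (i + 1)) ⧸ (D (i + 2)).subgroupOf (D (i + 1))) →* B :=
      QuotientGroup.lift _ (π.subgroupMap (D (i + 1))) fun x hx =>
        MonoidHom.mem_ker.2 (Subtype.ext ((QuotientGroup.eq_one_iff _).2 (mem_subgroupOf.1 hx)))
    refine isCyclic_of_surjective f fun y => ?_
    obtain ⟨a, rfl⟩ := π.subgroupMap_surjective (D (i + 1)) y
    exact ⟨(a : ↥(D (i + 1)) ⧸ _), rfl⟩
  have hcen : ∀ a ∈ D i, ∀ b ∈ B, π a * b = b * π a := by
    intro a ha b hb
    have hker : commutator G ≤ ((MulAut.conjNormal (H := B)).comp π).ker := by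
      rw [commutator_def, commutator_le]
      intro x _ y _
      rw [MonoidHom.mem_ker, map_commutatorElement, commutatorElement_eq_one_iff_mul_comm]
      refine MulEquiv.ext fun n => ?_
      obtain ⟨u, hu⟩ := MonoidHom.map_cyclic (MulAut.conjNormal (π x) : MulAut B).toMonoidHom
      obtain ⟨v, hv⟩ := MonoidHom.map_cyclic (MulAut.conjNormal (π y) : MulAut B).toMonoidHom
      simp only [MulEquiv.toMonoidHom_eq_coe, MonoidHom.coe_coe] at hu hv
      simp only [MonoidHom.comp_apply, MulAut.mul_apply]
      rw [hu, hv, hv, hu, zpow_comm]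
    have ha' : a ∈ commutator G := by
      rw [← derivedSeries_one]
      exact derivedSeries_antitone G hi ha
    have := congrArg (fun φ : MulAut B => ((φ ⟨b, hb⟩ : B) : G ⧸ D (i + 2)))
      (MonoidHom.mem_ker.1 (hker ha'))
    simp only [MonoidHom.comp_apply, MulAut.conjNormal_apply, MulAut.one_apply] at this
    exact mul_inv_eq_iff_eq_mul.1 this
  -- the image of `D i` is abelian
  set A := (D i).map π
  have hBA : B ≤ A := map_mono (derivedSeries_antitone G (Nat.le_succ i))
  haveI : IsCyclic (A ⧸ B.subgroupOf A) := by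
    let f : (↥(D i) ⧸ (D (i + 1)).subgroupOf (D i)) →* A ⧸ B.subgroupOf A :=
      QuotientGroup.lift _ ((QuotientGroup.mk' (B.subgroupOf A)).comp (π.subgroupMap (D i))) fun x hx =>
        MonoidHom.mem_ker.2 ((QuotientGroup.eq_one_iff _).2
          (mem_subgroupOf.2 (mem_map_of_mem π (mem_subgroupOf.1 hx))))
    refine isCyclic_of_surjective f fun y => ?_
    obtain ⟨z, rfl⟩ := QuotientGroup.mk_surjective y
    obtain ⟨a, rfl⟩ := π.subgroupMap_surjective (D i) z
    exact ⟨(a : ↥(D i) ⧸ _), rfl⟩
  have hab : ∀ x y : A, x * y = y * x := by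
    refine commutative_of_cyclic_center_quotient (QuotientGroup.mk' (B.subgroupOf A)) ?_
    rw [QuotientGroup.ker_mk']
    intro b hb
    rw [Subgroup.mem_center_iff]
    rintro ⟨_, a, ha, rfl⟩
    exact Subtype.ext (hcen a ha _ (mem_subgroupOf.1 hb))
  show ⁅D i, D i⁆ ≤ _
  rw [commutator_le]
  intro a ha b hb
  rw [← QuotientGroup.eq_one_iff, ← QuotientGroup.mk'_apply, map_commutatorElement,
    commutatorElement_eq_one_iff_mul_comm]
  exact congrArg Subtype.val (hab ⟨π a, mem_map_of_mem π ha⟩ ⟨π b, mem_map_of_mem π hb⟩)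

theorem focalSubgroup_mono {G : Type*} [Group G] {A B : Subgroup G} (h : A ≤ B) :
    A.focalSubgroup ≤ B.focalSubgroup := by
  refine closure_mono ?_
  rintro g ⟨hg, x, hx, v, rfl⟩
  exact ⟨h hg, x, h hx, v, rfl⟩

theorem map_focalSubgroup_le {G : Type*} [Group G] {K : Subgroup G} (A : Subgroup K) :
    A.focalSubgroup.map K.subtype ≤ (A.map K.subtype).focalSubgroup := by
  rw [Subgroup.focalSubgroup_def, MonoidHom.map_closure, closure_le]
  rintro _ ⟨g, ⟨hg, x, hx, v, rfl⟩, rfl⟩
  exact subset_closure ⟨mem_map_of_mem _ hg, _, mem_map_of_mem _ hx, (v : G),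
    map_commutatorElement K.subtype x v⟩

theorem map_focal_iterate_le {G : Type*} [Group G] {K : Subgroup G} (A : Subgroup K) (m : ℕ) :
    ((fun B : Subgroup K => B.focalSubgroup)^[m] A).map K.subtype ≤
      (fun B : Subgroup G => B.focalSubgroup)^[m] (A.map K.subtype) := by
  induction m with
  | zero => exact le_rfl
  | succ m ih =>
    rw [Function.iterate_succ_apply', Function.iterate_succ_apply']
    exact (map_focalSubgroup_le _).trans (focalSubgroup_mono ih)

theorem normal_hall_characteristic {G : Type*} [Group G] [Finite G] (N : Subgroup G) [N.Normal]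
    (h : (Nat.card N).Coprime N.index) : N.Characteristic := by
  refine characteristic_iff_map_le.2 fun φ => ?_
  rintro _ ⟨x, hx, rfl⟩
  refine (QuotientGroup.eq_one_iff _).1 (orderOf_eq_one_iff.1 (Nat.eq_one_of_dvd_coprimes h ?_
    (orderOf_dvd_natCard (φ x : G ⧸ N))))
  refine (orderOf_map_dvd (QuotientGroup.mk' N) (φ x)).trans ?_
  rw [MulEquiv.orderOf_eq]
  exact (dvd_of_eq (Subgroup.orderOf_coe (⟨x, hx⟩ : N))).trans (orderOf_dvd_natCard _)

theorem focal_series_complement : ∀ (n : ℕ) {G : Type u} [Group G] [Finite G] (H : Subgroup G),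
    (Nat.card H).Coprime H.index → (fun K : Subgroup G => K.focalSubgroup)^[n] H = ⊥ →
      ∃ N : Subgroup G, N.Normal ∧ IsComplement' N H := by
  intro n
  induction n with
  | zero =>
    intro G _ _ H _ h
    rw [show H = ⊥ from h]
    exact ⟨⊤, inferInstance, isComplement'_top_bot⟩
  | succ n ih =>
    intro G _ _ H hH h
    rw [Function.iterate_succ_apply] at h
    have hco : Nat.Coprime (Nat.card (H ⧸ H.focalSubgroupOf)) H.index :=
      hH.coprime_dvd_left (card_quotient_dvd_card _)
    have hi := CfsgLib.Fusion.ker_transferFocal_inf hco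
    have hs := CfsgLib.Fusion.ker_transferFocal_sup hco
    set K := H.transferFocal.ker with hK
    set F := H.focalSubgroup
    have hFK : F ≤ K := hi ▸ inf_le_left
    have hmap : (F.subgroupOf K).map K.subtype = F := map_subgroupOf_eq_of_le hFK
    have hidx : F.relIndex K = H.index := by
      rw [← hi, inf_comm, inf_relIndex_right]
      refine relIndex_eq_index_of_product fun g => ?_
      obtain ⟨k, hk, y, hy, e⟩ := mem_sup_of_normal_left.1 (hs ▸ mem_top g : g ∈ K ⊔ H)
      exact ⟨k, hk, y, hy, e.symm⟩
    have hFH : Nat.card F ∣ Nat.card H := card_dvd_of_le H.focalSubgroup_le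
    have hFc : Nat.card (F.subgroupOf K) = Nat.card F :=
      Nat.card_congr (subgroupOfEquivOfLe hFK).toEquiv
    obtain ⟨N', hN'n, hN'⟩ := ih (F.subgroupOf K)
      (by rw [hFc]; exact (show (F.subgroupOf K).index = H.index from hidx) ▸ hH.coprime_dvd_left hFH)
      (by
        refine (Subgroup.map_eq_bot_iff_of_injective _ K.subtype_injective).1 (le_bot_iff.1 ?_)
        refine (map_focal_iterate_le _ n).trans ?_
        rw [hmap, h])
    haveI := hN'n
    haveI : N'.Characteristic := normal_hall_characteristic N' (by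
      rw [hN'.symm.index_eq_card, hFc]
      rw [← hN'.index_eq_card, show (F.subgroupOf K).index = H.index from hidx]
      exact (hH.coprime_dvd_left hFH).symm)
    refine ⟨N'.map K.subtype, ConjAct.normal_of_characteristic_of_normal,
      isComplement'_of_coprime ?_ ?_⟩
    · rw [card_map_of_injective K.subtype_injective, ← hN'.index_eq_card,
        show (F.subgroupOf K).index = H.index from hidx, mul_comm, card_mul_index]
    · rw [card_map_of_injective K.subtype_injective, ← hN'.index_eq_card,
        show (F.subgroupOf K).index = H.index from hidx]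
      exact hH.symm

end CfsgLib.Coprime
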