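import Cfsg.Agent.Lib.Coprime.Frobenius
import Cfsg.Agent.Lib.Coprime.FpfAction
import Cfsg.Agent.Lib.Coprime.Solvable
import Mathlib.GroupTheory.SpecificGroups.ZGroup

/-!
# Two-Frobenius groups
-/

set_option autoImplicit false
set_option maxHeartbeats 1000000
set_option linter.style.haveILetI false

open Subgroup
open scoped IsMulCommutative

namespace CfsgLib.TwoFrob

open CfsgLib.Coprime

variable {G : Type*} [Group G] [Finite G]

/-- An automorphism fixing no nonidentity element of `C` acting on an abelian group on which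
`C` fixes no nonidentity element has a fixed point. -/
theorem exists_fixed {C V : Subgroup G} [IsMulCommutative V] {t : G} {q : ℕ} (hq : q.Prime)
    (ht : t ^ q = 1) (hCV : C ≤ normalizer (V : Set G)) (htV : t ∈ normalizer (V : Set G))
    (htC : t ∈ normalizer (C : Set G)) (hfix : ∀ c ∈ C, t * c * t⁻¹ = c → c = 1)
    (hfpf : ∀ v ∈ V, (∀ c ∈ C, c * v * c⁻¹ = v) → v = 1)
    (hcop : (Nat.card C).Coprime (Nat.card V)) (hV : V ≠ ⊥) :
    ∃ v ∈ V, v ≠ 1 ∧ t * v * t⁻¹ = v := by
  classical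
  open scoped IsMulCommutative in
  haveI := Fintype.ofFinite C
  by_contra hcon
  push Not at hcon
  have hn : ∀ g ∈ normalizer (V : Set G), ∀ v ∈ V, g * v * g⁻¹ ∈ V := fun g hg v hv =>
    (mem_normalizer_iff.1 hg v).1 hv
  -- conjugation as endomorphisms of `V`
  let N := normalizer (V : Set G)
  let σ : N →* MulAut V := normalizerMonoidHom V
  have hσ : ∀ (g : N) (v : V), ((σ g v : V) : G) = g * v * (g : G)⁻¹ := fun g v => rfl
  let t' : N := ⟨t, htV⟩
  let c' : C → N := fun c => ⟨c, hCV c.2⟩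
  let f : V → V := fun v => ∏ i ∈ Finset.range q, σ (t' ^ i) v
  let g : V → V := fun v => ∏ c : C, σ (c' c) v
  have hf : ∀ v, f v = 1 := by
    intro v
    have h1 : σ t' (f v) = f v := by
      simp only [f, map_prod]
      have h2 : ∀ i, σ t' (σ (t' ^ i) v) = σ (t' ^ (i + 1)) v := fun i => by
        rw [pow_succ', map_mul, MulAut.mul_apply]
      simp only [h2]
      obtain ⟨m, rfl⟩ : ∃ m, q = m + 1 := ⟨q - 1, by have := hq.pos; omega⟩
      rw [Finset.prod_range_succ, Finset.prod_range_succ' (fun i => σ (t' ^ i) v),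
        show t' ^ (m + 1) = t' ^ 0 by
          rw [pow_zero]; exact Subtype.ext (by simpa using ht)]
    by_contra hne
    refine hcon (f v) (f v).2 (fun e => hne (Subtype.ext e)) ?_
    exact congrArg Subtype.val h1
  have hg : ∀ v, g v = 1 := by
    intro v
    refine Subtype.ext (hfpf (g v) (g v).2 fun d hd => ?_)
    have h1 : σ (c' ⟨d, hd⟩) (g v) = g v := by
      simp only [g, map_prod]
      rw [← Equiv.prod_comp (Equiv.mulLeft (⟨d, hd⟩ : C)) (fun c => σ (c' c) v)]
      refine Finset.prod_congr rfl fun c _ => ?_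
      rw [← MulAut.mul_apply, ← map_mul]
      rfl
    exact congrArg Subtype.val h1
  obtain ⟨v, hv1⟩ := Subgroup.ne_bot_iff_exists_ne_one.1 hV
  have htC' : ∀ i : ℕ, ∀ c ∈ C, t ^ i * c * (t ^ i)⁻¹ ∈ C := fun i c hc =>
    (mem_normalizer_iff.1 (pow_mem htC i) c).1 hc
  have hfix' : ∀ i, 0 < i → i < q → ∀ c ∈ C, t ^ i * c * (t ^ i)⁻¹ = c → c = 1 := by
    intro i hi hiq c hc he
    obtain ⟨j, hj⟩ : ∃ j : ℕ, t ^ (i * j) = t := by
      have hcop' : Nat.Coprime i q := ((hq.coprime_iff_not_dvd).2 fun hd =>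
        absurd (Nat.le_of_dvd hi hd) (by omega)).symm
      obtain ⟨j, hj⟩ := Nat.exists_mul_mod_eq_one_of_coprime hcop' hq.one_lt
      refine ⟨j, ?_⟩
      conv_lhs => rw [← Nat.div_add_mod (i * j) q, hj.2, pow_add, pow_mul, ht, one_pow, one_mul, pow_one]
    refine hfix c hc ?_
    rw [← hj, pow_mul]
    have hcm : Commute ((t ^ i) ^ j) c := Commute.pow_left (mul_inv_eq_iff_eq_mul.1 he) j
    rw [hcm.eq, mul_inv_cancel_right]
  have hsum : v ^ Fintype.card C = 1 := by
    have h1 : ∏ c : C, ∏ i ∈ Finset.range q, σ (c' c) (σ (t' ^ i) (σ (c' c)⁻¹ v)) = 1 :=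
      Finset.prod_eq_one fun c _ => by
        rw [← map_prod]
        show σ (c' c) (f (σ (c' c)⁻¹ v)) = 1
        rw [hf, map_one]
    rw [Finset.prod_comm] at h1
    have hterm : ∀ i ∈ Finset.range q, i ≠ 0 →
        ∏ c : C, σ (c' c) (σ (t' ^ i) (σ (c' c)⁻¹ v)) = 1 := by
      intro i hi hi0
      rw [Finset.mem_range] at hi
      refine Eq.trans ?_ (hg (σ (t' ^ i) v))
      have hbij : Function.Bijective (fun c : C =>
          c * (⟨t ^ i * (c : G)⁻¹ * (t ^ i)⁻¹, htC' i _ (inv_mem c.2)⟩ : C)) := by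
        refine Finite.injective_iff_bijective.1 fun a b hab => ?_
        have e : (a : G) * (t ^ i * (a : G)⁻¹ * (t ^ i)⁻¹) = b * (t ^ i * (b : G)⁻¹ * (t ^ i)⁻¹) :=
          congrArg Subtype.val hab
        refine Subtype.ext (inv_mul_eq_one.1 (hfix' i (Nat.pos_of_ne_zero hi0) hi _
          (mul_mem (inv_mem a.2) b.2) ?_))
        calc t ^ i * ((a : G)⁻¹ * b) * (t ^ i)⁻¹
            = (a : G)⁻¹ * ((a : G) * (t ^ i * (a : G)⁻¹ * (t ^ i)⁻¹)) * (t ^ i * (b : G) * (t ^ i)⁻¹) := by
              group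
          _ = (a : G)⁻¹ * b := by rw [e]; group
      rw [show g (σ (t' ^ i) v) = ∏ c : C, σ (c' c) (σ (t' ^ i) v) from rfl]
      refine Finset.prod_bij (fun c _ => _) (fun c _ => Finset.mem_univ _)
        (fun a _ b _ h => hbij.1 h) (fun c _ => ⟨_, Finset.mem_univ _, (hbij.2 c).choose_spec⟩) ?_
      intro c _
      simp only [← MulAut.mul_apply, ← map_mul]
      congr 2
      apply Subtype.ext
      simp [c', t', mul_assoc]
    rw [Finset.prod_eq_single 0 (fun i hi hi0 => hterm i hi hi0)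
      (fun h => absurd (Finset.mem_range.2 hq.pos) h)] at h1
    simp only [pow_zero, map_one, map_inv, MulAut.one_apply, MulAut.apply_inv_self, Finset.prod_const,
      Finset.card_univ] at h1
    exact h1
  refine hv1 ?_
  rw [← orderOf_eq_one_iff]
  refine Nat.eq_one_of_dvd_coprimes hcop ?_ (orderOf_dvd_natCard v)
  rw [Nat.card_eq_fintype_card]
  exact orderOf_dvd_of_pow_eq_one hsum

/-- An element whose order is a multiple of `p * q` yields one of order `p * q`. -/
theorem exists_orderOf_of_dvd {H : Type*} [Monoid H] [Finite H] (g : H) {n : ℕ} (hn : n ≠ 0)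
    (h : n ∣ orderOf g) (hg : 0 < orderOf g) : ∃ k : H, orderOf k = n := by
  refine ⟨g ^ (orderOf g / n), ?_⟩
  rw [orderOf_pow_of_dvd (Nat.div_pos (Nat.le_of_dvd hg h) (Nat.pos_of_ne_zero hn)).ne'
    (Nat.div_dvd_of_dvd h), Nat.div_div_self h hg.ne']

theorem exists_orderOf_cyclic {H : Type*} [Group H] [Finite H] [IsCyclic H] {p q : ℕ} (hp : p.Prime)
    (hq : q.Prime) (hpq : p ≠ q) (hp' : p ∣ Nat.card H) (hq' : q ∣ Nat.card H) :
    ∃ x : H, orderOf x = p * q := by
  obtain ⟨g, hg⟩ := IsCyclic.exists_ofOrder_eq_natCard (α := H)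
  exact exists_orderOf_of_dvd g (Nat.mul_ne_zero hp.ne_zero hq.ne_zero)
    (hg.symm ▸ Nat.Coprime.mul_dvd_of_dvd_of_dvd ((Nat.coprime_primes hp hq).2 hpq) hp' hq')
    (orderOf_pos g)

/-- The structure and prime graph of a two-Frobenius group. -/
theorem structure_of_twoFrobenius (H K : Subgroup G) [H.Normal] [K.Normal] (hlt : H < K)
    (hK : ∃ C : Subgroup ↥K, Cfsg.IsFrobeniusComplement C ∧ Cfsg.frobeniusKernel C = (H.subgroupOf K : Set ↥K))
    (hGH : ∃ C : Subgroup (G ⧸ H), Cfsg.IsFrobeniusComplement C ∧ Cfsg.frobeniusKernel C = (K.map (QuotientGroup.mk' H) : Set (G ⧸ H))) :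
    Group.IsSolvable G ∧ Odd (Nat.card (↥K ⧸ H.subgroupOf K)) ∧
      Nat.Coprime (Nat.card (↥K ⧸ H.subgroupOf K)) (Nat.card ↥H * Nat.card (G ⧸ K)) ∧ IsCyclic (G ⧸ K) ∧
      ∀ p q : ℕ, p.Prime → q.Prime → p ≠ q → p ∣ Nat.card G → q ∣ Nat.card G →
        ((∃ g : G, orderOf g = p * q) ↔ (p ∣ Nat.card (↥K ⧸ H.subgroupOf K) ↔ q ∣ Nat.card (↥K ⧸ H.subgroupOf K))) := by
  classical
  obtain ⟨C₀, hC₀, hkerK⟩ := hK
  obtain ⟨D, hD, hkerQ⟩ := hGH
  set π := QuotientGroup.mk' H with hπ
  set H' := H.subgroupOf K with hH'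
  set K' := K.map π with hK'
  obtain ⟨N₁, hN₁, -, hc₁, hn₁⟩ := frob_kernel_data hC₀
  obtain rfl : N₁ = H' := SetLike.coe_injective (hN₁.trans hkerK)
  obtain ⟨N₂, hN₂, -, hc₂, hn₂⟩ := frob_kernel_data hD
  obtain rfl : N₂ = K' := SetLike.coe_injective (hN₂.trans hkerQ)
  haveI : K'.Normal := Subgroup.Normal.map inferInstance π (QuotientGroup.mk'_surjective H)
  have hHn : Group.IsNilpotent H := by
    haveI := hn₁
    exact Group.nilpotent_of_mulEquiv (subgroupOfEquivOfLe hlt.le)
  have hH'ne : H' ≠ ⊥ := fun h => hC₀.2.1 (by have := hc₁.sup_eq_top; rwa [h, bot_sup_eq] at this)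
  have hK'ne : K' ≠ ⊥ := fun h => hD.2.1 (by have := hc₂.sup_eq_top; rwa [h, bot_sup_eq] at this)
  -- the complement of `H` in `K`
  set C := C₀.map K.subtype with hC
  have hCK : C ≤ K := map_subtype_le _
  have hCH : ∀ c ∈ C, c ∈ H → c = 1 := by
    rintro _ ⟨c, hc, rfl⟩ hcH
    rw [show c = 1 from (Subgroup.disjoint_def.1 hc₁.disjoint) (mem_subgroupOf.2 hcH) hc]
    rfl
  let θ : C →* K' := (π.comp C.subtype).codRestrict K' fun c => mem_map_of_mem π (hCK c.2)
  have hθi : Function.Injective θ := by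
    rw [injective_iff_map_eq_one]
    intro c hc
    exact Subtype.ext (hCH c c.2 ((QuotientGroup.eq_one_iff _).1 (congrArg Subtype.val hc)))
  have hθs : Function.Surjective θ := by
    rintro ⟨_, k, hk, rfl⟩
    have h : (⟨k, hk⟩ : K) ∈ ((H' ⊔ C₀ : Subgroup K) : Set K) := by rw [hc₁.sup_eq_top]; trivial
    rw [normal_mul] at h
    obtain ⟨h', hh', c, hc, he⟩ := h
    refine ⟨⟨c, mem_map_of_mem _ hc⟩, Subtype.ext ?_⟩
    show π (c : G) = π k
    rw [show k = (h' : G) * c from congrArg Subtype.val he.symm, map_mul,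
      show π (h' : G) = 1 from (QuotientGroup.eq_one_iff _).2 (mem_subgroupOf.1 hh'), one_mul]
  let e : C ≃* K' := MulEquiv.ofBijective θ ⟨hθi, hθs⟩
  have hfpfC : IsFpfOn C H := by
    rintro _ ⟨c, hc, rfl⟩ hc1
    rw [eq_bot_iff]
    rintro x ⟨hx, hxc⟩
    have h1 := (frob_iff_fixed_point_free hc₁ hH'ne hC₀.1).1 hC₀ c hc
      (fun e => hc1 (by rw [e]; rfl))
    have h2 : (⟨x, hlt.le hx⟩ : K) ∈ H' ⊓ centralizer {c} :=
      ⟨mem_subgroupOf.2 hx, mem_centralizer_singleton_iff.2 (Subtype.ext (mem_centralizer_singleton_iff.1 hxc))⟩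
    rw [h1, mem_bot] at h2
    exact congrArg Subtype.val h2
  have hCnH : C ≤ normalizer (H : Set G) := by rw [normalizer_eq_top]; exact le_top
  have hHne : H ≠ ⊥ := fun h => hH'ne (by rw [hH', h, bot_subgroupOf])
  have hfpfD := (frob_iff_fixed_point_free hc₂ hK'ne hD.1).1 hD
  -- cardinalities
  have hcardC : Nat.card C = Nat.card (↥K ⧸ H') := by
    rw [card_map_of_injective K.subtype_injective, ← index_eq_card, hc₁.symm.index_eq_card]
  have hcardK' : Nat.card K' = Nat.card (↥K ⧸ H') := by rw [← Nat.card_congr e.toEquiv, hcardC]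
  have hcardH : Nat.card H' = Nat.card H := Nat.card_congr (subgroupOfEquivOfLe hlt.le).toEquiv
  let eQ : (G ⧸ H) ⧸ K' ≃* G ⧸ K := QuotientGroup.quotientQuotientEquivQuotient H K hlt.le
  have hcardD : Nat.card D = Nat.card (G ⧸ K) := by
    rw [← Nat.card_congr eQ.toEquiv, ← index_eq_card, hc₂.symm.index_eq_card]
  have hcopa : (Nat.card (↥K ⧸ H')).Coprime (Nat.card H) := by
    have h := frob_coprime_card_index hC₀
    rw [hc₁.index_eq_card, hcardH] at h
    rwa [← index_eq_card, hc₁.symm.index_eq_card]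
  have hcopd : (Nat.card (↥K ⧸ H')).Coprime (Nat.card (G ⧸ K)) := by
    have h := frob_coprime_card_index hD
    rw [hc₂.index_eq_card, hcardK', hcardD] at h
    exact h.symm
  -- `K / H` has odd order and is cyclic
  have hodd : Odd (Nat.card (↥K ⧸ H')) := by
    rw [← Nat.not_even_iff_odd, even_iff_two_dvd, ← hcardC]
    intro h2
    haveI := Fact.mk Nat.prime_two
    obtain ⟨s, hs⟩ := exists_prime_orderOf_dvd_card' 2 h2
    have huniq : ∀ u : K', orderOf u = 2 → u = e s := fun u hu => by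
      rw [← e.apply_symm_apply u]
      refine congrArg e (Subtype.ext (hfpfC.unique_involution hCnH hHne s.2 (e.symm u).2 ?_ ?_))
      · rw [Subgroup.orderOf_coe, hs]
      · rw [Subgroup.orderOf_coe, e.symm.orderOf_eq, hu]
    obtain ⟨d, hd⟩ := Subgroup.ne_bot_iff_exists_ne_one.1 hD.1
    have hcomm : (d : G ⧸ H) * (e s : G ⧸ H) * (d : G ⧸ H)⁻¹ = (e s : G ⧸ H) := by
      have h3 := huniq ⟨_, Normal.conj_mem inferInstance _ (e s).2 (d : G ⧸ H)⟩ (by
        rw [← Subgroup.orderOf_coe]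
        show orderOf ((d : G ⧸ H) * (e s : G ⧸ H) * (d : G ⧸ H)⁻¹) = 2
        rw [show (d : G ⧸ H) * (e s : G ⧸ H) * (d : G ⧸ H)⁻¹ = MulAut.conj (d : G ⧸ H) (e s) from rfl,
          MulEquiv.orderOf_eq, Subgroup.orderOf_coe, e.orderOf_eq, hs])
      exact congrArg Subtype.val h3
    have h4 : (e s : G ⧸ H) ∈ K' ⊓ centralizer {(d : G ⧸ H)} :=
      ⟨(e s).2, mem_centralizer_singleton_iff.2 (mul_inv_eq_iff_eq_mul.1 hcomm).symm⟩
    rw [hfpfD d d.2 (fun e => hd (Subtype.ext e)), mem_bot] at h4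
    have h5 : e s = 1 := Subtype.ext h4
    rw [MulEquiv.map_eq_one_iff] at h5
    rw [h5, orderOf_one] at hs
    omega
  haveI hCnil : Group.IsNilpotent C := by
    haveI := hn₂
    exact Group.nilpotent_of_mulEquiv e.symm
  haveI hCcyc : IsCyclic C := by
    haveI : IsZGroup C := ⟨fun p hp P => by
      haveI := Fact.mk hp
      rcases hfpfC.sylow_cyclic_or_quaternion hCnH hHne P with h | ⟨h2, -⟩
      · exact h
      · subst h2
        have h1 : ¬ 2 ∣ Nat.card C := by
          rw [hcardC]; exact Nat.not_even_iff_odd.2 hodd ∘ even_iff_two_dvd.2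
        obtain ⟨k, hk⟩ := P.2.exists_card_eq
        rcases k with _ | k
        · haveI : Subsingleton P := (Nat.card_eq_one_iff_unique.1 hk).1
          infer_instance
        · exact absurd (((dvd_pow_self 2 (Nat.succ_ne_zero k)).trans hk.symm.dvd).trans
            (card_subgroup_dvd_card _)) h1⟩
    infer_instance
  haveI hK'cyc : IsCyclic K' := isCyclic_of_surjective e.toMonoidHom e.surjective
  haveI hKHcyc : IsCyclic (↥K ⧸ H') := by
    refine isCyclic_of_surjective ((QuotientGroup.mk' H').comp C₀.subtype |>.comp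
      (C₀.equivMapOfInjective K.subtype K.subtype_injective).symm.toMonoidHom) ?_
    intro x
    obtain ⟨k, rfl⟩ := QuotientGroup.mk'_surjective H' x
    have h : k ∈ ((H' ⊔ C₀ : Subgroup K) : Set K) := by rw [hc₁.sup_eq_top]; trivial
    rw [normal_mul] at h
    obtain ⟨h', hh', c, hc, rfl⟩ := h
    refine ⟨(C₀.equivMapOfInjective K.subtype K.subtype_injective) ⟨c, hc⟩, ?_⟩
    simp only [MonoidHom.comp_apply, MulEquiv.coe_toMonoidHom, MulEquiv.symm_apply_apply, map_mul]
    rw [show QuotientGroup.mk' H' h' = 1 from (QuotientGroup.eq_one_iff _).2 hh', one_mul]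
    rfl
  haveI hDcomm : IsMulCommutative D := ⟨⟨fun a b => by
    obtain ⟨k, hk⟩ := IsCyclic.exists_generator (α := K')
    have hpow : ∀ a : G ⧸ H, ∃ i : ℤ, a * k * a⁻¹ = (k : G ⧸ H) ^ i := fun a => by
      obtain ⟨i, hi⟩ := mem_zpowers_iff.1 (hk ⟨_, Normal.conj_mem inferInstance _ k.2 a⟩)
      exact ⟨i, by rw [← SubgroupClass.coe_zpow, hi]⟩
    obtain ⟨i, hi⟩ := hpow a
    obtain ⟨j, hj⟩ := hpow b
    have hab : (a : G ⧸ H) * b * k * ((a : G ⧸ H) * b)⁻¹ = (b : G ⧸ H) * a * k * ((b : G ⧸ H) * a)⁻¹ := by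
      calc (a : G ⧸ H) * b * k * ((a : G ⧸ H) * b)⁻¹ = a * (b * k * (b : G ⧸ H)⁻¹) * (a : G ⧸ H)⁻¹ := by group
        _ = ((k : G ⧸ H) ^ i) ^ j := by rw [hj, ← conj_zpow, hi]
        _ = ((k : G ⧸ H) ^ j) ^ i := by rw [← zpow_mul, mul_comm, zpow_mul]
        _ = b * (a * k * (a : G ⧸ H)⁻¹) * (b : G ⧸ H)⁻¹ := by rw [← hj, hi, conj_zpow]
        _ = _ := by group
    set z : G ⧸ H := ((b : G ⧸ H) * a)⁻¹ * (a * b) with hz
    have hzk : z * k * z⁻¹ = k := by
      calc z * k * z⁻¹ = ((b : G ⧸ H) * a)⁻¹ * (a * b * k * ((a : G ⧸ H) * b)⁻¹) * (b * a) := by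
            rw [hz]; group
        _ = k := by rw [hab]; group
    have hzD : z ∈ D := mul_mem (inv_mem (mul_mem b.2 a.2)) (mul_mem a.2 b.2)
    by_contra hne
    have hz1 : z ≠ 1 := fun e => hne (Subtype.ext (inv_mul_eq_one.1 (hz ▸ e)).symm)
    have h4 : (k : G ⧸ H) ∈ K' ⊓ centralizer {z} :=
      ⟨k.2, mem_centralizer_singleton_iff.2 (mul_inv_eq_iff_eq_mul.1 hzk).symm⟩
    rw [hfpfD z hzD hz1, mem_bot] at h4
    have h5 : K' = ⊥ := (eq_bot_iff_forall _).2 fun x hx => by
      obtain ⟨i, hi⟩ := mem_zpowers_iff.1 (hk ⟨x, hx⟩)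
      rw [show x = (k : G ⧸ H) ^ i by rw [← SubgroupClass.coe_zpow, hi], h4, one_zpow]
    exact hK'ne h5⟩⟩
  haveI hDcyc : IsCyclic D :=
    IsFpfOn.isCyclic (A := D) (K := K') (by rw [normalizer_eq_top]; exact le_top)
      (fun a ha ha1 => hfpfD a ha ha1) hK'ne
  haveI hGKcyc : IsCyclic (G ⧸ K) := by
    refine isCyclic_of_surjective (eQ.toMonoidHom.comp ((QuotientGroup.mk' K').comp D.subtype)) ?_
    refine eQ.surjective.comp fun x => ?_
    obtain ⟨k, rfl⟩ := QuotientGroup.mk'_surjective K' x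
    have h : k ∈ ((K' ⊔ D : Subgroup (G ⧸ H)) : Set (G ⧸ H)) := by rw [hc₂.sup_eq_top]; trivial
    rw [normal_mul] at h
    obtain ⟨h', hh', c, hc, rfl⟩ := h
    refine ⟨⟨c, hc⟩, ?_⟩
    show QuotientGroup.mk' K' c = QuotientGroup.mk' K' (h' * c)
    rw [map_mul, show QuotientGroup.mk' K' h' = 1 from (QuotientGroup.eq_one_iff _).2 hh', one_mul]
  have hsol : Group.IsSolvable G := by
    haveI : Group.IsSolvable H := inferInstance
    haveI : Group.IsSolvable H' := Group.isSolvable_of_surjective (f := (subgroupOfEquivOfLe hlt.le).symm.toMonoidHom)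
      (subgroupOfEquivOfLe hlt.le).symm.surjective
    haveI : Group.IsSolvable K := Group.isSolvable_of_ker_le_range H'.subtype (QuotientGroup.mk' H')
      (by rw [QuotientGroup.ker_mk', range_subtype])
    exact Group.isSolvable_of_ker_le_range K.subtype (QuotientGroup.mk' K)
      (by rw [QuotientGroup.ker_mk', range_subtype])
  refine ⟨hsol, hodd, hcopa.mul_right hcopd, hGKcyc, ?_⟩
  have hcardG : Nat.card G = Nat.card H * Nat.card (↥K ⧸ H') * Nat.card (G ⧸ K) := by
    rw [K.card_eq_card_quotient_mul_card_subgroup, H'.card_eq_card_quotient_mul_card_subgroup, hcardH]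
    ring
  set c := Nat.card (↥K ⧸ H') with hc
  intro p q hp hq hpq hpG hqG
  haveI := Fact.mk hp
  haveI := Fact.mk hq
  constructor
  · rintro ⟨g, hg⟩
    -- a prime of `c` and another prime cannot be joined
    suffices h : ∀ p q : ℕ, p.Prime → q.Prime → p ≠ q → orderOf g = p * q → p ∣ c → q ∣ c from
      ⟨h p q hp hq hpq hg, h q p hq hp (Ne.symm hpq) (hg.trans (mul_comm _ _))⟩
    intro p q hp hq hpq hg hpc
    set x := g ^ q
    set y := g ^ p
    have hx : orderOf x = p := by
      rw [orderOf_pow_of_dvd hq.ne_zero (hg ▸ dvd_mul_left q p), hg, Nat.mul_div_cancel _ hq.pos]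
    have hy : orderOf y = q := by
      rw [orderOf_pow_of_dvd hp.ne_zero (hg ▸ dvd_mul_right p q), hg, Nat.mul_div_cancel_left _ hp.pos]
    have hxy : Commute x y := Commute.pow_pow_self g q p
    have hxK : x ∈ K := by
      rw [← QuotientGroup.eq_one_iff, ← orderOf_eq_one_iff]
      exact Nat.eq_one_of_dvd_coprimes hcopd ((orderOf_map_dvd (QuotientGroup.mk' K) x).trans (hx ▸ hpc))
        (orderOf_dvd_natCard _)
    have hxH : x ∉ H := fun h => hp.ne_one (by
      rw [← hx]
      exact Nat.eq_one_of_dvd_coprimes hcopa (hx ▸ hpc) (Subgroup.orderOf_dvd_natCard H h))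
    by_cases hyK : y ∈ K
    · have hxk : (⟨x, hxK⟩ : K) ∉ Cfsg.frobeniusKernel C₀ := fun h => by
        rw [hkerK] at h
        exact hxH (mem_subgroupOf.1 h)
      rw [frob_mem_kernel_iff, not_or, not_forall] at hxk
      obtain ⟨hx1, a, ha⟩ := hxk
      rw [not_not] at ha
      have hya : a⁻¹ * ⟨y, hyK⟩ * a ∈ C₀ := frob_mem_of_commute hC₀ ha
        (fun e => hx1 (by rw [show (⟨x, hxK⟩ : K) = a * (a⁻¹ * ⟨x, hxK⟩ * a) * a⁻¹ by group, e]; group))
        (Subtype.ext (by
          push_cast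
          calc ((a : G)⁻¹ * x * a) * ((a : G)⁻¹ * y * a) = (a : G)⁻¹ * (x * y) * a := by group
            _ = (a : G)⁻¹ * (y * x) * a := by rw [hxy.eq]
            _ = _ := by group))
      have h1 := Subgroup.orderOf_dvd_natCard C₀ hya
      rw [show a⁻¹ * ⟨y, hyK⟩ * a = MulAut.conj a⁻¹ ⟨y, hyK⟩ by simp, MulEquiv.orderOf_eq,
        ← Subgroup.orderOf_coe, hy, ← hc₁.symm.index_eq_card, index_eq_card] at h1
      exact h1
    · exfalso
      have hyk : π y ∉ Cfsg.frobeniusKernel D := fun h => by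
        rw [hkerQ] at h
        obtain ⟨k, hk, hky⟩ := h
        have h2 := QuotientGroup.eq.1 hky
        exact hyK (by simpa using mul_mem hk (hlt.le h2))
      rw [frob_mem_kernel_iff, not_or, not_forall] at hyk
      obtain ⟨hy1, a, ha⟩ := hyk
      rw [not_not] at ha
      have hxa : a⁻¹ * π x * a ∈ D := frob_mem_of_commute hD ha
        (fun e => hy1 (by rw [show π y = a * (a⁻¹ * π y * a) * a⁻¹ by group, e]; group))
        (by
          show a⁻¹ * π y * a * (a⁻¹ * π x * a) = a⁻¹ * π x * a * (a⁻¹ * π y * a)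
          calc a⁻¹ * π y * a * (a⁻¹ * π x * a) = a⁻¹ * (π (y * x)) * a := by rw [map_mul]; group
            _ = a⁻¹ * (π (x * y)) * a := by rw [hxy.eq]
            _ = _ := by rw [map_mul]; group)
      have h1 : a⁻¹ * π x * a ∈ K' := by
        simpa using (inferInstance : K'.Normal).conj_mem _ (mem_map_of_mem π hxK) a⁻¹
      have h2 := (Subgroup.disjoint_def.1 hc₂.disjoint) h1 hxa
      refine hxH ((QuotientGroup.eq_one_iff _).1 ?_)
      show π x = 1
      rw [show π x = a * (a⁻¹ * π x * a) * a⁻¹ by group, h2]; group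
  · intro hiff
    by_cases hpc : p ∣ c
    · have hqc := hiff.1 hpc
      obtain ⟨x, hx⟩ := exists_orderOf_cyclic (H := C) hp hq hpq (hcardC ▸ hpc) (hcardC ▸ hqc)
      exact ⟨x, by rw [Subgroup.orderOf_coe, hx]⟩
    have hqc : ¬ q ∣ c := fun h => hpc (hiff.2 h)
    have hsplit : ∀ r : ℕ, r.Prime → r ∣ Nat.card G → ¬ r ∣ c →
        r ∣ Nat.card H ∨ r ∣ Nat.card (G ⧸ K) := fun r hr hrG hrc => by
      rw [hcardG] at hrG
      rcases hr.dvd_mul.1 hrG with h | h
      · exact Or.inl ((hr.dvd_mul.1 h).resolve_right hrc)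
      · exact Or.inr h
    -- one prime of `H` and another prime outside `K`
    have hmixed : ∀ r s : ℕ, r.Prime → s.Prime → r ≠ s → r ∣ Nat.card H → ¬ s ∣ Nat.card H → ¬ s ∣ c →
        s ∣ Nat.card (G ⧸ K) → ∃ g : G, orderOf g = r * s := by
      intro r s hr hs hrs hrH hsH hsc hsd
      haveI := Fact.mk hr
      haveI := Fact.mk hs
      set N := normalizer (C : Set G) with hN
      have hNK : ∀ g : G, ∃ k ∈ K, k * g ∈ N := by
        intro g
        let φ : K ≃* K := MulAut.conjNormal g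
        have hφ : Cfsg.IsFrobeniusComplement (C₀.map φ.toMonoidHom) := by
          refine ⟨fun h => hC₀.1 ((map_eq_bot_iff_of_injective _ φ.injective).1 h), fun h => hC₀.2.1 ?_, ?_⟩
          · exact map_injective (f := φ.toMonoidHom) φ.injective (h.trans (map_top_of_surjective φ.toMonoidHom φ.surjective).symm)
          · intro k hk
            rw [eq_bot_iff]
            rintro x ⟨⟨a, ha, rfl⟩, b, ⟨b', hb', rfl⟩, hb⟩
            rw [mem_bot]
            have hkn : φ.symm k ∉ C₀ := fun h => hk ⟨_, h, φ.apply_symm_apply k⟩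
            have he : φ.symm k * b' * (φ.symm k)⁻¹ = a := by
              apply φ.injective
              rw [map_mul, map_mul, map_inv, φ.apply_symm_apply]
              exact hb
            have hb1 : b' = 1 := frob_eq_one hC₀ (inv_mem_iff.not.2 hkn) hb' (by rw [inv_inv, he]; exact ha)
            rw [show a = 1 by rw [← he, hb1]; group, map_one]
        obtain ⟨k, hk⟩ := frob_complements_conj hC₀ hφ
        refine ⟨k, k.2, mem_normalizer_iff_map_conj_eq.2 ?_⟩
        rw [hC, Subgroup.map_map]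
        conv_rhs => rw [← hk, show conjBy k (C₀.map φ.toMonoidHom) =
          (C₀.map φ.toMonoidHom).map (MulAut.conj k).toMonoidHom from rfl, Subgroup.map_map, Subgroup.map_map]
        congr 1
        refine MonoidHom.ext fun z => ?_
        show (k : G) * g * z * ((k : G) * g)⁻¹ = k * (g * z * g⁻¹) * (k : G)⁻¹
        group
      have hsN : s ∣ Nat.card N := by
        have hsur : Function.Surjective ((QuotientGroup.mk' K).comp N.subtype) := fun x => by
          obtain ⟨g, rfl⟩ := QuotientGroup.mk'_surjective K x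
          obtain ⟨k, hk, hkg⟩ := hNK g
          refine ⟨⟨k * g, hkg⟩, ?_⟩
          show QuotientGroup.mk' K (k * g) = _
          rw [map_mul, show QuotientGroup.mk' K k = 1 from (QuotientGroup.eq_one_iff _).2 hk, one_mul]
        exact hsd.trans (card_dvd_of_surjective _ hsur)
      obtain ⟨t, ht⟩ := exists_prime_orderOf_dvd_card' s hsN
      have ht' : orderOf (t : G) = s := by rw [Subgroup.orderOf_coe, ht]
      have htK : (t : G) ∉ K := fun h => by
        have h1 := Subgroup.orderOf_dvd_natCard K h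
        rw [ht', H'.card_eq_card_quotient_mul_card_subgroup, hcardH] at h1
        rcases hs.dvd_mul.1 h1 with h1 | h1
        · exact hsc h1
        · exact hsH h1
      set V : Subgroup G := ((center H).map H.subtype ⊓
        ((powMonoidHom r : center H →* center H).ker.map ((H.subtype).comp (center H).subtype))) with hV
      haveI hVn : V.Normal := by
        have hVmem : ∀ x, x ∈ V ↔ x ∈ H ∧ x ^ r = 1 ∧ ∀ h ∈ H, h * x = x * h := fun x => by
          constructor
          · rintro ⟨-, ⟨z, hz⟩, hzr, rfl⟩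
            exact ⟨z.2, congrArg (fun w : center H => ((w : H) : G)) hzr,
              fun h hh => congrArg Subtype.val (mem_center_iff.1 hz ⟨h, hh⟩)⟩
          · rintro ⟨hx, hxr, hxc⟩
            have hz : (⟨x, hx⟩ : H) ∈ center H := mem_center_iff.2 fun h => Subtype.ext (hxc h h.2)
            exact ⟨⟨_, hz, rfl⟩, ⟨⟨x, hx⟩, hz⟩, Subtype.ext (Subtype.ext hxr), rfl⟩
        refine ⟨fun x hx g => ?_⟩
        rw [hVmem] at hx ⊢
        refine ⟨Normal.conj_mem inferInstance _ hx.1 g, by rw [conj_pow, hx.2.1]; group, fun h hh => ?_⟩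
        have h1 := hx.2.2 (g⁻¹ * h * g) (by simpa using (inferInstance : H.Normal).conj_mem h hh g⁻¹)
        calc h * (g * x * g⁻¹) = g * ((g⁻¹ * h * g) * x) * g⁻¹ := by group
          _ = g * (x * (g⁻¹ * h * g)) * g⁻¹ := by rw [h1]
          _ = g * x * g⁻¹ * h := by group
      haveI : IsMulCommutative V := ⟨⟨fun a b => by
        obtain ⟨za, hza, ea⟩ := a.2.1
        obtain ⟨zb, hzb, eb⟩ := b.2.1
        apply Subtype.ext
        show (a : G) * b = b * a
        rw [← ea, ← eb]
        exact congrArg Subtype.val ((mem_center_iff.1 hzb) za)⟩⟩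
      have hVH : V ≤ H := inf_le_left.trans (map_subtype_le _)
      have hV1 : V ≠ ⊥ := by
        haveI := hHn
        obtain ⟨P⟩ : Nonempty (Sylow r H) := inferInstance
        have hPn : (P : Subgroup H).Normal := inferInstance
        obtain ⟨⟨z, hzP, hzc⟩, hz1⟩ := Subgroup.ne_bot_iff_exists_ne_one.1
          (nilpotent_inf_center_ne_bot (P : Subgroup H) (P.ne_bot_of_dvd_card hrH))
        obtain ⟨j, hj⟩ := IsPGroup.iff_orderOf.1 P.2 ⟨z, hzP⟩
        rw [← Subgroup.orderOf_coe] at hj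
        rcases j with _ | j
        · exact absurd (Subtype.ext (orderOf_eq_one_iff.1 (by simpa using hj))) hz1
        set w : H := z ^ r ^ j with hw
        have hwr : orderOf w = r := by
          rw [hw, orderOf_pow_of_dvd (pow_ne_zero _ hr.ne_zero) (hj ▸ pow_dvd_pow r (Nat.le_succ j)), hj,
            Nat.pow_div (Nat.le_succ j) hr.pos, Nat.succ_sub (le_refl j), Nat.sub_self, pow_one]
        have hwc : w ∈ center H := pow_mem hzc _
        intro h
        have hwV : (w : G) ∈ V := ⟨⟨w, hwc, rfl⟩, ⟨w, hwc⟩, Subtype.ext (by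
          show w ^ r = 1
          rw [← hwr, pow_orderOf_eq_one]), rfl⟩
        rw [h, mem_bot] at hwV
        rw [show w = 1 from Subtype.ext hwV, orderOf_one] at hwr
        exact hr.ne_one hwr.symm
      have hfix : ∀ c ∈ C, (t : G) * c * (t : G)⁻¹ = c → c = 1 := by
        intro c hc he
        refine hCH c hc ((QuotientGroup.eq_one_iff _).1 ?_)
        show π c = 1
        have htk : π t ∉ Cfsg.frobeniusKernel D := fun h => by
          rw [hkerQ] at h
          obtain ⟨k, hk, hky⟩ := h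
          exact htK (by simpa using mul_mem hk (hlt.le (QuotientGroup.eq.1 hky)))
        rw [frob_mem_kernel_iff, not_or, not_forall] at htk
        obtain ⟨ht1, a, ha⟩ := htk
        rw [not_not] at ha
        have hca : a⁻¹ * π c * a ∈ D := frob_mem_of_commute hD ha
          (fun e => ht1 (by rw [show π t = a * (a⁻¹ * π t * a) * a⁻¹ by group, e]; group))
          (by
            show a⁻¹ * π t * a * (a⁻¹ * π c * a) = a⁻¹ * π c * a * (a⁻¹ * π t * a)
            calc a⁻¹ * π t * a * (a⁻¹ * π c * a) = a⁻¹ * (π (t * c)) * a := by rw [map_mul]; group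
              _ = a⁻¹ * (π (c * t)) * a := by rw [mul_inv_eq_iff_eq_mul.1 he]
              _ = _ := by rw [map_mul]; group)
        have h1 : a⁻¹ * π c * a ∈ K' := by
          simpa using (inferInstance : K'.Normal).conj_mem _ (mem_map_of_mem π (hCK hc)) a⁻¹
        have h2 := (Subgroup.disjoint_def.1 hc₂.disjoint) h1 hca
        rw [show π c = a * (a⁻¹ * π c * a) * a⁻¹ by group, h2]; group
      have hfpf : ∀ v ∈ V, (∀ c ∈ C, c * v * c⁻¹ = v) → v = 1 := by
        intro v hv hcv
        obtain ⟨c, hc1⟩ := Subgroup.ne_bot_iff_exists_ne_one.1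
          (show C ≠ ⊥ from fun h => hC₀.1 ((map_eq_bot_iff_of_injective _ K.subtype_injective).1 h))
        exact hfpfC.eq_one c.2 (fun e => hc1 (Subtype.ext e)) (hVH hv) (hcv c c.2)
      obtain ⟨v, hv, hv1, hvt⟩ := exists_fixed (C := C) (V := V) hs
        (by rw [← ht']; exact pow_orderOf_eq_one _) (by rw [normalizer_eq_top]; exact le_top)
        (by rw [normalizer_eq_top]; exact mem_top _) t.2 hfix hfpf
        (Nat.Coprime.coprime_dvd_right (card_dvd_of_le hVH) (hcardC ▸ hcopa)) hV1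
      have hvr : orderOf v = r := by
        refine orderOf_eq_prime ?_ hv1
        obtain ⟨w, hw, e⟩ := hv.2
        rw [← e]
        exact congrArg (fun u : center H => ((u : H) : G)) hw
      refine ⟨v * t, ?_⟩
      rw [(show Commute v (t : G) from (mul_inv_eq_iff_eq_mul.1 hvt).symm).orderOf_mul_eq_mul_orderOf_of_coprime
        (by rw [hvr, ht']; exact (Nat.coprime_primes hr hs).2 hrs), hvr, ht']
    rcases hsplit p hp hpG hpc with hpH | hpd
    · by_cases hqH : q ∣ Nat.card H
      · haveI := hHn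
        obtain ⟨x, hx⟩ := exists_prime_orderOf_dvd_card' p hpH
        obtain ⟨y, hy⟩ := exists_prime_orderOf_dvd_card' q hqH
        obtain ⟨P, hP⟩ := (IsPGroup.of_card (n := 1) (by rw [Nat.card_zpowers, hx, pow_one]) :
          IsPGroup p (zpowers x)).exists_le_sylow
        obtain ⟨Q, hQ⟩ := (IsPGroup.of_card (n := 1) (by rw [Nat.card_zpowers, hy, pow_one]) :
          IsPGroup q (zpowers y)).exists_le_sylow
        have hcm : Commute x y := Subgroup.commute_of_normal_of_disjoint _ _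
          (inferInstance : (P : Subgroup H).Normal) (inferInstance : (Q : Subgroup H).Normal)
          (IsPGroup.disjoint_of_ne p q hpq _ _ P.2 Q.2) x y (hP (mem_zpowers x)) (hQ (mem_zpowers y))
        refine ⟨((x * y : H) : G), ?_⟩
        rw [Subgroup.orderOf_coe, hcm.orderOf_mul_eq_mul_orderOf_of_coprime
          (by rw [hx, hy]; exact (Nat.coprime_primes hp hq).2 hpq), hx, hy]
      · exact hmixed p q hp hq hpq hpH hqH hqc ((hsplit q hq hqG hqc).resolve_left hqH)
    · by_cases hpH : p ∣ Nat.card H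
      · by_cases hqH : q ∣ Nat.card H
        · haveI := hHn
          obtain ⟨x, hx⟩ := exists_prime_orderOf_dvd_card' p hpH
          obtain ⟨y, hy⟩ := exists_prime_orderOf_dvd_card' q hqH
          obtain ⟨P, hP⟩ := (IsPGroup.of_card (n := 1) (by rw [Nat.card_zpowers, hx, pow_one]) :
            IsPGroup p (zpowers x)).exists_le_sylow
          obtain ⟨Q, hQ⟩ := (IsPGroup.of_card (n := 1) (by rw [Nat.card_zpowers, hy, pow_one]) :
            IsPGroup q (zpowers y)).exists_le_sylow
          have hcm : Commute x y := Subgroup.commute_of_normal_of_disjoint _ _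
            (inferInstance : (P : Subgroup H).Normal) (inferInstance : (Q : Subgroup H).Normal)
            (IsPGroup.disjoint_of_ne p q hpq _ _ P.2 Q.2) x y (hP (mem_zpowers x)) (hQ (mem_zpowers y))
          refine ⟨((x * y : H) : G), ?_⟩
          rw [Subgroup.orderOf_coe, hcm.orderOf_mul_eq_mul_orderOf_of_coprime
            (by rw [hx, hy]; exact (Nat.coprime_primes hp hq).2 hpq), hx, hy]
        · exact hmixed p q hp hq hpq hpH hqH hqc ((hsplit q hq hqG hqc).resolve_left hqH)
      · by_cases hqH : q ∣ Nat.card H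
        · obtain ⟨g, hg⟩ := hmixed q p hq hp (Ne.symm hpq) hqH hpH hpc hpd
          exact ⟨g, hg.trans (mul_comm _ _)⟩
        · obtain ⟨x, hx⟩ := exists_orderOf_cyclic (H := G ⧸ K) hp hq hpq hpd
            ((hsplit q hq hqG hqc).resolve_left hqH)
          obtain ⟨g, rfl⟩ := QuotientGroup.mk'_surjective K x
          exact exists_orderOf_of_dvd g (Nat.mul_ne_zero hp.ne_zero hq.ne_zero)
            (hx ▸ orderOf_map_dvd _ g) (orderOf_pos g)

end CfsgLib.TwoFrob
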