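import Mathlib
import Cfsg.Agent.Lib.PGroup.NormalRankTwo

/-!
# A fixed point covering criterion for modules over odd `p`-groups
-/

set_option autoImplicit false

namespace CfsgLib.Coprime.TwoGenSets

variable {p : ℕ} [Fact p.Prime] {P : Type*} [Group P] [Finite P] {M : Type*} [AddCommGroup M] [Finite M]
  [DistribMulAction P M]

/-- Points fixed by one element. -/
def fix (g : P) : AddSubgroup M where
  carrier := {v | g • v = v}
  zero_mem' := smul_zero g
  add_mem' {a b} ha hb := show g • (a + b) = a + b by rw [smul_add, ha, hb]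
  neg_mem' {a} ha := show g • (-a) = -a by rw [smul_neg, ha]

/-- Common fixed points. -/
def fixAll : AddSubgroup M where
  carrier := {v | ∀ g : P, g • v = v}
  zero_mem' := fun g => smul_zero g
  add_mem' {a b} ha hb := fun g => by rw [smul_add, ha g, hb g]
  neg_mem' {a} ha := fun g => by rw [smul_neg, ha g]

theorem mem_fix {g : P} {v : M} : v ∈ fix g ↔ g • v = v := Iff.rfl

theorem pow_smul_fix {g : P} {v : M} (h : g • v = v) (n : ℕ) : g ^ n • v = v := by
  induction n with
  | zero => rw [pow_zero, one_smul]
  | succ n ih => rw [pow_succ, mul_smul, h, ih]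

theorem zpow_smul_fix {g : P} {v : M} (h : g • v = v) (n : ℤ) : g ^ n • v = v :=
  (MulAction.stabilizer P v).zpow_mem h n

/-- Powers with exponents in `ZMod p`. -/
def pw (x : P) (a : ZMod p) : P := x ^ a.val

theorem pw_add {x : P} (h : x ^ p = 1) (a b : ZMod p) : pw x (a + b) = pw x a * pw x b := by
  rw [pw, pw, pw, ZMod.val_add, ← pow_eq_pow_mod _ h, pow_add]

theorem pw_one_eq (x : P) : pw x (1 : ZMod p) = x := by rw [pw, ZMod.val_one, pow_one]

theorem pw_zero (x : P) : pw x (0 : ZMod p) = 1 := by rw [pw, ZMod.val_zero, pow_zero]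

theorem pw_mul {x : P} (h : x ^ p = 1) (a b : ZMod p) : pw (pw x a) b = pw x (a * b) := by
  rw [pw, pw, pw, ZMod.val_mul, ← pow_eq_pow_mod _ h, ← pow_mul]

theorem trivial_action (hp3 : 3 ≤ p) (hP : IsPGroup p P) (hcop : (Nat.card M).Coprime p) (C D : Set P)
    (hC : Subgroup.closure C = ⊤) (hD : Subgroup.closure D = ⊤)
    (hcd : ∀ v : M, ∀ c ∈ C, ∀ d ∈ D, ∃ a b, v = a + b ∧ c • a = a ∧ d • b = b)
    (hcen : ∀ x ∈ Subgroup.center P, x ≠ 1 → ∀ v : M, x • v = v → ∀ g : P, g • v = v) :
    ∀ (g : P) (v : M), g • v = v := by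
  classical
  have hpp : p.Prime := Fact.out
  by_cases hcyc : IsCyclic P
  · -- a generator in each generating set
    have hgen : ∀ S : Set P, Subgroup.closure S = ⊤ → (∀ g : P, g = 1) ∨ ∃ s ∈ S, ∀ g : P, g ∈ Subgroup.zpowers s := by
      intro S hS
      by_cases h1 : ∀ g : P, g = 1
      · exact Or.inl h1
      right
      obtain ⟨x, hx⟩ := IsCyclic.exists_generator (α := P)
      by_contra hcon
      push Not at hcon
      have hle : Subgroup.closure S ≤ Subgroup.zpowers (x ^ p) := by
        rw [Subgroup.closure_le]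
        intro s hs
        obtain ⟨g, hg⟩ := hcon s hs
        obtain ⟨n, rfl⟩ : ∃ n : ℕ, x ^ n = s := mem_powers_iff_mem_zpowers.2 (hx s)
        by_cases hd : p ∣ n
        · obtain ⟨k, rfl⟩ := hd
          exact ⟨k, by simp only [zpow_natCast]; rw [← pow_mul]⟩
        · exfalso
          refine hg ?_
          obtain ⟨k, hk⟩ := hP.exists_card_eq
          have hcopn : n.Coprime (orderOf x) := by
            rw [orderOf_eq_card_of_forall_mem_zpowers hx, hk]
            exact Nat.Coprime.pow_right _ (((Nat.Prime.coprime_iff_not_dvd hpp).2 hd).symm)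
          obtain ⟨m, hm⟩ := exists_pow_eq_self_of_coprime hcopn
          have hxm : x ∈ Subgroup.zpowers (x ^ n) := ⟨m, by simp only [zpow_natCast]; exact hm⟩
          exact Subgroup.zpowers_le.2 hxm (hx g)
      rw [hS] at hle
      obtain ⟨k, hk⟩ := hle (Subgroup.mem_top x)
      have hdvd : (orderOf x : ℤ) ∣ (p : ℤ) * k - 1 := by
        rw [orderOf_dvd_iff_zpow_eq_one, zpow_sub, zpow_one, zpow_mul, zpow_natCast]
        exact mul_inv_eq_one.2 hk
      obtain ⟨j, hj⟩ := hP.exists_card_eq
      rcases Nat.eq_zero_or_pos j with rfl | hjp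
      · rw [pow_zero] at hj
        haveI := (Nat.card_eq_one_iff_unique.1 hj).1
        exact h1 fun g => Subsingleton.elim _ _
      rw [orderOf_eq_card_of_forall_mem_zpowers hx, hj] at hdvd
      have hp1 : (p : ℤ) ∣ 1 := by
        have hd' : (p : ℤ) ∣ (p : ℤ) * k - 1 :=
          dvd_trans (by exact_mod_cast dvd_pow_self p hjp.ne') hdvd
        have := Int.dvd_sub (dvd_mul_right (p : ℤ) k) hd'
        simpa using this
      exact hpp.not_dvd_one (by exact_mod_cast hp1)
    intro g v
    rcases hgen C hC with h | ⟨c, hc, hcg⟩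
    · rw [h g, one_smul]
    rcases hgen D hD with h | ⟨d, hd, hdg⟩
    · rw [h g, one_smul]
    obtain ⟨a, b, rfl, ha, hb⟩ := hcd v c hc d hd
    obtain ⟨i, rfl⟩ := hcg g
    have hb' : c ^ i • b = b := by
      obtain ⟨j, hj⟩ := hdg (c ^ i)
      rw [← hj]
      exact zpow_smul_fix hb j
    change c ^ i • (a + b) = a + b
    rw [smul_add, zpow_smul_fix ha i, hb']
  · -- the noncyclic case
    obtain ⟨E, hEn, hEe, hE2⟩ : ∃ A : Subgroup P, A.Normal ∧ Cfsg.IsElementaryAbelian p A ∧ Nat.card A = p ^ 2 := by
      obtain ⟨A, -, h⟩ := CfsgLib.PGroup.exists_normal_rank_two hP (by omega) ⊤ fun h =>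
        hcyc (Subgroup.topEquiv.isCyclic.1 h)
      exact ⟨A, h⟩
    haveI := hEn
    haveI := hP.isNilpotent
    have hEp : ∀ x ∈ E, x ^ p = 1 := hEe.2
    have hEc : ∀ x ∈ E, ∀ y ∈ E, x * y = y * x := fun x hx y hy =>
      congrArg Subtype.val (hEe.1.is_comm.comm (⟨x, hx⟩ : E) ⟨y, hy⟩)
    obtain ⟨z, hz, hzc, hz1⟩ : ∃ z ∈ E, z ∈ Subgroup.center P ∧ z ≠ 1 := by
      by_contra hcon
      push Not at hcon
      have hbot : E ⊓ Subgroup.center P = ⊥ :=
        (Subgroup.eq_bot_iff_forall _).2 fun x hx => hcon x hx.1 hx.2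
      haveI : Nontrivial E := Finite.one_lt_card_iff_nontrivial.1 (by rw [hE2]; nlinarith)
      exact (Subgroup.nontrivial_iff_ne_bot E).1 inferInstance
        (by
          by_contra hne
          obtain ⟨x, hx1, hx2⟩ := (hP.of_equiv (ConjAct.toConjAct (G := P))).exists_fixed_point_of_prime_dvd_card_of_fixed_point
            E (by rw [hE2]; exact dvd_pow_self p two_ne_zero) (a := (1 : E)) (fun g => smul_one g)
          refine hx2 (Subtype.ext ?_)
          have : (x : P) ∈ E ⊓ Subgroup.center P := ⟨x.2, Subgroup.mem_center_iff.2 fun g => by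
            have h := congrArg Subtype.val (hx1 (ConjAct.toConjAct g))
            simp [ConjAct.Subgroup.val_conj_smul, ConjAct.smul_def] at h
            exact mul_inv_eq_iff_eq_mul.1 h⟩
          rw [hbot, Subgroup.mem_bot] at this
          simpa using this.symm)
    obtain ⟨e, he, hez⟩ : ∃ e ∈ E, e ∉ Subgroup.zpowers z := by
      by_contra hcon
      push Not at hcon
      have := Subgroup.card_dvd_of_le (show E ≤ Subgroup.zpowers z from hcon)
      rw [hE2, Nat.card_zpowers, orderOf_eq_prime (hEp z hz) hz1] at this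
      have := Nat.le_of_dvd hpp.pos this
      nlinarith
    have hzp := hEp z hz
    have hep := hEp e he
    let el : ZMod p × ZMod p → P := fun ab => pw e ab.1 * pw z ab.2
    have hcomm : ∀ a b : ZMod p, pw e a * pw z b = pw z b * pw e a := fun a b =>
      hEc _ (E.pow_mem he _) _ (E.pow_mem hz _)
    have hmul : ∀ a b a' b' : ZMod p, el (a + a', b + b') = el (a, b) * el (a', b') := fun a b a' b' => by
      simp only [el, pw_add hep, pw_add hzp]
      rw [mul_assoc, ← mul_assoc (pw e a') (pw z b), hcomm, mul_assoc (pw z b), ← mul_assoc, ← mul_assoc]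
    have hel_one : ∀ t : ZMod p, el (1, t) = e * pw z t := fun t => by simp [el, pw_one_eq]
    have helpow : ∀ (t : ZMod p) (n : ℕ), el (n, n * t) = el (1, t) ^ n := fun t n => by
      induction n with
      | zero => simp [el, pw_zero]
      | succ n ih => rw [pow_succ, ← ih, ← hmul]; simp [add_mul]
    have helinj : Function.Injective el := by
      rintro ⟨a, b⟩ ⟨a', b'⟩ h
      have hab : ∀ a b : ZMod p, el (a, b) = 1 → a = 0 ∧ b = 0 := by
        intro a b h1
        have ha : a = 0 := by
          by_contra ha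
          refine hez ?_
          have h2 : pw e a ∈ Subgroup.zpowers z := by
            rw [show pw e a = (pw z b)⁻¹ from eq_inv_of_mul_eq_one_left h1]
            exact inv_mem (Subgroup.npow_mem_zpowers _ _)
          have := Subgroup.pow_mem _ h2 (a⁻¹ : ZMod p).val
          rwa [show pw e a ^ (a⁻¹ : ZMod p).val = pw (pw e a) a⁻¹ from rfl, pw_mul hep, mul_inv_cancel₀ ha,
            pw_one_eq] at this
        refine ⟨ha, ?_⟩
        by_contra hb
        simp only [el, ha, pw_zero, one_mul] at h1
        refine hz1 ?_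
        rw [← pw_one_eq (p := p) z, ← mul_inv_cancel₀ hb, ← pw_mul hzp, h1, pw, one_pow]
      have h' : el (a - a', b - b') = 1 := by
        have := hmul (a - a') (b - b') a' b'
        rw [sub_add_cancel, sub_add_cancel, h] at this
        exact mul_eq_right.1 this.symm
      obtain ⟨e1, e2⟩ := hab _ _ h'
      exact Prod.ext (sub_eq_zero.1 e1) (sub_eq_zero.1 e2)
    have helsurj : ∀ x ∈ E, ∃ ab, el ab = x := by
      have hsub : Set.range el ⊆ (E : Set P) := by
        rintro _ ⟨ab, rfl⟩; exact E.mul_mem (E.pow_mem he _) (E.pow_mem hz _)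
      have hrange : Set.range el = (E : Set P) := Set.eq_of_subset_of_ncard_le hsub (by
        rw [← Nat.card_coe_set_eq, ← Nat.card_coe_set_eq, Nat.card_range_of_injective helinj, Nat.card_prod,
          Nat.card_zmod]
        exact le_of_eq (hE2.trans (pow_two p)))
      intro x hx
      rw [← SetLike.mem_coe, ← hrange] at hx
      exact hx
    set C0 : AddSubgroup M := fixAll (P := P) with hC0
    have hzfix : ∀ v : M, z • v = v → v ∈ C0 := fun v hv => hcen z hzc hz1 v hv
    -- averages over the subgroups `⟨e zᵗ⟩`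
    let avg : ZMod p → M →+ M := fun t =>
      ∑ a : ZMod p, DistribMulAction.toAddMonoidHom M (el (a, a * t))
    have havg : ∀ t v, avg t v = ∑ a : ZMod p, el (a, a * t) • v := fun t v => by
      simp [avg, AddMonoidHom.finsetSum_apply]
    have hfix : ∀ (t : ZMod p) (v : M), el (1, t) • avg t v = avg t v := by
      intro t v
      rw [havg, Finset.smul_sum]
      refine Fintype.sum_equiv (Equiv.addLeft (1 : ZMod p)) _ _ fun a => ?_
      rw [← mul_smul, ← hmul, Equiv.coe_addLeft, add_mul, one_mul]
    have hfixall : ∀ (t : ZMod p) (v : M), el (1, t) • v = v → ∀ a : ZMod p, el (a, a * t) • v = v := by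
      intro t v h a
      rw [← ZMod.natCast_zmod_val a, helpow]
      exact pow_smul_fix h _
    have hidem : ∀ (t : ZMod p) (v : M), el (1, t) • v = v → avg t v = p • v := by
      intro t v h
      rw [havg, Finset.sum_congr rfl fun a _ => hfixall t v h a, Finset.sum_const, Finset.card_univ, ZMod.card]
    have hpC0 : ∀ v : M, p • v ∈ C0 → v ∈ C0 := by
      intro v hv
      obtain ⟨m, hm⟩ := exists_pow_eq_self_of_coprime (x := Multiplicative.ofAdd v) (n := p)
        (Nat.Coprime.coprime_dvd_right (orderOf_dvd_natCard _)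
          (by simpa [Nat.card_congr Multiplicative.toAdd] using hcop.symm))
      have hm' : m • (p • v) = v := congrArg Multiplicative.toAdd hm
      rw [← hm']
      exact C0.nsmul_mem hv m
    have hcentral : ∀ v : M, (∀ t, avg t v ∈ C0) → v ∈ C0 := by
      intro v hv
      have hsum : ∑ t, avg t v + ∑ b : ZMod p, el (0, b) • v = (∑ ab : ZMod p × ZMod p, el ab • v) + p • v := by
        simp only [havg]
        rw [Finset.sum_comm, Fintype.sum_prod_type]
        have key : ∀ a : ZMod p, ∑ t : ZMod p, el (a, a * t) • v + (if a = 0 then ∑ b, el (0, b) • v else 0) =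
            ∑ b, el (a, b) • v + (if a = 0 then p • v else 0) := by
          intro a
          rcases eq_or_ne a 0 with rfl | ha
          · rw [if_pos rfl, if_pos rfl, Finset.sum_congr rfl (fun t _ => by rw [zero_mul] :
              ∀ t ∈ Finset.univ, el (0, (0 : ZMod p) * t) • v = el (0, 0) • v), Finset.sum_const,
              Finset.card_univ, ZMod.card, add_comm]
            congr 1
            simp [el, pw_zero]
          · rw [if_neg ha, if_neg ha, add_zero, add_zero]
            exact Fintype.sum_equiv (Equiv.mulLeft₀ a ha) _ _ fun t => rfl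
        have := Finset.sum_congr (s₂ := Finset.univ) rfl fun a (_ : a ∈ Finset.univ) => key a
        rw [Finset.sum_add_distrib, Finset.sum_add_distrib, Finset.sum_ite_eq' Finset.univ (0 : ZMod p),
          Finset.sum_ite_eq' Finset.univ (0 : ZMod p)] at this
        simpa using this
      refine hpC0 v ?_
      have h1 : ∑ b : ZMod p, el (0, b) • v ∈ C0 := hzfix _ (by
        rw [Finset.smul_sum]
        refine Fintype.sum_equiv (Equiv.addLeft (1 : ZMod p)) _ _ fun b => ?_
        rw [← mul_smul, show z = el (0, 1) by simp [el, pw_zero, pw_one_eq], ← hmul, zero_add, Equiv.coe_addLeft])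
      have h2 : (∑ ab : ZMod p × ZMod p, el ab • v) ∈ C0 := hzfix _ (by
        rw [Finset.smul_sum]
        refine Fintype.sum_equiv (Equiv.addLeft ((0, 1) : ZMod p × ZMod p)) _ _ fun b => ?_
        rw [← mul_smul, show z = el (0, 1) by simp [el, pw_zero, pw_one_eq]]
        obtain ⟨b1, b2⟩ := b
        rw [← hmul]; rfl)
      have h3 := C0.add_mem (C0.sum_mem (t := Finset.univ) fun t _ => hv t) h1
      rw [hsum] at h3
      exact (C0.add_mem_cancel_left h2).1 h3
    suffices h : ∀ v : M, v ∈ C0 from fun g v => h v g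
    by_cases hce : e ∈ Subgroup.center P
    · refine fun v => hcentral v fun t => hcen _ ?_ ?_ _ (hfix t v)
      · rw [hel_one]; exact (Subgroup.center P).mul_mem hce ((Subgroup.center P).pow_mem hzc _)
      · intro h
        have h0 : el (1, t) = el (0, 0) := h.trans (by simp [el, pw_zero])
        exact one_ne_zero (congrArg Prod.fst (helinj h0))
    -- `E` is not central
    have hshift : ∀ S : Set P, Subgroup.closure S = ⊤ → ∃ g ∈ S, ∃ b : ZMod p, b ≠ 0 ∧
        ∀ t, g * el (1, t) * g⁻¹ = el (1, t + b) := by
      intro S hS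
      obtain ⟨g, hg, hge⟩ : ∃ g ∈ S, g * e * g⁻¹ ≠ e := by
        by_contra hcon
        push Not at hcon
        refine hce (Subgroup.mem_center_iff.2 fun g => ?_)
        have hle : Subgroup.closure S ≤ Subgroup.centralizer {e} :=
          (Subgroup.closure_le _).2 fun s hs =>
            Subgroup.mem_centralizer_singleton_iff.2 (mul_inv_eq_iff_eq_mul.1 (hcon s hs))
        exact Subgroup.mem_centralizer_singleton_iff.1 (hle (hS ▸ Subgroup.mem_top g))
      obtain ⟨⟨a, b⟩, hab⟩ := helsurj _ (hEn.conj_mem e he g)
      have hzg : ∀ n : ℕ, g * z ^ n * g⁻¹ = z ^ n := fun n => by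
        rw [Subgroup.mem_center_iff.1 ((Subgroup.center P).pow_mem hzc n) g, mul_inv_cancel_right]
      have hiter : ∀ n : ℕ, ∃ b' : ZMod p, g ^ n * e * (g ^ n)⁻¹ = el (a ^ n, b') := by
        intro n
        induction n with
        | zero => exact ⟨0, by simp [el, pw_zero, pw_one_eq]⟩
        | succ n ih =>
          obtain ⟨b', hb'⟩ := ih
          refine ⟨a ^ n * b + b', ?_⟩
          rw [pow_succ' g, show g * g ^ n * e * (g * g ^ n)⁻¹ = g * (g ^ n * e * (g ^ n)⁻¹) * g⁻¹ by group, hb']
          simp only [el, pw]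
          rw [show g * (e ^ (a ^ n).val * z ^ b'.val) * g⁻¹ = (g * e * g⁻¹) ^ (a ^ n).val * (g * z ^ b'.val * g⁻¹) by
            rw [conj_pow]; group, hzg, ← hab]
          simp only [el]
          rw [Commute.mul_pow (show Commute (pw e a) (pw z b) from hcomm a b)]
          change pw (pw e a) (a ^ n) * pw (pw z b) (a ^ n) * pw z b' = pw e (a ^ (n + 1)) * pw z (a ^ n * b + b')
          rw [pw_mul hep, pw_mul hzp, mul_assoc, ← pw_add hzp, mul_comm b, ← pow_succ']
      obtain ⟨k, hk⟩ := hP g
      obtain ⟨b', hb'⟩ := hiter (p ^ k)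
      rw [hk, one_mul, inv_one, mul_one, ZMod.pow_card_pow] at hb'
      have ha : a = 1 := by
        have h0 : el (1, 0) = el (a, b') := by rw [← hb']; simp [el, pw_zero, pw_one_eq]
        exact (congrArg Prod.fst (helinj h0)).symm
      subst ha
      refine ⟨g, hg, b, fun hb => hge ?_, fun t => ?_⟩
      · rw [← hab, hb]; simp [el, pw_zero, pw_one_eq]
      · rw [hel_one, show g * (e * pw z t) * g⁻¹ = (g * e * g⁻¹) * (g * pw z t * g⁻¹) by group, ← hab]
        rw [show g * pw z t * g⁻¹ = pw z t from hzg _]
        simp only [el, pw_one_eq]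
        rw [mul_assoc, ← pw_add hzp, add_comm]
    let Ψ : M →+ (ZMod p → M ⧸ C0) := Pi.addMonoidHom fun t => (QuotientAddGroup.mk' C0).comp (avg t)
    let A : ZMod p → AddSubgroup (M ⧸ C0) := fun t => (fix (el (1, t))).map (QuotientAddGroup.mk' C0)
    have hmk : ∀ v, (QuotientAddGroup.mk' C0) v = 0 ↔ v ∈ C0 := fun v => QuotientAddGroup.eq_zero_iff v
    -- equivariance of the averages
    have hequi : ∀ {g : P} {b : ZMod p}, (∀ t, g * el (1, t) * g⁻¹ = el (1, t + b)) →
        ∀ t v, g • avg t v = avg (t + b) (g • v) := by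
      intro g b hg t v
      rw [havg, havg, Finset.smul_sum]
      refine Finset.sum_congr rfl fun a _ => ?_
      rw [← mul_smul, ← mul_smul]
      congr 1
      rw [← ZMod.natCast_zmod_val a, helpow, helpow, ← hg, conj_pow]
      group
    obtain ⟨c, hc, bc, hbc, hgc⟩ := hshift C hC
    obtain ⟨d, hd, bd, hbd, hgd⟩ := hshift D hD
    have hcardA : ∀ t, Nat.card (A t) = Nat.card (A 0) := by
      have hstep : ∀ t, Nat.card (A t) ≤ Nat.card (A (t + bc)) := by
        intro t
        let sh : M ⧸ C0 →+ M ⧸ C0 := QuotientAddGroup.map C0 C0 (DistribMulAction.toAddMonoidHom M c)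
          (fun v hv => by
            change c • v ∈ C0
            rwa [hv c])
        have hinj : Function.Injective sh := by
          rw [injective_iff_map_eq_zero]
          intro q
          obtain ⟨v, rfl⟩ := QuotientAddGroup.mk'_surjective C0 q
          intro hq
          change (QuotientAddGroup.mk' C0) (c • v) = 0 at hq
          rw [hmk] at hq ⊢
          have : c⁻¹ • (c • v) ∈ C0 := by rwa [hq c⁻¹]
          rwa [inv_smul_smul] at this
        have hsub : (A t).map sh ≤ A (t + bc) := by
          rintro _ ⟨_, ⟨v, hv, rfl⟩, rfl⟩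
          refine ⟨c • v, ?_, rfl⟩
          change el (1, t + bc) • c • v = c • v
          rw [← hgc, mul_smul, mul_smul, inv_smul_smul, mem_fix.1 hv]
        calc Nat.card (A t) = Nat.card ((A t).map sh) :=
              Nat.card_congr ((A t).equivMapOfInjective sh hinj).toEquiv
          _ ≤ Nat.card (A (t + bc)) := AddSubgroup.card_le_of_le hsub
      have hiter : ∀ (n : ℕ) (t : ZMod p), Nat.card (A t) ≤ Nat.card (A (t + n * bc)) := by
        intro n
        induction n with
        | zero => intro t; simp
        | succ n ih => intro t; exact (ih t).trans ((hstep _).trans (le_of_eq (by push_cast; ring_nf)))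
      intro t
      refine le_antisymm ?_ ?_
      · have := hiter (-(t / bc)).val t
        rwa [ZMod.natCast_zmod_val, neg_mul, div_mul_cancel₀ t hbc, add_neg_cancel] at this
      · have := hiter (t / bc).val 0
        rwa [ZMod.natCast_zmod_val, div_mul_cancel₀ t hbc, zero_add] at this
    -- the image is the whole product
    have hupper : Nat.card Ψ.range ≤ Nat.card (A 0) * Nat.card (A 0) := by
      have hdet : ∀ {g : P} {b : ZMod p}, b ≠ 0 → (∀ t, g * el (1, t) * g⁻¹ = el (1, t + b)) →
          Nat.card ((fix g).map Ψ) ≤ Nat.card (A 0) := by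
        intro g b hb hg
        refine Nat.card_le_card_of_injective (fun x => ⟨x.1 0, ?_⟩) ?_
        · obtain ⟨v, -, hv⟩ := x.2
          rw [← hv]
          exact ⟨avg 0 v, hfix 0 v, rfl⟩
        · intro x y hxy
          obtain ⟨v, hv, hxv⟩ := x.2
          obtain ⟨w, hw, hyw⟩ := y.2
          refine Subtype.ext ?_
          rw [← hxv, ← hyw]
          have h0 : Ψ v 0 = Ψ w 0 := by rw [hxv, hyw]; exact congrArg Subtype.val hxy
          funext t
          change (QuotientAddGroup.mk' C0) (avg t v) = (QuotientAddGroup.mk' C0) (avg t w)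
          change (QuotientAddGroup.mk' C0) (avg 0 v) = (QuotientAddGroup.mk' C0) (avg 0 w) at h0
          rw [← sub_eq_zero, ← map_sub, hmk, ← map_sub] at h0 ⊢
          have hgu : g • (v - w) = v - w := by rw [smul_sub, mem_fix.1 hv, mem_fix.1 hw]
          set u := v - w
          have hall : ∀ n : ℕ, avg (n * b) u ∈ C0 := by
            intro n
            induction n with
            | zero => simpa using h0
            | succ n ih =>
              have he' : avg ((n + 1 : ℕ) * b) u = g • avg (n * b) u := by
                rw [hequi hg, hgu]; push_cast; ring_nf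
              rw [he', ih g]
              exact ih
          have := hall (t / b).val
          rwa [ZMod.natCast_zmod_val, div_mul_cancel₀ t hb] at this
      refine (show Nat.card Ψ.range ≤ Nat.card (((fix c).map Ψ : AddSubgroup (ZMod p → M ⧸ C0))) *
        Nat.card (((fix d).map Ψ : AddSubgroup (ZMod p → M ⧸ C0))) from ?_).trans
          (Nat.mul_le_mul (hdet hbc hgc) (hdet hbd hgd))
      rw [← Nat.card_prod]
      refine Nat.card_le_card_of_surjective (fun x => ⟨x.1.1 + x.2.1, ?_⟩) ?_
      · obtain ⟨v, -, hv⟩ := x.1.2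
        obtain ⟨w, -, hw⟩ := x.2.2
        exact ⟨v + w, by rw [map_add, hv, hw]⟩
      · rintro ⟨_, v, rfl⟩
        obtain ⟨a, b, rfl, ha, hb⟩ := hcd v c hc d hd
        exact ⟨(⟨Ψ a, a, ha, rfl⟩, ⟨Ψ b, b, hb, rfl⟩), Subtype.ext (map_add Ψ a b).symm⟩
    have hlower : Nat.card (A 0) ^ p ≤ Nat.card Ψ.range := by
      have hall : ∀ f : (t : ZMod p) → A t, (fun t => (f t).1) ∈ Ψ.range := by
        intro f
        rw [show (fun t => (f t).1) = ∑ i, Pi.single i (f i).1 by simp [Finset.univ_sum_single]]
        refine Ψ.range.sum_mem fun i _ => ?_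
        obtain ⟨v, hv, hvi⟩ := (f i).2
        obtain ⟨m, hm⟩ := exists_pow_eq_self_of_coprime (x := Multiplicative.ofAdd v) (n := p)
          (Nat.Coprime.coprime_dvd_right (orderOf_dvd_natCard _)
            (by simpa [Nat.card_congr Multiplicative.toAdd] using hcop.symm))
        have hm' : m • (p • v) = v := congrArg Multiplicative.toAdd hm
        have hw : el (1, i) • (m • v) = m • v := by rw [smul_comm, mem_fix.1 hv]
        refine ⟨m • v, ?_⟩
        funext t
        change (QuotientAddGroup.mk' C0) (avg t (m • v)) = _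
        rcases eq_or_ne t i with rfl | hti
        · rw [Pi.single_eq_same, hidem _ _ hw, smul_comm, hm', hvi]
        · rw [Pi.single_eq_of_ne hti, hmk]
          refine hzfix _ ?_
          have h1 := hfix t (m • v)
          have h2 : el (1, i) • avg t (m • v) = avg t (m • v) := by
            rw [havg, Finset.smul_sum]
            refine Finset.sum_congr rfl fun a _ => ?_
            rw [← mul_smul, show el (1, i) * el (a, a * t) = el (a, a * t) * el (1, i) by
              rw [← hmul, ← hmul, add_comm 1 a, add_comm i], mul_smul, hw]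
          set u := avg t (m • v)
          have h3 : el (0, t - i) • u = u := by
            have := hmul 0 (t - i) 1 i
            rw [zero_add, sub_add_cancel] at this
            calc el (0, t - i) • u = el (0, t - i) • el (1, i) • u := by rw [h2]
              _ = u := by rw [← mul_smul, ← this, h1]
          have hz' : z = el (0, t - i) ^ ((t - i)⁻¹ : ZMod p).val := by
            rw [show el (0, t - i) = pw z (t - i) by simp [el, pw_zero]]
            rw [show pw z (t - i) ^ ((t - i)⁻¹ : ZMod p).val = pw (pw z (t - i)) (t - i)⁻¹ from rfl,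
              pw_mul hzp, mul_inv_cancel₀ (sub_ne_zero.2 hti), pw_one_eq]
          rw [hz']
          exact pow_smul_fix h3 _
      calc Nat.card (A 0) ^ p = Nat.card ((t : ZMod p) → A t) := by
            rw [Nat.card_pi, Finset.prod_congr rfl fun t _ => hcardA t, Finset.prod_const, Finset.card_univ, ZMod.card]
        _ ≤ Nat.card Ψ.range := Nat.card_le_card_of_injective (fun f => ⟨_, hall f⟩)
            fun f f' h => funext fun t => Subtype.ext (congrFun (congrArg Subtype.val h) t)
    have hone : Nat.card (A 0) = 1 := by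
      have hpos : 0 < Nat.card (A 0) := Nat.card_pos
      by_contra hne
      have h2 : 2 ≤ Nat.card (A 0) := by omega
      have h3 : Nat.card (A 0) ^ 3 ≤ Nat.card (A 0) ^ p := Nat.pow_le_pow_right hpos hp3
      have h4 := hlower.trans hupper
      nlinarith
    refine fun v => hcentral v fun t => (hmk _).1 ?_
    have hmem : (QuotientAddGroup.mk' C0) (avg t v) ∈ A t := ⟨avg t v, hfix t v, rfl⟩
    rwa [AddSubgroup.eq_bot_of_card_eq _ ((hcardA t).trans hone), AddSubgroup.mem_bot] at hmem

end CfsgLib.Coprime.TwoGenSets
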