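import Cfsg.Agent.Lib.Coprime.Action
import Cfsg.Agent.Lib.Coprime.FrattiniExtra
import Cfsg.Agent.Lib.Coprime.TwoGenSetsModule

/-!
# A normal complement centralised by a Sylow subgroup with two generating sets
-/

set_option autoImplicit false

namespace CfsgLib.Coprime.TwoGenSets

open Subgroup
open scoped commutatorElement Pointwise

universe u

theorem commutator_eq_bot_aux {p : ℕ} [Fact p.Prime] (hp3 : 3 ≤ p) :
    ∀ (n : ℕ) {G : Type u} [Group G] [Finite G], Nat.card G = n → ∀ (P N : Subgroup G), N.Normal →
      IsPGroup p P → (Nat.card N).Coprime p → N ⊔ P = ⊤ → ∀ C D : Set G,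
      closure C = P → closure D = P →
      (∀ x ∈ N, ∀ c ∈ C, ∀ d ∈ D, IsPGroup p ↥(closure ({x * c * x⁻¹, d} : Set G))) →
      ⁅P, N⁆ = ⊥ := by
  intro n
  induction n using Nat.strong_induction_on with
  | _ n ih =>
  intro G _ _ hn P N hNn hP hcop hNP C D hC hD h
  classical
  haveI := hNn
  have hCP : C ⊆ P := hC ▸ subset_closure
  have hDP : D ⊆ P := hD ▸ subset_closure
  have hPN : (Nat.card P).Coprime (Nat.card N) := by
    obtain ⟨k, hk⟩ := hP.exists_card_eq
    rw [hk]; exact hcop.symm.pow_left k
  have hdisj : P ⊓ N = ⊥ := inf_eq_bot_of_coprime hPN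
  -- kernels in `P` may be factored out
  have quot : ∀ K : Subgroup G, K.Normal → K ≠ ⊥ → ⁅P, N⁆ ≤ K := by
    intro K hKn hK
    haveI := hKn
    let π := QuotientGroup.mk' K
    have hlt : Nat.card (G ⧸ K) < n := by
      rw [← hn, ← Subgroup.index, ← K.index_mul_card]
      have : 1 < Nat.card K := (one_lt_card_iff_ne_bot K).2 hK
      have := Nat.pos_of_ne_zero (index_ne_zero_of_finite (H := K))
      nlinarith
    have hcl : ∀ S : Set G, closure (π '' S) = (closure S).map π := fun S => (π.map_closure S).symm
    have := ih _ hlt rfl (P.map π) (N.map π) (Normal.map hNn π (QuotientGroup.mk'_surjective K))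
      (hP.map π) (hcop.coprime_dvd_left (card_map_dvd N π)) (by
        rw [← Subgroup.map_sup, hNP, Subgroup.map_top_of_surjective π (QuotientGroup.mk'_surjective K)])
      (π '' C) (π '' D) (by rw [hcl, hC]) (by rw [hcl, hD]) (by
        rintro _ ⟨x, hx, rfl⟩ _ ⟨c, hc, rfl⟩ _ ⟨d, hd, rfl⟩
        rw [show ({π x * π c * (π x)⁻¹, π d} : Set (G ⧸ K)) = π '' {x * c * x⁻¹, d} by
          simp [Set.image_pair, map_mul, map_inv], hcl]
        exact (h x hx c hc d hd).map π)
    rw [← Subgroup.map_commutator, Subgroup.map_eq_bot_iff, QuotientGroup.ker_mk'] at this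
    exact this
  -- proper invariant subgroups are centralised
  have sub : ∀ M : Subgroup G, M ≤ N → P ≤ normalizer (M : Set G) → M ≠ N → P ≤ centralizer (M : Set G) := by
    intro M hMN hPM hne
    set H := M ⊔ P with hH
    have hlt : Nat.card H < n := by
      rw [← hn]
      refine lt_of_le_of_ne (Subgroup.card_le_card_group H) fun he => hne (le_antisymm hMN fun x hx => ?_)
      obtain ⟨m, hm, k, hk, rfl⟩ := mem_sup_exists hPM (show x ∈ M ⊔ P by
        rw [← hH, Subgroup.eq_top_of_card_eq H he]; exact mem_top _)
      have hk1 : k ∈ P ⊓ N := ⟨hk, by simpa [← mul_assoc] using N.mul_mem (N.inv_mem (hMN hm)) hx⟩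
      rw [hdisj, mem_bot] at hk1
      rwa [hk1, mul_one]
    have hcl : ∀ S : Set G, S ⊆ (H : Set G) → (closure (H.subtype ⁻¹' S)).map H.subtype = closure S := by
      intro S hS
      rw [MonoidHom.map_closure, Set.image_preimage_eq_of_subset]
      intro s hs
      exact ⟨⟨s, hS hs⟩, rfl⟩
    have heq : ∀ S : Set G, closure S = P → closure (H.subtype ⁻¹' S) = P.subgroupOf H := fun S hS => by
      refine Subgroup.map_injective H.subtype_injective ?_
      rw [hcl S (fun s hs => le_sup_right (α := Subgroup G) (hS ▸ subset_closure hs)), hS, subgroupOf_map_subtype,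
        inf_of_le_left le_sup_right]
    have := ih _ hlt rfl (P.subgroupOf H) (M.subgroupOf H)
      ((normal_subgroupOf_iff_le_normalizer le_sup_left).2 (sup_le le_normalizer hPM))
      (hP.comap_of_injective H.subtype H.subtype_injective)
      (by rw [Nat.card_congr (subgroupOfEquivOfLe (le_sup_left : M ≤ H)).toEquiv]
          exact hcop.coprime_dvd_left (card_dvd_of_le hMN))
      (by rw [← subgroupOf_sup le_sup_left le_sup_right, subgroupOf_self])
      (H.subtype ⁻¹' C) (H.subtype ⁻¹' D) (heq C hC) (heq D hD) (by
        intro x hx c hc d hd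
        have hp' : IsPGroup p ↥((closure ({x * c * x⁻¹, d} : Set H)).map H.subtype) := by
          rw [MonoidHom.map_closure]
          rw [Set.image_pair]
          exact h x (hMN hx) c hc d hd
        exact hp'.of_equiv ((closure ({x * c * x⁻¹, d} : Set H)).equivMapOfInjective _ H.subtype_injective).symm)
    intro a ha
    rw [mem_centralizer_iff]
    intro m hm
    have h1 := (eq_bot_iff_forall _).1 this _ (commutator_mem_commutator
      (show (⟨a, le_sup_right (α := Subgroup G) ha⟩ : H) ∈ P.subgroupOf H from ha)
      (show (⟨m, le_sup_left (α := Subgroup G) hm⟩ : H) ∈ M.subgroupOf H from hm))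
    exact (commutatorElement_eq_one_iff_mul_comm.1 (congrArg Subtype.val h1)).symm
  have done_of : P ≤ centralizer (N : Set G) → ⁅P, N⁆ = ⊥ :=
    fun hc => commutator_eq_bot_iff_le_centralizer.2 hc
  have hPnN : P ≤ normalizer (N : Set G) := fun x _ => (normalizer_eq_top N).symm ▸ mem_top x
  by_cases hNbot : N = ⊥
  · rw [hNbot, commutator_bot_right]
  -- reduction to prime power order
  by_cases hpp : ∃ q : ℕ, q.Prime ∧ IsPGroup q N
  swap
  · have hcon := not_exists.1 hpp
    have hall : ∀ q : ℕ, (hq : q.Prime) → ∀ k, q ^ k ∣ Nat.card N →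
        q ^ k ∣ Nat.card ↥(N ⊓ centralizer (P : Set G)) := by
      intro q hq k hk
      haveI : Fact q.Prime := ⟨hq⟩
      haveI := hP.isNilpotent
      obtain ⟨Q, hQ, hPQ⟩ := exists_invariant_sylow (A := P) (K := N) hPnN hPN
        (Or.inl inferInstance) q
      have hQne : Q ≠ N := fun e => hcon q ⟨hq, e ▸ hQ.isPGroup⟩
      have hle : Q ≤ N ⊓ centralizer (P : Set G) :=
        le_inf hQ.1 (le_centralizer_iff.1 (sub Q hQ.1 hPQ hQne))
      refine Nat.dvd_trans ?_ (card_dvd_of_le hle)
      let S := hQ.toSylow
      have hS : Nat.card S = Nat.card Q := by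
        rw [← hQ.map_toSylow, card_map_of_injective N.subtype_injective]
      rw [← hS]
      exact S.pow_dvd_card_of_pow_dvd_card hk
    have hdvd : Nat.card N ∣ Nat.card ↥(N ⊓ centralizer (P : Set G)) := by
      rw [← Nat.factorization_le_iff_dvd Nat.card_pos.ne' Nat.card_pos.ne']
      intro q
      by_cases hq : q.Prime
      · exact (hq.pow_dvd_iff_le_factorization Nat.card_pos.ne').1 (hall q hq _ (Nat.ordProj_dvd _ _))
      · simp [Nat.factorization_eq_zero_of_not_prime _ hq]
    have heq : N ⊓ centralizer (P : Set G) = N :=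
      eq_of_le_of_card_ge inf_le_left (Nat.le_of_dvd Nat.card_pos hdvd)
    exact done_of (le_centralizer_iff.1 (heq ▸ inf_le_right))
  · obtain ⟨q, hq, hNq⟩ := hpp
    haveI : Fact q.Prime := ⟨hq⟩
    by_cases hΦ : frattini N = ⊥
    · -- the module case
      haveI : Group.IsNilpotent N := hNq.isNilpotent
      have hcomm : ∀ a ∈ N, ∀ b ∈ N, a * b = b * a := fun a ha b hb => by
        have h0 : commutator N = ⊥ := le_bot_iff.1 (hΦ ▸ commutator_le_frattini_of_isNilpotent)
        have := (commutator_eq_bot_iff_le_centralizer.1 h0) (mem_top (⟨b, hb⟩ : N))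
        exact congrArg Subtype.val (mem_centralizer_iff.1 this ⟨a, ha⟩ (mem_top _))
      by_cases hfaith : ∃ x ∈ P, x ∈ centralizer (P : Set G) ∧ x ∈ centralizer (N : Set G) ∧ x ≠ 1
      · obtain ⟨x, hxP, hxc, hxN, hx1⟩ := hfaith
        have hcent : zpowers x ≤ centralizer ((⊤ : Subgroup G) : Set G) := by
          rw [zpowers_le, ← hNP, sup_eq_closure, centralizer_closure, mem_centralizer_iff]
          rintro y (hy | hy)
          · exact mem_centralizer_iff.1 hxN y hy
          · exact mem_centralizer_iff.1 hxc y hy
        have hKn : (zpowers x).Normal := ⟨fun a ha g => by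
          rw [mem_centralizer_iff.1 (hcent ha) g (mem_top g), mul_inv_cancel_right]; exact ha⟩
        refine le_bot_iff.1 ?_
        rw [← hdisj]
        refine le_inf ?_ (commutator_le_right P N)
        exact (quot _ hKn (by rwa [Ne, zpowers_eq_bot])).trans (zpowers_le.2 hxP)
      push Not at hfaith
      letI : CommGroup N :=
        { (inferInstance : Group N) with mul_comm := fun a b => Subtype.ext (hcomm a a.2 b b.2) }
      letI : DistribMulAction P (Additive N) :=
        { smul := fun g v => Additive.ofMul
            ⟨(g : G) * ((Additive.toMul v : N) : G) * (g : G)⁻¹, hNn.conj_mem _ (Additive.toMul v).2 g⟩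
          one_smul := fun v => Subtype.ext (by
            show ((1 : P) : G) * ((Additive.toMul v : N) : G) * ((1 : P) : G)⁻¹ = ((Additive.toMul v : N) : G)
            simp)
          mul_smul := fun g g' v => Subtype.ext (by
            show ((g * g' : P) : G) * ((Additive.toMul v : N) : G) * ((g * g' : P) : G)⁻¹ =
              (g : G) * ((g' : G) * ((Additive.toMul v : N) : G) * (g' : G)⁻¹) * (g : G)⁻¹
            push_cast; group)
          smul_zero := fun g => Subtype.ext (by
            show (g : G) * ((1 : N) : G) * (g : G)⁻¹ = ((1 : N) : G)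
            simp)
          smul_add := fun g v w => Subtype.ext (by
            show (g : G) * (((Additive.toMul v : N) : G) * ((Additive.toMul w : N) : G)) * (g : G)⁻¹ =
              ((g : G) * ((Additive.toMul v : N) : G) * (g : G)⁻¹) *
                ((g : G) * ((Additive.toMul w : N) : G) * (g : G)⁻¹)
            group) }
      have hsm : ∀ (g : P) (v : Additive N), g • v = v ↔
          (g : G) * ((Additive.toMul v : N) : G) = ((Additive.toMul v : N) : G) * (g : G) := fun g v =>
        ⟨fun e => mul_inv_eq_iff_eq_mul.1 (congrArg (fun w : Additive N => ((Additive.toMul w : N) : G)) e),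
          fun e => Subtype.ext (show (g : G) * _ * (g : G)⁻¹ = _ from mul_inv_eq_iff_eq_mul.2 e)⟩
      have hcl : ∀ S : Set G, closure S = P → closure (P.subtype ⁻¹' S) = ⊤ := fun S hS => by
        refine Subgroup.map_injective P.subtype_injective ?_
        rw [MonoidHom.map_closure, Set.image_preimage_eq_of_subset, hS, ← MonoidHom.range_eq_map, range_subtype]
        intro s hs
        exact ⟨⟨s, hS ▸ subset_closure hs⟩, rfl⟩
      have hcp : IsComplement' N P := isComplement'_of_disjoint_and_mul_eq_univ
        (disjoint_iff.2 (by rw [inf_comm]; exact hdisj))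
        (by rw [← coe_mul_of_right_le_normalizer_left N P (fun x _ => (normalizer_eq_top N).symm ▸ mem_top x),
          hNP]; rfl)
      have key := trivial_action (M := Additive N) hp3 hP (by simpa [Nat.card_congr Additive.toMul] using hcop)
        (P.subtype ⁻¹' C) (P.subtype ⁻¹' D) (hcl C hC) (hcl D hD) (by
          intro v c hc d hd
          have hidx : ¬ p ∣ P.index := by
            rw [hcp.index_eq_card]
            exact fun hd' => (Fact.out : p.Prime).not_dvd_one (hcop ▸ Nat.dvd_gcd hd' dvd_rfl)
          obtain ⟨S, hS⟩ := (h _ (Additive.toMul v).2 c hc d hd).exists_le_sylow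
          obtain ⟨g, hg⟩ := MulAction.exists_smul_eq G (hP.toSylow hidx) S
          obtain ⟨m, hm, k, hk, rfl⟩ := mem_sup_exists (N := N) (H := P) hPnN (hNP ▸ mem_top g)
          have hpull : ∀ y ∈ (S : Subgroup G), m⁻¹ * y * m ∈ P := by
            intro y hy
            rw [← hg] at hy
            change y ∈ MulAut.conj (m * k) • P at hy
            rw [mem_pointwise_smul_iff_inv_smul_mem] at hy
            simp [MulAut.smul_def, mul_assoc] at hy
            have := P.mul_mem (P.mul_mem hk hy) (P.inv_mem hk)
            simpa [mul_assoc] using this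
          have hfixc : ∀ (w : N) (y : P), ((w : G)⁻¹ * y * w) ∈ P → (y : G) * w = w * y := fun w y hy => by
            have h1 : (y : G)⁻¹ * ((w : G)⁻¹ * y * w) ∈ P ⊓ N := ⟨P.mul_mem (P.inv_mem y.2) hy, by
              rw [← mul_assoc]
              refine N.mul_mem ?_ w.2
              rw [← mul_assoc]
              simpa using hNn.conj_mem _ (N.inv_mem w.2) (y : G)⁻¹⟩
            rw [hdisj, mem_bot, inv_mul_eq_one, mul_assoc, eq_inv_mul_iff_mul_eq] at h1
            exact h1.symm
          set x : G := ((Additive.toMul v : N) : G) with hx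
          have hb := hfixc ⟨m, hm⟩ d (hpull _ (hS (subset_closure (by right; rfl))))
          have ha := hfixc ⟨x⁻¹ * m, N.mul_mem (N.inv_mem (Additive.toMul v).2) hm⟩ c (by
            have := hpull _ (hS (subset_closure (Set.mem_insert _ _)))
            simpa [mul_assoc] using this)
          refine ⟨-Additive.ofMul ⟨x⁻¹ * m, N.mul_mem (N.inv_mem (Additive.toMul v).2) hm⟩,
            Additive.ofMul ⟨m, hm⟩, Subtype.ext ?_, ?_, (hsm d _).2 hb⟩
          · show x = (x⁻¹ * m)⁻¹ * m
            rw [hcomm _ (N.inv_mem (N.mul_mem (N.inv_mem (Additive.toMul v).2) hm)) m hm]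
            group
            exact hx
          · exact (smul_neg c _).trans (congrArg Neg.neg ((hsm c _).2 ha)))
        (by
          intro x hxc hx1 v hv g
          have hxc' : ∀ a : P, (a : G) * x = x * a := fun a => congrArg Subtype.val (mem_center_iff.1 hxc a)
          set M := N ⊓ centralizer {(x : G)} with hM
          have hMN : M ≠ N := fun e => hx1 (Subtype.ext (hfaith x x.2
            (mem_centralizer_iff.2 fun a ha => hxc' ⟨a, ha⟩)
            (mem_centralizer_iff.2 fun a ha => by
              rw [← e] at ha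
              exact mem_centralizer_singleton_iff.1 ha.2)))
          have hPM : P ≤ normalizer (M : Set G) := fun a ha => by
            refine inf_le_normalizer (A := P) hPnN ?_ ha
            intro a ha
            have hca : a ∈ centralizer {(x : G)} := mem_centralizer_singleton_iff.2 (hxc' ⟨a, ha⟩)
            exact le_normalizer hca
          have hv' : ((Additive.toMul v : N) : G) ∈ M :=
            ⟨(Additive.toMul v).2, mem_centralizer_singleton_iff.2 ((hsm x v).1 hv).symm⟩
          exact (hsm g v).2 (mem_centralizer_iff.1 (sub M inf_le_left hPM hMN g.2) _ hv').symm)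
      refine done_of fun a ha => mem_centralizer_iff.2 fun m hm => ?_
      exact ((hsm ⟨a, ha⟩ (Additive.ofMul ⟨m, hm⟩)).1 (key _ _)).symm
    · haveI : ((frattini N).map N.subtype).Normal := inferInstance
      have hq' := quot _ inferInstance (by rwa [Ne, map_eq_bot_iff_of_injective _ N.subtype_injective])
      refine done_of (le_centralizer_of_trivial_on_frattini_quotient hPnN
        (hPN.coprime_dvd_right (Subgroup.card_subgroup_dvd_card _)) fun a ha k hk => ?_)
      exact hq' (commutator_mem_commutator ha hk)

/-- The theorem for a Sylow subgroup. -/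
theorem commutator_eq_bot {G : Type u} [Group G] [Finite G] {p : ℕ} [Fact p.Prime] (hp3 : 3 ≤ p) (P : Sylow p G)
    (N : Subgroup G) [hN : N.Normal] (hcop : (Nat.card N).Coprime p) (hNP : N ⊔ (P : Subgroup G) = ⊤)
    (C D : Set G) (hC : closure C = (P : Subgroup G)) (hD : closure D = (P : Subgroup G))
    (h : ∀ x ∈ N, ∀ c ∈ C, ∀ d ∈ D, IsPGroup p ↥(closure ({x * c * x⁻¹, d} : Set G))) :
    ⁅(P : Subgroup G), N⁆ = ⊥ :=
  @commutator_eq_bot_aux p inferInstance hp3 (Nat.card G) G inferInstance inferInstance rfl (P : Subgroup G) N hN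
    P.isPGroup' hcop hNP C D hC hD h

end CfsgLib.Coprime.TwoGenSets
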